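import Groth.Agent.Lib.Helper17.AlgStFp
import Groth.Prelude.Def_AlgSt4

set_option autoImplicit false
set_option backward.isDefEq.respectTransparency false
set_option backward.isDefEq.respectTransparency.types false
universe u

namespace Groth.Agent.Lib.Helper17.QCM

open CategoryTheory CategoryTheory.Limits AlgebraicGeometry Opposite AlgSp FibCat Stk AlgSt
open Groth.Agent.Lib.Helper17

variable {S : Scheme.{u}}

theorem isQuasiCompact_of_equiv {𝒜 ℬ : AlgSt.Cat S} (E : 𝒜 ⥤ᵇ ℬ) (hE : FibCat.IsEquivOver E)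
    (h : AlgSt.IsQuasiCompact 𝒜) : AlgSt.IsQuasiCompact ℬ := by
  obtain ⟨U, x, hU, hs, hsurj⟩ := h
  exact ⟨U, BasedFunctor.comp x E, hU, CMP.repWith_comp_equiv _ x E hE hs,
    CMP.repWith_comp_equiv _ x E hE hsurj⟩

theorem isQuasiCompactMor_comp {𝒳 𝒴 𝒵 : AlgSt.Cat S}
    (h𝒴 : AlgSt.IsAlgStack Scheme.fppfPrecoverage 𝒴)
    (h𝒵 : AlgSt.IsAlgStack Scheme.fppfPrecoverage 𝒵)
    (f : 𝒳 ⥤ᵇ 𝒴) (g : 𝒴 ⥤ᵇ 𝒵)
    (hf : AlgSt.IsQuasiCompactMor Scheme.fppfPrecoverage f)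
    (hg : AlgSt.IsQuasiCompactMor Scheme.fppfPrecoverage g) :
    AlgSt.IsQuasiCompactMor Scheme.fppfPrecoverage (BasedFunctor.comp f g) := by
  intro 𝒲 h𝒲 hq h
  have h1 : AlgSt.IsAlgStack Scheme.fppfPrecoverage (FibCat.fp h g) :=
    AFP.isAlgStack_fp h𝒵.isStack h𝒵.diag h𝒲 h𝒴 h g
  have h2 : AlgSt.IsQuasiCompact (FibCat.fp h g) := hg 𝒲 h𝒲 hq h
  have h3 := hf (FibCat.fp h g) h1 h2 (FibCat.fpSnd h g)
  exact isQuasiCompact_of_equiv (FI.ps h g f) (FI.ps_isEquivOver h g f) h3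

end Groth.Agent.Lib.Helper17.QCM
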