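import Mathlib.CategoryTheory.FiberedCategory.Cartesian
import Mathlib.CategoryTheory.FiberedCategory.Fibered

set_option autoImplicit false
universe v₁ u₁ v₂ u₂

namespace Groth.Agent.Lib.Helper17

open CategoryTheory CategoryTheory.Functor

variable {𝒮 : Type u₁} {𝒳 : Type u₂} [Category.{v₁} 𝒳] [Category.{v₂} 𝒮] {p : 𝒳 ⥤ 𝒮}

theorem hl_dom {R S : 𝒮} {a b : 𝒳} {f : R ⟶ S} {φ : a ⟶ b} (h : p.IsHomLift f φ) :
    p.obj a = R := IsHomLift.domain_eq p f φ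

theorem hl_cod {R S : 𝒮} {a b : 𝒳} {f : R ⟶ S} {φ : a ⟶ b} (h : p.IsHomLift f φ) :
    p.obj b = S := IsHomLift.codomain_eq p f φ

theorem hl_fac {R S : 𝒮} {a b : 𝒳} {f : R ⟶ S} {φ : a ⟶ b} (h : p.IsHomLift f φ) :
    f = eqToHom (hl_dom h).symm ≫ p.map φ ≫ eqToHom (hl_cod h) := IsHomLift.fac p f φ

theorem hl_fac' {R S : 𝒮} {a b : 𝒳} {f : R ⟶ S} {φ : a ⟶ b} (h : p.IsHomLift f φ) :
    p.map φ = eqToHom (hl_dom h) ≫ f ≫ eqToHom (hl_cod h).symm := IsHomLift.fac' p f φ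

theorem hl_eq {a b : 𝒳} {f : p.obj a ⟶ p.obj b} {φ : a ⟶ b} (h : p.IsHomLift f φ) :
    f = p.map φ := IsHomLift.eq_of_isHomLift p f φ

theorem hl_of_eq {a b : 𝒳} {f : p.obj a ⟶ p.obj b} {φ : a ⟶ b} (h : f = p.map φ) :
    p.IsHomLift f φ := by rw [h]; infer_instance

theorem hl_iff {a b : 𝒳} {f : p.obj a ⟶ p.obj b} {φ : a ⟶ b} :
    p.IsHomLift f φ ↔ f = p.map φ := ⟨hl_eq, hl_of_eq⟩

end Groth.Agent.Lib.Helper17

namespace Groth.Agent.Lib.Helper17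

open CategoryTheory CategoryTheory.Functor

variable {𝒮 : Type u₁} {𝒳 : Type u₂} [Category.{v₁} 𝒳] [Category.{v₂} 𝒮] {p : 𝒳 ⥤ 𝒮}

/-- a morphism which is strongly cartesian over its own image is strongly cartesian over anything it lifts -/
theorem sc_of_homLift {R S : 𝒮} {a b : 𝒳} {f : R ⟶ S} {φ : a ⟶ b} (h : p.IsHomLift f φ)
    (hsc : p.IsStronglyCartesian (p.map φ) φ) : p.IsStronglyCartesian f φ := by
  subst_hom_lift p f φ
  exact hsc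

theorem sc_map_of_sc {R S : 𝒮} {a b : 𝒳} {f : R ⟶ S} {φ : a ⟶ b}
    (hsc : p.IsStronglyCartesian f φ) : p.IsStronglyCartesian (p.map φ) φ := by
  subst_hom_lift p f φ
  exact hsc

end Groth.Agent.Lib.Helper17
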