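import Groth.Prelude.Def_FibCat2
import Groth.Agent.Lib.Helper17.HomLift

set_option autoImplicit false
universe v₃ u₃ v₂ u₂ v u

namespace Groth.Agent.Lib.Helper17

open CategoryTheory CategoryTheory.Functor

variable {C : Type u} [Category.{v} C] {𝒳 : BasedCategory.{v₂, u₂} C} {𝒴 : BasedCategory.{v₃, u₃} C}

/-- the plain equivalence of categories underlying the data of an equivalence over `C`. -/
noncomputable def equivOfIsos (F : 𝒳 ⥤ᵇ 𝒴) (G : 𝒴 ⥤ᵇ 𝒳)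
    (e₁ : BasedFunctor.comp F G ≅ BasedFunctor.id 𝒳)
    (e₂ : BasedFunctor.comp G F ≅ BasedFunctor.id 𝒴) : 𝒳.obj ≌ 𝒴.obj :=
  CategoryTheory.Equivalence.mk F.toFunctor G.toFunctor
    ((BasedNatTrans.forgetful _ _).mapIso e₁).symm ((BasedNatTrans.forgetful _ _).mapIso e₂)

theorem isEquivalence_of_isEquivOver (F : 𝒳 ⥤ᵇ 𝒴) (hF : FibCat.IsEquivOver F) :
    F.toFunctor.IsEquivalence := by
  obtain ⟨G, ⟨e₁⟩, ⟨e₂⟩⟩ := hF
  exact (inferInstance : (equivOfIsos F G e₁ e₂).functor.IsEquivalence)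

theorem isEquivOver_symm (F : 𝒳 ⥤ᵇ 𝒴) (G : 𝒴 ⥤ᵇ 𝒳)
    (e₁ : BasedFunctor.comp F G ≅ BasedFunctor.id 𝒳)
    (e₂ : BasedFunctor.comp G F ≅ BasedFunctor.id 𝒴) : FibCat.IsEquivOver G :=
  ⟨F, ⟨e₂⟩, ⟨e₁⟩⟩

/-- the counit component is an isomorphism lying over an identity. -/
theorem counit_app_isIso {F : 𝒳 ⥤ᵇ 𝒴} {G : 𝒴 ⥤ᵇ 𝒳}
    (e₂ : BasedFunctor.comp G F ≅ BasedFunctor.id 𝒴) (b : 𝒴.obj) :
    IsIso (e₂.hom.toNatTrans.app b) := by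
  have : IsIso (((BasedNatTrans.forgetful _ _).mapIso e₂).hom.app b) := inferInstance
  exact this

/-- A fully faithful based functor with a "quasi-section up to iso over `C`" preserves
strongly cartesian morphisms. -/
theorem map_isStronglyCartesian (F : 𝒳 ⥤ᵇ 𝒴) (G : 𝒴 ⥤ᵇ 𝒳)
    (e₂ : BasedFunctor.comp G F ≅ BasedFunctor.id 𝒴) [F.toFunctor.Full] [F.toFunctor.Faithful]
    {R S : C} (f : R ⟶ S) {a b : 𝒳.obj} (φ : a ⟶ b) [𝒳.p.IsStronglyCartesian f φ] :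
    𝒴.p.IsStronglyCartesian f (F.map φ) := by
  refine { toIsHomLift := inferInstance, universal_property' := ?_ }
  intro b' g ψ hψ
  let ε : F.obj (G.obj b') ⟶ b' := e₂.hom.toNatTrans.app b'
  have hεiso : IsIso ε := counit_app_isIso e₂ b'
  have hε : 𝒴.p.IsHomLift (𝟙 (𝒴.p.obj b')) ε := BasedNatTrans.app_isHomLift e₂.hom b'
  have hεinv : 𝒴.p.IsHomLift (𝟙 (𝒴.p.obj b')) (inv ε) := IsHomLift.lift_id_inv_isIso 𝒴.p _ ε
  -- the transported morphism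
  have h1 : 𝒴.p.IsHomLift (g ≫ f) (ε ≫ ψ) := IsHomLift.comp_lift_id_left 𝒴.p (g ≫ f) ψ ε
  let ψ' : G.obj b' ⟶ b := F.toFunctor.preimage (ε ≫ ψ)
  have hψ'map : F.map ψ' = ε ≫ ψ := F.toFunctor.map_preimage (ε ≫ ψ)
  have h2 : 𝒳.p.IsHomLift (g ≫ f) ψ' := by
    have : 𝒴.p.IsHomLift (g ≫ f) (F.map ψ') := by rw [hψ'map]; exact h1
    exact BasedFunctor.isHomLift_map F (g ≫ f) ψ'
  obtain ⟨χ, ⟨hχ1, hχ2⟩, hχu⟩ :=
    IsStronglyCartesian.universal_property 𝒳.p f φ g (g ≫ f) rfl ψ'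
  have hFχ : 𝒴.p.IsHomLift g (F.map χ) := inferInstance
  refine ⟨inv ε ≫ F.map χ, ⟨?_, ?_⟩, ?_⟩
  · exact IsHomLift.comp_lift_id_left 𝒴.p g (F.map χ) (inv ε)
  · rw [Category.assoc, ← F.map_comp, hχ2, hψ'map, IsIso.inv_hom_id_assoc]
  · rintro χ'' ⟨h3, h4⟩
    have h5 : 𝒴.p.IsHomLift g (ε ≫ χ'') := IsHomLift.comp_lift_id_left 𝒴.p g χ'' ε
    let χ₂ : G.obj b' ⟶ a := F.toFunctor.preimage (ε ≫ χ'')
    have hχ₂map : F.map χ₂ = ε ≫ χ'' := F.toFunctor.map_preimage (ε ≫ χ'')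
    have h6 : 𝒳.p.IsHomLift g χ₂ := by
      have : 𝒴.p.IsHomLift g (F.map χ₂) := by rw [hχ₂map]; exact h5
      exact BasedFunctor.isHomLift_map F g χ₂
    have h7 : χ₂ ≫ φ = ψ' := by
      apply F.toFunctor.map_injective
      rw [F.toFunctor.map_comp]
      rw [hχ₂map, hψ'map, Category.assoc, h4]
    have h8 : χ₂ = χ := hχu χ₂ ⟨h6, h7⟩
    rw [← h8, hχ₂map, IsIso.inv_hom_id_assoc]

theorem map_isStronglyCartesian_of_isEquivOver (F : 𝒳 ⥤ᵇ 𝒴) (hF : FibCat.IsEquivOver F)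
    {R S : C} (f : R ⟶ S) {a b : 𝒳.obj} (φ : a ⟶ b) [𝒳.p.IsStronglyCartesian f φ] :
    𝒴.p.IsStronglyCartesian f (F.map φ) := by
  have := isEquivalence_of_isEquivOver F hF
  obtain ⟨G, ⟨e₁⟩, ⟨e₂⟩⟩ := hF
  exact map_isStronglyCartesian F G e₂ f φ

/-- transport of fibredness along an equivalence over `C`. -/
theorem isFibered_of_isEquivOver (F : 𝒳 ⥤ᵇ 𝒴) (hF : FibCat.IsEquivOver F) [𝒳.p.IsFibered] :
    𝒴.p.IsFibered := by
  have := isEquivalence_of_isEquivOver F hF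
  obtain ⟨G, ⟨e₁⟩, ⟨e₂⟩⟩ := hF
  apply IsFibered.of_exists_isStronglyCartesian
  intro b R f
  -- lift `f` to a strongly cartesian arrow with target `G b`
  have hGb : 𝒳.p.obj (G.obj b) = 𝒴.p.obj b := G.w_obj b
  obtain ⟨a, φ, hφ⟩ := IsPreFibered.exists_isCartesian 𝒳.p hGb f
  have hφs : 𝒳.p.IsStronglyCartesian f φ := inferInstance
  have hFφ : 𝒴.p.IsStronglyCartesian f (F.map φ) := map_isStronglyCartesian F G e₂ f φ
  let ε : F.obj (G.obj b) ⟶ b := e₂.hom.toNatTrans.app b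
  have hεiso : IsIso ε := counit_app_isIso e₂ b
  have hε : 𝒴.p.IsHomLift (𝟙 (𝒴.p.obj b)) ε := BasedNatTrans.app_isHomLift e₂.hom b
  have hεs : 𝒴.p.IsStronglyCartesian (𝟙 (𝒴.p.obj b)) ε := IsStronglyCartesian.of_isIso 𝒴.p _ ε
  have hcomp : 𝒴.p.IsStronglyCartesian (f ≫ 𝟙 (𝒴.p.obj b)) (F.map φ ≫ ε) := inferInstance
  rw [Category.comp_id] at hcomp
  exact ⟨F.obj a, F.map φ ≫ ε, hcomp⟩

end Groth.Agent.Lib.Helper17
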