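import Groth.Prelude.Def_FibCat2
import Groth.Agent.Lib.Helper17.HomLift
import Groth.Agent.Lib.Helper17.FibEquiv
import Groth.Agent.S5139

set_option autoImplicit false
universe v₂ u₂ v u

namespace Groth.Agent.Lib.Helper17.EO

open CategoryTheory CategoryTheory.Functor FibCat
open Groth.Agent.Lib.Helper17

variable {C : Type u} [Category.{v} C] {𝒜 ℬ 𝒞 : BasedCategory.{v₂, u₂} C}

theorem map_lift'' (F : 𝒜 ⥤ᵇ ℬ)
    {R S : C} {a b : 𝒜.obj} {f : R ⟶ S} {φ : a ⟶ b} (h : 𝒜.p.IsHomLift f φ) :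
    ℬ.p.IsHomLift f (F.map φ) := inferInstance

theorem isEquivOver_comp (F : 𝒜 ⥤ᵇ ℬ) (F' : ℬ ⥤ᵇ 𝒞) (hF : FibCat.IsEquivOver F)
    (hF' : FibCat.IsEquivOver F') : FibCat.IsEquivOver (BasedFunctor.comp F F') := by
  obtain ⟨⟨h1, h2⟩, h3⟩ := (Groth.Agent.S5139.result F).mp hF
  obtain ⟨⟨h1', h2'⟩, h3'⟩ := (Groth.Agent.S5139.result F').mp hF'
  rw [Groth.Agent.S5139.result]
  refine ⟨⟨?_, ?_⟩, ?_⟩
  · exact (inferInstance : (F.toFunctor ⋙ F'.toFunctor).Full)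
  · exact (inferInstance : (F.toFunctor ⋙ F'.toFunctor).Faithful)
  · intro η
    obtain ⟨b, e', he'⟩ := h3' η
    obtain ⟨a, e, he⟩ := h3 b
    have hb : ℬ.p.obj b = 𝒞.p.obj η := (F'.w_obj b).symm.trans (hl_dom he')
    have he2 : ℬ.p.IsHomLift (𝟙 (𝒞.p.obj η)) e.hom := by rw [← hb]; exact he
    have h4 : 𝒞.p.IsHomLift (𝟙 (𝒞.p.obj η)) (F'.map e.hom) := map_lift'' F' he2
    refine ⟨a, F'.toFunctor.mapIso e ≪≫ e', ?_⟩
    exact IsHomLift.comp_of_lift_id 𝒞.p (𝒞.p.obj η) (F'.map e.hom) e'.hom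

theorem isEquivOver_inv (F : 𝒜 ⥤ᵇ ℬ) (hF : FibCat.IsEquivOver F) :
    ∃ G : ℬ ⥤ᵇ 𝒜, FibCat.IsEquivOver G := by
  obtain ⟨G, ⟨e₁⟩, ⟨e₂⟩⟩ := hF
  exact ⟨G, isEquivOver_symm F G e₁ e₂⟩

end Groth.Agent.Lib.Helper17.EO

namespace Groth.Agent.Lib.Helper17.EO

open CategoryTheory CategoryTheory.Functor FibCat

variable {C : Type u} [Category.{v} C] {𝒜 ℬ : BasedCategory.{v, max u v} C}

theorem rep_of_equiv (E : 𝒜 ⥤ᵇ ℬ) (hE : FibCat.IsEquivOver E) (h : FibCat.IsRepresentable 𝒜) :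
    FibCat.IsRepresentable ℬ := by
  obtain ⟨U, F, hF⟩ := h
  obtain ⟨G, hG⟩ := isEquivOver_inv E hE
  exact ⟨U, BasedFunctor.comp G F, isEquivOver_comp G F hG hF⟩

theorem rep_of_equiv' (E : 𝒜 ⥤ᵇ ℬ) (hE : FibCat.IsEquivOver E) (h : FibCat.IsRepresentable ℬ) :
    FibCat.IsRepresentable 𝒜 := by
  obtain ⟨U, F, hF⟩ := h
  exact ⟨U, BasedFunctor.comp E F, isEquivOver_comp E F hE hF⟩

end Groth.Agent.Lib.Helper17.EO
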