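import Groth.Prelude.Def_FibCat2
import Groth.Agent.Lib.Helper17.HomLift

set_option autoImplicit false
universe v₄ u₄ v₃ u₃ v₂ u₂ v u

namespace Groth.Agent.Lib.Helper17.FP

open CategoryTheory CategoryTheory.Functor CategoryTheory.Limits FibCat

variable {C : Type u} [Category.{v} C] {𝒳 : BasedCategory.{v₂, u₂} C}
  {𝒴 : BasedCategory.{v₃, u₃} C} {𝒮 : BasedCategory.{v₄, u₄} C} {F : 𝒳 ⥤ᵇ 𝒮} {G : 𝒴 ⥤ᵇ 𝒮}

/-- constructor for objects of the 2-fibre product -/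
def mkObj (x : 𝒳.obj) (y : 𝒴.obj) (θ : F.obj x ≅ G.obj y)
    (h : 𝒮.p.IsHomLift (𝟙 (𝒳.p.obj x)) θ.hom) : (fp F G).obj := ⟨⟨x, y, θ⟩, h⟩

/-- constructor for morphisms of the 2-fibre product -/
def mkHom {z z' : (fp F G).obj} (α : z.obj.fst ⟶ z'.obj.fst) (β : z.obj.snd ⟶ z'.obj.snd)
    (w : F.map α ≫ z'.obj.iso.hom = z.obj.iso.hom ≫ G.map β) : z ⟶ z' :=
  ObjectProperty.homMk ⟨α, β, w⟩

@[simp] theorem mkHom_fst {z z' : (fp F G).obj} (α : z.obj.fst ⟶ z'.obj.fst)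
    (β : z.obj.snd ⟶ z'.obj.snd) (w) : (mkHom (F := F) (G := G) α β w).hom.fst = α := rfl

@[simp] theorem mkHom_snd {z z' : (fp F G).obj} (α : z.obj.fst ⟶ z'.obj.fst)
    (β : z.obj.snd ⟶ z'.obj.snd) (w) : (mkHom (F := F) (G := G) α β w).hom.snd = β := rfl

theorem hom_ext {z z' : (fp F G).obj} {f g : z ⟶ z'} (h1 : f.hom.fst = g.hom.fst)
    (h2 : f.hom.snd = g.hom.snd) : f = g := by
  apply ObjectProperty.hom_ext
  exact CategoricalPullback.hom_ext h1 h2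

theorem p_obj (z : (fp F G).obj) : (fp F G).p.obj z = 𝒳.p.obj z.obj.fst := rfl

theorem p_map {z z' : (fp F G).obj} (f : z ⟶ z') : (fp F G).p.map f = 𝒳.p.map f.hom.fst := rfl

theorem comp_fst {z z' z'' : (fp F G).obj} (f : z ⟶ z') (g : z' ⟶ z'') :
    (f ≫ g).hom.fst = f.hom.fst ≫ g.hom.fst := rfl

theorem comp_snd {z z' z'' : (fp F G).obj} (f : z ⟶ z') (g : z' ⟶ z'') :
    (f ≫ g).hom.snd = f.hom.snd ≫ g.hom.snd := rfl

theorem iso_isHomLift (z : (fp F G).obj) :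
    𝒮.p.IsHomLift (𝟙 (𝒳.p.obj z.obj.fst)) z.obj.iso.hom := z.property

theorem snd_obj (z : (fp F G).obj) : 𝒴.p.obj z.obj.snd = 𝒳.p.obj z.obj.fst := by
  have h := hl_cod (iso_isHomLift z)
  rw [← h]
  exact (G.w_obj z.obj.snd).symm

theorem isHomLift_iff_fst {z z' : (fp F G).obj} (f : z ⟶ z') {R S : C} (g : R ⟶ S) :
    (fp F G).p.IsHomLift g f ↔ 𝒳.p.IsHomLift g f.hom.fst := by
  constructor
  · intro h
    have d := hl_dom h
    have c := hl_cod h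
    have e := hl_fac h
    exact IsHomLift.of_fac 𝒳.p g f.hom.fst d c e
  · intro h
    have d := hl_dom h
    have c := hl_cod h
    have e := hl_fac h
    exact IsHomLift.of_fac (fp F G).p g f d c e

theorem isHomLift_snd {z z' : (fp F G).obj} (f : z ⟶ z') {R S : C} (g : R ⟶ S)
    (h : (fp F G).p.IsHomLift g f) : 𝒴.p.IsHomLift g f.hom.snd := by
  subst_hom_lift (fp F G).p g f
  exact fp_isHomLift_snd F G f

theorem isHomLift_snd_of_fst {z z' : (fp F G).obj} (f : z ⟶ z') {R S : C} (g : R ⟶ S)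
    (h : 𝒳.p.IsHomLift g f.hom.fst) : 𝒴.p.IsHomLift g f.hom.snd :=
  isHomLift_snd f g ((isHomLift_iff_fst f g).mpr h)

theorem sc_ext {𝒜 : Type u₂} {ℬ : Type u₃} [Category.{v₂} 𝒜] [Category.{v₃} ℬ] {p : 𝒜 ⥤ ℬ}
    {R S : ℬ} {a b : 𝒜} {f : R ⟶ S} {φ : a ⟶ b}
    (hφ : p.IsStronglyCartesian f φ) {R' : ℬ} {a' : 𝒜} {g : R' ⟶ R} {ψ ψ' : a' ⟶ a}
    (h1 : p.IsHomLift g ψ) (h2 : p.IsHomLift g ψ') (h : ψ ≫ φ = ψ' ≫ φ) : ψ = ψ' :=
  IsStronglyCartesian.ext p f φ g h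

theorem compat_aux {x'' x' : 𝒳.obj} {y'' y' : 𝒴.obj} {R S : C} (g : R ⟶ S)
    (θ'' : F.obj x'' ≅ G.obj y'') (θ' : F.obj x' ≅ G.obj y')
    (hθ'' : 𝒮.p.IsHomLift (𝟙 R) θ''.hom) (hθ' : 𝒮.p.IsHomLift (𝟙 S) θ'.hom)
    (α' : x'' ⟶ x') (β' : y'' ⟶ y') (hα : 𝒳.p.IsHomLift g α') (hβ : 𝒴.p.IsHomLift g β') :
    𝒮.p.IsHomLift g (F.map α' ≫ θ'.hom) ∧ 𝒮.p.IsHomLift g (θ''.hom ≫ G.map β') := by
  constructor
  · exact IsHomLift.comp_lift_id_right 𝒮.p g (F.map α') θ'.hom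
  · exact IsHomLift.comp_lift_id_left 𝒮.p g (G.map β') θ''.hom

/-- Criterion for a morphism of the 2-fibre product to be strongly cartesian. -/
theorem sc_of_components {z' z : (fp F G).obj} (f : z' ⟶ z)
    (h1 : 𝒳.p.IsStronglyCartesian (𝒳.p.map f.hom.fst) f.hom.fst)
    (h2 : 𝒴.p.IsStronglyCartesian (𝒳.p.map f.hom.fst) f.hom.snd)
    (h3 : 𝒮.p.IsStronglyCartesian (𝒳.p.map f.hom.fst) (G.map f.hom.snd)) :
    (fp F G).p.IsStronglyCartesian ((fp F G).p.map f) f := by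
  refine { toIsHomLift := inferInstance, universal_property' := ?_ }
  intro z'' g k hk
  -- first components
  have hk1 : 𝒳.p.IsHomLift (g ≫ 𝒳.p.map f.hom.fst) k.hom.fst := (isHomLift_iff_fst k _).mp hk
  have hk2 : 𝒴.p.IsHomLift (g ≫ 𝒳.p.map f.hom.fst) k.hom.snd := isHomLift_snd k _ hk
  obtain ⟨α', ⟨hα1, hα2⟩, hαu⟩ :=
    IsStronglyCartesian.universal_property 𝒳.p (𝒳.p.map f.hom.fst) f.hom.fst g
      (g ≫ 𝒳.p.map f.hom.fst) rfl k.hom.fst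
  obtain ⟨β', ⟨hβ1, hβ2⟩, hβu⟩ :=
    IsStronglyCartesian.universal_property 𝒴.p (𝒳.p.map f.hom.fst) f.hom.snd g
      (g ≫ 𝒳.p.map f.hom.fst) rfl k.hom.snd
  -- compatibility
  have hz'' := iso_isHomLift z''
  have hz' := iso_isHomLift z'
  obtain ⟨l1, l2⟩ := compat_aux g z''.obj.iso z'.obj.iso hz'' hz' α' β' hα1 hβ1
  have hw : F.map α' ≫ z'.obj.iso.hom = z''.obj.iso.hom ≫ G.map β' := by
    refine sc_ext h3 l1 l2 ?_
    have e1 := f.hom.w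
    have e2 := k.hom.w
    rw [Category.assoc, ← e1, ← Category.assoc, ← F.map_comp, hα2, e2, Category.assoc,
      ← G.map_comp, hβ2]
  refine ⟨mkHom α' β' hw, ⟨?_, ?_⟩, ?_⟩
  · exact (isHomLift_iff_fst _ g).mpr hα1
  · exact hom_ext hα2 hβ2
  · rintro m ⟨hm1, hm2⟩
    have hm1' : 𝒳.p.IsHomLift g m.hom.fst := (isHomLift_iff_fst m g).mp hm1
    have hm1'' : 𝒴.p.IsHomLift g m.hom.snd := isHomLift_snd m g hm1
    apply hom_ext
    · apply hαu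
      exact ⟨hm1', by rw [← comp_fst, hm2]⟩
    · apply hβu
      exact ⟨hm1'', by rw [← comp_snd, hm2]⟩

theorem sc_comp_iso {𝒜 : Type u₂} {ℬ : Type u₃} [Category.{v₂} 𝒜] [Category.{v₃} ℬ] {p : 𝒜 ⥤ ℬ}
    {R S : ℬ} {a b c : 𝒜} {f : R ⟶ S} {φ : a ⟶ b} (hφ : p.IsStronglyCartesian f φ)
    (θ : b ≅ c) (hθ : p.IsHomLift (𝟙 S) θ.hom) : p.IsStronglyCartesian f (φ ≫ θ.hom) := by
  have h1 : p.IsStronglyCartesian (𝟙 S) θ.hom := IsStronglyCartesian.of_isIso p (𝟙 S) θ.hom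
  have h2 : p.IsStronglyCartesian (f ≫ 𝟙 S) (φ ≫ θ.hom) := inferInstance
  rwa [Category.comp_id] at h2

theorem exists_sc_lift' (z : (fp F G).obj) {R : C} (f : R ⟶ 𝒳.p.obj z.obj.fst)
    {x' : 𝒳.obj} (φ : x' ⟶ z.obj.fst) (hφ : 𝒳.p.IsStronglyCartesian f φ)
    {y' : 𝒴.obj} (ψ : y' ⟶ z.obj.snd) (hψ : 𝒴.p.IsStronglyCartesian f ψ)
    (hFφ : 𝒮.p.IsStronglyCartesian f (F.map φ)) (hGψ : 𝒮.p.IsStronglyCartesian f (G.map ψ)) :
    ∃ (θ' : F.obj x' ≅ G.obj y') (hθ' : 𝒮.p.IsHomLift (𝟙 (𝒳.p.obj x')) θ'.hom)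
      (hw : F.map φ ≫ z.obj.iso.hom = θ'.hom ≫ G.map ψ),
      (fp F G).p.IsStronglyCartesian f (mkHom (z := mkObj x' y' θ' hθ') (z' := z) φ ψ hw) := by
  have hR : 𝒳.p.obj x' = R := hl_dom hφ.toIsHomLift
  subst hR
  have hf : f = 𝒳.p.map φ := hl_eq hφ.toIsHomLift
  subst hf
  have hc : 𝒮.p.IsStronglyCartesian (𝒳.p.map φ) (F.map φ ≫ z.obj.iso.hom) :=
    sc_comp_iso hFφ z.obj.iso (iso_isHomLift z)
  have hc1 : 𝒮.p.IsCartesian (𝒳.p.map φ) (F.map φ ≫ z.obj.iso.hom) := inferInstance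
  have hc2 : 𝒮.p.IsCartesian (𝒳.p.map φ) (G.map ψ) := inferInstance
  let θ' : F.obj x' ≅ G.obj y' :=
    IsCartesian.domainUniqueUpToIso 𝒮.p (𝒳.p.map φ) (G.map ψ) (F.map φ ≫ z.obj.iso.hom)
  have hθ' : 𝒮.p.IsHomLift (𝟙 (𝒳.p.obj x')) θ'.hom := by
    dsimp only [θ', IsCartesian.domainUniqueUpToIso]
    infer_instance
  have hw : F.map φ ≫ z.obj.iso.hom = θ'.hom ≫ G.map ψ := by
    dsimp only [θ', IsCartesian.domainUniqueUpToIso]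
    rw [IsCartesian.fac]
  refine ⟨θ', hθ', hw, ?_⟩
  have hk : (fp F G).p.IsStronglyCartesian
      ((fp F G).p.map (mkHom (z := mkObj x' y' θ' hθ') (z' := z) φ ψ hw))
      (mkHom (z := mkObj x' y' θ' hθ') (z' := z) φ ψ hw) :=
    sc_of_components _ hφ hψ hGψ
  exact hk

theorem exists_sc_lift (z : (fp F G).obj) {R : C} (f : R ⟶ 𝒳.p.obj z.obj.fst)
    {x' : 𝒳.obj} (φ : x' ⟶ z.obj.fst) (hφ : 𝒳.p.IsStronglyCartesian f φ)
    {y' : 𝒴.obj} (ψ : y' ⟶ z.obj.snd) (hψ : 𝒴.p.IsStronglyCartesian f ψ)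
    (hFφ : 𝒮.p.IsStronglyCartesian f (F.map φ)) (hGψ : 𝒮.p.IsStronglyCartesian f (G.map ψ)) :
    ∃ (z' : (fp F G).obj) (k : z' ⟶ z), (fp F G).p.IsStronglyCartesian f k := by
  obtain ⟨θ', hθ', hw, h⟩ := exists_sc_lift' z f φ hφ ψ hψ hFφ hGψ
  exact ⟨_, _, h⟩

/-- isomorphisms of the 2-fibre product from isomorphisms of the components -/
def mkIso {z z' : (fp F G).obj} (α : z.obj.fst ≅ z'.obj.fst) (β : z.obj.snd ≅ z'.obj.snd)
    (w : F.map α.hom ≫ z'.obj.iso.hom = z.obj.iso.hom ≫ G.map β.hom) : z ≅ z' where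
  hom := mkHom α.hom β.hom w
  inv := mkHom α.inv β.inv (by
    change (F.toFunctor.mapIso α).inv ≫ z.obj.iso.hom = z'.obj.iso.hom ≫ (G.toFunctor.mapIso β).inv
    rw [Iso.inv_comp_eq, ← Category.assoc, Iso.eq_comp_inv]
    exact w.symm)
  hom_inv_id := by
    apply hom_ext
    · exact α.hom_inv_id
    · exact β.hom_inv_id
  inv_hom_id := by
    apply hom_ext
    · exact α.inv_hom_id
    · exact β.inv_hom_id

@[simp] theorem mkIso_hom_fst {z z' : (fp F G).obj} (α : z.obj.fst ≅ z'.obj.fst)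
    (β : z.obj.snd ≅ z'.obj.snd) (w) : (mkIso (F := F) (G := G) α β w).hom.hom.fst = α.hom := rfl

@[simp] theorem mkIso_hom_snd {z z' : (fp F G).obj} (α : z.obj.fst ≅ z'.obj.fst)
    (β : z.obj.snd ≅ z'.obj.snd) (w) : (mkIso (F := F) (G := G) α β w).hom.hom.snd = β.hom := rfl

end Groth.Agent.Lib.Helper17.FP
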