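import Groth.Prelude.Def_FibCat2
import Groth.Agent.Lib.Helper17.HomLift
import Groth.Agent.Lib.Helper17.FibProd
import Groth.Agent.Lib.Helper17.FibEquiv
import Groth.Agent.Lib.Helper17.EquivOver
import Groth.Agent.S5139

set_option autoImplicit false
universe v u

namespace Groth.Agent.Lib.Helper17.FI

open CategoryTheory CategoryTheory.Functor FibCat
open Groth.Agent.Lib.Helper17 Groth.Agent.Lib.Helper17.FP Groth.Agent.Lib.Helper17.EO

variable {C : Type u} [Category.{v} C] {𝒲 𝒴 𝒳 : BasedCategory.{v, max u v} C}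

section L4

variable (y y₂ : 𝒲 ⥤ᵇ 𝒴) (f : 𝒳 ⥤ᵇ 𝒴) (τ : ∀ w : 𝒲.obj, y₂.obj w ≅ y.obj w)
  (hnat : ∀ {w w' : 𝒲.obj} (α : w ⟶ w'), y₂.map α ≫ (τ w').hom = (τ w).hom ≫ y.map α)
  (hlift : ∀ w : 𝒲.obj, 𝒴.p.IsHomLift (𝟙 (𝒲.p.obj w)) (τ w).hom)

def twObj (hlift : ∀ w : 𝒲.obj, 𝒴.p.IsHomLift (𝟙 (𝒲.p.obj w)) (τ w).hom)
    (q : (fp y f).obj) : (fp y₂ f).obj :=
  mkObj (F := y₂) (G := f) q.obj.fst q.obj.snd (τ q.obj.fst ≪≫ q.obj.iso) (by
    have h1 := hlift q.obj.fst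
    have h2 := iso_isHomLift q
    exact IsHomLift.comp_of_lift_id 𝒴.p (𝒲.p.obj q.obj.fst) (τ q.obj.fst).hom q.obj.iso.hom)

def twMap (hnat : ∀ {w w' : 𝒲.obj} (α : w ⟶ w'), y₂.map α ≫ (τ w').hom = (τ w).hom ≫ y.map α)
    (hlift : ∀ w : 𝒲.obj, 𝒴.p.IsHomLift (𝟙 (𝒲.p.obj w)) (τ w).hom)
    {q q' : (fp y f).obj} (k : q ⟶ q') : twObj y y₂ f τ hlift q ⟶ twObj y y₂ f τ hlift q' :=
  mkHom (z := twObj y y₂ f τ hlift q) (z' := twObj y y₂ f τ hlift q') k.hom.fst k.hom.snd (by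
    change y₂.map k.hom.fst ≫ (τ q'.obj.fst).hom ≫ q'.obj.iso.hom =
      ((τ q.obj.fst).hom ≫ q.obj.iso.hom) ≫ f.map k.hom.snd
    rw [← Category.assoc, hnat, Category.assoc, Category.assoc]
    congr 1
    exact k.hom.w)

def tw : fp y f ⥤ᵇ fp y₂ f where
  toFunctor :=
    { obj := twObj y y₂ f τ hlift
      map := twMap y y₂ f τ hnat hlift
      map_id := fun q => by
        apply hom_ext
        · rfl
        · rfl
      map_comp := fun k k' => by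
        apply hom_ext
        · rfl
        · rfl }
  w := rfl

theorem tw_fst : BasedFunctor.comp (tw y y₂ f τ hnat hlift) (fpFst y₂ f) = fpFst y f := rfl

theorem tw_isEquivOver : FibCat.IsEquivOver (tw y y₂ f τ hnat hlift) := by
  rw [Groth.Agent.S5139.result]
  refine ⟨⟨⟨?_⟩, ⟨?_⟩⟩, ?_⟩
  · intro q q' m
    obtain ⟨α, β, hα, hβ, hw⟩ : ∃ (α : q.obj.fst ⟶ q'.obj.fst) (β : q.obj.snd ⟶ q'.obj.snd),
        α = m.hom.fst ∧ β = m.hom.snd ∧ y₂.map α ≫ (τ q'.obj.fst).hom ≫ q'.obj.iso.hom =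
          ((τ q.obj.fst).hom ≫ q.obj.iso.hom) ≫ f.map β :=
      ⟨m.hom.fst, m.hom.snd, rfl, rfl, m.hom.w⟩
    rw [← Category.assoc, hnat, Category.assoc, Category.assoc] at hw
    have hw' := (cancel_epi (τ q.obj.fst).hom).mp hw
    refine ⟨mkHom (z := q) (z' := q') α β hw', ?_⟩
    apply hom_ext
    · exact hα
    · exact hβ
  · intro q q' k k' h
    apply hom_ext
    · exact congrArg (fun m => m.hom.fst) h
    · exact congrArg (fun m => m.hom.snd) h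
  · intro η
    have h1 := hlift η.obj.fst
    have h1i : 𝒴.p.IsHomLift (𝟙 (𝒲.p.obj η.obj.fst)) (τ η.obj.fst).inv :=
      IsHomLift.lift_id_inv 𝒴.p _ (τ η.obj.fst)
    have h2 := iso_isHomLift η
    let ξ : (fp y f).obj := mkObj (F := y) (G := f) η.obj.fst η.obj.snd
      ((τ η.obj.fst).symm ≪≫ η.obj.iso)
      (IsHomLift.comp_of_lift_id 𝒴.p (𝒲.p.obj η.obj.fst) (τ η.obj.fst).inv η.obj.iso.hom)
    let e : (tw y y₂ f τ hnat hlift).toFunctor.obj ξ ≅ η :=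
      mkIso (z := twObj y y₂ f τ hlift ξ) (z' := η) (Iso.refl _) (Iso.refl _) (by
        change y₂.map (𝟙 _) ≫ η.obj.iso.hom =
          ((τ η.obj.fst).hom ≫ (τ η.obj.fst).inv ≫ η.obj.iso.hom) ≫ f.map (𝟙 _)
        rw [y₂.map_id, f.map_id, Category.id_comp, Category.comp_id, Iso.hom_inv_id_assoc])
    refine ⟨ξ, e, ?_⟩
    rw [isHomLift_iff_fst]
    change 𝒲.p.IsHomLift (𝟙 (𝒲.p.obj η.obj.fst)) (𝟙 η.obj.fst)
    infer_instance

end L4

section L1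

variable {𝒳' 𝒴' : BasedCategory.{v, max u v} C} (a : 𝒳' ⥤ᵇ 𝒳) (b : 𝒴' ⥤ᵇ 𝒴) (f : 𝒳 ⥤ᵇ 𝒴)
  (f' : 𝒳' ⥤ᵇ 𝒴') (y' : 𝒲 ⥤ᵇ 𝒴')
  (ε : ∀ x' : 𝒳'.obj, b.obj (f'.obj x') ≅ f.obj (a.obj x'))
  (hnat : ∀ {x x₁ : 𝒳'.obj} (β : x ⟶ x₁),
    b.map (f'.map β) ≫ (ε x₁).hom = (ε x).hom ≫ f.map (a.map β))
  (hlift : ∀ x' : 𝒳'.obj, 𝒴.p.IsHomLift (𝟙 (𝒳'.p.obj x')) (ε x').hom)

def sqObj (hlift : ∀ x' : 𝒳'.obj, 𝒴.p.IsHomLift (𝟙 (𝒳'.p.obj x')) (ε x').hom)
    (q : (fp y' f').obj) : (fp (BasedFunctor.comp y' b) f).obj :=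
  mkObj (F := BasedFunctor.comp y' b) (G := f) q.obj.fst (a.obj q.obj.snd)
    (b.toFunctor.mapIso q.obj.iso ≪≫ ε q.obj.snd) (by
      have h1 : 𝒴.p.IsHomLift (𝟙 (𝒲.p.obj q.obj.fst)) (b.map q.obj.iso.hom) :=
        map_lift'' b (iso_isHomLift q)
      have h2 : 𝒴.p.IsHomLift (𝟙 (𝒲.p.obj q.obj.fst)) (ε q.obj.snd).hom := by
        rw [← snd_obj q]
        exact hlift q.obj.snd
      exact IsHomLift.comp_of_lift_id 𝒴.p (𝒲.p.obj q.obj.fst) (b.map q.obj.iso.hom)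
        (ε q.obj.snd).hom)

def sqMap (hnat : ∀ {x x₁ : 𝒳'.obj} (β : x ⟶ x₁),
      b.map (f'.map β) ≫ (ε x₁).hom = (ε x).hom ≫ f.map (a.map β))
    (hlift : ∀ x' : 𝒳'.obj, 𝒴.p.IsHomLift (𝟙 (𝒳'.p.obj x')) (ε x').hom)
    {q q' : (fp y' f').obj} (k : q ⟶ q') :
    sqObj a b f f' y' ε hlift q ⟶ sqObj a b f f' y' ε hlift q' :=
  mkHom (z := sqObj a b f f' y' ε hlift q) (z' := sqObj a b f f' y' ε hlift q') k.hom.fst
    (a.map k.hom.snd) (by
      change b.map (y'.map k.hom.fst) ≫ b.map q'.obj.iso.hom ≫ (ε q'.obj.snd).hom =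
        (b.map q.obj.iso.hom ≫ (ε q.obj.snd).hom) ≫ f.map (a.map k.hom.snd)
      have hw := k.hom.w
      rw [Category.assoc, ← hnat, ← Category.assoc, ← Category.assoc, ← b.map_comp, hw,
        b.map_comp])

def sq : fp y' f' ⥤ᵇ fp (BasedFunctor.comp y' b) f where
  toFunctor :=
    { obj := sqObj a b f f' y' ε hlift
      map := sqMap a b f f' y' ε hnat hlift
      map_id := fun q => by
        apply hom_ext
        · rfl
        · exact a.toFunctor.map_id _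
      map_comp := fun k k' => by
        apply hom_ext
        · rfl
        · exact a.toFunctor.map_comp _ _ }
  w := rfl

theorem sq_fst : BasedFunctor.comp (sq a b f f' y' ε hnat hlift)
    (fpFst (BasedFunctor.comp y' b) f) = fpFst y' f' := rfl

theorem sq_isEquivOver (ha : FibCat.IsEquivOver a) (hb : FibCat.IsEquivOver b) :
    FibCat.IsEquivOver (sq a b f f' y' ε hnat hlift) := by
  obtain ⟨⟨ha1, ha2⟩, ha3⟩ := (Groth.Agent.S5139.result a).mp ha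
  obtain ⟨⟨hb1, hb2⟩, -⟩ := (Groth.Agent.S5139.result b).mp hb
  rw [Groth.Agent.S5139.result]
  refine ⟨⟨⟨?_⟩, ⟨?_⟩⟩, ?_⟩
  · intro q q' m
    obtain ⟨α, βt, hα, hβt, hw⟩ : ∃ (α : q.obj.fst ⟶ q'.obj.fst)
        (βt : a.obj q.obj.snd ⟶ a.obj q'.obj.snd), α = m.hom.fst ∧ βt = m.hom.snd ∧
        b.map (y'.map α) ≫ b.map q'.obj.iso.hom ≫ (ε q'.obj.snd).hom =
          (b.map q.obj.iso.hom ≫ (ε q.obj.snd).hom) ≫ f.map βt :=
      ⟨m.hom.fst, m.hom.snd, rfl, rfl, m.hom.w⟩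
    obtain ⟨β, hβ⟩ := a.toFunctor.map_surjective βt
    have hβ' : a.map β = βt := hβ
    have hk : y'.map α ≫ q'.obj.iso.hom = q.obj.iso.hom ≫ f'.map β := by
      apply b.toFunctor.map_injective
      change b.map (y'.map α ≫ q'.obj.iso.hom) = b.map (q.obj.iso.hom ≫ f'.map β)
      rw [b.map_comp, b.map_comp]
      have h2 := hnat β
      rw [hβ'] at h2
      rw [Category.assoc, ← h2, ← Category.assoc, ← Category.assoc] at hw
      exact (cancel_mono (ε q'.obj.snd).hom).mp hw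
    refine ⟨mkHom (z := q) (z' := q') α β hk, ?_⟩
    apply hom_ext
    · exact hα
    · exact hβ'.trans hβt
  · intro q q' k k' h
    apply hom_ext
    · exact congrArg (fun m => m.hom.fst) h
    · apply a.toFunctor.map_injective
      exact congrArg (fun m => m.hom.snd) h
  · intro η
    obtain ⟨w, x, θt, hθt, rfl⟩ : ∃ (w : 𝒲.obj) (x : 𝒳.obj)
        (θt : b.obj (y'.obj w) ≅ f.obj x)
        (hθt : 𝒴.p.IsHomLift (𝟙 (𝒲.p.obj w)) θt.hom), η = mkObj w x θt hθt :=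
      ⟨η.obj.fst, η.obj.snd, η.obj.iso, iso_isHomLift η, rfl⟩
    have hx : 𝒳.p.obj x = 𝒲.p.obj w := (f.w_obj x).symm.trans (hl_cod hθt)
    obtain ⟨x', i, hi⟩ := ha3 x
    have hi' : 𝒳.p.IsHomLift (𝟙 (𝒲.p.obj w)) i.hom := by rw [← hx]; exact hi
    have hx' : 𝒳'.p.obj x' = 𝒲.p.obj w := (a.w_obj x').symm.trans (hl_dom hi')
    have hii : 𝒳.p.IsHomLift (𝟙 (𝒲.p.obj w)) i.inv := IsHomLift.lift_id_inv 𝒳.p _ i
    have hfi : 𝒴.p.IsHomLift (𝟙 (𝒲.p.obj w)) (f.map i.inv) := map_lift'' f hii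
    have hε : 𝒴.p.IsHomLift (𝟙 (𝒲.p.obj w)) (ε x').hom := by rw [← hx']; exact hlift x'
    have hεi : 𝒴.p.IsHomLift (𝟙 (𝒲.p.obj w)) (ε x').inv := IsHomLift.lift_id_inv 𝒴.p _ (ε x')
    let ψ : b.obj (y'.obj w) ≅ b.obj (f'.obj x') :=
      θt ≪≫ f.toFunctor.mapIso i.symm ≪≫ (ε x').symm
    have hψ : 𝒴.p.IsHomLift (𝟙 (𝒲.p.obj w)) ψ.hom := by
      have h1 : 𝒴.p.IsHomLift (𝟙 (𝒲.p.obj w)) (f.map i.inv ≫ (ε x').inv) :=
        IsHomLift.comp_of_lift_id 𝒴.p (𝒲.p.obj w) (f.map i.inv) (ε x').inv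
      exact IsHomLift.comp_of_lift_id 𝒴.p (𝒲.p.obj w) θt.hom (f.map i.inv ≫ (ε x').inv)
    let θ : y'.obj w ≅ f'.obj x' := b.toFunctor.preimageIso ψ
    have hbθ : b.map θ.hom = ψ.hom := b.toFunctor.map_preimage ψ.hom
    have hθ : 𝒴'.p.IsHomLift (𝟙 (𝒲.p.obj w)) θ.hom := by
      have h1 : 𝒴.p.IsHomLift (𝟙 (𝒲.p.obj w)) (b.map θ.hom) := by rw [hbθ]; exact hψ
      exact BasedFunctor.isHomLift_map b (𝟙 (𝒲.p.obj w)) θ.hom
    let ξ : (fp y' f').obj := mkObj (F := y') (G := f') w x' θ hθ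
    let e : (sq a b f f' y' ε hnat hlift).toFunctor.obj ξ ≅ mkObj w x θt hθt :=
      mkIso (z := sqObj a b f f' y' ε hlift ξ) (z' := mkObj w x θt hθt) (Iso.refl w) i (by
        change b.map (y'.map (𝟙 w)) ≫ θt.hom = (b.map θ.hom ≫ (ε x').hom) ≫ f.map i.hom
        rw [y'.map_id, b.map_id, Category.id_comp, hbθ]
        change θt.hom = ((θt.hom ≫ f.map i.inv ≫ (ε x').inv) ≫ (ε x').hom) ≫ f.map i.hom
        have e1 : f.map i.inv ≫ f.map i.hom = 𝟙 _ := by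
          rw [← f.map_comp, Iso.inv_hom_id, f.map_id]
        simp only [Category.assoc, Iso.inv_hom_id_assoc, e1, Category.comp_id])
    refine ⟨ξ, e, ?_⟩
    rw [isHomLift_iff_fst]
    change 𝒲.p.IsHomLift (𝟙 (𝒲.p.obj w)) (𝟙 w)
    infer_instance

end L1

section FirstArg

variable {𝒲' : BasedCategory.{v, max u v} C} (E : 𝒲' ⥤ᵇ 𝒲) (s : 𝒲 ⥤ᵇ 𝒴) (f : 𝒳 ⥤ᵇ 𝒴)

def faObj (q : (fp (BasedFunctor.comp E s) f).obj) : (fp s f).obj :=
  mkObj (F := s) (G := f) (E.obj q.obj.fst) q.obj.snd q.obj.iso (by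
    have h := iso_isHomLift q
    rw [E.w_obj]
    exact h)

def faMap {q q' : (fp (BasedFunctor.comp E s) f).obj} (k : q ⟶ q') :
    faObj E s f q ⟶ faObj E s f q' :=
  mkHom (z := faObj E s f q) (z' := faObj E s f q') (E.map k.hom.fst) k.hom.snd k.hom.w

def fa : fp (BasedFunctor.comp E s) f ⥤ᵇ fp s f where
  toFunctor :=
    { obj := faObj E s f
      map := faMap E s f
      map_id := fun q => by
        apply hom_ext
        · exact E.toFunctor.map_id _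
        · rfl
      map_comp := fun k k' => by
        apply hom_ext
        · exact E.toFunctor.map_comp _ _
        · rfl }
  w := by
    apply CategoryTheory.Functor.ext
    intro q q' k
    exact Functor.congr_hom E.w k.hom.fst

theorem fa_isEquivOver (hE : FibCat.IsEquivOver E) : FibCat.IsEquivOver (fa E s f) := by
  obtain ⟨⟨hE1, hE2⟩, hE3⟩ := (Groth.Agent.S5139.result E).mp hE
  rw [Groth.Agent.S5139.result]
  refine ⟨⟨⟨?_⟩, ⟨?_⟩⟩, ?_⟩
  · intro q q' m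
    obtain ⟨αt, β, hα, hβ, hw⟩ : ∃ (αt : E.obj q.obj.fst ⟶ E.obj q'.obj.fst)
        (β : q.obj.snd ⟶ q'.obj.snd), αt = m.hom.fst ∧ β = m.hom.snd ∧
        s.map αt ≫ q'.obj.iso.hom = q.obj.iso.hom ≫ f.map β :=
      ⟨m.hom.fst, m.hom.snd, rfl, rfl, m.hom.w⟩
    obtain ⟨α, hα'⟩ := E.toFunctor.map_surjective αt
    have hα'' : E.map α = αt := hα'
    refine ⟨mkHom (z := q) (z' := q') α β ?_, ?_⟩
    · change s.map (E.map α) ≫ q'.obj.iso.hom = q.obj.iso.hom ≫ f.map β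
      rw [hα'']
      exact hw
    · apply hom_ext
      · exact hα''.trans hα
      · exact hβ
  · intro q q' k k' h
    apply hom_ext
    · apply E.toFunctor.map_injective
      exact congrArg (fun m => m.hom.fst) h
    · exact congrArg (fun m => m.hom.snd) h
  · intro η
    obtain ⟨w, x, θ, hθ, rfl⟩ : ∃ (w : 𝒲.obj) (x : 𝒳.obj) (θ : s.obj w ≅ f.obj x)
        (hθ : 𝒴.p.IsHomLift (𝟙 (𝒲.p.obj w)) θ.hom), η = mkObj w x θ hθ :=
      ⟨η.obj.fst, η.obj.snd, η.obj.iso, iso_isHomLift η, rfl⟩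
    obtain ⟨w', i, hi⟩ := hE3 w
    have hw' : 𝒲'.p.obj w' = 𝒲.p.obj w := (E.w_obj w').symm.trans (hl_dom hi)
    have hsi : 𝒴.p.IsHomLift (𝟙 (𝒲.p.obj w)) (s.map i.hom) := map_lift'' s hi
    have hθ' : 𝒴.p.IsHomLift (𝟙 (𝒲'.p.obj w')) (s.map i.hom ≫ θ.hom) := by
      rw [hw']
      exact IsHomLift.comp_of_lift_id 𝒴.p (𝒲.p.obj w) (s.map i.hom) θ.hom
    let ξ : (fp (BasedFunctor.comp E s) f).obj :=
      mkObj (F := BasedFunctor.comp E s) (G := f) w' x (s.toFunctor.mapIso i ≪≫ θ) hθ'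
    let e : (fa E s f).toFunctor.obj ξ ≅ mkObj w x θ hθ :=
      mkIso (z := faObj E s f ξ) (z' := mkObj w x θ hθ) i (Iso.refl x) (by
        change s.map i.hom ≫ θ.hom = (s.map i.hom ≫ θ.hom) ≫ f.map (𝟙 x)
        rw [f.map_id, Category.comp_id])
    refine ⟨ξ, e, ?_⟩
    rw [isHomLift_iff_fst]
    exact hi

end FirstArg

section PasteSnd

variable {𝒵 : BasedCategory.{v, max u v} C} (y : 𝒲 ⥤ᵇ 𝒵) (g : 𝒴 ⥤ᵇ 𝒵) (f : 𝒳 ⥤ᵇ 𝒴)

def psIso (q : (fp (fpSnd y g) f).obj) : q.obj.fst.obj.snd ≅ f.obj q.obj.snd := q.obj.iso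

theorem psIso_lift (q : (fp (fpSnd y g) f).obj) :
    𝒴.p.IsHomLift (𝟙 (𝒲.p.obj q.obj.fst.obj.fst)) (psIso y g f q).hom := iso_isHomLift q

theorem psIso_w {q q' : (fp (fpSnd y g) f).obj} (k : q ⟶ q') :
    k.hom.fst.hom.snd ≫ (psIso y g f q').hom = (psIso y g f q).hom ≫ f.map k.hom.snd := k.hom.w

def psObj (q : (fp (fpSnd y g) f).obj) : (fp y (BasedFunctor.comp f g)).obj :=
  mkObj (F := y) (G := BasedFunctor.comp f g) q.obj.fst.obj.fst q.obj.snd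
    (q.obj.fst.obj.iso ≪≫ g.toFunctor.mapIso (psIso y g f q)) (by
      have h1 := iso_isHomLift q.obj.fst
      have h2 := psIso_lift y g f q
      have h3 : 𝒵.p.IsHomLift (𝟙 (𝒲.p.obj q.obj.fst.obj.fst)) (g.map (psIso y g f q).hom) :=
        map_lift'' g h2
      exact IsHomLift.comp_of_lift_id 𝒵.p (𝒲.p.obj q.obj.fst.obj.fst) q.obj.fst.obj.iso.hom
        (g.map (psIso y g f q).hom))

def psMap {q q' : (fp (fpSnd y g) f).obj} (k : q ⟶ q') : psObj y g f q ⟶ psObj y g f q' :=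
  mkHom (z := psObj y g f q) (z' := psObj y g f q') k.hom.fst.hom.fst k.hom.snd (by
    change y.map k.hom.fst.hom.fst ≫ q'.obj.fst.obj.iso.hom ≫ g.map (psIso y g f q').hom =
      (q.obj.fst.obj.iso.hom ≫ g.map (psIso y g f q).hom) ≫ g.map (f.map k.hom.snd)
    have h1 := k.hom.fst.hom.w
    have h2 := psIso_w y g f k
    rw [← Category.assoc, h1, Category.assoc, Category.assoc, ← g.map_comp, ← g.map_comp, h2])

def ps : fp (fpSnd y g) f ⥤ᵇ fp y (BasedFunctor.comp f g) where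
  toFunctor :=
    { obj := psObj y g f
      map := psMap y g f
      map_id := fun q => by
        apply hom_ext
        · rfl
        · rfl
      map_comp := fun k k' => by
        apply hom_ext
        · rfl
        · rfl }
  w := rfl

theorem ps_isEquivOver : FibCat.IsEquivOver (ps y g f) := by
  rw [Groth.Agent.S5139.result]
  refine ⟨⟨⟨?_⟩, ⟨?_⟩⟩, ?_⟩
  · intro q q' m
    obtain ⟨α, β, hα, hβ, hw⟩ : ∃ (α : q.obj.fst.obj.fst ⟶ q'.obj.fst.obj.fst)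
        (β : q.obj.snd ⟶ q'.obj.snd), α = m.hom.fst ∧ β = m.hom.snd ∧
        y.map α ≫ q'.obj.fst.obj.iso.hom ≫ g.map (psIso y g f q').hom =
          (q.obj.fst.obj.iso.hom ≫ g.map (psIso y g f q).hom) ≫ g.map (f.map β) :=
      ⟨m.hom.fst, m.hom.snd, rfl, rfl, m.hom.w⟩
    let γ : q.obj.fst.obj.snd ⟶ q'.obj.fst.obj.snd :=
      (psIso y g f q).hom ≫ f.map β ≫ (psIso y g f q').inv
    have hγ : γ ≫ (psIso y g f q').hom = (psIso y g f q).hom ≫ f.map β := by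
      simp only [γ, Category.assoc, Iso.inv_hom_id, Category.comp_id]
    have hin : y.map α ≫ q'.obj.fst.obj.iso.hom = q.obj.fst.obj.iso.hom ≫ g.map γ := by
      have e1 : g.map (psIso y g f q').hom ≫ g.map (psIso y g f q').inv = 𝟙 _ := by
        rw [← g.map_comp, Iso.hom_inv_id, g.map_id]
      have e2 : g.map γ = g.map (psIso y g f q).hom ≫ g.map (f.map β) ≫
          g.map (psIso y g f q').inv := by
        simp only [γ, g.map_comp]
      have hw' : (y.map α ≫ q'.obj.fst.obj.iso.hom) ≫ g.map (psIso y g f q').hom =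
          q.obj.fst.obj.iso.hom ≫ g.map (psIso y g f q).hom ≫ g.map (f.map β) := by
        simpa only [Category.assoc] using hw
      calc y.map α ≫ q'.obj.fst.obj.iso.hom
          = ((y.map α ≫ q'.obj.fst.obj.iso.hom) ≫ g.map (psIso y g f q').hom) ≫
              g.map (psIso y g f q').inv := by
            rw [Category.assoc, e1, Category.comp_id]
        _ = q.obj.fst.obj.iso.hom ≫ g.map γ := by
            rw [hw', e2]
            simp only [Category.assoc]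
    let inner : q.obj.fst ⟶ q'.obj.fst := mkHom (z := q.obj.fst) (z' := q'.obj.fst) α γ hin
    refine ⟨mkHom (z := q) (z' := q') inner β hγ, ?_⟩
    apply hom_ext
    · exact hα
    · exact hβ
  · intro q q' k k' h
    have h1 : k.hom.fst.hom.fst = k'.hom.fst.hom.fst := congrArg (fun m => m.hom.fst) h
    have h2 : k.hom.snd = k'.hom.snd := congrArg (fun m => m.hom.snd) h
    apply hom_ext
    · apply hom_ext h1
      have e1 := psIso_w y g f k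
      have e2 := psIso_w y g f k'
      rw [h2] at e1
      exact (cancel_mono (psIso y g f q').hom).mp (e1.trans e2.symm)
    · exact h2
  · intro η
    obtain ⟨w, x, ϑ, hϑ, rfl⟩ : ∃ (w : 𝒲.obj) (x : 𝒳.obj) (ϑ : y.obj w ≅ g.obj (f.obj x))
        (hϑ : 𝒵.p.IsHomLift (𝟙 (𝒲.p.obj w)) ϑ.hom), η = mkObj w x ϑ hϑ :=
      ⟨η.obj.fst, η.obj.snd, η.obj.iso, iso_isHomLift η, rfl⟩
    have hfx : 𝒴.p.obj (f.obj x) = 𝒲.p.obj w := (g.w_obj (f.obj x)).symm.trans (hl_cod hϑ)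
    let inner : (fp y g).obj := mkObj (F := y) (G := g) w (f.obj x) ϑ hϑ
    let ξ : (fp (fpSnd y g) f).obj :=
      mkObj (F := fpSnd y g) (G := f) inner x (Iso.refl (f.obj x)) (IsHomLift.id hfx)
    let e : (ps y g f).toFunctor.obj ξ ≅ mkObj w x ϑ hϑ :=
      mkIso (z := psObj y g f ξ) (z' := mkObj w x ϑ hϑ) (Iso.refl w) (Iso.refl x) (by
        change y.map (𝟙 w) ≫ ϑ.hom = (ϑ.hom ≫ g.map (𝟙 (f.obj x))) ≫ g.map (f.map (𝟙 x))
        rw [y.map_id, f.map_id, g.map_id, Category.id_comp, Category.comp_id, Category.comp_id])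
    refine ⟨ξ, e, ?_⟩
    rw [isHomLift_iff_fst]
    change 𝒲.p.IsHomLift (𝟙 (𝒲.p.obj w)) (𝟙 w)
    infer_instance

end PasteSnd

end Groth.Agent.Lib.Helper17.FI
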