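import Groth.Prelude.Def_FibCat2
import Groth.Agent.Lib.Helper17.HomLift

set_option autoImplicit false
universe v₂ u₂ v u

namespace Groth.Agent.Lib.Helper17.FG

open CategoryTheory CategoryTheory.Functor FibCat

variable {C : Type u} [Category.{v} C] {𝒳 : BasedCategory.{v₂, u₂} C}

theorem sc_all (h𝒳 : FibCat.IsFibGrpd 𝒳.p) {x y : 𝒳.obj} {R S : C} (f : R ⟶ S) (φ : y ⟶ x)
    (hφ : 𝒳.p.IsHomLift f φ) : 𝒳.p.IsStronglyCartesian f φ :=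
  sc_of_homLift hφ (h𝒳.isStronglyCartesian φ)

theorem exists_lift_of_eq (h𝒳 : FibCat.IsFibGrpd 𝒳.p) {x : 𝒳.obj} {S V : C}
    (hx : 𝒳.p.obj x = S) (f : V ⟶ S) :
    ∃ (y : 𝒳.obj) (φ : y ⟶ x), 𝒳.p.IsStronglyCartesian f φ := by
  subst hx
  obtain ⟨y, φ, hφ⟩ := h𝒳.exists_lift f
  exact ⟨y, φ, sc_all h𝒳 f φ hφ⟩

theorem isIso_of_lift_id (h𝒳 : FibCat.IsFibGrpd 𝒳.p) {x y : 𝒳.obj} {R : C} (φ : y ⟶ x)
    (hφ : 𝒳.p.IsHomLift (𝟙 R) φ) : IsIso φ := by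
  have := sc_all h𝒳 (𝟙 R) φ hφ
  exact IsStronglyCartesian.isIso_of_base_isIso 𝒳.p (𝟙 R) φ

theorem isIso_of_lift_iso (h𝒳 : FibCat.IsFibGrpd 𝒳.p) {x y : 𝒳.obj} {R S : C} (f : R ⟶ S)
    [IsIso f] (φ : y ⟶ x) (hφ : 𝒳.p.IsHomLift f φ) : IsIso φ := by
  have := sc_all h𝒳 f φ hφ
  exact IsStronglyCartesian.isIso_of_base_isIso 𝒳.p f φ

/-- factorisation through a chosen lift, in a category fibred in groupoids -/
theorem exists_factor (h𝒳 : FibCat.IsFibGrpd 𝒳.p) {x y z : 𝒳.obj} {R S : C} (f : R ⟶ S)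
    (φ : y ⟶ x) (hφ : 𝒳.p.IsHomLift f φ) (t : z ⟶ x) (ht : 𝒳.p.IsHomLift f t) :
    ∃ θ : z ⟶ y, 𝒳.p.IsHomLift (𝟙 R) θ ∧ θ ≫ φ = t ∧ IsIso θ := by
  have hsc := sc_all h𝒳 f φ hφ
  obtain ⟨θ, ⟨h1, h2⟩, -⟩ :=
    IsStronglyCartesian.universal_property 𝒳.p f φ (𝟙 R) f (Category.id_comp f).symm t
  exact ⟨θ, h1, h2, isIso_of_lift_id h𝒳 θ h1⟩

theorem isFibGrpd_overForget (U : C) : FibCat.IsFibGrpd (Over.forget U) := by
  refine ⟨?_, ?_⟩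
  · intro x V f
    exact ⟨Over.mk (f ≫ x.hom), Over.homMk f rfl, hl_of_eq rfl⟩
  · intro y x φ
    refine { toIsHomLift := inferInstance, universal_property' := ?_ }
    intro a' g₀
    obtain ⟨g, rfl⟩ : ∃ g' : a'.left ⟶ y.left, g' = g₀ := ⟨g₀, rfl⟩
    intro φ' hφ'
    have e1 : (show (Over.forget U).obj a' ⟶ (Over.forget U).obj y from g) ≫
        (Over.forget U).map φ = (Over.forget U).map φ' := hl_eq hφ'
    have e2 : g ≫ φ.left = φ'.left := e1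
    refine ⟨Over.homMk g ?_, ⟨hl_of_eq rfl, ?_⟩, ?_⟩
    · have h1 := Over.w φ
      have h2 := Over.w φ'
      rw [← h1, ← Category.assoc, e2, h2]
    · apply Over.OverMorphism.ext
      exact e2
    · rintro χ ⟨h3, h4⟩
      apply Over.OverMorphism.ext
      have e3 : (show (Over.forget U).obj a' ⟶ (Over.forget U).obj y from g) =
          (Over.forget U).map χ := hl_eq h3
      exact e3.symm

end Groth.Agent.Lib.Helper17.FG
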