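import Mathlib.CategoryTheory.FiberedCategory.Cartesian
import Mathlib.CategoryTheory.FiberedCategory.Fibered
import Groth.Agent.Lib.Helper17.HomLift

set_option autoImplicit false
universe v₁ u₁ v₂ u₂ v₃ u₃

namespace Groth.Agent.Lib.Helper17.SCC

open CategoryTheory CategoryTheory.Functor

variable {𝒵 : Type u₁} {𝒴 : Type u₂} {C : Type u₃} [Category.{v₁} 𝒵] [Category.{v₂} 𝒴]
  [Category.{v₃} C]

theorem sc_ext' {p : 𝒴 ⥤ C} {R S : C} {a b : 𝒴} {f : R ⟶ S} {φ : a ⟶ b}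
    (hφ : p.IsStronglyCartesian f φ) {R' : C} {a' : 𝒴} {g : R' ⟶ R} {ψ ψ' : a' ⟶ a}
    (h1 : p.IsHomLift g ψ) (h2 : p.IsHomLift g ψ') (h : ψ ≫ φ = ψ' ≫ φ) : ψ = ψ' :=
  IsStronglyCartesian.ext p f φ g h

/-- If `φ` is strongly cartesian for `p' ⋙ q` and `p' φ` is strongly cartesian for `q`, then `φ`
is strongly cartesian for `p'`. -/
theorem sc_of_comp (p' : 𝒵 ⥤ 𝒴) (q : 𝒴 ⥤ C) {a b : 𝒵} (φ : a ⟶ b)
    (h1 : (p' ⋙ q).IsStronglyCartesian (q.map (p'.map φ)) φ)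
    (h2 : q.IsStronglyCartesian (q.map (p'.map φ)) (p'.map φ)) :
    p'.IsStronglyCartesian (p'.map φ) φ := by
  refine { toIsHomLift := inferInstance, universal_property' := ?_ }
  intro a' g φ' hφ'
  have e1 : p'.map φ' = g ≫ p'.map φ := (hl_eq hφ').symm
  have h3 : (p' ⋙ q).IsHomLift (q.map g ≫ q.map (p'.map φ)) φ' := by
    apply hl_of_eq
    rw [Functor.comp_map, e1, q.map_comp]
  obtain ⟨χ, ⟨hχ1, hχ2⟩, hχu⟩ :=
    IsStronglyCartesian.universal_property (p' ⋙ q) (q.map (p'.map φ)) φ (q.map g)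
      (q.map g ≫ q.map (p'.map φ)) rfl φ'
  have e3' : q.map g = (p' ⋙ q).map χ := hl_eq (p := p' ⋙ q) hχ1
  have e3 : q.map g = q.map (p'.map χ) := e3'
  have e2 : p'.map χ = g := by
    refine sc_ext' h2 (g := q.map g) (hl_of_eq e3) (hl_of_eq rfl) ?_
    rw [← p'.map_comp, hχ2, e1]
  refine ⟨χ, ⟨hl_of_eq e2.symm, hχ2⟩, ?_⟩
  rintro χ' ⟨h4, h5⟩
  apply hχu
  refine ⟨hl_of_eq ?_, h5⟩
  have h6 : g = p'.map χ' := hl_eq h4
  rw [h6]
  rfl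

end Groth.Agent.Lib.Helper17.SCC
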