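import Groth.Prelude.Def_FibCat2
import Groth.Agent.Lib.Helper17.HomLift
import Groth.Agent.Lib.Helper17.FibEquiv
import Groth.Agent.Lib.Helper17.FibGrpd
import Groth.Agent.Lib.Helper17.ScComp
import Groth.Agent.S5139
import Mathlib.CategoryTheory.Limits.Shapes.Terminal
import Mathlib.CategoryTheory.Limits.Constructions.Over.Basic

set_option autoImplicit false
universe v u

namespace Groth.Agent.Lib.Helper17.Rep

open CategoryTheory CategoryTheory.Functor CategoryTheory.Limits FibCat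
open Groth.Agent.Lib.Helper17 Groth.Agent.Lib.Helper17.FG Groth.Agent.Lib.Helper17.SCC

variable {C : Type u} [Category.{v} C] {𝒳 𝒴 : BasedCategory.{v, max u v} C}

/-- a fully faithful functor over `C` reflects strongly cartesian morphisms -/
theorem sc_of_map_sc (F : 𝒳 ⥤ᵇ 𝒴) [F.toFunctor.Full] [F.toFunctor.Faithful] {R S : C} (f : R ⟶ S)
    {a b : 𝒳.obj} (φ : a ⟶ b) (h : 𝒴.p.IsStronglyCartesian f (F.map φ)) :
    𝒳.p.IsStronglyCartesian f φ := by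
  have h0 : 𝒴.p.IsHomLift f (F.map φ) := h.toIsHomLift
  have h0' : 𝒳.p.IsHomLift f φ := BasedFunctor.isHomLift_map F f φ
  refine { toIsHomLift := h0', universal_property' := ?_ }
  intro a' g φ' hφ'
  have h1 : 𝒴.p.IsHomLift (g ≫ f) (F.map φ') := inferInstance
  obtain ⟨χ', ⟨hχ1, hχ2⟩, hχu⟩ :=
    IsStronglyCartesian.universal_property 𝒴.p f (F.map φ) g (g ≫ f) rfl (F.map φ')
  have hpre : F.map (F.toFunctor.preimage χ') = χ' := F.toFunctor.map_preimage χ'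
  refine ⟨F.toFunctor.preimage χ', ⟨?_, ?_⟩, ?_⟩
  · have : 𝒴.p.IsHomLift g (F.map (F.toFunctor.preimage χ')) := by rw [hpre]; exact hχ1
    exact BasedFunctor.isHomLift_map F g _
  · apply F.toFunctor.map_injective
    rw [F.toFunctor.map_comp]
    change F.map (F.toFunctor.preimage χ') ≫ F.map φ = F.map φ'
    rw [hpre, hχ2]
  · rintro χ ⟨h2, h3⟩
    apply F.toFunctor.map_injective
    change F.map χ = F.map (F.toFunctor.preimage χ')
    rw [hpre]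
    apply hχu
    refine ⟨inferInstance, ?_⟩
    rw [← h3]
    exact (F.toFunctor.map_comp χ φ).symm

/-- pull back "fibred in groupoids" along an equivalence over `C` -/
theorem isFibGrpd_of_isEquivOver (F : 𝒳 ⥤ᵇ 𝒴) (hF : FibCat.IsEquivOver F)
    (h𝒴 : FibCat.IsFibGrpd 𝒴.p) : FibCat.IsFibGrpd 𝒳.p := by
  obtain ⟨⟨hfull, hfaith⟩, hess⟩ := (Groth.Agent.S5139.result F).mp hF
  refine ⟨?_, ?_⟩
  · intro x V f
    have hFx : 𝒴.p.obj (F.obj x) = 𝒳.p.obj x := F.w_obj x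
    obtain ⟨y, ψ, hψ⟩ := exists_lift_of_eq h𝒴 hFx f
    have hV : 𝒴.p.obj y = V := hl_dom hψ.toIsHomLift
    subst hV
    obtain ⟨ξ, e, he⟩ := hess y
    have h1 : 𝒴.p.IsHomLift f (e.hom ≫ ψ) := IsHomLift.comp_lift_id_left 𝒴.p f ψ e.hom
    refine ⟨ξ, F.toFunctor.preimage (e.hom ≫ ψ), ?_⟩
    have h2 : 𝒴.p.IsHomLift f (F.map (F.toFunctor.preimage (e.hom ≫ ψ))) := by
      have : F.map (F.toFunctor.preimage (e.hom ≫ ψ)) = e.hom ≫ ψ :=
        F.toFunctor.map_preimage _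
      rw [this]
      exact h1
    exact BasedFunctor.isHomLift_map F f _
  · intro x' x φ
    apply sc_of_map_sc F
    exact sc_all h𝒴 _ (F.map φ) inferInstance

/-- the functor to the slice over the image of a terminal object -/
def toOver (ξ : 𝒳.obj) (t : ∀ ρ : 𝒳.obj, ρ ⟶ ξ) (ht : ∀ (ρ : 𝒳.obj) (f : ρ ⟶ ξ), f = t ρ) :
    𝒳 ⥤ᵇ FibCat.overCat (𝒳.p.obj ξ) where
  toFunctor :=
    { obj := fun x => Over.mk (𝒳.p.map (t x))
      map := fun {x y} φ => Over.homMk (𝒳.p.map φ) (by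
        change 𝒳.p.map φ ≫ 𝒳.p.map (t y) = 𝒳.p.map (t x)
        rw [← 𝒳.p.map_comp, ht x (φ ≫ t y)])
      map_id := fun x => by
        apply Over.OverMorphism.ext
        exact 𝒳.p.map_id x
      map_comp := fun φ ψ => by
        apply Over.OverMorphism.ext
        exact 𝒳.p.map_comp φ ψ }
  w := rfl

theorem rep_of_terminal (h𝒳 : FibCat.IsFibGrpd 𝒳.p) (ξ : 𝒳.obj)
    (hξ : ∀ ρ : 𝒳.obj, Nonempty (Unique (ρ ⟶ ξ))) : FibCat.IsRepresentable 𝒳 := by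
  let t : ∀ ρ : 𝒳.obj, ρ ⟶ ξ := fun ρ => (hξ ρ).some.default
  have ht : ∀ (ρ : 𝒳.obj) (f : ρ ⟶ ξ), f = t ρ := fun ρ f => (hξ ρ).some.uniq f
  refine ⟨𝒳.p.obj ξ, toOver ξ t ht, ?_⟩
  rw [Groth.Agent.S5139.result]
  refine ⟨⟨⟨?_⟩, ⟨?_⟩⟩, ?_⟩
  · intro x y m
    obtain ⟨g, hg⟩ : ∃ g : 𝒳.p.obj x ⟶ 𝒳.p.obj y, g = m.left := ⟨m.left, rfl⟩
    have hm : g ≫ 𝒳.p.map (t y) = 𝒳.p.map (t x) := by
      rw [hg]
      exact Over.w m
    have hsc : 𝒳.p.IsStronglyCartesian (𝒳.p.map (t y)) (t y) := h𝒳.isStronglyCartesian (t y)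
    have hl : 𝒳.p.IsHomLift (g ≫ 𝒳.p.map (t y)) (t x) := hl_of_eq hm
    obtain ⟨χ, ⟨hχ1, hχ2⟩, -⟩ :=
      IsStronglyCartesian.universal_property 𝒳.p (𝒳.p.map (t y)) (t y) g
        (g ≫ 𝒳.p.map (t y)) rfl (t x)
    refine ⟨χ, ?_⟩
    apply Over.OverMorphism.ext
    rw [← hg]
    exact (hl_eq hχ1).symm
  · intro x y φ ψ h
    have h1 : 𝒳.p.map φ = 𝒳.p.map ψ := congrArg (fun m => m.left) h
    have hsc : 𝒳.p.IsStronglyCartesian (𝒳.p.map (t y)) (t y) := h𝒳.isStronglyCartesian (t y)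
    have l1 : 𝒳.p.IsHomLift (𝒳.p.map φ) φ := inferInstance
    have l2 : 𝒳.p.IsHomLift (𝒳.p.map φ) ψ := hl_of_eq h1
    refine sc_ext' hsc l1 l2 ?_
    rw [ht x (φ ≫ t y), ht x (ψ ≫ t y)]
  · intro η
    obtain ⟨φx, φ, hφ⟩ := exists_lift_of_eq h𝒳 (x := ξ) rfl η.hom
    have hφt : φ = t φx := ht φx φ
    have hT : 𝒳.p.obj φx = η.left := hl_dom hφ.toIsHomLift
    have hfac : η.hom = eqToHom hT.symm ≫ 𝒳.p.map φ := by
      have := hl_fac hφ.toIsHomLift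
      rw [this]
      simp
    let e : (toOver ξ t ht).toFunctor.obj φx ≅ η :=
      Over.isoMk (eqToIso hT) (by
        change eqToHom hT ≫ η.hom = 𝒳.p.map (t φx)
        rw [hfac, ← hφt]
        simp)
    refine ⟨φx, e, ?_⟩
    refine IsHomLift.of_fac (FibCat.overCat (𝒳.p.obj ξ)).p (𝟙 _) e.hom hT rfl ?_
    change 𝟙 η.left = eqToHom hT.symm ≫ eqToHom hT ≫ eqToHom rfl
    simp

theorem terminal_of_rep (h : FibCat.IsRepresentable 𝒳) :
    ∃ ξ : 𝒳.obj, ∀ ρ : 𝒳.obj, Nonempty (Unique (ρ ⟶ ξ)) := by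
  obtain ⟨W, F, hF⟩ := h
  have hE := isEquivalence_of_isEquivOver F hF
  have : HasTerminal (FibCat.overCat W).obj := (Over.mkIdTerminal (X := W)).hasTerminal
  have : HasTerminal 𝒳.obj := Adjunction.hasLimitsOfShape_of_equivalence F.toFunctor
  exact ⟨⊤_ 𝒳.obj, fun ρ => ⟨uniqueToTerminal ρ⟩⟩

theorem isFibGrpd_of_rep (h : FibCat.IsRepresentable 𝒳) : FibCat.IsFibGrpd 𝒳.p := by
  obtain ⟨W, F, hF⟩ := h
  exact isFibGrpd_of_isEquivOver F hF (isFibGrpd_overForget W)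

end Groth.Agent.Lib.Helper17.Rep
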