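import Groth.Agent.Lib.Helper17.SelfProd
import Groth.Agent.Lib.Helper17.Rep
import Groth.Agent.S6401
import Mathlib.CategoryTheory.Limits.Shapes.BinaryProducts
import Mathlib.CategoryTheory.Limits.Shapes.Equalizers
import Mathlib.CategoryTheory.Limits.Constructions.Equalizers

set_option autoImplicit false
universe v₃ u₃ v₂ u₂ v u

namespace Groth.Agent.Lib.Helper17.DR

open CategoryTheory CategoryTheory.Functor CategoryTheory.Limits FibCat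
open Groth.Agent.Lib.Helper17 Groth.Agent.Lib.Helper17.FP Groth.Agent.Lib.Helper17.FG
  Groth.Agent.Lib.Helper17.SP

variable {C : Type u} [Category.{v} C]

theorem basedFunctor_ext {𝒳 : BasedCategory.{v₂, u₂} C} {𝒴 : BasedCategory.{v₃, u₃} C}
    {F G : 𝒳 ⥤ᵇ 𝒴} (h : F.toFunctor = G.toFunctor) : F = G := by
  cases F
  cases G
  cases h
  rfl

theorem map_lift {𝒳 : BasedCategory.{v₂, u₂} C} {𝒴 : BasedCategory.{v₃, u₃} C} (F : 𝒳 ⥤ᵇ 𝒴)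
    {R S : C} {a b : 𝒳.obj} {f : R ⟶ S} {φ : a ⟶ b} (h : 𝒳.p.IsHomLift f φ) :
    𝒴.p.IsHomLift f (F.map φ) := inferInstance

theorem unique_of_equiv {A : Type u₂} {B : Type u₃} [Category.{v₂} A] [Category.{v₃} B]
    (E : A ⥤ B) [E.IsEquivalence] (ξ : A) (hξ : ∀ ρ : A, Nonempty (Unique (ρ ⟶ ξ))) (η : B) :
    Nonempty (Unique (η ⟶ E.obj ξ)) := by
  let ρ := E.objPreimage η
  let i : E.obj ρ ≅ η := E.objObjPreimageIso η
  obtain ⟨u⟩ := hξ ρ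
  refine ⟨⟨⟨i.inv ≫ E.map default⟩, ?_⟩⟩
  intro f
  have h1 : E.map (E.preimage (i.hom ≫ f)) = i.hom ≫ f := E.map_preimage _
  have h2 : E.preimage (i.hom ≫ f) = default := u.uniq _
  rw [h2] at h1
  change f = i.inv ≫ E.map default
  rw [h1, Iso.inv_hom_id_assoc]

variable {𝒮 : BasedCategory.{v, max u v} C}

abbrev Sq (𝒮 : BasedCategory.{v, max u v} C) : BasedCategory.{v, max u v} C :=
  fp (toSelf 𝒮) (toSelf 𝒮)

abbrev Dg (𝒮 : BasedCategory.{v, max u v} C) : 𝒮 ⥤ᵇ Sq 𝒮 := diag (toSelf 𝒮)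

/-- the functor over `C` between slices induced by a morphism -/
def overMap {X Y : C} (f : X ⟶ Y) : overCat X ⥤ᵇ overCat Y := ⟨Over.map f, Over.mapForget_eq f⟩

section Fwd

variable [HasBinaryProducts C] {U V : C} (G' : overCat V ⥤ᵇ 𝒮) (G : overCat U ⥤ᵇ 𝒮)

noncomputable def aF (G' : overCat V ⥤ᵇ 𝒮) (U : C) : overCat (V ⨯ U) ⥤ᵇ 𝒮 :=
  BasedFunctor.comp (overMap prod.fst) G'

noncomputable def bF (V : C) (G : overCat U ⥤ᵇ 𝒮) : overCat (V ⨯ U) ⥤ᵇ 𝒮 :=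
  BasedFunctor.comp (overMap prod.snd) G

theorem ab_eq :
    BasedFunctor.comp (aF G' U) (toSelf 𝒮) = BasedFunctor.comp (bF V G) (toSelf 𝒮) := by
  apply basedFunctor_ext
  exact (aF G' U).w.trans (bF V G).w.symm

noncomputable def HF : overCat (V ⨯ U) ⥤ᵇ Sq 𝒮 :=
  fpLift (aF G' U) (bF V G) (eqToIso (ab_eq G' G))

noncomputable def th1 (z : (fp (HF G' G) (Dg 𝒮)).obj) :
    G'.obj ((overMap prod.fst).obj z.obj.fst) ≅ z.obj.snd where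
  hom := z.obj.iso.hom.hom.fst
  inv := z.obj.iso.inv.hom.fst
  hom_inv_id := congrArg (fun m => m.hom.fst) z.obj.iso.hom_inv_id
  inv_hom_id := congrArg (fun m => m.hom.fst) z.obj.iso.inv_hom_id

noncomputable def th2 (z : (fp (HF G' G) (Dg 𝒮)).obj) :
    G.obj ((overMap prod.snd).obj z.obj.fst) ≅ z.obj.snd where
  hom := z.obj.iso.hom.hom.snd
  inv := z.obj.iso.inv.hom.snd
  hom_inv_id := congrArg (fun m => m.hom.snd) z.obj.iso.hom_inv_id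
  inv_hom_id := congrArg (fun m => m.hom.snd) z.obj.iso.inv_hom_id

theorem th1_lift (z : (fp (HF G' G) (Dg 𝒮)).obj) :
    𝒮.p.IsHomLift (𝟙 z.obj.fst.left) (th1 G' G z).hom := by
  have h := iso_isHomLift z
  exact (isHomLift_iff_fst z.obj.iso.hom _).mp h

theorem th2_lift (z : (fp (HF G' G) (Dg 𝒮)).obj) :
    𝒮.p.IsHomLift (𝟙 z.obj.fst.left) (th2 G' G z).hom := by
  have h := iso_isHomLift z
  exact isHomLift_snd z.obj.iso.hom _ h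

noncomputable def PsiObj (z : (fp (HF G' G) (Dg 𝒮)).obj) : (fp G' G).obj :=
  mkObj ((overMap prod.fst).obj z.obj.fst) ((overMap prod.snd).obj z.obj.fst)
    (th1 G' G z ≪≫ (th2 G' G z).symm) (by
      have h1 := th1_lift G' G z
      have h2 := th2_lift G' G z
      have h2' : 𝒮.p.IsHomLift (𝟙 z.obj.fst.left) (th2 G' G z).inv :=
        IsHomLift.lift_id_inv 𝒮.p _ (th2 G' G z)
      have h3 : 𝒮.p.IsHomLift (𝟙 z.obj.fst.left) ((th1 G' G z).hom ≫ (th2 G' G z).inv) :=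
        IsHomLift.comp_of_lift_id 𝒮.p z.obj.fst.left (th1 G' G z).hom (th2 G' G z).inv
      exact h3)

theorem PsiObj_iso_hom (z : (fp (HF G' G) (Dg 𝒮)).obj) :
    (PsiObj G' G z).obj.iso.hom = (th1 G' G z).hom ≫ (th2 G' G z).inv := rfl

theorem w1 {z z' : (fp (HF G' G) (Dg 𝒮)).obj} (k : z ⟶ z') :
    G'.map ((overMap prod.fst).map k.hom.fst) ≫ (th1 G' G z').hom =
      (th1 G' G z).hom ≫ k.hom.snd :=
  congrArg (fun m => m.hom.fst) k.hom.w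

theorem w2 {z z' : (fp (HF G' G) (Dg 𝒮)).obj} (k : z ⟶ z') :
    G.map ((overMap prod.snd).map k.hom.fst) ≫ (th2 G' G z').hom =
      (th2 G' G z).hom ≫ k.hom.snd :=
  congrArg (fun m => m.hom.snd) k.hom.w

theorem w2' {z z' : (fp (HF G' G) (Dg 𝒮)).obj} (k : z ⟶ z') :
    (th2 G' G z).inv ≫ G.map ((overMap prod.snd).map k.hom.fst) =
      k.hom.snd ≫ (th2 G' G z').inv := by
  rw [Iso.inv_comp_eq, ← Category.assoc, Iso.eq_comp_inv]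
  exact w2 G' G k

noncomputable def PsiMap {z z' : (fp (HF G' G) (Dg 𝒮)).obj} (k : z ⟶ z') :
    PsiObj G' G z ⟶ PsiObj G' G z' :=
  mkHom (z := PsiObj G' G z) (z' := PsiObj G' G z')
    ((overMap prod.fst).map k.hom.fst) ((overMap prod.snd).map k.hom.fst) (by
      rw [PsiObj_iso_hom, PsiObj_iso_hom]
      change G'.map ((overMap prod.fst).map k.hom.fst) ≫ _ = _ ≫
        G.map ((overMap prod.snd).map k.hom.fst)
      rw [← Category.assoc, w1, Category.assoc, Category.assoc, w2'])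

noncomputable def Psi : (fp (HF G' G) (Dg 𝒮)).obj ⥤ (fp G' G).obj where
  obj := PsiObj G' G
  map := PsiMap G' G
  map_id := fun z => by
    apply hom_ext
    · exact (overMap prod.fst).toFunctor.map_id _
    · exact (overMap prod.snd).toFunctor.map_id _
  map_comp := fun k k' => by
    apply hom_ext
    · exact (overMap prod.fst).toFunctor.map_comp _ _
    · exact (overMap prod.snd).toFunctor.map_comp _ _

theorem Psi_faithful : (Psi G' G).Faithful := by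
  constructor
  intro z z' k k' h
  have h1 : (overMap prod.fst).map k.hom.fst = (overMap prod.fst).map k'.hom.fst :=
    congrArg (fun m => m.hom.fst) h
  have hγ : k.hom.fst = k'.hom.fst := by
    apply Over.OverMorphism.ext
    exact congrArg (fun m => m.left) h1
  apply hom_ext hγ
  have e1 := w1 G' G k
  have e2 := w1 G' G k'
  rw [hγ] at e1
  have e3 := e1.symm.trans e2
  exact (cancel_epi (th1 G' G z).hom).mp e3

theorem Psi_full : (Psi G' G).Full := by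
  constructor
  intro z z' m
  obtain ⟨α, β, hw, hαβ, hmα, hmβ⟩ :
      ∃ (α : (overMap prod.fst).obj z.obj.fst ⟶ (overMap prod.fst).obj z'.obj.fst)
        (β : (overMap prod.snd).obj z.obj.fst ⟶ (overMap prod.snd).obj z'.obj.fst),
        (G'.map α ≫ (th1 G' G z').hom ≫ (th2 G' G z').inv =
          ((th1 G' G z).hom ≫ (th2 G' G z).inv) ≫ G.map β) ∧ α.left = β.left ∧
          m.hom.fst = α ∧ m.hom.snd = β := by
    refine ⟨m.hom.fst, m.hom.snd, m.hom.w, ?_, rfl, rfl⟩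
    exact hl_eq (fp_isHomLift_snd G' G m)
  obtain ⟨l, hl1, hl2⟩ : ∃ l : z.obj.fst.left ⟶ z'.obj.fst.left, l = α.left ∧ l = β.left :=
    ⟨α.left, rfl, hαβ⟩
  have hw1 : l ≫ (z'.obj.fst.hom ≫ prod.fst) = z.obj.fst.hom ≫ prod.fst := by
    rw [hl1]
    exact Over.w α
  have hw2 : l ≫ (z'.obj.fst.hom ≫ prod.snd) = z.obj.fst.hom ≫ prod.snd := by
    rw [hl2]
    exact Over.w β
  have hγw : l ≫ z'.obj.fst.hom = z.obj.fst.hom := by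
    apply Limits.prod.hom_ext
    · exact (Category.assoc _ _ _).trans hw1
    · exact (Category.assoc _ _ _).trans hw2
  let γ : z.obj.fst ⟶ z'.obj.fst := Over.homMk l hγw
  have hγ1 : (overMap prod.fst).map γ = α := Over.OverMorphism.ext hl1
  have hγ2 : (overMap prod.snd).map γ = β := Over.OverMorphism.ext hl2
  let σ : z.obj.snd ⟶ z'.obj.snd := (th1 G' G z).inv ≫ G'.map α ≫ (th1 G' G z').hom
  have hσ : σ = (th2 G' G z).inv ≫ G.map β ≫ (th2 G' G z').hom := by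
    calc σ = (th1 G' G z).inv ≫ (G'.map α ≫ (th1 G' G z').hom ≫ (th2 G' G z').inv) ≫
            (th2 G' G z').hom := by simp [σ]
      _ = (th1 G' G z).inv ≫ (((th1 G' G z).hom ≫ (th2 G' G z).inv) ≫ G.map β) ≫
            (th2 G' G z').hom := by rw [hw]
      _ = _ := by simp
  have hkw : (HF G' G).map γ ≫ z'.obj.iso.hom = z.obj.iso.hom ≫ (Dg 𝒮).map σ := by
    apply hom_ext
    · change G'.map ((overMap prod.fst).map γ) ≫ (th1 G' G z').hom = (th1 G' G z).hom ≫ σ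
      rw [hγ1]
      simp [σ]
    · change G.map ((overMap prod.snd).map γ) ≫ (th2 G' G z').hom = (th2 G' G z).hom ≫ σ
      rw [hγ2, hσ]
      simp
  refine ⟨mkHom (F := HF G' G) (G := Dg 𝒮) γ σ hkw, ?_⟩
  apply hom_ext
  · exact hγ1.trans hmα.symm
  · exact hγ2.trans hmβ.symm

theorem Psi_essSurj : (Psi G' G).EssSurj := by
  constructor
  intro y
  obtain ⟨a, b, ι, hι, rfl⟩ : ∃ (a : Over V) (b : Over U) (ι : G'.obj a ≅ G.obj b)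
      (hι : 𝒮.p.IsHomLift (𝟙 a.left) ι.hom), y = mkObj a b ι hι :=
    ⟨y.obj.fst, y.obj.snd, y.obj.iso, iso_isHomLift y, rfl⟩
  have hb : b.left = a.left := (G.w_obj b).symm.trans (hl_cod hι)
  let c : Over (V ⨯ U) := Over.mk (prod.lift a.hom (eqToHom hb.symm ≫ b.hom))
  let i₁ : (overMap prod.fst).obj c ≅ a := Over.isoMk (Iso.refl _) (by
    change 𝟙 _ ≫ a.hom = prod.lift a.hom _ ≫ prod.fst
    rw [Category.id_comp, prod.lift_fst])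
  let i₂ : (overMap prod.snd).obj c ≅ b := Over.isoMk (eqToIso hb.symm) (by
    change eqToHom hb.symm ≫ b.hom = prod.lift a.hom (eqToHom hb.symm ≫ b.hom) ≫ prod.snd
    rw [prod.lift_snd])
  have hi₁ : (overCat V).p.IsHomLift (𝟙 a.left) i₁.hom :=
    IsHomLift.of_fac (overCat V).p (𝟙 a.left) i₁.hom rfl rfl (by
      change 𝟙 a.left = eqToHom (Eq.refl a.left) ≫ 𝟙 a.left ≫ eqToHom (Eq.refl a.left)
      rw [eqToHom_refl, Category.id_comp, Category.id_comp])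
  have hi₂ : (overCat U).p.IsHomLift (𝟙 a.left) i₂.hom :=
    IsHomLift.of_fac (overCat U).p (𝟙 a.left) i₂.hom rfl hb (by
      change 𝟙 a.left = eqToHom (Eq.refl a.left) ≫ eqToHom hb.symm ≫ eqToHom hb
      rw [eqToHom_refl, Category.id_comp, eqToHom_trans, eqToHom_refl])
  let θ₁ : G'.obj ((overMap prod.fst).obj c) ≅ G.obj b := G'.toFunctor.mapIso i₁ ≪≫ ι
  let θ₂ : G.obj ((overMap prod.snd).obj c) ≅ G.obj b := G.toFunctor.mapIso i₂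
  have hθ₁ : 𝒮.p.IsHomLift (𝟙 a.left) θ₁.hom := by
    have h1 : 𝒮.p.IsHomLift (𝟙 a.left) (G'.map i₁.hom) := map_lift G' hi₁
    exact IsHomLift.comp_of_lift_id 𝒮.p a.left (G'.map i₁.hom) ι.hom
  have hθ₂ : 𝒮.p.IsHomLift (𝟙 a.left) θ₂.hom := by
    have h1 : 𝒮.p.IsHomLift (𝟙 a.left) (G.map i₂.hom) := map_lift G hi₂
    exact h1
  let Θ : (HF G' G).obj c ≅ (Dg 𝒮).obj (G.obj b) :=
    mkIsoSq (z := (HF G' G).obj c) (z' := (Dg 𝒮).obj (G.obj b)) θ₁ θ₂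
      (lift_map_of_lift hθ₁ hθ₂)
  have hΘ : (Sq 𝒮).p.IsHomLift (𝟙 ((overCat (V ⨯ U)).p.obj c)) Θ.hom :=
    (isHomLift_iff_fst Θ.hom _).mpr hθ₁
  let z : (fp (HF G' G) (Dg 𝒮)).obj := mkObj c (G.obj b) Θ hΘ
  refine ⟨z, ⟨mkIso (z := (Psi G' G).obj z) (z' := mkObj a b ι hι) i₁ i₂ ?_⟩⟩
  change G'.map i₁.hom ≫ ι.hom = ((G'.map i₁.hom ≫ ι.hom) ≫ θ₂.inv) ≫ G.map i₂.hom
  have e : θ₂.inv ≫ G.map i₂.hom = 𝟙 _ := θ₂.inv_hom_id
  rw [Category.assoc, e, Category.comp_id]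

theorem fwd (h𝒮 : FibCat.IsFibGrpd 𝒮.p) (hΔ : FibCat.IsRepresentable1 (Dg 𝒮)) :
    FibCat.IsRepresentable (fp G' G) := by
  have hrep : FibCat.IsRepresentable (fp (HF G' G) (Dg 𝒮)) := hΔ (V ⨯ U) (HF G' G)
  obtain ⟨ξ, hξ⟩ := Groth.Agent.Lib.Helper17.Rep.terminal_of_rep hrep
  have hfp : FibCat.IsFibGrpd (fp G' G).p :=
    Groth.Agent.S6401.result G' G (isFibGrpd_overForget V) (isFibGrpd_overForget U) h𝒮
  have h1 := Psi_faithful G' G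
  have h2 := Psi_full G' G
  have h3 := Psi_essSurj G' G
  have h4 : (Psi G' G).IsEquivalence := {}
  exact Groth.Agent.Lib.Helper17.Rep.rep_of_terminal hfp ((Psi G' G).obj ξ)
    (unique_of_equiv (Psi G' G) ξ hξ)

end Fwd

section Gen

variable {𝒲 : BasedCategory.{v, max u v} C} (H : 𝒲 ⥤ᵇ Sq 𝒮)

def g1 (z : (fp H (Dg 𝒮)).obj) : (H.obj z.obj.fst).obj.fst ≅ z.obj.snd where
  hom := z.obj.iso.hom.hom.fst
  inv := z.obj.iso.inv.hom.fst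
  hom_inv_id := congrArg (fun m => m.hom.fst) z.obj.iso.hom_inv_id
  inv_hom_id := congrArg (fun m => m.hom.fst) z.obj.iso.inv_hom_id

def g2 (z : (fp H (Dg 𝒮)).obj) : (H.obj z.obj.fst).obj.snd ≅ z.obj.snd where
  hom := z.obj.iso.hom.hom.snd
  inv := z.obj.iso.inv.hom.snd
  hom_inv_id := congrArg (fun m => m.hom.snd) z.obj.iso.hom_inv_id
  inv_hom_id := congrArg (fun m => m.hom.snd) z.obj.iso.inv_hom_id

theorem g1_lift (z : (fp H (Dg 𝒮)).obj) :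
    𝒮.p.IsHomLift (𝟙 (𝒲.p.obj z.obj.fst)) (g1 H z).hom := by
  have h := iso_isHomLift z
  exact (isHomLift_iff_fst z.obj.iso.hom _).mp h

theorem g2_lift (z : (fp H (Dg 𝒮)).obj) :
    𝒮.p.IsHomLift (𝟙 (𝒲.p.obj z.obj.fst)) (g2 H z).hom := by
  have h := iso_isHomLift z
  exact isHomLift_snd z.obj.iso.hom _ h

theorem gw1 {z z' : (fp H (Dg 𝒮)).obj} (k : z ⟶ z') :
    (H.map k.hom.fst).hom.fst ≫ (g1 H z').hom = (g1 H z).hom ≫ k.hom.snd :=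
  congrArg (fun m => m.hom.fst) k.hom.w

theorem gw2 {z z' : (fp H (Dg 𝒮)).obj} (k : z ⟶ z') :
    (H.map k.hom.fst).hom.snd ≫ (g2 H z').hom = (g2 H z).hom ≫ k.hom.snd :=
  congrArg (fun m => m.hom.snd) k.hom.w

def mkObjD (c : 𝒲.obj) (s : 𝒮.obj) (θ₁ : (H.obj c).obj.fst ≅ s) (θ₂ : (H.obj c).obj.snd ≅ s)
    (h1 : 𝒮.p.IsHomLift (𝟙 (𝒲.p.obj c)) θ₁.hom) (h2 : 𝒮.p.IsHomLift (𝟙 (𝒲.p.obj c)) θ₂.hom) :
    (fp H (Dg 𝒮)).obj :=
  mkObj c s (mkIsoSq (z := H.obj c) (z' := (Dg 𝒮).obj s) θ₁ θ₂ (lift_map_of_lift h1 h2))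
    ((isHomLift_iff_fst (mkIsoSq (z := H.obj c) (z' := (Dg 𝒮).obj s) θ₁ θ₂
      (lift_map_of_lift h1 h2)).hom _).mpr h1)

theorem g1_mkObjD (c : 𝒲.obj) (s : 𝒮.obj) (θ₁ : (H.obj c).obj.fst ≅ s)
    (θ₂ : (H.obj c).obj.snd ≅ s) (h1) (h2) : (g1 H (mkObjD H c s θ₁ θ₂ h1 h2)).hom = θ₁.hom := rfl

theorem g2_mkObjD (c : 𝒲.obj) (s : 𝒮.obj) (θ₁ : (H.obj c).obj.fst ≅ s)
    (θ₂ : (H.obj c).obj.snd ≅ s) (h1) (h2) : (g2 H (mkObjD H c s θ₁ θ₂ h1 h2)).hom = θ₂.hom := rfl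

def mkHomD {z z' : (fp H (Dg 𝒮)).obj} (γ : z.obj.fst ⟶ z'.obj.fst) (σ : z.obj.snd ⟶ z'.obj.snd)
    (e1 : (H.map γ).hom.fst ≫ (g1 H z').hom = (g1 H z).hom ≫ σ)
    (e2 : (H.map γ).hom.snd ≫ (g2 H z').hom = (g2 H z).hom ≫ σ) : z ⟶ z' :=
  mkHom γ σ (hom_ext e1 e2)

end Gen

section Bwd

variable [HasBinaryProducts C] [HasPullbacks C] {U : C} (H : overCat U ⥤ᵇ Sq 𝒮)

def G1 : overCat U ⥤ᵇ 𝒮 := BasedFunctor.comp H (fpFst (toSelf 𝒮) (toSelf 𝒮))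

def G2 : overCat U ⥤ᵇ 𝒮 := BasedFunctor.comp H (fpSnd (toSelf 𝒮) (toSelf 𝒮))

theorem bwd (h𝒮 : FibCat.IsFibGrpd 𝒮.p)
    (hyp : ∀ (U : C) (G : overCat U ⥤ᵇ 𝒮), FibCat.IsRepresentable1 G) :
    FibCat.IsRepresentable (fp H (Dg 𝒮)) := by
  have hE : HasEqualizers C := hasEqualizers_of_hasPullbacks_and_binary_products
  have hrep : FibCat.IsRepresentable (fp (G1 H) (G2 H)) := hyp U (G2 H) U (G1 H)
  obtain ⟨ω, hω⟩ := Groth.Agent.Lib.Helper17.Rep.terminal_of_rep hrep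
  obtain ⟨a₀, b₀, θ₀, hθ₀, rfl⟩ : ∃ (a₀ b₀ : (overCat U).obj)
      (θ₀ : (G1 H).obj a₀ ≅ (G2 H).obj b₀)
      (hθ₀ : 𝒮.p.IsHomLift (𝟙 a₀.left) θ₀.hom), ω = mkObj a₀ b₀ θ₀ hθ₀ :=
    ⟨ω.obj.fst, ω.obj.snd, ω.obj.iso, iso_isHomLift ω, rfl⟩
  have hb₀ : b₀.left = a₀.left := ((G2 H).w_obj b₀).symm.trans (hl_cod hθ₀)
  obtain ⟨w₁, hw₁⟩ : ∃ w₁ : a₀.left ⟶ U, w₁ = a₀.hom := ⟨_, rfl⟩
  obtain ⟨w₂, hw₂⟩ : ∃ w₂ : a₀.left ⟶ U, w₂ = eqToHom hb₀.symm ≫ b₀.hom := ⟨_, rfl⟩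
  let ι : equalizer w₁ w₂ ⟶ a₀.left := equalizer.ι w₁ w₂
  have hι : ι ≫ w₁ = ι ≫ w₂ := equalizer.condition w₁ w₂
  let aE : (overCat U).obj := Over.mk (ι ≫ w₁)
  let κ₁ : aE ⟶ a₀ := Over.homMk ι (by rw [← hw₁]; rfl)
  let κ₂ : aE ⟶ b₀ := Over.homMk (ι ≫ eqToHom hb₀.symm) (by
    change (ι ≫ eqToHom hb₀.symm) ≫ b₀.hom = ι ≫ w₁
    rw [Category.assoc, ← hw₂, hι])
  have hκ₁ : (overCat U).p.IsHomLift ι κ₁ := hl_of_eq rfl
  have hκ₂ : (overCat U).p.IsHomLift ι κ₂ :=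
    IsHomLift.of_fac (overCat U).p ι κ₂ rfl hb₀ (by
      change ι = eqToHom (Eq.refl _) ≫ (ι ≫ eqToHom hb₀.symm) ≫ eqToHom hb₀
      rw [eqToHom_refl, Category.id_comp, Category.assoc, eqToHom_trans, eqToHom_refl,
        Category.comp_id])
  have hoU := isFibGrpd_overForget U
  have sκ₁ : (overCat U).p.IsStronglyCartesian ι κ₁ := sc_all (𝒳 := overCat U) hoU ι κ₁ hκ₁
  have sκ₂ : (overCat U).p.IsStronglyCartesian ι κ₂ := sc_all (𝒳 := overCat U) hoU ι κ₂ hκ₂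
  have sG₁ : 𝒮.p.IsStronglyCartesian ι ((G1 H).map κ₁) :=
    sc_all h𝒮 ι _ (map_lift (G1 H) hκ₁)
  have sG₂ : 𝒮.p.IsStronglyCartesian ι ((G2 H).map κ₂) :=
    sc_all h𝒮 ι _ (map_lift (G2 H) hκ₂)
  obtain ⟨θ', hθ', hw', -⟩ := exists_sc_lift' (F := G1 H) (G := G2 H) (mkObj a₀ b₀ θ₀ hθ₀) ι
    κ₁ sκ₁ κ₂ sκ₂ sG₁ sG₂
  have hw'' : (G1 H).map κ₁ ≫ θ₀.hom = θ'.hom ≫ (G2 H).map κ₂ := hw'
  have hrefl : 𝒮.p.IsHomLift (𝟙 ((overCat U).p.obj aE)) (Iso.refl ((G2 H).obj aE)).hom :=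
    IsHomLift.id ((G2 H).w_obj aE)
  let δ : (fp H (Dg 𝒮)).obj := mkObjD H aE ((G2 H).obj aE) θ' (Iso.refl _) hθ' hrefl
  have hfp : FibCat.IsFibGrpd (fp H (Dg 𝒮)).p :=
    isFibGrpd_fp H (Dg 𝒮) hoU h𝒮 (isFibGrpd_sq h𝒮 h𝒮)
  have hθ'E : 𝒮.p.IsHomLift (𝟙 (equalizer w₁ w₂)) θ'.hom := hθ'
  refine Groth.Agent.Lib.Helper17.Rep.rep_of_terminal hfp δ ?_
  intro z
  obtain ⟨c, hc⟩ : ∃ c : (overCat U).obj, c = z.obj.fst := ⟨_, rfl⟩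
  subst hc
  obtain ⟨θ₁, θ₂, hθ₁, hθ₂, hg1, hg2⟩ : ∃ (θ₁ : (G1 H).obj z.obj.fst ≅ z.obj.snd)
      (θ₂ : (G2 H).obj z.obj.fst ≅ z.obj.snd), 𝒮.p.IsHomLift (𝟙 z.obj.fst.left) θ₁.hom ∧
      𝒮.p.IsHomLift (𝟙 z.obj.fst.left) θ₂.hom ∧ θ₁ = g1 H z ∧ θ₂ = g2 H z :=
    ⟨g1 H z, g2 H z, g1_lift H z, g2_lift H z, rfl, rfl⟩
  have hθ₂i : 𝒮.p.IsHomLift (𝟙 z.obj.fst.left) θ₂.inv := IsHomLift.lift_id_inv 𝒮.p _ θ₂
  have hy : 𝒮.p.IsHomLift (𝟙 z.obj.fst.left) (θ₁.hom ≫ θ₂.inv) :=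
    IsHomLift.comp_of_lift_id 𝒮.p z.obj.fst.left _ _
  let y : (fp (G1 H) (G2 H)).obj := mkObj (F := G1 H) (G := G2 H) z.obj.fst z.obj.fst (θ₁ ≪≫ θ₂.symm) hy
  obtain ⟨uy⟩ := hω y
  obtain ⟨u₁, u₂, hu12, huw, hudef⟩ : ∃ (u₁ : z.obj.fst ⟶ a₀) (u₂ : z.obj.fst ⟶ b₀),
      u₂.left = u₁.left ≫ eqToHom hb₀.symm ∧
      (G1 H).map u₁ ≫ θ₀.hom = (θ₁.hom ≫ θ₂.inv) ≫ (G2 H).map u₂ ∧
      (∀ m : y ⟶ mkObj a₀ b₀ θ₀ hθ₀, m.hom.fst = u₁) := by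
    refine ⟨(default : y ⟶ mkObj a₀ b₀ θ₀ hθ₀).hom.fst, (default : y ⟶ mkObj a₀ b₀ θ₀ hθ₀).hom.snd,
      ?_, (default : y ⟶ mkObj a₀ b₀ θ₀ hθ₀).hom.w, ?_⟩
    · have hu := fp_isHomLift_snd (G1 H) (G2 H) (default : y ⟶ mkObj a₀ b₀ θ₀ hθ₀)
      have h1 := hl_fac' hu
      change (default : y ⟶ mkObj a₀ b₀ θ₀ hθ₀).hom.snd.left =
        eqToHom (Eq.refl z.obj.fst.left) ≫ (default : y ⟶ mkObj a₀ b₀ θ₀ hθ₀).hom.fst.left ≫
          eqToHom hb₀.symm at h1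
      rw [h1, eqToHom_refl, Category.id_comp]
      rfl
    · intro m
      rw [uy.uniq m]
  have ht1 : u₁.left ≫ w₁ = z.obj.fst.hom := by
    rw [hw₁]
    exact Over.w u₁
  have ht2 : u₁.left ≫ w₂ = z.obj.fst.hom := by
    rw [hw₂, ← Category.assoc, ← hu12]
    exact Over.w u₂
  obtain ⟨t', ht'⟩ : ∃ t' : z.obj.fst.left ⟶ equalizer w₁ w₂, t' ≫ ι = u₁.left :=
    ⟨equalizer.lift u₁.left (ht1.trans ht2.symm), equalizer.lift_ι _ _⟩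
  let γ : z.obj.fst ⟶ aE := Over.homMk t' (by
    change t' ≫ ι ≫ w₁ = z.obj.fst.hom
    rw [← Category.assoc, ht', ht1])
  have hγκ₁ : γ ≫ κ₁ = u₁ := Over.OverMorphism.ext ht'
  have hγκ₂ : γ ≫ κ₂ = u₂ := Over.OverMorphism.ext (by
    change t' ≫ ι ≫ eqToHom hb₀.symm = u₂.left
    rw [← Category.assoc, ht', hu12])
  have hγl : (overCat U).p.IsHomLift t' γ := hl_of_eq rfl
  let σ : z.obj.snd ⟶ (G2 H).obj aE := θ₂.inv ≫ (G2 H).map γ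
  have e1 : (G1 H).map γ ≫ θ'.hom = θ₁.hom ≫ σ := by
    have l1 : 𝒮.p.IsHomLift t' ((G1 H).map γ ≫ θ'.hom) := by
      have := map_lift (G1 H) hγl
      exact IsHomLift.comp_lift_id_right 𝒮.p t' ((G1 H).map γ) θ'.hom
    have l2 : 𝒮.p.IsHomLift t' (θ₁.hom ≫ θ₂.inv ≫ (G2 H).map γ) := by
      have := map_lift (G2 H) hγl
      have l3 : 𝒮.p.IsHomLift t' (θ₂.inv ≫ (G2 H).map γ) :=
        IsHomLift.comp_lift_id_left 𝒮.p t' ((G2 H).map γ) θ₂.inv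
      exact IsHomLift.comp_lift_id_left 𝒮.p t' _ θ₁.hom
    refine sc_ext sG₂ l1 l2 ?_
    rw [Category.assoc, ← hw'', ← Category.assoc, ← (G1 H).map_comp, hγκ₁, huw]
    rw [Category.assoc, Category.assoc, Category.assoc, ← (G2 H).map_comp, hγκ₂]
  have e2 : (G2 H).map γ ≫ 𝟙 _ = θ₂.hom ≫ σ := by
    change _ = θ₂.hom ≫ θ₂.inv ≫ (G2 H).map γ
    rw [Category.comp_id, Iso.hom_inv_id_assoc]
  let k : z ⟶ δ := mkHomD H γ σ (by rw [← hg1]; exact e1) (by rw [← hg2]; exact e2)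
  refine ⟨⟨⟨k⟩, ?_⟩⟩
  intro k'
  obtain ⟨γ', σ', hγ', hσ'⟩ : ∃ (γ' : z.obj.fst ⟶ aE) (σ' : z.obj.snd ⟶ (G2 H).obj aE),
      γ' = k'.hom.fst ∧ σ' = k'.hom.snd := ⟨_, _, rfl, rfl⟩
  have f1 : (G1 H).map γ' ≫ θ'.hom = θ₁.hom ≫ σ' := by
    rw [hg1, hγ', hσ']
    exact gw1 H k'
  have f2 : (G2 H).map γ' ≫ 𝟙 _ = θ₂.hom ≫ σ' := by
    rw [hg2, hγ', hσ']
    exact gw2 H k'
  have hσ'' : σ' = θ₂.inv ≫ (G2 H).map γ' := by
    rw [Iso.eq_inv_comp, ← f2, Category.comp_id]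
  let m' : y ⟶ mkObj a₀ b₀ θ₀ hθ₀ := mkHom (z := y) (z' := mkObj a₀ b₀ θ₀ hθ₀)
    (γ' ≫ κ₁) (γ' ≫ κ₂) (by
      change (G1 H).map (γ' ≫ κ₁) ≫ θ₀.hom = (θ₁.hom ≫ θ₂.inv) ≫ (G2 H).map (γ' ≫ κ₂)
      rw [(G1 H).map_comp, Category.assoc, hw'', ← Category.assoc, f1, hσ'', (G2 H).map_comp]
      simp only [Category.assoc])
  have hm' : γ' ≫ κ₁ = u₁ := hudef m'
  have hleft : γ'.left ≫ ι = t' ≫ ι := by
    rw [ht']
    exact congrArg (fun m => m.left) hm'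
  have hγγ : γ' = γ := by
    apply Over.OverMorphism.ext
    exact (cancel_mono ι).mp hleft
  apply hom_ext
  · change k'.hom.fst = γ
    rw [← hγ', hγγ]
  · change k'.hom.snd = σ
    rw [← hσ', hσ'', hγγ]

end Bwd

end Groth.Agent.Lib.Helper17.DR
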