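import Groth.Prelude.Def_FibCat2
import Groth.Agent.Lib.Helper17.HomLift
import Groth.Agent.Lib.Helper17.FibProd
import Groth.Agent.Lib.Helper17.DiagRep

set_option autoImplicit false
universe v₄ u₄ v₃ u₃ v₂ u₂ v u

namespace Groth.Agent.Lib.Helper17.SW

open CategoryTheory CategoryTheory.Functor FibCat
open Groth.Agent.Lib.Helper17 Groth.Agent.Lib.Helper17.FP

variable {C : Type u} [Category.{v} C] {𝒳 : BasedCategory.{v₂, u₂} C}
  {𝒴 : BasedCategory.{v₃, u₃} C} {𝒮 : BasedCategory.{v₄, u₄} C} (F : 𝒳 ⥤ᵇ 𝒮) (G : 𝒴 ⥤ᵇ 𝒮)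

def swapObj (z : (fp F G).obj) : (fp G F).obj :=
  mkObj (F := G) (G := F) z.obj.snd z.obj.fst z.obj.iso.symm (by
    have h1 := iso_isHomLift z
    have h2 : 𝒮.p.IsHomLift (𝟙 (𝒳.p.obj z.obj.fst)) z.obj.iso.inv := inferInstance
    rw [snd_obj z]
    exact h2)

def swapMap {z z' : (fp F G).obj} (k : z ⟶ z') : swapObj F G z ⟶ swapObj F G z' :=
  mkHom (z := swapObj F G z) (z' := swapObj F G z') k.hom.snd k.hom.fst (by
    change G.map k.hom.snd ≫ z'.obj.iso.inv = z.obj.iso.inv ≫ F.map k.hom.fst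
    have hw := k.hom.w
    rw [Iso.comp_inv_eq, Category.assoc, Iso.eq_inv_comp]
    exact hw.symm)

/-- the symmetry of the 2-fibre product -/
def swap : fp F G ⥤ᵇ fp G F where
  toFunctor :=
    { obj := swapObj F G
      map := swapMap F G
      map_id := fun z => by
        apply hom_ext
        · rfl
        · rfl
      map_comp := fun k k' => by
        apply hom_ext
        · rfl
        · rfl }
  w := (fpSnd F G).w

theorem swap_fst : BasedFunctor.comp (swap F G) (fpFst G F) = fpSnd F G :=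
  DR.basedFunctor_ext rfl

theorem swap_snd : BasedFunctor.comp (swap F G) (fpSnd G F) = fpFst F G :=
  DR.basedFunctor_ext rfl

theorem swap_swap : BasedFunctor.comp (swap F G) (swap G F) = BasedFunctor.id _ :=
  DR.basedFunctor_ext rfl

theorem swap_isEquivOver : FibCat.IsEquivOver (swap F G) :=
  ⟨swap G F, ⟨eqToIso (swap_swap F G)⟩, ⟨eqToIso (swap_swap G F)⟩⟩

end Groth.Agent.Lib.Helper17.SW
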