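import Groth.Agent.Lib.Helper17.PointsQc
import Groth.Agent.Lib.Helper17.FpInvariance
import Groth.Agent.Lib.Helper17.Swap

set_option autoImplicit false
set_option backward.isDefEq.respectTransparency false
set_option backward.isDefEq.respectTransparency.types false
universe u

namespace Groth.Agent.Lib.Helper17.PTS

open CategoryTheory CategoryTheory.Limits AlgebraicGeometry Opposite AlgSp FibCat Stk AlgSt
open Groth.Agent.Lib.Helper17 Groth.Agent.Lib.Helper17.FP Groth.Agent.Lib.Helper17.EO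
  Groth.Agent.Lib.Helper17.PD Groth.Agent.Lib.Helper17.AT Groth.Agent.Lib.Helper17.AB
  Groth.Agent.Lib.Helper17.AOS Groth.Agent.Lib.Helper17.ACP

variable {S : Scheme.{u}}

/-- points of a 2-fibre product surject onto the fibre product of points (fibred in groupoids) -/
theorem exists_point_fp {𝒳 𝒴 𝒵 : AlgSt.Cat S} (hX : FibCat.IsFibGrpd 𝒳.p)
    (hY : FibCat.IsFibGrpd 𝒴.p) (hZ : FibCat.IsFibGrpd 𝒵.p) (f : 𝒳 ⥤ᵇ 𝒴) (g : 𝒵 ⥤ᵇ 𝒴)
    (z : AlgSt.Points 𝒵) (x : AlgSt.Points 𝒳) (h : AlgSt.Points.map g z = AlgSt.Points.map f x) :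
    ∃ w : AlgSt.Points (FibCat.fp g f),
      AlgSt.Points.map (FibCat.fpFst g f) w = z ∧ AlgSt.Points.map (FibCat.fpSnd g f) w = x := by
  obtain ⟨pz, rfl⟩ := AlgSt.Points.mk_surjective z
  obtain ⟨px, rfl⟩ := AlgSt.Points.mk_surjective x
  have hrel : AlgSt.FPt.Rel (pz.map g) (px.map f) := (mk_eq_mk_iff hY _ _).mp h
  obtain ⟨r, α, β, -⟩ := hrel
  obtain ⟨w, hw, ⟨ζ⟩, ⟨ξ⟩⟩ := Groth.Agent.S12818.core hX hY hZ f g _ _ _ (𝒴.p.map α) (𝒴.p.map β)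
    r.obj pz.obj px.obj α β (Functor.IsHomLift.map α) (Functor.IsHomLift.map β)
  refine ⟨AlgSt.Points.mk { K := r.K, str := r.str, obj := w, lies := hw.trans r.lies }, ?_, ?_⟩
  · exact AlgSt.Points.sound ⟨_, 𝟙 _, ζ, trivial⟩
  · exact AlgSt.Points.sound ⟨_, 𝟙 _, ξ, trivial⟩

/-- base change of a morphism surjective on points -/
theorem isSurjective_fpFst {𝒳 𝒴 𝒵 : AlgSt.Cat S} (hX : FibCat.IsFibGrpd 𝒳.p)
    (hY : FibCat.IsFibGrpd 𝒴.p) (hZ : FibCat.IsFibGrpd 𝒵.p) (f : 𝒳 ⥤ᵇ 𝒴) (g : 𝒵 ⥤ᵇ 𝒴)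
    (hf : AlgSt.IsSurjective f) : AlgSt.IsSurjective (FibCat.fpFst g f) := by
  intro z
  obtain ⟨x, hx⟩ := hf (AlgSt.Points.map g z)
  obtain ⟨w, hw, -⟩ := exists_point_fp hX hY hZ f g z x hx.symm
  exact ⟨w, hw⟩

/-- quasi-compactness of `𝒲 ×_𝒵 𝒳` does not depend on the functor `𝒳 ⟶ 𝒵` up to 2-isomorphism -/
theorem isQuasiCompact_fp_congr {𝒲 𝒳 𝒵 : AlgSt.Cat S} (h : 𝒲 ⥤ᵇ 𝒵) {p p' : 𝒳 ⥤ᵇ 𝒵} (e : p' ≅ p)
    (hq : AlgSt.IsQuasiCompact (FibCat.fp h p)) : AlgSt.IsQuasiCompact (FibCat.fp h p') := by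
  have h1 : AlgSt.IsQuasiCompact (FibCat.fp p h) :=
    QCM.isQuasiCompact_of_equiv (SW.swap h p) (SW.swap_isEquivOver h p) hq
  have h2 : AlgSt.IsQuasiCompact (FibCat.fp p' h) :=
    QCM.isQuasiCompact_of_equiv
      (FI.tw p p' h (fun w => compApp e w) (fun α => compApp_nat e α) (fun w => compApp_lift e w))
      (FI.tw_isEquivOver p p' h (fun w => compApp e w) (fun α => compApp_nat e α)
        (fun w => compApp_lift e w)) h1
  exact QCM.isQuasiCompact_of_equiv (SW.swap p' h) (SW.swap_isEquivOver p' h) h2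

/-- in a 2-commutative triangle with `f` surjective and `p` quasi-compact, `q` is quasi-compact -/
theorem isQuasiCompactMor_of_triangle {𝒳 𝒴 𝒵 : AlgSt.Cat S}
    (hX : FibCat.IsFibGrpd 𝒳.p)
    (h𝒴 : AlgSt.IsAlgStack Scheme.fppfPrecoverage 𝒴)
    (h𝒵 : AlgSt.IsAlgStack Scheme.fppfPrecoverage 𝒵)
    (f : 𝒳 ⥤ᵇ 𝒴) (p : 𝒳 ⥤ᵇ 𝒵) (q : 𝒴 ⥤ᵇ 𝒵) (e : BasedFunctor.comp f q ≅ p)
    (hf : AlgSt.IsSurjective f) (hp : AlgSt.IsQuasiCompactMor Scheme.fppfPrecoverage p) :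
    AlgSt.IsQuasiCompactMor Scheme.fppfPrecoverage q := by
  intro 𝒲 h𝒲 hq h
  have hW := h𝒲.isStack.1
  have hY := h𝒴.isStack.1
  have hZ := h𝒵.isStack.1
  have h1 : AlgSt.IsQuasiCompact (FibCat.fp h p) := hp 𝒲 h𝒲 hq h
  have h2 : AlgSt.IsQuasiCompact (FibCat.fp h (BasedFunctor.comp f q)) :=
    isQuasiCompact_fp_congr h e h1
  have h3 : AlgSt.IsQuasiCompact (FibCat.fp (FibCat.fpSnd h q) f) :=
    QC3.isQuasiCompact_of_equiv' (FI.ps h q f) (FI.ps_isEquivOver h q f) h2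
  have hA : AlgSt.IsAlgStack Scheme.fppfPrecoverage (FibCat.fp h q) :=
    AFP.isAlgStack_fp h𝒵.isStack h𝒵.diag h𝒲 h𝒴 h q
  have hWY : FibCat.IsFibGrpd (FibCat.fp h q).p := hA.isStack.1
  have hU : FibCat.IsFibGrpd (FibCat.fp (FibCat.fpSnd h q) f).p :=
    SP.isFibGrpd_fp _ _ hWY hX hY
  exact isQuasiCompact_of_isSurjective hU hA (FibCat.fpFst (FibCat.fpSnd h q) f)
    (isSurjective_fpFst hX hY hWY f (FibCat.fpSnd h q) hf) h3

end Groth.Agent.Lib.Helper17.PTS
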