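import Groth.Agent.Lib.Helper17.TriCancel

set_option autoImplicit false
set_option backward.isDefEq.respectTransparency false
set_option backward.isDefEq.respectTransparency.types false
universe u

/-! The comparison `𝒳 ×_𝒵 𝒴 ⟶ 𝒳 ×_𝒯 𝒴` is a base change of the diagonal of `𝒵 ⟶ 𝒯`. -/

namespace Groth.Agent.Lib.Helper17.CMP

open CategoryTheory CategoryTheory.Functor CategoryTheory.Limits AlgebraicGeometry Opposite FibCat Stk
  AlgSt
open Groth.Agent.Lib.Helper17 Groth.Agent.Lib.Helper17.FP Groth.Agent.Lib.Helper17.EO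
  Groth.Agent.Lib.Helper17.PD Groth.Agent.Lib.Helper17.AT Groth.Agent.Lib.Helper17.AB
  Groth.Agent.Lib.Helper17.AOS

variable {S : Scheme.{u}}

/-- the comparison functor `𝒳 ×_𝒵 𝒴 ⟶ 𝒳 ×_𝒯 𝒴`, as a composite of an equivalence and a base change of
the diagonal -/
abbrev iota {𝒳 𝒴 𝒵 𝒯 : AlgSt.Cat S} (f : 𝒳 ⥤ᵇ 𝒵) (g : 𝒴 ⥤ᵇ 𝒵) (t : 𝒵 ⥤ᵇ 𝒯) :
    FibCat.fp f g ⥤ᵇ FibCat.fp (BasedFunctor.comp f t) (BasedFunctor.comp g t) :=
  BasedFunctor.comp (MS.M g t f) (FibCat.fpFst (MS.m g t f) (FibCat.diag t))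

theorem repWith_iota (P : MorphismProperty (AlgSp.Sp S)) {𝒳 𝒴 𝒵 𝒯 : AlgSt.Cat S}
    (f : 𝒳 ⥤ᵇ 𝒵) (g : 𝒴 ⥤ᵇ 𝒵) (t : 𝒵 ⥤ᵇ 𝒯) (hΔ : AlgSt.RepByAlgSpWith P (FibCat.diag t)) :
    AlgSt.RepByAlgSpWith P (iota f g t) := by
  have h2 : AlgSt.RepByAlgSpWith P (FibCat.fpFst (MS.m g t f) (FibCat.diag t)) :=
    repWith_fpFst P (FibCat.diag t) (MS.m g t f) hΔ
  refine repWith_of_square_fwd P (FibCat.fpFst (MS.m g t f) (FibCat.diag t)) (iota f g t)
    (MS.M g t f) (BasedFunctor.id _) (MS.M_isEquivOver g t f) (isEquivOver_id _)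
    (fun x' => Iso.refl _) ?_ ?_ h2
  · intro x x₁ β
    exact (Category.comp_id _).trans (Category.id_comp _).symm
  · intro x'
    exact IsHomLift.id rfl

/-- the comparison functor in the form of the statements -/
theorem repWith_fpLift (P : MorphismProperty (AlgSp.Sp S)) {𝒳 𝒴 𝒵 𝒯 : AlgSt.Cat S}
    (f : 𝒳 ⥤ᵇ 𝒵) (g : 𝒴 ⥤ᵇ 𝒵) (t : 𝒵 ⥤ᵇ 𝒯)
    (e : BasedFunctor.comp (FibCat.fpFst f g) (BasedFunctor.comp f t) ≅
      BasedFunctor.comp (FibCat.fpSnd f g) (BasedFunctor.comp g t))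
    (he : ∀ x, e.hom.toNatTrans.app x = t.map x.obj.iso.hom)
    (hΔ : AlgSt.RepByAlgSpWith P (FibCat.diag t)) :
    AlgSt.RepByAlgSpWith P (FibCat.fpLift (FibCat.fpFst f g) (FibCat.fpSnd f g) e) := by
  have h1 := repWith_iota P f g t hΔ
  refine repWith_of_square_fwd P (iota f g t) (FibCat.fpLift (FibCat.fpFst f g) (FibCat.fpSnd f g) e)
    (BasedFunctor.id _) (BasedFunctor.id _) (isEquivOver_id _) (isEquivOver_id _)
    (fun x' => mkIso (z := (FibCat.fpLift (FibCat.fpFst f g) (FibCat.fpSnd f g) e).obj x')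
      (z' := (iota f g t).obj x') (Iso.refl _) (Iso.refl _) ?_) ?_ ?_ h1
  · change t.map (f.map (𝟙 _)) ≫ t.map x'.obj.iso.hom =
      e.hom.toNatTrans.app x' ≫ t.map (g.map (𝟙 _))
    rw [he, f.map_id, g.map_id, t.map_id, t.map_id, Category.id_comp]
    exact (Category.comp_id (t.map x'.obj.iso.hom)).symm
  · intro x x₁ β
    apply hom_ext
    · exact (Category.comp_id _).trans (Category.id_comp _).symm
    · exact (Category.comp_id _).trans (Category.id_comp _).symm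
  · intro x'
    rw [isHomLift_iff_fst]
    exact IsHomLift.id rfl

/-! ### the graph -/

section Graph

variable {𝒳 𝒴 : AlgSt.Cat S} (g : 𝒳 ⥤ᵇ 𝒴)

def grObj (x : 𝒳.obj) : (FibCat.fp g (BasedFunctor.id 𝒴)).obj :=
  mkObj (F := g) (G := BasedFunctor.id 𝒴) x (g.obj x) (Iso.refl _) (IsHomLift.id (g.w_obj x))

/-- `𝒳 ⟶ 𝒳 ×_𝒴 𝒴`, `x ↦ (x, g x, 𝟙)` -/
def gr : 𝒳 ⥤ᵇ FibCat.fp g (BasedFunctor.id 𝒴) where
  toFunctor :=
    { obj := grObj g
      map := fun {x x'} k => mkHom (z := grObj g x) (z' := grObj g x') k (g.map k) (by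
        change g.map k ≫ 𝟙 _ = 𝟙 _ ≫ g.map k
        rw [Category.comp_id, Category.id_comp])
      map_id := fun x => by
        apply hom_ext
        · rfl
        · exact g.toFunctor.map_id x
      map_comp := fun k k' => by
        apply hom_ext
        · rfl
        · exact g.toFunctor.map_comp k k' }
  w := rfl

theorem gr_isEquivOver : FibCat.IsEquivOver (gr g) := by
  rw [Groth.Agent.S5139.result]
  refine ⟨⟨⟨?_⟩, ⟨?_⟩⟩, ?_⟩
  · intro x x' n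
    refine ⟨n.hom.fst, ?_⟩
    apply hom_ext
    · rfl
    · have h := n.hom.w
      change g.map n.hom.fst ≫ 𝟙 _ = 𝟙 _ ≫ n.hom.snd at h
      rw [Category.comp_id, Category.id_comp] at h
      exact h
  · intro x x' k k' h
    exact congrArg (fun t => t.hom.fst) h
  · intro η
    let θ : g.obj η.obj.fst ≅ η.obj.snd := η.obj.iso
    refine ⟨η.obj.fst, mkIso (z := grObj g η.obj.fst) (z' := η) (Iso.refl _) θ ?_, ?_⟩
    · change g.map (𝟙 _) ≫ θ.hom = 𝟙 _ ≫ θ.hom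
      rw [g.map_id]
    · rw [isHomLift_iff_fst]
      exact IsHomLift.id rfl

end Graph

/-- the graph `𝒳 ⟶ 𝒳 ×_𝒯 𝒴` of a morphism over `𝒯` is a base change of the diagonal of `𝒴 ⟶ 𝒯` -/
theorem repWith_graph (P : MorphismProperty (AlgSp.Sp S)) {𝒳 𝒴 𝒯 : AlgSt.Cat S}
    (p : 𝒳 ⥤ᵇ 𝒯) (q : 𝒴 ⥤ᵇ 𝒯) (g : 𝒳 ⥤ᵇ 𝒴)
    (e : BasedFunctor.comp (BasedFunctor.id 𝒳) p ≅ BasedFunctor.comp g q)
    (hΔ : AlgSt.RepByAlgSpWith P (FibCat.diag q)) :
    AlgSt.RepByAlgSpWith P (FibCat.fpLift (BasedFunctor.id 𝒳) g e) := by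
  have h1 := repWith_iota P g (BasedFunctor.id 𝒴) q hΔ
  -- the twist `𝒳 ×_{p, 𝒯} 𝒴 ⟶ 𝒳 ×_{q g, 𝒯} 𝒴`
  have hnat : ∀ {w w' : 𝒳.obj} (α : w ⟶ w'),
      (BasedFunctor.comp g q).map α ≫ ((compApp e w').symm).hom =
        ((compApp e w).symm).hom ≫ p.map α := by
    intro w w' α
    have h := compApp_nat e α
    change _ ≫ (compApp e w').inv = (compApp e w).inv ≫ _
    rw [Iso.comp_inv_eq, Category.assoc, Iso.eq_inv_comp]
    exact h.symm
  have hlift : ∀ w : 𝒳.obj, 𝒯.p.IsHomLift (𝟙 (𝒳.p.obj w)) ((compApp e w).symm).hom := by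
    intro w
    have h := compApp_lift e w
    exact IsHomLift.lift_id_inv 𝒯.p (𝒳.p.obj w) (compApp e w)
  refine repWith_of_square_fwd P (iota g (BasedFunctor.id 𝒴) q)
    (FibCat.fpLift (BasedFunctor.id 𝒳) g e) (gr g)
    (FI.tw p (BasedFunctor.comp g q) q (fun w => (compApp e w).symm) hnat hlift)
    (gr_isEquivOver g)
    (FI.tw_isEquivOver p (BasedFunctor.comp g q) q (fun w => (compApp e w).symm) hnat hlift)
    (fun x' => mkIso
      (z := (FI.tw p (BasedFunctor.comp g q) q (fun w => (compApp e w).symm) hnat hlift).obj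
        ((FibCat.fpLift (BasedFunctor.id 𝒳) g e).obj x'))
      (z' := (iota g (BasedFunctor.id 𝒴) q).obj ((gr g).obj x')) (Iso.refl _) (Iso.refl _) ?_)
    ?_ ?_ h1
  · change q.map (g.map (𝟙 _)) ≫ q.map (𝟙 _) =
      ((compApp e x').inv ≫ (compApp e x').hom) ≫ q.map (𝟙 _)
    rw [Iso.inv_hom_id, g.map_id, q.map_id]
    rfl
  · intro x x₁ β
    apply hom_ext
    · exact (Category.comp_id _).trans (Category.id_comp _).symm
    · exact (Category.comp_id _).trans (Category.id_comp _).symm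
  · intro x'
    rw [isHomLift_iff_fst]
    exact IsHomLift.id rfl

/-- `RepByAlgSpWith P` is invariant under postcomposition with an equivalence -/
theorem repWith_comp_equiv (P : MorphismProperty (AlgSp.Sp S)) {𝒳 𝒴 𝒴' : AlgSt.Cat S}
    (f : 𝒳 ⥤ᵇ 𝒴) (E : 𝒴 ⥤ᵇ 𝒴') (hE : FibCat.IsEquivOver E) (hf : AlgSt.RepByAlgSpWith P f) :
    AlgSt.RepByAlgSpWith P (BasedFunctor.comp f E) := by
  obtain ⟨E', ⟨e₁⟩, ⟨e₂⟩⟩ := id hE
  have hE' : FibCat.IsEquivOver E' := isEquivOver_symm E E' e₁ e₂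
  refine repWith_of_square_fwd P f (BasedFunctor.comp f E) (BasedFunctor.id _) E'
    (isEquivOver_id _) hE' (fun x' => compApp e₁ (f.obj x')) ?_ ?_ hf
  · intro x x₁ β
    exact compApp_nat e₁ (f.map β)
  · intro x'
    have h := compApp_lift e₁ (f.obj x')
    rw [f.w_obj] at h
    exact h

/-- a section of `f` is a base change of the diagonal of `f` -/
theorem repWith_section (P : MorphismProperty (AlgSp.Sp S)) {𝒳 𝒯 : AlgSt.Cat S}
    (f : 𝒳 ⥤ᵇ 𝒯) (s : 𝒯 ⥤ᵇ 𝒳) (e : BasedFunctor.comp s f ≅ BasedFunctor.id 𝒯)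
    (hΔ : AlgSt.RepByAlgSpWith P (FibCat.diag f)) : AlgSt.RepByAlgSpWith P s := by
  let e' : BasedFunctor.comp (BasedFunctor.id 𝒯) (BasedFunctor.id 𝒯) ≅ BasedFunctor.comp s f :=
    e.symm
  have h1 := repWith_graph P (BasedFunctor.id 𝒯) f s e' hΔ
  exact repWith_comp_equiv P (FibCat.fpLift (BasedFunctor.id 𝒯) s e')
    (FibCat.fpSnd (BasedFunctor.id 𝒯) f) (TC.fpSnd_id_isEquivOver f) h1

end Groth.Agent.Lib.Helper17.CMP
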