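import Groth.Prelude.Def_FibCat2
import Groth.Agent.Lib.Helper17.HomLift
import Groth.Agent.Lib.Helper17.FibProd
import Groth.Agent.S5139

set_option autoImplicit false
universe v u

namespace Groth.Agent.Lib.Helper17.PSR

open CategoryTheory CategoryTheory.Functor FibCat
open Groth.Agent.Lib.Helper17 Groth.Agent.Lib.Helper17.FP

variable {C : Type u} [Category.{v} C] {𝒲 𝒵 𝒴 𝒳 : BasedCategory.{v, max u v} C}
  (y : 𝒲 ⥤ᵇ 𝒵) (f : 𝒳 ⥤ᵇ 𝒴) (g : 𝒴 ⥤ᵇ 𝒵)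

/-- inner object -/
def innerObj (q : (fp y (BasedFunctor.comp f g)).obj) : (fp y g).obj :=
  mkObj (F := y) (G := g) q.obj.fst (f.obj q.obj.snd) q.obj.iso (iso_isHomLift q)

def pasteObj (q : (fp y (BasedFunctor.comp f g)).obj) : (fp (fpSnd y g) f).obj :=
  mkObj (F := fpSnd y g) (G := f) (innerObj y f g q) q.obj.snd (Iso.refl _)
    (IsHomLift.id ((fpSnd y g).w_obj (innerObj y f g q)))

def innerMap {q q' : (fp y (BasedFunctor.comp f g)).obj} (k : q ⟶ q') :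
    innerObj y f g q ⟶ innerObj y f g q' :=
  mkHom (z := innerObj y f g q) (z' := innerObj y f g q') k.hom.fst (f.map k.hom.snd) k.hom.w

def pasteMap {q q' : (fp y (BasedFunctor.comp f g)).obj} (k : q ⟶ q') :
    pasteObj y f g q ⟶ pasteObj y f g q' :=
  mkHom (z := pasteObj y f g q) (z' := pasteObj y f g q') (innerMap y f g k) k.hom.snd (by
    change f.map k.hom.snd ≫ 𝟙 _ = 𝟙 _ ≫ f.map k.hom.snd
    rw [Category.comp_id, Category.id_comp])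

/-- the pasting functor `𝒲 ×_𝒵 𝒳 ⟶ (𝒲 ×_𝒵 𝒴) ×_𝒴 𝒳` -/
def paste : fp y (BasedFunctor.comp f g) ⥤ᵇ fp (fpSnd y g) f where
  toFunctor :=
    { obj := pasteObj y f g
      map := pasteMap y f g
      map_id := fun q => by
        apply hom_ext
        · apply hom_ext
          · rfl
          · exact f.toFunctor.map_id _
        · rfl
      map_comp := fun k k' => by
        apply hom_ext
        · apply hom_ext
          · rfl
          · exact f.toFunctor.map_comp _ _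
        · rfl }
  w := rfl

/-- the induced functor `𝒲 ×_𝒵 𝒳 ⟶ 𝒲 ×_𝒵 𝒴` -/
def toInner : fp y (BasedFunctor.comp f g) ⥤ᵇ fp y g :=
  BasedFunctor.comp (paste y f g) (fpFst (fpSnd y g) f)

theorem toInner_fst :
    BasedFunctor.comp (toInner y f g) (fpFst y g) = fpFst y (BasedFunctor.comp f g) := rfl

theorem paste_snd :
    BasedFunctor.comp (paste y f g) (fpSnd (fpSnd y g) f) = fpSnd y (BasedFunctor.comp f g) := rfl

theorem paste_faithful : (paste y f g).toFunctor.Faithful := by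
  constructor
  intro q q' k k' h
  apply hom_ext
  · have := congrArg (fun m => m.hom.fst.hom.fst) h
    exact this
  · exact congrArg (fun m => m.hom.snd) h

theorem paste_full : (paste y f g).toFunctor.Full := by
  constructor
  intro q q' m
  have hw := m.hom.w
  change m.hom.fst.hom.snd ≫ 𝟙 _ = 𝟙 _ ≫ f.map m.hom.snd at hw
  rw [Category.comp_id, Category.id_comp] at hw
  have hw2 := m.hom.fst.hom.w
  change y.map m.hom.fst.hom.fst ≫ q'.obj.iso.hom = q.obj.iso.hom ≫ g.map m.hom.fst.hom.snd at hw2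
  refine ⟨mkHom (z := q) (z' := q') m.hom.fst.hom.fst m.hom.snd ?_, ?_⟩
  · change y.map m.hom.fst.hom.fst ≫ q'.obj.iso.hom = q.obj.iso.hom ≫ g.map (f.map m.hom.snd)
    exact hw2.trans (congrArg (fun t => q.obj.iso.hom ≫ g.map t) hw)
  · apply hom_ext
    · apply hom_ext
      · rfl
      · exact hw.symm
    · rfl

theorem map_lift' {𝒜 ℬ : BasedCategory.{v, max u v} C} (F : 𝒜 ⥤ᵇ ℬ)
    {R S : C} {a b : 𝒜.obj} {f : R ⟶ S} {φ : a ⟶ b} (h : 𝒜.p.IsHomLift f φ) :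
    ℬ.p.IsHomLift f (F.map φ) := inferInstance

theorem paste_essSurj (η : (fp (fpSnd y g) f).obj) :
    ∃ (ξ : (fp y (BasedFunctor.comp f g)).obj) (e : (paste y f g).toFunctor.obj ξ ≅ η),
      (fp (fpSnd y g) f).p.IsHomLift (𝟙 ((fp (fpSnd y g) f).p.obj η)) e.hom := by
  obtain ⟨r, x, ζ, hζ, rfl⟩ : ∃ (r : (fp y g).obj) (x : 𝒳.obj) (ζ : (fpSnd y g).obj r ≅ f.obj x)
      (hζ : 𝒴.p.IsHomLift (𝟙 ((fp y g).p.obj r)) ζ.hom), η = mkObj r x ζ hζ :=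
    ⟨η.obj.fst, η.obj.snd, η.obj.iso, iso_isHomLift η, rfl⟩
  obtain ⟨w, v, ρ, hρ, rfl⟩ : ∃ (w : 𝒲.obj) (v : 𝒴.obj) (ρ : y.obj w ≅ g.obj v)
      (hρ : 𝒵.p.IsHomLift (𝟙 (𝒲.p.obj w)) ρ.hom), r = mkObj w v ρ hρ :=
    ⟨r.obj.fst, r.obj.snd, r.obj.iso, iso_isHomLift r, rfl⟩
  obtain ⟨ζ', hζ'⟩ : ∃ ζ' : v ≅ f.obj x, ζ' = ζ := ⟨ζ, rfl⟩
  have hζ'l : 𝒴.p.IsHomLift (𝟙 (𝒲.p.obj w)) ζ'.hom := by rw [hζ']; exact hζ
  have hgζ : 𝒵.p.IsHomLift (𝟙 (𝒲.p.obj w)) (g.map ζ'.hom) := map_lift' g hζ'l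
  have hθ : 𝒵.p.IsHomLift (𝟙 (𝒲.p.obj w)) (ρ.hom ≫ g.map ζ'.hom) :=
    IsHomLift.comp_of_lift_id 𝒵.p (𝒲.p.obj w) ρ.hom (g.map ζ'.hom)
  let ξ : (fp y (BasedFunctor.comp f g)).obj :=
    mkObj (F := y) (G := BasedFunctor.comp f g) w x (ρ ≪≫ g.toFunctor.mapIso ζ') hθ
  let inner : innerObj y f g ξ ≅ mkObj w v ρ hρ :=
    mkIso (z := innerObj y f g ξ) (z' := mkObj w v ρ hρ) (Iso.refl w) ζ'.symm (by
      change y.map (𝟙 w) ≫ ρ.hom = (ρ.hom ≫ g.map ζ'.hom) ≫ g.map ζ'.inv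
      rw [y.map_id, Category.id_comp, Category.assoc, ← g.map_comp, Iso.hom_inv_id, g.map_id,
        Category.comp_id])
  let e : (paste y f g).toFunctor.obj ξ ≅ mkObj (mkObj w v ρ hρ) x ζ hζ :=
    mkIso (z := pasteObj y f g ξ) (z' := mkObj (mkObj w v ρ hρ) x ζ hζ) inner (Iso.refl x) (by
      change ζ'.inv ≫ ζ.hom = 𝟙 _ ≫ f.map (𝟙 x)
      rw [f.map_id, Category.id_comp, ← hζ', Iso.inv_hom_id])
  refine ⟨ξ, e, ?_⟩
  rw [isHomLift_iff_fst, isHomLift_iff_fst]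
  change 𝒲.p.IsHomLift (𝟙 (𝒲.p.obj w)) (𝟙 w)
  infer_instance

theorem paste_isEquivOver : FibCat.IsEquivOver (paste y f g) := by
  rw [Groth.Agent.S5139.result]
  exact ⟨⟨paste_full y f g, paste_faithful y f g⟩, paste_essSurj y f g⟩

end Groth.Agent.Lib.Helper17.PSR
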