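import Groth.Agent.Lib.Helper17.AlgStComp
import Groth.Agent.Lib.Helper5.FppfCover
import Groth.Agent.Lib.Helper23.AlgSpProper2
import Groth.Agent.Lib.Helper23.AlgSpClosed4
import Groth.Agent.Lib.Helper30.EtLocalInst
import Groth.Agent.S9985
import Groth.Agent.S10519
import Groth.Agent.S10520
import Groth.Agent.S10536
import Groth.Agent.S10541
import Groth.Agent.S10543

set_option autoImplicit false
set_option backward.isDefEq.respectTransparency.types false
universe u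

/-!
# Base change, composition and fppf locality on the base for the properties of morphisms of
algebraic spaces used for diagonals of algebraic stacks (helper17)
-/

namespace Groth.Agent.Lib.Helper17.PB

open CategoryTheory CategoryTheory.Limits AlgebraicGeometry Opposite AlgSp
open Groth.Agent.Lib.Helper17 Groth.Agent.Lib.Helper17.ACP

variable {S : Scheme.{u}}

/-- fpqc local on the base implies fppf local on the base -/
theorem fppf_of_fpqc (P : MorphismProperty (Sp S))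
    (h : IsLocalOnBase (IsFpqcCover (S := S)) P) : IsLocalOnBase (IsFppfCover (S := S)) P :=
  fun _ _ Yi g hY hYi hcov _ f hX Xi p q hXi hsq =>
    h Yi g hY hYi (Groth.Agent.Lib.Helper5.FppfCover.isFpqcCover_of_isFppfCover hY Yi hYi g hcov)
      f hX Xi p q hXi hsq

theorem inf_isLocalOnBase (τ : CovNotion S) (P Q : MorphismProperty (Sp S))
    (hP : IsLocalOnBase τ P) (hQ : IsLocalOnBase τ Q) : IsLocalOnBase τ (P ⊓ Q) := by
  intro ι Y Yi g hY hYi hcov X f hX Xi p q hXi hsq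
  have h1 := hP Yi g hY hYi hcov f hX Xi p q hXi hsq
  have h2 := hQ Yi g hY hYi hcov f hX Xi p q hXi hsq
  constructor
  · rintro ⟨a, b⟩ i
    exact ⟨h1.mp a i, h2.mp b i⟩
  · intro h
    exact ⟨h1.mpr fun i => (h i).1, h2.mpr fun i => (h i).2⟩

theorem inf_bc (P Q : MorphismProperty (Sp S)) (hP : BC P) (hQ : BC Q) : BC (P ⊓ Q) :=
  fun _ _ _ _ h1 h2 h3 h4 a b a' b' sq h =>
    ⟨hP h1 h2 h3 h4 a b a' b' sq h.1, hQ h1 h2 h3 h4 a b a' b' sq h.2⟩

theorem inf_cp (P Q : MorphismProperty (Sp S)) (hP : CP P) (hQ : CP Q) : CP (P ⊓ Q) :=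
  fun _ _ _ h1 h2 h3 a b ha hb => ⟨hP h1 h2 h3 a b ha.1 hb.1, hQ h1 h2 h3 a b ha.2 hb.2⟩

/-! ### unramified -/

theorem unr_bc : BC (LocP (S := S) (@LocallyOfFiniteType ⊓ @FormallyUnramified)) :=
  fun _ _ _ _ h1 h2 h3 h4 _ _ _ _ sq h =>
    Groth.Agent.Lib.Helper46.LocPChart.locP_of_isPullback
      Groth.Agent.Lib.Helper30.EtLocalInst.etLocal_unramified h1 h2 h3 h4 sq h

theorem unr_cp : CP (LocP (S := S) (@LocallyOfFiniteType ⊓ @FormallyUnramified)) :=
  fun X Y Z hX hY hZ a b ha hb =>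
    Groth.Agent.S9985.result (@LocallyOfFiniteType ⊓ @FormallyUnramified)
      (Or.inr (Or.inr (Or.inr (Or.inr (Or.inr (Or.inr (fun _ _ _ => Iff.rfl)))))))
      (X := ⟨X, hX⟩) (Y := ⟨Y, hY⟩) (Z := ⟨Z, hZ⟩) (ObjectProperty.homMk a) (ObjectProperty.homMk b)
      ha hb

theorem unr_local :
    IsLocalOnBase (IsFppfCover (S := S)) (LocP (@LocallyOfFiniteType ⊓ @FormallyUnramified)) :=
  fppf_of_fpqc _ (Groth.Agent.S10543.result S)

/-! ### locally quasi-finite -/

theorem lqf_bc : BC (LocP (S := S) (@LocallyQuasiFinite ⊓ @LocallyOfFiniteType)) :=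
  fun _ _ _ _ h1 h2 h3 h4 _ _ _ _ sq h =>
    Groth.Agent.Lib.Helper46.LocPChart.locP_of_isPullback
      Groth.Agent.Lib.Helper30.EtLocalInst.etLocal_lqf h1 h2 h3 h4 sq h

theorem lqf_cp : CP (LocP (S := S) (@LocallyQuasiFinite ⊓ @LocallyOfFiniteType)) :=
  fun X Y Z hX hY hZ a b ha hb =>
    Groth.Agent.S9985.result (@LocallyQuasiFinite ⊓ @LocallyOfFiniteType)
      (Or.inr (Or.inr (Or.inr (Or.inr (Or.inr (Or.inl (fun _ _ _ => Iff.rfl)))))))
      (X := ⟨X, hX⟩) (Y := ⟨Y, hY⟩) (Z := ⟨Z, hZ⟩) (ObjectProperty.homMk a) (ObjectProperty.homMk b)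
      ha hb

theorem lqf_local :
    IsLocalOnBase (IsFppfCover (S := S)) (LocP (@LocallyQuasiFinite ⊓ @LocallyOfFiniteType)) :=
  fppf_of_fpqc _ (Groth.Agent.S10541.result S).1

/-! ### proper -/

theorem proper_bc : BC (IsProperMor (S := S)) :=
  fun _ _ _ _ h1 h2 _ h4 _ _ _ _ sq h =>
    Groth.Agent.Lib.Helper23.AlgSpMor.isProperMor_of_isPullback h1 h2 h4 sq h

theorem proper_cp : CP (IsProperMor (S := S)) :=
  fun _ _ _ hX hY hZ a b ha hb => Groth.Agent.Lib.Helper23.AlgSpMor.isProperMor_comp hX hY hZ a b ha hb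

theorem proper_local : IsLocalOnBase (IsFppfCover (S := S)) IsProperMor :=
  fppf_of_fpqc _ (Groth.Agent.S10536.result S)

/-! ### quasi-compact and quasi-separated -/

theorem qcqs_bc : BC (IsQuasiCompactMor (S := S) ⊓ IsQuasiSeparatedMor) :=
  fun _ _ _ _ _ _ _ _ _ _ _ _ sq h =>
    ⟨Groth.Agent.Lib.Helper23.AlgSpMor.isQuasiCompactMor_of_isPullback sq h.1,
      MorphismProperty.of_isPullback (P := (RepWith (S := S) @QuasiCompact).diagonal) sq h.2⟩

theorem qcqs_cp : CP (IsQuasiCompactMor (S := S) ⊓ IsQuasiSeparatedMor) :=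
  fun _ _ _ _ hY hZ a b ha hb =>
    ⟨Groth.Agent.Lib.Helper23.AlgSpMor.isQuasiCompactMor_comp hY hZ.diag a b ha.1 hb.1,
      (RepWith (S := S) @QuasiCompact).diagonal.comp_mem _ _ ha.2 hb.2⟩

theorem qcqs_local :
    IsLocalOnBase (IsFppfCover (S := S)) (IsQuasiCompactMor ⊓ IsQuasiSeparatedMor) :=
  inf_isLocalOnBase _ _ _ (fppf_of_fpqc _ (Groth.Agent.S10519.result S))
    (fppf_of_fpqc _ (Groth.Agent.S10520.result S))

end Groth.Agent.Lib.Helper17.PB
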