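import Groth.Agent.Lib.Helper17.DiagCancel
import Groth.Agent.Lib.Helper17.PropsBC
import Mathlib.AlgebraicGeometry.Morphisms.FormallyUnramified

set_option autoImplicit false
set_option backward.isDefEq.respectTransparency false
set_option backward.isDefEq.respectTransparency.types false
universe u

namespace Groth.Agent.Lib.Helper17.SEC

open CategoryTheory CategoryTheory.Limits AlgebraicGeometry Opposite AlgSp FibCat Stk AlgSt
open Groth.Agent.Lib.Helper36.AlgSpCharts Groth.Agent.Lib.Helper46 Groth.Agent.Lib.Helper46.LocPChart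
open Groth.Agent.Lib.Helper17 Groth.Agent.Lib.Helper17.FP Groth.Agent.Lib.Helper17.EO
  Groth.Agent.Lib.Helper17.PD Groth.Agent.Lib.Helper17.AT Groth.Agent.Lib.Helper17.AB
  Groth.Agent.Lib.Helper17.AOS

variable {S : Scheme.{u}}

/-- a monomorphism of schemes is formally unramified -/
theorem formallyUnramified_of_mono {X Y : Scheme.{u}} (f : X ⟶ Y) [Mono f] : FormallyUnramified f := by
  have : IsIso (pullback.diagonal f) := inferInstance
  infer_instance

/-- **a section of a morphism from an algebraic space to a scheme is a monomorphism locally of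
finite type**: in an etale chart of the target it is a monomorphism of schemes, locally of finite
type -/
theorem section_chart {U : Over S} {Y : Sp S} (hY : IsAlgSpace Y) (a : Y ⟶ (yon S).obj U)
    (σ : (yon S).obj U ⟶ Y) (hσ : σ ≫ a = 𝟙 _) (Q : MorphismProperty Scheme.{u}) (hQ : EtLocal Q)
    (hmono : ∀ ⦃A B : Scheme.{u}⦄ (k : A ⟶ B), Mono k → LocallyOfFiniteType k → Q k) :
    LocP Q σ := by
  obtain ⟨V, c, hce, hcs⟩ := hY.atlas
  obtain ⟨V', p1, p2, sq1⟩ := exists_isPullback_yon σ c hce.rep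
  have hp1e : Etale p1.left := prop_fst_of_isPullback sq1 hce
  have hp1s : Surjective p1.left := prop_fst_of_isPullback sq1 hcs
  obtain ⟨d, hd⟩ := (yon S).map_surjective (c ≫ a)
  have e1 : p2 ≫ d = p1 := by
    apply (yon S).map_injective
    rw [Functor.map_comp, hd, ← Category.assoc, ← sq1.w, Category.assoc, hσ, Category.comp_id]
  have hmonoσ : Mono σ := mono_of_mono_fac hσ
  have hm2 : Mono ((yon S).map p2) := sq1.mono_snd_of_mono
  have hm2' : Mono p2 := (yon S).mono_of_mono_map hm2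
  have hm2'' : Mono p2.left := inferInstance
  have hlft : LocallyOfFiniteType p2.left := by
    have h1 : LocallyOfFiniteType (p2.left ≫ d.left) := by
      rw [← Over.comp_left, e1]
      infer_instance
    exact locallyOfFiniteType_of_comp p2.left d.left
  refine locP_of_chart hQ σ ((yon S).map p1) c p2 ((repWith_yon_map_iff _ _).2 hp1e)
    ((repWith_yon_map_iff _ _).2 hp1s) hce sq1.w (hmono _ hm2'' hlft)

/-- **a section of a functor to a slice whose source is representable by an algebraic space** is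
representable by algebraic spaces with every chart-wise property satisfied by monomorphisms locally
of finite type -/
theorem repWith_section_to_slice (Q : MorphismProperty Scheme.{u}) (hQ : EtLocal Q)
    (hmono : ∀ ⦃A B : Scheme.{u}⦄ (k : A ⟶ B), Mono k → LocallyOfFiniteType k → Q k)
    {𝒜 : AlgSt.Cat S} {U : Over S} (π : 𝒜 ⥤ᵇ FibCat.overCat U) (hA : AlgSt.RepByAlgSp 𝒜)
    (s : FibCat.overCat U ⥤ᵇ 𝒜) (ι : BasedFunctor.comp s π ≅ BasedFunctor.id _) :
    AlgSt.RepByAlgSpWith (LocP Q) s := by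
  obtain ⟨Y, e, he⟩ := hA
  obtain ⟨e', ⟨u₁⟩, ⟨c₁⟩⟩ := id he
  have he' : FibCat.IsEquivOver e' := isEquivOver_symm e e' u₁ c₁
  let Sg : ofSp ((yon S).obj U) ⥤ᵇ ofSp Y.obj :=
    BasedFunctor.comp (toOverCat U) (BasedFunctor.comp s e')
  let σ : (yon S).obj U ⟶ Y.obj := ObjectProperty.homMk (mapOf Sg)
  let a : Y.obj ⟶ (yon S).obj U := spMapOfOver (BasedFunctor.comp e π)
  have hσ : σ ≫ a = 𝟙 _ := by
    apply ObjectProperty.hom_ext
    change mapOf Sg ≫ (spMapOfOver (BasedFunctor.comp e π)).hom = 𝟙 _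
    rw [← AD.mapOf_comp_ofOverCat, ← mapOf_comp, ← mapOf_id]
    refine mapOf_congr _ _ (fun x => ?_) (fun x => ?_)
    · exact ((BasedFunctor.comp π (ofOverCat U)).toFunctor.mapIso
          (compApp c₁ (s.obj ((toOverCat U).obj x))) ≪≫
        (ofOverCat U).toFunctor.mapIso (compApp ι ((toOverCat U).obj x)) :
        _ ≅ (ofOverCat U).obj ((toOverCat U).obj x))
    · have hl1 := compApp_lift c₁ (s.obj ((toOverCat U).obj x))
      rw [s.w_obj, (toOverCat U).w_obj] at hl1
      have hl1' : (ofSch U).p.IsHomLift (𝟙 x.base)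
          ((BasedFunctor.comp π (ofOverCat U)).toFunctor.mapIso
            (compApp c₁ (s.obj ((toOverCat U).obj x)))).hom :=
        map_lift'' (BasedFunctor.comp π (ofOverCat U)) hl1
      have hl2 := compApp_lift ι ((toOverCat U).obj x)
      rw [(toOverCat U).w_obj] at hl2
      have hl2' : (ofSch U).p.IsHomLift (𝟙 x.base)
          ((ofOverCat U).toFunctor.mapIso (compApp ι ((toOverCat U).obj x))).hom :=
        map_lift'' (ofOverCat U) hl2
      exact IsHomLift.comp_of_lift_id (ofSch U).p _ _ _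
  have hP : LocP Q σ := section_chart Y.property a σ hσ Q hQ hmono
  -- the map of sheaves is representable by algebraic spaces with `LocP Q`
  have hrb : AlgSp.RepBySp σ.hom :=
    AR.repBySp_of_algSpaces ⟨(yon S).obj U, IsAlgSpace.yon_obj U⟩ Y _
  have hbc : ACP.BC (LocP (S := S) Q) := fun _ _ _ _ h1 h2 h3 h4 _ _ _ _ sq h =>
    locP_of_isPullback hQ h1 h2 h3 h4 sq h
  have hRI : (ACP.restr (LocP (S := S) Q)).RespectsIso := ACP.restr_respectsIso _ hbc
  have h0 : AlgSp.RepBySpWith (ACP.restr (LocP (S := S) Q)) σ.hom := by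
    rw [AlgSp.repBySpWith_hom_iff]
    intro T ξ F' fst snd sq
    have hF' : AlgSp.IsAlgSpace F' := (AlgSp.repBySp_hom_iff σ).mp hrb ξ fst snd sq
    exact ⟨hF', hF', IsAlgSpace.yon_obj T,
      hbc (IsAlgSpace.yon_obj U) Y.property hF' (IsAlgSpace.yon_obj T) σ ξ snd fst sq hP⟩
  have h1 : AlgSt.RepByAlgSpWith (LocP (S := S) Q) (Stk.ofPshMap σ.hom) :=
    (ACP.repWith_restr_iff _ _).mp ((Groth.Agent.S12778.result _ _ hrb).mp h0)
  have h2 : AlgSt.RepByAlgSpWith (LocP (S := S) Q) Sg := by
    refine repWith_of_square_fwd _ (Stk.ofPshMap (mapOf Sg)) Sg (BasedFunctor.id _)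
      (BasedFunctor.id _) (isEquivOver_id _) (isEquivOver_id _) (fun x' => compIso Sg x') ?_ ?_ h1
    · intro x x₁ β
      exact compIso_nat Sg β
    · intro x'
      exact compIso_lift Sg x'
  have h3 : AlgSt.RepByAlgSpWith (LocP (S := S) Q) (BasedFunctor.comp s e') :=
    FD.repWith_of_precomp_equiv _ (toOverCat U) (AD.toOverCat_isEquivOver U) _ h2
  exact DCN.repWith_of_comp_equiv _ s e' he' h3

/-- **the diagonal of a functor representable by algebraic spaces** has every chart-wise property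
satisfied by monomorphisms locally of finite type -/
theorem repWith_diag_of_rep1 (Q : MorphismProperty Scheme.{u}) (hQ : EtLocal Q)
    (hmono : ∀ ⦃A B : Scheme.{u}⦄ (k : A ⟶ B), Mono k → LocallyOfFiniteType k → Q k)
    {𝒳 𝒴 : AlgSt.Cat S} (f : 𝒳 ⥤ᵇ 𝒴) (hf : AlgSt.RepByAlgSp1 f) :
    AlgSt.RepByAlgSpWith (LocP Q) (FibCat.diag f) := by
  intro T z
  apply TC.exists_of_repWith_to_slice
  have hι : BasedFunctor.comp (DS.s2 f z) (FibCat.fpFst (BasedFunctor.comp (DS.x1 f z) f) f) =
      BasedFunctor.id _ := DR.basedFunctor_ext rfl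
  have hs2 : AlgSt.RepByAlgSpWith (LocP Q) (DS.s2 f z) :=
    repWith_section_to_slice Q hQ hmono (FibCat.fpFst (BasedFunctor.comp (DS.x1 f z) f) f)
      (hf T _) (DS.s2 f z) (eqToIso hι)
  have h1 : AlgSt.RepByAlgSpWith (LocP Q) (FibCat.fpFst (DS.s1 f z) (DS.s2 f z)) :=
    repWith_fpFst _ (DS.s2 f z) (DS.s1 f z) hs2
  exact FD.repWith_precomp_equiv _ (DS.K f z) (DS.K_isEquivOver f z) _ h1

theorem unr_of_mono : ∀ ⦃A B : Scheme.{u}⦄ (k : A ⟶ B), Mono k → LocallyOfFiniteType k →
    (@LocallyOfFiniteType ⊓ @FormallyUnramified : MorphismProperty Scheme.{u}) k :=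
  fun _ _ k hk hl => ⟨hl, by have := hk; exact formallyUnramified_of_mono k⟩

end Groth.Agent.Lib.Helper17.SEC
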