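import Groth.Agent.Lib.Helper17.DiagRepB
import Groth.Agent.Lib.Helper17.Comparison
import Groth.Agent.Lib.Helper17.SectionUnr
import Groth.Agent.Lib.Helper17.PastingR

set_option autoImplicit false
set_option backward.isDefEq.respectTransparency false
set_option backward.isDefEq.respectTransparency.types false
universe v u

namespace Groth.Agent.Lib.Helper17.SR

open CategoryTheory CategoryTheory.Functor CategoryTheory.Limits FibCat
open Groth.Agent.Lib.Helper17 Groth.Agent.Lib.Helper17.FP Groth.Agent.Lib.Helper17.EO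

section General

variable {C : Type u} [Category.{v} C] {𝒳 𝒴 𝒮 : BasedCategory.{v, max u v} C}

/-- the base change of an equivalence is an equivalence -/
theorem fpFst_isEquivOver (F : 𝒳 ⥤ᵇ 𝒮) (E : 𝒴 ⥤ᵇ 𝒮) (hE : FibCat.IsEquivOver E) :
    FibCat.IsEquivOver (fpFst F E) := by
  obtain ⟨⟨hfull, hfaith⟩, hess⟩ := (Groth.Agent.S5139.result E).mp hE
  rw [Groth.Agent.S5139.result]
  refine ⟨⟨⟨?_⟩, ⟨?_⟩⟩, ?_⟩
  · intro z z' k₁
    let k₁' : z.obj.fst ⟶ z'.obj.fst := k₁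
    let θ : F.obj z.obj.fst ≅ E.obj z.obj.snd := z.obj.iso
    let θ' : F.obj z'.obj.fst ≅ E.obj z'.obj.snd := z'.obj.iso
    obtain ⟨β, hβ⟩ := hfull.map_surjective (θ.inv ≫ F.map k₁' ≫ θ'.hom)
    refine ⟨mkHom (F := F) (G := E) k₁' β ?_, rfl⟩
    change F.map k₁' ≫ θ'.hom = θ.hom ≫ E.map β
    have hβ' : E.map β = θ.inv ≫ F.map k₁' ≫ θ'.hom := hβ
    rw [hβ', Iso.hom_inv_id_assoc]
  · intro z z' k k' h
    have h1 : k.hom.fst = k'.hom.fst := h
    apply hom_ext h1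
    have e1 := k.hom.w
    have e2 := k'.hom.w
    rw [h1] at e1
    have e3 : E.map k.hom.snd = E.map k'.hom.snd :=
      (cancel_epi z.obj.iso.hom).mp (e1.symm.trans e2)
    exact hfaith.map_injective e3
  · intro x
    obtain ⟨y, e, he⟩ := hess (F.obj x)
    have he' : 𝒮.p.IsHomLift (𝟙 (𝒳.p.obj x)) e.hom := by
      rw [← F.w_obj x]
      exact he
    have he'' : 𝒮.p.IsHomLift (𝟙 (𝒳.p.obj x)) e.symm.hom :=
      IsHomLift.lift_id_inv 𝒮.p _ e
    refine ⟨mkObj (F := F) (G := E) x y e.symm he'', Iso.refl _, ?_⟩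
    exact IsHomLift.id rfl

end General

section AlgSt

open AlgebraicGeometry AlgSp AlgSt Stk
open Groth.Agent.Lib.Helper17.DR Groth.Agent.Lib.Helper17.DRB Groth.Agent.Lib.Helper17.AOS

variable {S : Scheme.{u}}

/-- the diagonal of the base category over itself is an equivalence -/
theorem dg_selfOver_isEquivOver :
    FibCat.IsEquivOver (Dg (FibCat.selfOver (Over S))) := by
  rw [Groth.Agent.S5139.result]
  refine ⟨⟨⟨?_⟩, ⟨?_⟩⟩, ?_⟩
  · intro c c' n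
    refine ⟨n.hom.fst, ?_⟩
    apply hom_ext
    · rfl
    · have h := n.hom.w
      change n.hom.fst ≫ 𝟙 _ = 𝟙 _ ≫ n.hom.snd at h
      rw [Category.comp_id, Category.id_comp] at h
      exact h
  · intro c c' k k' h
    exact congrArg (fun t => t.hom.fst) h
  · intro η
    let θ : η.obj.fst ≅ η.obj.snd := η.obj.iso
    refine ⟨η.obj.fst, mkIso (z := (Dg (FibCat.selfOver (Over S))).obj η.obj.fst) (z' := η)
      (Iso.refl _) θ ?_, ?_⟩
    · change 𝟙 _ ≫ θ.hom = 𝟙 _ ≫ θ.hom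
      rfl
    · rw [isHomLift_iff_fst]
      exact IsHomLift.id rfl

/-- **the structure functor of a slice is representable by algebraic spaces** (by schemes):
`(Sch/T) ×_{(Sch/S)} (Sch/U) ≃ (Sch/T ×_S U)` -/
theorem rep1_toSelf_overCat (U : Over S) :
    AlgSt.RepByAlgSp1 (FibCat.toSelf (FibCat.overCat U)) := by
  intro T y
  have h1 := PsiB_isEquivOver y (FibCat.toSelf (FibCat.overCat U))
  have h2 : FibCat.IsEquivOver (fpFst (HF y (FibCat.toSelf (FibCat.overCat U)))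
      (Dg (FibCat.selfOver (Over S)))) :=
    fpFst_isEquivOver _ _ dg_selfOver_isEquivOver
  obtain ⟨k, ⟨u₁⟩, ⟨c₁⟩⟩ := id h2
  have hk : FibCat.IsEquivOver k := isEquivOver_symm _ k u₁ c₁
  exact ⟨(AlgSp.ofScheme S).obj (T ⨯ U),
    BasedFunctor.comp (toOverCat (T ⨯ U)) (BasedFunctor.comp k
      (PsiB y (FibCat.toSelf (FibCat.overCat U)))),
    isEquivOver_comp _ _ (AD.toOverCat_isEquivOver _) (isEquivOver_comp _ _ hk h1)⟩

/-- the product `y × f : 𝒲 ×_𝒵 𝒳 ⟶ 𝒴 ×_𝒵 𝒴` of two functors with `P` has `P` -/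
theorem repWith_m (P : MorphismProperty (AlgSp.Sp S)) (hPb : ACP.BC P) (hPc : ACP.CP P)
    (hP : ACov.SchLocal P) {𝒲 𝒳 𝒴 𝒵 : AlgSt.Cat S}
    (h𝒲 : FibCat.IsFibGrpd 𝒲.p) (h𝒳 : FibCat.IsFibGrpd 𝒳.p) (h𝒴 : FibCat.IsFibGrpd 𝒴.p)
    (h𝒵 : FibCat.IsFibGrpd 𝒵.p)
    (f : 𝒳 ⥤ᵇ 𝒴) (g : 𝒴 ⥤ᵇ 𝒵) (y : 𝒲 ⥤ᵇ 𝒴)
    (hf : AlgSt.RepByAlgSpWith P f) (hy : AlgSt.RepByAlgSpWith P y) :
    AlgSt.RepByAlgSpWith P (MS.m f g y) := by
  have hB : FibCat.IsFibGrpd (MS.B f g y).p :=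
    SP.isFibGrpd_fp (BasedFunctor.comp y g) (BasedFunctor.comp f g) h𝒲 h𝒳 h𝒵
  have hgg : FibCat.IsFibGrpd (FibCat.fp g g).p := SP.isFibGrpd_fp g g h𝒴 h𝒴 h𝒵
  have h1 : AlgSt.RepByAlgSpWith P
      (BasedFunctor.comp (PS.paste y g (BasedFunctor.comp f g))
        (FibCat.fpSnd y (FibCat.fpFst g (BasedFunctor.comp f g)))) :=
    FD.repWith_precomp_equiv P _ (PS.paste_isEquivOver y g (BasedFunctor.comp f g)) _
      (AB.repWith_fpSnd P y (FibCat.fpFst g (BasedFunctor.comp f g)) hy)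
  have h2 : AlgSt.RepByAlgSpWith P
      (BasedFunctor.comp (PSR.paste g f g) (FibCat.fpFst (FibCat.fpSnd g g) f)) :=
    FD.repWith_precomp_equiv P _ (PSR.paste_isEquivOver g f g) _
      (AB.repWith_fpFst P f (FibCat.fpSnd g g) hf)
  have h3 := ACP.repWith_comp_of_schLocal' hB hgg P hPb hPc hP _ _ h1 h2
  have e : MS.m f g y = BasedFunctor.comp
      (BasedFunctor.comp (PS.paste y g (BasedFunctor.comp f g))
        (FibCat.fpSnd y (FibCat.fpFst g (BasedFunctor.comp f g))))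
      (BasedFunctor.comp (PSR.paste g f g) (FibCat.fpFst (FibCat.fpSnd g g) f)) :=
    DR.basedFunctor_ext rfl
  rw [e]
  exact h3

end AlgSt

end Groth.Agent.Lib.Helper17.SR
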