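import Groth.Agent.Lib.Helper17.AlgStFp
import Groth.Agent.Lib.Helper17.SelfRep

set_option autoImplicit false
set_option backward.isDefEq.respectTransparency false
set_option backward.isDefEq.respectTransparency.types false
universe v₂ u₂ v u

namespace Groth.Agent.Lib.Helper17.SST

open CategoryTheory CategoryTheory.Limits AlgebraicGeometry Opposite FibCat Stk
open Groth.Agent.Lib.Helper17

section General

variable {C : Type u} [Category.{v} C] {𝒜 : BasedCategory.{v₂, u₂} C}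

theorem toSelfOver_eq (G G' : 𝒜 ⥤ᵇ FibCat.selfOver C) : G = G' := by
  apply DR.basedFunctor_ext
  have h1 : G.toFunctor = 𝒜.p := G.w
  have h2 : G'.toFunctor = 𝒜.p := G'.w
  rw [h1, h2]

theorem hom_subsingleton (G G' : 𝒜 ⥤ᵇ FibCat.selfOver C) (α β : G ⟶ G') : α = β := by
  apply BasedNatTrans.homCategory.ext
  apply NatTrans.ext
  funext a
  have h1 := α.isHomLift' a
  have h2 := β.isHomLift' a
  have e1 := IsHomLift.fac' (FibCat.selfOver C).p (𝟙 (𝒜.p.obj a)) (α.toNatTrans.app a)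
  have e2 := IsHomLift.fac' (FibCat.selfOver C).p (𝟙 (𝒜.p.obj a)) (β.toNatTrans.app a)
  exact e1.trans e2.symm

theorem isStack_selfOver (J : GrothendieckTopology C) : Stk.IsStack J (FibCat.selfOver C) := by
  refine ⟨SP.isFibGrpd_selfOver, fun U R _ => ?_⟩
  change (Stk.resSieve R (FibCat.selfOver C)).IsEquivalence
  have hfull : (Stk.resSieve R (FibCat.selfOver C)).Full := ⟨fun {G G'} β => by
    obtain rfl := toSelfOver_eq G G'
    exact ⟨𝟙 G, hom_subsingleton _ _ _ _⟩⟩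
  have hfaith : (Stk.resSieve R (FibCat.selfOver C)).Faithful :=
    ⟨fun {G G'} α β _ => hom_subsingleton _ _ α β⟩
  have hess : (Stk.resSieve R (FibCat.selfOver C)).EssSurj :=
    ⟨fun H => ⟨FibCat.toSelf (FibCat.overCat U), ⟨eqToIso (toSelfOver_eq _ _)⟩⟩⟩
  exact { }

end General

section AlgSt

open AlgSp AlgSt
open Groth.Agent.Lib.Helper17.EO Groth.Agent.Lib.Helper17.AOS

variable {S : Scheme.{u}}

theorem rep1_of_isEquivOver {𝒳 𝒴 : AlgSt.Cat S} (E : 𝒳 ⥤ᵇ 𝒴) (hE : FibCat.IsEquivOver E) :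
    AlgSt.RepByAlgSp1 E := by
  intro T y
  have h2 : FibCat.IsEquivOver (FibCat.fpFst y E) := SR.fpFst_isEquivOver _ _ hE
  obtain ⟨k, ⟨u₁⟩, ⟨c₁⟩⟩ := id h2
  have hk : FibCat.IsEquivOver k := isEquivOver_symm _ k u₁ c₁
  exact ⟨(AlgSp.ofScheme S).obj T, BasedFunctor.comp (toOverCat T) k,
    isEquivOver_comp _ _ (AD.toOverCat_isEquivOver _) hk⟩

/-- the product of two algebraic stacks is an algebraic stack -/
theorem isAlgStack_prod {𝒳 𝒴 : AlgSt.Cat S}
    (h𝒳 : AlgSt.IsAlgStack Scheme.fppfPrecoverage 𝒳)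
    (h𝒴 : AlgSt.IsAlgStack Scheme.fppfPrecoverage 𝒴) :
    AlgSt.IsAlgStack Scheme.fppfPrecoverage (FibCat.fp (FibCat.toSelf 𝒳) (FibCat.toSelf 𝒴)) :=
  AFP.isAlgStack_fp (isStack_selfOver _)
    (rep1_of_isEquivOver _ SR.dg_selfOver_isEquivOver) h𝒳 h𝒴 _ _

end AlgSt

end Groth.Agent.Lib.Helper17.SST
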