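import Groth.Agent.Lib.Helper17.PointsTop2

set_option autoImplicit false
set_option backward.isDefEq.respectTransparency false
set_option backward.isDefEq.respectTransparency.types false
universe u

namespace Groth.Agent.Lib.Helper17.PTS

open CategoryTheory CategoryTheory.Limits AlgebraicGeometry Opposite AlgSp FibCat Stk AlgSt
open Groth.Agent.Lib.Helper17 Groth.Agent.Lib.Helper17.FP Groth.Agent.Lib.Helper17.EO
  Groth.Agent.Lib.Helper17.PD Groth.Agent.Lib.Helper17.AT Groth.Agent.Lib.Helper17.AB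
  Groth.Agent.Lib.Helper17.AOS Groth.Agent.Lib.Helper17.ACP
open Groth.Agent.Lib.Helper46 Groth.Agent.Lib.Helper46.LocPChart

variable {S : Scheme.{u}}

/-- a smooth chart whose restriction to a quasi-compact open is surjective on points shows
quasi-compactness -/
theorem isQuasiCompact_of_compact_open_chart {𝒳 : AlgSt.Cat S} (hX : FibCat.IsFibGrpd 𝒳.p)
    {V : Over S} (x₀ : FibCat.overCat V ⥤ᵇ 𝒳) (hxs : AlgSt.RepByAlgSpWith (LocP @Smooth) x₀)
    (V' : V.left.Opens) (hV'c : IsCompact (V' : Set ↥V.left))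
    (hV' : ∀ η : AlgSt.Points 𝒳, ∃ v : ↥V.left, v ∈ V' ∧ AlgSt.Points.ofChart x₀ v = η) :
    AlgSt.IsQuasiCompact 𝒳 := by
  let V'' : Over S := Over.mk (V'.ι ≫ V.hom)
  let j : V'' ⟶ V := Over.homMk V'.ι rfl
  have hcomp : CompactSpace ↥V''.left := isCompact_iff_compactSpace.mp hV'c
  have hV''f : FibCat.IsFibGrpd (FibCat.overCat V'').p := FG.isFibGrpd_overForget V''
  have hjsm : Smooth j.left := by change Smooth V'.ι; infer_instance
  have hj1 : AlgSt.RepByAlgSpWith (LocP @Smooth) (AlgSt.overMap j) :=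
    CT.repWith_overMap _ AFP.sm_bc j
      (Groth.Agent.Lib.Helper23.AlgSpMor.locP_yon_map_of
        Groth.Agent.Lib.Helper30.EtLocalInst.etLocal_smooth j hjsm)
  have hx₀'s : AlgSt.RepByAlgSpWith (LocP @Smooth) (BasedFunctor.comp (AlgSt.overMap j) x₀) :=
    repWith_comp_of_schLocal' hV''f hX _ AFP.sm_bc AFP.sm_cp CT.sm_schLocal _ x₀ hj1 hxs
  have hx₀'1 : AlgSt.RepByAlgSp1 (BasedFunctor.comp (AlgSt.overMap j) x₀) := fun T y => by
    obtain ⟨F, e, he, -⟩ := hx₀'s T y
    exact ⟨F, e, he⟩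
  have hsurj' : AlgSt.IsSurjective (BasedFunctor.comp (AlgSt.overMap j) x₀) := by
    intro ξ
    obtain ⟨v, hv, rfl⟩ := hV' ξ
    let v' : ↥V''.left := ⟨v, hv⟩
    have e1 : j.left v' = v := rfl
    refine ⟨AlgSt.Points.ofChart (BasedFunctor.id _) v', ?_⟩
    calc AlgSt.Points.map (BasedFunctor.comp (AlgSt.overMap j) x₀)
          (AlgSt.Points.ofChart (BasedFunctor.id _) v')
        = AlgSt.Points.ofChart (BasedFunctor.comp (AlgSt.overMap j) x₀) v' := rfl
      _ = AlgSt.Points.ofChart x₀ (j.left v') := ofChart_overMap j x₀ v'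
      _ = AlgSt.Points.ofChart x₀ v := by rw [e1]
  exact CT.isQuasiCompact_of_compact_chart hX V'' _ hx₀'s
    (repWith_of_isSurjective hV''f hX _ hx₀'1 hsurj')

/-- **an algebraic stack is quasi-compact iff its space of points is** -/
theorem isQuasiCompact_iff_compactSpace {𝒳 : AlgSt.Cat S}
    (h𝒳 : AlgSt.IsAlgStack Scheme.fppfPrecoverage 𝒳) :
    AlgSt.IsQuasiCompact 𝒳 ↔ CompactSpace (AlgSt.Points 𝒳) := by
  have hX := h𝒳.isStack.1
  constructor
  · rintro ⟨U, x, haff, hs, hsurj⟩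
    have hsj := ofChart_surjective x (isSurjective_of_repWith hX x hsurj)
    have hc := continuous_ofChart h𝒳 x
    have : CompactSpace ↥U.left := inferInstance
    refine ⟨?_⟩
    rw [← Set.range_eq_univ.mpr hsj]
    exact isCompact_range hc
  · intro hcomp
    obtain ⟨U₀, x₀, hxs, hxsurj⟩ := h𝒳.atlas
    have hsj := ofChart_surjective x₀ (isSurjective_of_repWith hX x₀ hxsurj)
    have hopen := isOpenMap_ofChart hX h𝒳.diag x₀ (flat_of_smooth _ hxs) (lfp_of_smooth _ hxs)
    choose O hOaff hOmem _ using fun v : ↥U₀.left =>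
      exists_isAffineOpen_mem_and_subset (x := v) (U := ⊤) trivial
    obtain ⟨t, ht⟩ := isCompact_univ.elim_finite_subcover
      (fun v : ↥U₀.left => AlgSt.Points.ofChart x₀ '' (O v : Set ↥U₀.left))
      (fun v => hopen _ (O v).2)
      (fun η _ => by
        obtain ⟨v, rfl⟩ := hsj η
        exact Set.mem_iUnion.mpr ⟨v, v, hOmem v, rfl⟩)
    refine isQuasiCompact_of_compact_open_chart hX x₀ hxs (⨆ v ∈ t, O v) ?_ ?_
    · have : ((⨆ v ∈ t, O v : U₀.left.Opens) : Set ↥U₀.left) = ⋃ v ∈ t, (O v : Set ↥U₀.left) := by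
        simp [TopologicalSpace.Opens.coe_iSup]
      rw [this]
      exact t.isCompact_biUnion (fun v _ => (hOaff v).isCompact)
    · intro η
      have := ht (Set.mem_univ η)
      simp only [Set.mem_iUnion] at this
      obtain ⟨v, hv, v₁, hv₁, rfl⟩ := this
      refine ⟨v₁, ?_, rfl⟩
      simp only [TopologicalSpace.Opens.mem_iSup]
      exact ⟨v, hv, hv₁⟩

end Groth.Agent.Lib.Helper17.PTS
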