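import Groth.Agent.Lib.Helper17.AlgStTransfer
import Groth.Agent.Lib.Helper17.FpInvariance
import Groth.Agent.Lib.Helper17.Pasting
import Groth.Agent.Lib.Helper17.Swap

set_option autoImplicit false
universe u

namespace Groth.Agent.Lib.Helper17.AB

open CategoryTheory AlgebraicGeometry Opposite FibCat AlgSt
open Groth.Agent.Lib.Helper17 Groth.Agent.Lib.Helper17.EO Groth.Agent.Lib.Helper17.AT
  Groth.Agent.Lib.Helper17.FI Groth.Agent.Lib.Helper17.PS Groth.Agent.Lib.Helper17.SW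

variable {S : Scheme.{u}}

/-- invariance of `RepByAlgSpWith P` under equivalence squares, component form, forward direction -/
theorem repWith_of_square_fwd {𝒳 𝒴 𝒳' 𝒴' : AlgSt.Cat S} (P : MorphismProperty (AlgSp.Sp S))
    (f : 𝒳 ⥤ᵇ 𝒴) (f' : 𝒳' ⥤ᵇ 𝒴') (a : 𝒳' ⥤ᵇ 𝒳) (b : 𝒴' ⥤ᵇ 𝒴)
    (ha : FibCat.IsEquivOver a) (hb : FibCat.IsEquivOver b)
    (ε : ∀ x' : 𝒳'.obj, b.obj (f'.obj x') ≅ f.obj (a.obj x'))
    (hnat : ∀ {x x₁ : 𝒳'.obj} (β : x ⟶ x₁),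
      b.map (f'.map β) ≫ (ε x₁).hom = (ε x).hom ≫ f.map (a.map β))
    (hlift : ∀ x' : 𝒳'.obj, 𝒴.p.IsHomLift (𝟙 (𝒳'.p.obj x')) (ε x').hom)
    (hf : AlgSt.RepByAlgSpWith P f) : AlgSt.RepByAlgSpWith P f' := by
  intro U y'
  exact transfer_inv P (sq a b f f' y' ε hnat hlift)
    (sq_isEquivOver a b f f' y' ε hnat hlift ha hb)
    (FibCat.fpFst y' f') (FibCat.fpFst (BasedFunctor.comp y' b) f) rfl
    (hf U (BasedFunctor.comp y' b))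

theorem rep1_iff_top {𝒳 𝒴 : AlgSt.Cat S} (f : 𝒳 ⥤ᵇ 𝒴) :
    AlgSt.RepByAlgSp1 f ↔ AlgSt.RepByAlgSpWith (⊤ : MorphismProperty (AlgSp.Sp S)) f := by
  constructor
  · intro h U y
    obtain ⟨F, e, he⟩ := h U y
    exact ⟨F, e, he, trivial⟩
  · intro h U y
    obtain ⟨F, e, he, -⟩ := h U y
    exact ⟨F, e, he⟩

/-- invariance of `RepByAlgSp1` under equivalence squares, component form -/
theorem rep1_of_square_fwd {𝒳 𝒴 𝒳' 𝒴' : AlgSt.Cat S}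
    (f : 𝒳 ⥤ᵇ 𝒴) (f' : 𝒳' ⥤ᵇ 𝒴') (a : 𝒳' ⥤ᵇ 𝒳) (b : 𝒴' ⥤ᵇ 𝒴)
    (ha : FibCat.IsEquivOver a) (hb : FibCat.IsEquivOver b)
    (ε : ∀ x' : 𝒳'.obj, b.obj (f'.obj x') ≅ f.obj (a.obj x'))
    (hnat : ∀ {x x₁ : 𝒳'.obj} (β : x ⟶ x₁),
      b.map (f'.map β) ≫ (ε x₁).hom = (ε x).hom ≫ f.map (a.map β))
    (hlift : ∀ x' : 𝒳'.obj, 𝒴.p.IsHomLift (𝟙 (𝒳'.p.obj x')) (ε x').hom)
    (hf : AlgSt.RepByAlgSp1 f) : AlgSt.RepByAlgSp1 f' := by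
  rw [rep1_iff_top] at hf ⊢
  exact repWith_of_square_fwd ⊤ f f' a b ha hb ε hnat hlift hf

/-- `RepByAlgSpWith P` is stable under base change (first projection), for every `P` -/
theorem repWith_fpFst {𝒳 𝒴 𝒵 : AlgSt.Cat S} (P : MorphismProperty (AlgSp.Sp S))
    (f : 𝒳 ⥤ᵇ 𝒴) (g : 𝒵 ⥤ᵇ 𝒴) (hf : AlgSt.RepByAlgSpWith P f) :
    AlgSt.RepByAlgSpWith P (FibCat.fpFst g f) := by
  intro U y
  exact transfer_fwd P (paste y g f) (paste_isEquivOver y g f)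
    (FibCat.fpFst (BasedFunctor.comp y g) f) (FibCat.fpFst y (FibCat.fpFst g f)) rfl
    (hf U (BasedFunctor.comp y g))

/-- `RepByAlgSpWith P` is stable under base change (second projection), for every `P` -/
theorem repWith_fpSnd {𝒳 𝒴 𝒵 : AlgSt.Cat S} (P : MorphismProperty (AlgSp.Sp S))
    (z : 𝒵 ⥤ᵇ 𝒴) (f : 𝒳 ⥤ᵇ 𝒴) (hz : AlgSt.RepByAlgSpWith P z) :
    AlgSt.RepByAlgSpWith P (FibCat.fpSnd z f) := by
  have h1 : AlgSt.RepByAlgSpWith P (FibCat.fpFst f z) := repWith_fpFst P z f hz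
  -- square: a = swap : fp z f → fp f z, b = id
  refine repWith_of_square_fwd P (FibCat.fpFst f z) (FibCat.fpSnd z f) (swap z f)
    (BasedFunctor.id 𝒳) (swap_isEquivOver z f) ?_ (fun x' => Iso.refl _) ?_ ?_ h1
  · exact ⟨BasedFunctor.id 𝒳, ⟨Iso.refl _⟩, ⟨Iso.refl _⟩⟩
  · intro x x₁ β
    exact (Category.comp_id _).trans (Category.id_comp _).symm
  · intro x'
    exact IsHomLift.id (FP.snd_obj x')

end Groth.Agent.Lib.Helper17.AB
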