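import Groth.Agent.Lib.Helper17.AlgStDict
import Groth.Agent.Lib.Helper17.AlgStBaseChange

set_option autoImplicit false
set_option backward.isDefEq.respectTransparency false
set_option backward.isDefEq.respectTransparency.types false
universe u

namespace Groth.Agent.Lib.Helper17.AC

open CategoryTheory CategoryTheory.Limits AlgebraicGeometry Opposite FibCat Stk AlgSt
open Groth.Agent.Lib.Helper17 Groth.Agent.Lib.Helper17.PD Groth.Agent.Lib.Helper17.EO
  Groth.Agent.Lib.Helper17.AT Groth.Agent.Lib.Helper17.AB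

variable {S : Scheme.{u}}

/-- transport of `RepByAlgSpWith P` from `F₀ : 𝒜 ⟶ ℬ` to the map of presheaves obtained by
conjugating with equivalences from categories of presheaves -/
theorem repWith_ofPshMap_of_conj (P : MorphismProperty (AlgSp.Sp S)) {𝒜 ℬ : AlgSt.Cat S}
    {W Z : AlgSp.PSp S} (F₀ : 𝒜 ⥤ᵇ ℬ) (a : Stk.ofPsh W ⥤ᵇ 𝒜) (b : Stk.ofPsh Z ⥤ᵇ ℬ)
    (ha : FibCat.IsEquivOver a) (hb : FibCat.IsEquivOver b) (gb : ℬ ⥤ᵇ Stk.ofPsh Z)
    (z₂ : BasedFunctor.comp gb b ≅ BasedFunctor.id ℬ) (h : AlgSt.RepByAlgSpWith P F₀) :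
    AlgSt.RepByAlgSpWith P
      (Stk.ofPshMap (mapOf (BasedFunctor.comp a (BasedFunctor.comp F₀ gb)))) := by
  let Ω : Stk.ofPsh W ⥤ᵇ Stk.ofPsh Z := BasedFunctor.comp a (BasedFunctor.comp F₀ gb)
  refine repWith_of_square_fwd P F₀ (Stk.ofPshMap (mapOf Ω)) a b ha hb
    (fun x' => b.toFunctor.mapIso (compIso Ω x').symm ≪≫ compApp z₂ (F₀.obj (a.obj x'))) ?_ ?_ h
  · intro x x' β
    have n1 := compApp_nat z₂ (F₀.map (a.map β))
    have n2 := compIso_nat Ω β
    change b.map ((Stk.ofPshMap (mapOf Ω)).map β) ≫ b.map (compIso Ω x').inv ≫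
        (compApp z₂ (F₀.obj (a.obj x'))).hom =
      (b.map (compIso Ω x).inv ≫ (compApp z₂ (F₀.obj (a.obj x))).hom) ≫ F₀.map (a.map β)
    have n3 : (Stk.ofPshMap (mapOf Ω)).map β ≫ (compIso Ω x').inv =
        (compIso Ω x).inv ≫ Ω.map β := by
      rw [Iso.comp_inv_eq, Category.assoc, Iso.eq_inv_comp]
      exact n2.symm
    have n4 : b.map ((Stk.ofPshMap (mapOf Ω)).map β) ≫ b.map (compIso Ω x').inv =
        b.map (compIso Ω x).inv ≫ b.map (Ω.map β) := by
      rw [← b.toFunctor.map_comp, ← b.toFunctor.map_comp, n3]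
    rw [← Category.assoc, n4, Category.assoc, Category.assoc]
    congr 1
  · intro x'
    have l1 := compIso_lift Ω x'
    have l2 : (Stk.ofPsh Z).p.IsHomLift (𝟙 ((Stk.ofPsh W).p.obj x')) (compIso Ω x').inv :=
      IsHomLift.lift_id_inv (Stk.ofPsh Z).p ((Stk.ofPsh W).p.obj x') (compIso Ω x')
    have l3 : ℬ.p.IsHomLift (𝟙 ((Stk.ofPsh W).p.obj x')) (b.map (compIso Ω x').inv) :=
      map_lift'' b l2
    have l4 := compApp_lift z₂ (F₀.obj (a.obj x'))
    rw [F₀.w_obj, a.w_obj] at l4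
    exact IsHomLift.comp_of_lift_id ℬ.p ((Stk.ofPsh W).p.obj x') (b.map (compIso Ω x').inv)
      (compApp z₂ (F₀.obj (a.obj x'))).hom

end Groth.Agent.Lib.Helper17.AC
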