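import Groth.Agent.S6406
import Groth.Prelude.Def_AlgSt

set_option autoImplicit false
set_option backward.isDefEq.respectTransparency false
set_option backward.isDefEq.respectTransparency.types false
universe v u

namespace Groth.Agent.Lib.Helper17.CP

open CategoryTheory CategoryTheory.Functor Opposite FibCat Stk
open Groth.Agent.Lib.Helper17 Groth.Agent.Lib.Helper17.FG Groth.Agent.S6406

variable {C : Type u} [Category.{v} C] {𝒳 : BasedCategory.{v, max u v} C}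

theorem existsUnique_cls (h𝒳 : FibCat.IsFibGrpd 𝒳.p) {V U : C} (f : V ⟶ U)
    (b : Quotient (fibSetoid h𝒳 U)) : ∃! a : Quotient (fibSetoid h𝒳 V), qRel h𝒳 f a b := by
  induction b using Quotient.inductionOn with
  | _ y =>
  obtain ⟨y', φ, hφ⟩ := exists_lift_of_eq h𝒳 y.2 f
  have hy' : 𝒳.p.obj y' = V := hl_dom hφ.toIsHomLift
  refine ⟨Quotient.mk _ ⟨y', hy'⟩, ⟨φ, hφ.toIsHomLift⟩, ?_⟩
  intro a ha
  induction a using Quotient.inductionOn with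
  | _ x =>
  obtain ⟨ψ, hψ⟩ := ha
  obtain ⟨θ, hθ, -, -⟩ := exists_factor h𝒳 f φ hφ.toIsHomLift ψ hψ
  exact Quotient.sound ⟨θ, hθ⟩

/-- restriction of classes -/
noncomputable def clsMap (h𝒳 : FibCat.IsFibGrpd 𝒳.p) {V U : C} (f : V ⟶ U)
    (b : Quotient (fibSetoid h𝒳 U)) : Quotient (fibSetoid h𝒳 V) :=
  (existsUnique_cls h𝒳 f b).choose

theorem clsMap_spec (h𝒳 : FibCat.IsFibGrpd 𝒳.p) {V U : C} (f : V ⟶ U)
    (b : Quotient (fibSetoid h𝒳 U)) : qRel h𝒳 f (clsMap h𝒳 f b) b :=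
  (existsUnique_cls h𝒳 f b).choose_spec.1

theorem clsMap_eq (h𝒳 : FibCat.IsFibGrpd 𝒳.p) {V U : C} (f : V ⟶ U)
    (b : Quotient (fibSetoid h𝒳 U)) (a : Quotient (fibSetoid h𝒳 V)) (h : qRel h𝒳 f a b) :
    clsMap h𝒳 f b = a :=
  ((existsUnique_cls h𝒳 f b).choose_spec.2 a h).symm

theorem clsMap_eq_iff (h𝒳 : FibCat.IsFibGrpd 𝒳.p) {V U : C} (f : V ⟶ U)
    (b : Quotient (fibSetoid h𝒳 U)) (a : Quotient (fibSetoid h𝒳 V)) :
    clsMap h𝒳 f b = a ↔ qRel h𝒳 f a b :=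
  ⟨fun h => h ▸ clsMap_spec h𝒳 f b, clsMap_eq h𝒳 f b a⟩

/-- the presheaf of isomorphism classes of the fibres -/
noncomputable def clsPsh (h𝒳 : FibCat.IsFibGrpd 𝒳.p) : Cᵒᵖ ⥤ Type (max u v) where
  obj U := Quotient (fibSetoid h𝒳 U.unop)
  map f := ↾fun b => clsMap h𝒳 f.unop b
  map_id U := by
    ext b
    exact clsMap_eq h𝒳 _ b b (qRel_id h𝒳 b)
  map_comp f g := by
    ext b
    exact clsMap_eq h𝒳 _ b _ (qRel_comp h𝒳 g.unop f.unop _ _ _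
      (clsMap_spec h𝒳 g.unop _) (clsMap_spec h𝒳 f.unop b))

theorem clsPsh_map (h𝒳 : FibCat.IsFibGrpd 𝒳.p) {V U : C} (f : V ⟶ U)
    (b : Quotient (fibSetoid h𝒳 U)) : (clsPsh h𝒳).map f.op b = clsMap h𝒳 f b := rfl

/-- the functor to the category of the presheaf of classes -/
noncomputable def clsFunctor (h𝒳 : FibCat.IsFibGrpd 𝒳.p) : 𝒳 ⥤ᵇ ofPsh (clsPsh h𝒳) where
  toFunctor :=
    { obj := fun x => (⟨𝒳.p.obj x, Quotient.mk _ ⟨x, rfl⟩⟩ : EltObj (clsPsh h𝒳))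
      map := fun {x y} φ => ⟨𝒳.p.map φ, by
        rw [clsPsh_map]
        exact clsMap_eq h𝒳 _ _ _ ⟨φ, inferInstance⟩⟩
      map_id := fun x => EltObj.hom_ext (𝒳.p.map_id x)
      map_comp := fun φ ψ => EltObj.hom_ext (𝒳.p.map_comp φ ψ) }
  w := rfl

theorem cls_faithful (h𝒳 : FibCat.IsFibSetoid 𝒳.p) : (clsFunctor h𝒳.1).toFunctor.Faithful := by
  constructor
  intro x y φ ψ h
  apply eq_of_same_base h𝒳
  exact congrArg (fun m => m.hom) h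

theorem cls_full (h𝒳 : FibCat.IsFibGrpd 𝒳.p) : (clsFunctor h𝒳).toFunctor.Full := by
  constructor
  intro x y m
  have h1 := m.map_sec
  change (clsPsh h𝒳).map m.hom.op (Quotient.mk _ ⟨y, rfl⟩) = Quotient.mk _ ⟨x, rfl⟩ at h1
  rw [clsPsh_map, clsMap_eq_iff] at h1
  obtain ⟨φ, hφ⟩ := h1
  refine ⟨φ, ?_⟩
  apply EltObj.hom_ext
  exact (hl_eq hφ).symm

theorem cls_essSurj_aux (h𝒳 : FibCat.IsFibGrpd 𝒳.p) (U : C) (x : 𝒳.p.Fiber U) :
    ∃ (ξ : 𝒳.obj) (e : (clsFunctor h𝒳).toFunctor.obj ξ ≅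
        (⟨U, Quotient.mk (fibSetoid h𝒳 U) x⟩ : EltObj (clsPsh h𝒳))),
      (ofPsh (clsPsh h𝒳)).p.IsHomLift (𝟙 U) e.hom := by
  obtain ⟨x₀, rfl⟩ := x
  exact ⟨x₀, Iso.refl _, IsHomLift.id rfl⟩

theorem cls_essSurj (h𝒳 : FibCat.IsFibGrpd 𝒳.p) (η : (ofPsh (clsPsh h𝒳)).obj) :
    ∃ (ξ : 𝒳.obj) (e : (clsFunctor h𝒳).toFunctor.obj ξ ≅ η),
      (ofPsh (clsPsh h𝒳)).p.IsHomLift (𝟙 ((ofPsh (clsPsh h𝒳)).p.obj η)) e.hom := by
  obtain ⟨U, c⟩ := η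
  induction c using Quotient.inductionOn with
  | _ x => exact cls_essSurj_aux h𝒳 U x

/-- a category fibred in setoids is equivalent over `C` to the category of its presheaf of classes -/
theorem cls_isEquivOver (h𝒳 : FibCat.IsFibSetoid 𝒳.p) : FibCat.IsEquivOver (clsFunctor h𝒳.1) := by
  rw [Groth.Agent.S5139.result]
  exact ⟨⟨cls_full h𝒳.1, cls_faithful h𝒳⟩, cls_essSurj h𝒳.1⟩

end Groth.Agent.Lib.Helper17.CP
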