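import Groth.Prelude.Def_AlgSt2
import Groth.Prelude.Def_FibCat2
import Groth.Prelude.Def_AlgSt
import Groth.Agent.Lib.Helper17.HomLift
import Groth.Agent.Lib.Helper17.FibEquiv
import Groth.Agent.Lib.Helper17.EquivOver

set_option autoImplicit false
universe u

namespace Groth.Agent.Lib.Helper17.AT

open CategoryTheory AlgebraicGeometry Opposite FibCat AlgSt
open Groth.Agent.Lib.Helper17 Groth.Agent.Lib.Helper17.EO

variable {S : Scheme.{u}}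

theorem eq3 {D : Type*} [Category D] {A B C' D' E : D} (h1 : A = B) (h2 : B = C') (h3 : C' = D')
    (g : D' ⟶ E) :
    eqToHom h1 ≫ (eqToHom h2 ≫ 𝟙 _ ≫ eqToHom h3) ≫ g = eqToHom (h1.trans (h2.trans h3)) ≫ g := by
  subst h1 h2 h3; simp

theorem secHom_congr {F : AlgSp.Sp S} {U : Over S} (Φ Φ' : ofSp F ⥤ᵇ FibCat.overCat U)
    (a : (ofSp F).obj) (τ : Φ.obj a ≅ Φ'.obj a)
    (hτ : (FibCat.overCat U).p.IsHomLift (𝟙 ((ofSp F).p.obj a)) τ.hom) :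
    AlgSt.secHom Φ a = AlgSt.secHom Φ' a := by
  have h1 : τ.hom.left ≫ (Φ'.obj a).hom = (Φ.obj a).hom := Over.w τ.hom
  have h2 : τ.hom.left = eqToHom (Φ.w_obj a) ≫ 𝟙 _ ≫ eqToHom (Φ'.w_obj a).symm :=
    IsHomLift.fac' (FibCat.overCat U).p (𝟙 ((ofSp F).p.obj a)) τ.hom
  unfold AlgSt.secHom
  rw [← h1, h2]
  exact eq3 _ _ _ _

theorem spMap_congr {F : AlgSp.Sp S} {U : Over S} (Φ Φ' : ofSp F ⥤ᵇ FibCat.overCat U)
    (τ : ∀ a : (ofSp F).obj, Φ.obj a ≅ Φ'.obj a)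
    (hτ : ∀ a, (FibCat.overCat U).p.IsHomLift (𝟙 ((ofSp F).p.obj a)) (τ a).hom) :
    AlgSt.spMapOfOver Φ = AlgSt.spMapOfOver Φ' := by
  apply ObjectProperty.hom_ext
  ext T x
  change (⟨AlgSt.secHom Φ ⟨T.unop, x⟩⟩ : ULift _) = ⟨AlgSt.secHom Φ' ⟨T.unop, x⟩⟩
  rw [secHom_congr Φ Φ' ⟨T.unop, x⟩ (τ _) (hτ _)]

/-- components of a 2-isomorphism over `C` -/
def compApp {C : Type*} [Category C] {𝒜 ℬ : BasedCategory C} {F G : 𝒜 ⥤ᵇ ℬ} (e : F ≅ G) (x : 𝒜.obj) :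
    F.obj x ≅ G.obj x :=
  ((BasedNatTrans.forgetful _ _).mapIso e).app x

theorem compApp_nat {C : Type*} [Category C] {𝒜 ℬ : BasedCategory C} {F G : 𝒜 ⥤ᵇ ℬ} (e : F ≅ G)
    {x x₁ : 𝒜.obj} (β : x ⟶ x₁) :
    F.map β ≫ (compApp e x₁).hom = (compApp e x).hom ≫ G.map β :=
  ((BasedNatTrans.forgetful _ _).mapIso e).hom.naturality β

theorem compApp_lift {C : Type*} [Category C] {𝒜 ℬ : BasedCategory C} {F G : 𝒜 ⥤ᵇ ℬ} (e : F ≅ G)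
    (x : 𝒜.obj) : ℬ.p.IsHomLift (𝟙 (𝒜.p.obj x)) (compApp e x).hom :=
  BasedNatTrans.app_isHomLift e.hom x

theorem transfer_fwd (P : MorphismProperty (AlgSp.Sp S)) {U : Over S} {𝒜 ℬ : AlgSt.Cat S}
    (K : 𝒜 ⥤ᵇ ℬ) (hK : FibCat.IsEquivOver K) (πA : 𝒜 ⥤ᵇ FibCat.overCat U)
    (πB : ℬ ⥤ᵇ FibCat.overCat U) (hπ : BasedFunctor.comp K πB = πA)
    (h : ∃ (F : AlgSp.Space S) (e : ofSp F.obj ⥤ᵇ 𝒜),
      FibCat.IsEquivOver e ∧ P (spMapOfOver (BasedFunctor.comp e πA))) :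
    ∃ (F : AlgSp.Space S) (e : ofSp F.obj ⥤ᵇ ℬ),
      FibCat.IsEquivOver e ∧ P (spMapOfOver (BasedFunctor.comp e πB)) := by
  subst hπ
  obtain ⟨F, e, he, hP⟩ := h
  exact ⟨F, BasedFunctor.comp e K, isEquivOver_comp e K he hK, hP⟩

theorem transfer_inv (P : MorphismProperty (AlgSp.Sp S)) {U : Over S} {𝒜 ℬ : AlgSt.Cat S}
    (K : 𝒜 ⥤ᵇ ℬ) (hK : FibCat.IsEquivOver K) (πA : 𝒜 ⥤ᵇ FibCat.overCat U)
    (πB : ℬ ⥤ᵇ FibCat.overCat U) (hπ : BasedFunctor.comp K πB = πA)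
    (h : ∃ (F : AlgSp.Space S) (e : ofSp F.obj ⥤ᵇ ℬ),
      FibCat.IsEquivOver e ∧ P (spMapOfOver (BasedFunctor.comp e πB))) :
    ∃ (F : AlgSp.Space S) (e : ofSp F.obj ⥤ᵇ 𝒜),
      FibCat.IsEquivOver e ∧ P (spMapOfOver (BasedFunctor.comp e πA)) := by
  subst hπ
  obtain ⟨G, ⟨e₁⟩, ⟨e₂⟩⟩ := id hK
  have hG : FibCat.IsEquivOver G := isEquivOver_symm K G e₁ e₂
  obtain ⟨F, e, he, hP⟩ := h
  refine ⟨F, BasedFunctor.comp e G, isEquivOver_comp e G he hG, ?_⟩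
  have key : spMapOfOver (BasedFunctor.comp (BasedFunctor.comp e G) (BasedFunctor.comp K πB)) =
      spMapOfOver (BasedFunctor.comp e πB) := by
    apply spMap_congr _ _ (fun a => πB.toFunctor.mapIso (compApp e₂ (e.obj a)))
    intro a
    have h1 := compApp_lift e₂ (e.obj a)
    rw [e.w_obj] at h1
    exact map_lift'' πB h1
  rw [key]
  exact hP

end Groth.Agent.Lib.Helper17.AT
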