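import Groth.Prelude.Def_FibCat2
import Groth.Prelude.Def_AlgSt
import Groth.Agent.Lib.Helper17.HomLift
import Groth.Agent.Lib.Helper17.EquivOver
import Groth.Agent.Lib.Helper17.AlgStTransfer

set_option autoImplicit false
set_option backward.isDefEq.respectTransparency false
set_option backward.isDefEq.respectTransparency.types false
universe w v u

namespace Groth.Agent.Lib.Helper17.PD

open CategoryTheory Opposite FibCat Stk
open Groth.Agent.Lib.Helper17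

variable {C : Type u} [Category.{v} C]

section Basic

variable {P : Cᵒᵖ ⥤ Type w}

/-- the isomorphism between two objects of `ofPsh P` with the same base and equal sections -/
def isoOfEq (T : C) (x x' : P.obj (op T)) (h : x = x') :
    (⟨T, x⟩ : EltObj P) ≅ ⟨T, x'⟩ where
  hom := ⟨𝟙 T, by subst h; simp⟩
  inv := ⟨𝟙 T, by subst h; simp⟩
  hom_inv_id := EltObj.hom_ext (Category.id_comp _)
  inv_hom_id := EltObj.hom_ext (Category.id_comp _)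

theorem isoOfEq_lift (T : C) (x x' : P.obj (op T)) (h : x = x') :
    (ofPsh P).p.IsHomLift (𝟙 T) (isoOfEq T x x' h).hom :=
  hl_of_eq (p := EltObj.forget P) (a := (⟨T, x⟩ : EltObj P)) (b := ⟨T, x'⟩) rfl

/-- a morphism of `ofPsh P` over an identity has equal sections -/
theorem sec_eq_of_lift_id {T : C} {x x' : P.obj (op T)} (m : (⟨T, x⟩ : EltObj P) ⟶ ⟨T, x'⟩)
    (hm : (ofPsh P).p.IsHomLift (𝟙 T) m) : x = x' := by
  have h1 : m.hom = 𝟙 T := by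
    have := hl_eq (p := EltObj.forget P) (a := (⟨T, x⟩ : EltObj P)) (b := ⟨T, x'⟩) hm
    exact this.symm
  have h2 := m.map_sec
  rw [h1] at h2
  simpa using h2.symm

end Basic

section MapOf

variable {H G K : Cᵒᵖ ⥤ Type w}

theorem base_eq (Φ : ofPsh H ⥤ᵇ ofPsh G) (a : EltObj H) : (Φ.obj a).base = a.base := Φ.w_obj a

/-- the section of `G` over the base of `a` determined by `Φ a` -/
def secOf (Φ : ofPsh H ⥤ᵇ ofPsh G) (a : EltObj H) : G.obj (op a.base) :=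
  G.map (eqToHom (base_eq Φ a).symm).op (Φ.obj a).sec

theorem map_map_op (G : Cᵒᵖ ⥤ Type w) {X Y Z : C} (f : X ⟶ Y) (g : Y ⟶ Z) (x : G.obj (op Z)) :
    G.map f.op (G.map g.op x) = G.map (f ≫ g).op x := by
  rw [op_comp, Functor.map_comp_apply]

theorem map_hom (Φ : ofPsh H ⥤ᵇ ofPsh G) {a' a : EltObj H} (ψ : a' ⟶ a) :
    (Φ.map ψ).hom = eqToHom (base_eq Φ a') ≫ ψ.hom ≫ eqToHom (base_eq Φ a).symm := by
  have h0 : (ofPsh H).p.IsHomLift ((ofPsh H).p.map ψ) ψ := inferInstance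
  have h : (ofPsh G).p.IsHomLift ((ofPsh H).p.map ψ) (Φ.map ψ) := EO.map_lift'' Φ h0
  exact hl_fac' h

theorem sec_aux (G : Cᵒᵖ ⥤ Type w) {T' T : C} (b' b : EltObj G) (m : b' ⟶ b) (e' : b'.base = T')
    (e : b.base = T) (t : T' ⟶ T) (hm : m.hom = eqToHom e' ≫ t ≫ eqToHom e.symm) :
    G.map t.op (G.map (eqToHom e.symm).op b.sec) = G.map (eqToHom e'.symm).op b'.sec := by
  obtain ⟨B, s⟩ := b
  obtain ⟨B', s'⟩ := b'
  dsimp at e e'
  subst e e'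
  have h1 := m.map_sec
  simp only [eqToHom_refl, Category.id_comp, Category.comp_id] at hm
  dsimp at h1 ⊢
  rw [hm] at h1
  simpa using h1

theorem secOf_comp (Φ : ofPsh H ⥤ᵇ ofPsh G) {a' a : EltObj H} (ψ : a' ⟶ a) :
    G.map ψ.hom.op (secOf Φ a) = secOf Φ a' :=
  sec_aux G (Φ.obj a') (Φ.obj a) (Φ.map ψ) (base_eq Φ a') (base_eq Φ a) ψ.hom (map_hom Φ ψ)

/-- the map of presheaves determined by a functor over `C` between the categories of two presheaves -/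
def mapOf (Φ : ofPsh H ⥤ᵇ ofPsh G) : H ⟶ G where
  app := fun T => ↾fun h => secOf Φ ⟨T.unop, h⟩
  naturality := fun T T' g => by
    ext h
    exact (secOf_comp Φ (⟨g.unop, rfl⟩ : (⟨T'.unop, H.map g h⟩ : EltObj H) ⟶ ⟨T.unop, h⟩)).symm

theorem mapOf_app (Φ : ofPsh H ⥤ᵇ ofPsh G) (T : C) (h : H.obj (op T)) :
    (mapOf Φ).app (op T) h = secOf Φ ⟨T, h⟩ := rfl

/-- an object of `ofPsh G` whose base is (propositionally) `T`, moved to base `T` -/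
def isoBase (b : EltObj G) {T : C} (e : b.base = T) :
    b ≅ (⟨T, G.map (eqToHom e.symm).op b.sec⟩ : EltObj G) where
  hom := ⟨eqToHom e, by
    obtain ⟨B, s⟩ := b
    dsimp at e
    subst e
    simp⟩
  inv := ⟨eqToHom e.symm, rfl⟩
  hom_inv_id := EltObj.hom_ext (by simp)
  inv_hom_id := EltObj.hom_ext (by simp)

theorem isoBase_lift (b : EltObj G) {T : C} (e : b.base = T) :
    (ofPsh G).p.IsHomLift (𝟙 T) (isoBase b e).hom := by
  apply IsHomLift.of_fac (ofPsh G).p (𝟙 T) (isoBase b e).hom e rfl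
  change 𝟙 T = eqToHom e.symm ≫ eqToHom e ≫ eqToHom rfl
  simp

/-- the components of the 2-isomorphism `Φ ≅ ofPshMap (mapOf Φ)` -/
def compIso (Φ : ofPsh H ⥤ᵇ ofPsh G) (a : EltObj H) :
    Φ.obj a ≅ (ofPshMap (mapOf Φ)).obj a :=
  isoBase (Φ.obj a) (base_eq Φ a)

theorem compIso_lift (Φ : ofPsh H ⥤ᵇ ofPsh G) (a : EltObj H) :
    (ofPsh G).p.IsHomLift (𝟙 ((ofPsh H).p.obj a)) (compIso Φ a).hom :=
  isoBase_lift (Φ.obj a) (base_eq Φ a)

theorem compIso_nat (Φ : ofPsh H ⥤ᵇ ofPsh G) {a' a : EltObj H} (ψ : a' ⟶ a) :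
    Φ.map ψ ≫ (compIso Φ a).hom = (compIso Φ a').hom ≫ (ofPshMap (mapOf Φ)).map ψ := by
  apply EltObj.hom_ext
  change (Φ.map ψ).hom ≫ eqToHom (base_eq Φ a) = eqToHom (base_eq Φ a') ≫ ψ.hom
  rw [map_hom]
  simp

theorem secOf_congr (Φ Φ' : ofPsh H ⥤ᵇ ofPsh G) (a : EltObj H) (τ : Φ.obj a ≅ Φ'.obj a)
    (hτ : (ofPsh G).p.IsHomLift (𝟙 a.base) τ.hom) : secOf Φ a = secOf Φ' a := by
  have h1 : τ.hom.hom = eqToHom (base_eq Φ a) ≫ 𝟙 _ ≫ eqToHom (base_eq Φ' a).symm := hl_fac' hτ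
  have h2 := sec_aux G (Φ.obj a) (Φ'.obj a) τ.hom (base_eq Φ a) (base_eq Φ' a) (𝟙 _) h1
  unfold secOf
  rw [← h2]
  simp

theorem mapOf_congr (Φ Φ' : ofPsh H ⥤ᵇ ofPsh G) (τ : ∀ a : EltObj H, Φ.obj a ≅ Φ'.obj a)
    (hτ : ∀ a : EltObj H, (ofPsh G).p.IsHomLift (𝟙 a.base) (τ a).hom) :
    mapOf Φ = mapOf Φ' := by
  ext T h
  exact secOf_congr Φ Φ' ⟨T.unop, h⟩ (τ _) (hτ _)

theorem mapOf_ofPshMap (a : H ⟶ G) : mapOf (ofPshMap a) = a := by
  ext T h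
  change G.map (eqToHom rfl).op (a.app _ h) = a.app T h
  simp

theorem mapOf_id : mapOf (BasedFunctor.id (ofPsh H)) = 𝟙 H := by
  ext T h
  change H.map (eqToHom rfl).op h = h
  simp

theorem mapOf_comp (Φ : ofPsh H ⥤ᵇ ofPsh G) (Ψ : ofPsh G ⥤ᵇ ofPsh K) :
    mapOf (BasedFunctor.comp Φ Ψ) = mapOf Φ ≫ mapOf Ψ := by
  ext T h
  have h1 := secOf_comp Ψ (compIso Φ ⟨T.unop, h⟩).inv
  change secOf (BasedFunctor.comp Φ Ψ) ⟨T.unop, h⟩ = secOf Ψ ⟨T.unop, secOf Φ ⟨T.unop, h⟩⟩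
  refine Eq.trans ?_ h1
  unfold secOf
  change K.map _ _ = K.map (eqToHom (base_eq Φ ⟨T.unop, h⟩).symm).op
    (K.map (eqToHom (base_eq Ψ (Φ.obj ⟨T.unop, h⟩)).symm).op (Ψ.obj (Φ.obj ⟨T.unop, h⟩)).sec)
  rw [map_map_op]
  simp
  rfl

theorem mapOf_hom_inv (Φ : ofPsh H ⥤ᵇ ofPsh G) (Ψ : ofPsh G ⥤ᵇ ofPsh H)
    (e₁ : BasedFunctor.comp Φ Ψ ≅ BasedFunctor.id _) : mapOf Φ ≫ mapOf Ψ = 𝟙 H := by
  rw [← mapOf_comp, ← mapOf_id]
  exact mapOf_congr _ _ (fun a => AT.compApp e₁ a) (fun a => AT.compApp_lift e₁ a)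

/-- an equivalence over `C` between the categories of two presheaves induces an isomorphism of
presheaves -/
theorem isIso_mapOf (Φ : ofPsh H ⥤ᵇ ofPsh G) (hΦ : FibCat.IsEquivOver Φ) : IsIso (mapOf Φ) := by
  obtain ⟨Ψ, ⟨e₁⟩, ⟨e₂⟩⟩ := hΦ
  exact ⟨mapOf Ψ, mapOf_hom_inv Φ Ψ e₁, mapOf_hom_inv Ψ Φ e₂⟩

end MapOf

end Groth.Agent.Lib.Helper17.PD
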