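import Groth.Prelude.Def_AlgSt
import Groth.Prelude.Def_FibCat2
import Mathlib.CategoryTheory.Sites.SheafOfTypes

set_option autoImplicit false
set_option backward.isDefEq.respectTransparency false
set_option backward.isDefEq.respectTransparency.types false
universe w v u v₂ u₂

namespace Groth.Agent.Lib.Helper17.PSK

open CategoryTheory Opposite Stk

variable {C : Type u} [Category.{v} C] {P : Cᵒᵖ ⥤ Type w}

theorem pmap_comp {X Y Z : Cᵒᵖ} (f : X ⟶ Y) (g : Y ⟶ Z) (x : P.obj X) :
    P.map g (P.map f x) = P.map (f ≫ g) x := by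
  rw [P.map_comp]
  rfl

theorem pmap_id {X : Cᵒᵖ} (x : P.obj X) : P.map (𝟙 X) x = x := by
  rw [P.map_id]
  rfl

theorem pmap_congr {X Y : Cᵒᵖ} {f g : X ⟶ Y} (h : f = g) (x : P.obj X) : P.map f x = P.map g x := by
  rw [h]

section Sections

variable {𝒜 : BasedCategory.{v₂, u₂} C}

/-- the base object of the image is the base object -/
theorem base_eq (G : 𝒜 ⥤ᵇ Stk.ofPsh P) (a : 𝒜.obj) : (G.obj a).base = 𝒜.p.obj a :=
  G.w_obj a

/-- the section of a functor to `ofPsh P` at an object -/
def secAt (G : 𝒜 ⥤ᵇ Stk.ofPsh P) (a : 𝒜.obj) : P.obj (op (𝒜.p.obj a)) :=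
  P.map (eqToHom (base_eq G a).symm).op (G.obj a).sec

theorem map_hom (G : 𝒜 ⥤ᵇ Stk.ofPsh P) {a b : 𝒜.obj} (f : a ⟶ b) :
    (G.map f).hom = eqToHom (base_eq G a) ≫ 𝒜.p.map f ≫ eqToHom (base_eq G b).symm :=
  Functor.congr_hom G.w f

theorem secAt_map (G : 𝒜 ⥤ᵇ Stk.ofPsh P) {a b : 𝒜.obj} (f : a ⟶ b) :
    P.map (𝒜.p.map f).op (secAt G b) = secAt G a := by
  unfold secAt
  rw [← (G.map f).map_sec, pmap_comp, pmap_comp, ← op_comp, ← op_comp]
  apply pmap_congr
  rw [map_hom]
  simp

theorem app_hom {G G' : 𝒜 ⥤ᵇ Stk.ofPsh P} (α : G ⟶ G') (a : 𝒜.obj) :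
    (α.toNatTrans.app a).hom = eqToHom ((base_eq G a).trans (base_eq G' a).symm) := by
  have := α.isHomLift' a
  have h := IsHomLift.fac' (Stk.ofPsh P).p (𝟙 (𝒜.p.obj a)) (α.toNatTrans.app a)
  change (α.toNatTrans.app a).hom = _ at h
  rw [h, Category.id_comp]
  exact eqToHom_trans _ _

/-- functors to `ofPsh P` have at most one 2-morphism between them -/
theorem hom_subsingleton (G G' : 𝒜 ⥤ᵇ Stk.ofPsh P) (α β : G ⟶ G') : α = β := by
  apply BasedNatTrans.homCategory.ext
  apply NatTrans.ext
  funext a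
  apply EltObj.hom_ext
  rw [app_hom, app_hom]

theorem secAt_eq_of_hom {G G' : 𝒜 ⥤ᵇ Stk.ofPsh P} (α : G ⟶ G') (a : 𝒜.obj) :
    secAt G a = secAt G' a := by
  unfold secAt
  rw [← (α.toNatTrans.app a).map_sec, pmap_comp, ← op_comp]
  apply pmap_congr
  rw [app_hom]
  simp

/-- the component of the 2-morphism from equality of sections -/
def appOf {G G' : 𝒜 ⥤ᵇ Stk.ofPsh P} (a : 𝒜.obj) (h : secAt G a = secAt G' a) :
    G.obj a ⟶ G'.obj a :=
  ⟨eqToHom ((base_eq G a).trans (base_eq G' a).symm), by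
    have h1 := congrArg (P.map (eqToHom (base_eq G a)).op) h
    unfold secAt at h1
    rw [pmap_comp, pmap_comp, ← op_comp, ← op_comp] at h1
    simp only [eqToHom_trans, eqToHom_refl, op_id] at h1
    rw [pmap_id] at h1
    exact h1.symm⟩

theorem appOf_hom {G G' : 𝒜 ⥤ᵇ Stk.ofPsh P} (a : 𝒜.obj) (h : secAt G a = secAt G' a) :
    (appOf a h).hom = eqToHom ((base_eq G a).trans (base_eq G' a).symm) := rfl

/-- a 2-morphism from equality of sections -/
def homOfSecAt {G G' : 𝒜 ⥤ᵇ Stk.ofPsh P} (h : ∀ a, secAt G a = secAt G' a) : G ⟶ G' where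
  toNatTrans :=
    { app := fun a => appOf a (h a)
      naturality := fun a b f => by
        apply EltObj.hom_ext
        rw [EltObj.comp_hom, EltObj.comp_hom, appOf_hom, appOf_hom]
        rw [map_hom, map_hom]
        simp }
  isHomLift' := fun a => by
    apply IsHomLift.of_fac' (Stk.ofPsh P).p _ _ (base_eq G a) (base_eq G' a)
    change (appOf a (h a)).hom = _
    rw [appOf_hom, Category.id_comp]
    exact (eqToHom_trans _ _).symm

/-- an isomorphism from equality of sections -/
def isoOfSecAt {G G' : 𝒜 ⥤ᵇ Stk.ofPsh P} (h : ∀ a, secAt G a = secAt G' a) : G ≅ G' where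
  hom := homOfSecAt h
  inv := homOfSecAt (fun a => (h a).symm)
  hom_inv_id := hom_subsingleton _ _ _ _
  inv_hom_id := hom_subsingleton _ _ _ _

end Sections

theorem pmap_eqToHom_rfl {X : C} (h : X = X) (x : P.obj (op X)) : P.map (eqToHom h).op x = x := by
  rw [eqToHom_refl, op_id, pmap_id]

section Yoneda

variable {U : C}

/-- the functor `C/U ⟶ ofPsh P` of a section over `U` -/
def yo (s : P.obj (op U)) : FibCat.overCat U ⥤ᵇ Stk.ofPsh P where
  toFunctor :=
    { obj := fun a => ⟨a.left, P.map a.hom.op s⟩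
      map := fun {a b} φ => ⟨φ.left, by
        change P.map φ.left.op (P.map b.hom.op s) = P.map a.hom.op s
        rw [pmap_comp, ← op_comp, Over.w]⟩
      map_id := fun a => EltObj.hom_ext rfl
      map_comp := fun f g => EltObj.hom_ext rfl }
  w := rfl

theorem secAt_yo (s : P.obj (op U)) (a : Over U) :
    secAt (yo s) a = P.map a.hom.op s :=
  pmap_eqToHom_rfl _ _

/-- the morphism to the terminal object of the slice -/
def toT (a : Over U) : a ⟶ Over.mk (𝟙 U) := Over.homMk a.hom (by simp)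

/-- the section of a functor from the slice at the terminal object -/
def secT (G : FibCat.overCat U ⥤ᵇ Stk.ofPsh P) : P.obj (op U) :=
  secAt G (Over.mk (𝟙 U))

theorem secAt_eq_pull (G : FibCat.overCat U ⥤ᵇ Stk.ofPsh P) (a : Over U) :
    secAt G a = P.map a.hom.op (secT G) :=
  (secAt_map G (toT a)).symm

theorem secT_yo (s : P.obj (op U)) : secT (yo s) = s := by
  unfold secT
  rw [secAt_yo]
  exact pmap_id s

variable (R : Sieve U)

theorem secAt_incl (G : FibCat.overCat U ⥤ᵇ Stk.ofPsh P) (x : (Stk.sieveCat R).obj) :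
    secAt (BasedFunctor.comp (Stk.sieveIncl R) G) x = secAt G x.obj := rfl

/-- the family of sections of a functor from a sieve -/
def fam (H : Stk.sieveCat R ⥤ᵇ Stk.ofPsh P) : Presieve.FamilyOfElements P R.arrows :=
  fun _ f hf => secAt H ⟨Over.mk f, hf⟩

theorem fam_compatible (H : Stk.sieveCat R ⥤ᵇ Stk.ofPsh P) : (fam R H).Compatible := by
  rw [Presieve.compatible_iff_sieveCompatible]
  intro Y Z f g hf
  let a : (Stk.sieveCat R).obj := ⟨Over.mk (g ≫ f), R.downward_closed hf g⟩
  let b : (Stk.sieveCat R).obj := ⟨Over.mk f, hf⟩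
  let φ : a ⟶ b := ObjectProperty.homMk (Over.homMk g rfl)
  exact (secAt_map H φ).symm

theorem fam_congr (x : Presieve.FamilyOfElements P R.arrows) {V : C} {f f' : V ⟶ U} (h : f = f')
    (hf : R f) (hf' : R f') : x f hf = x f' hf' := by
  subst h
  rfl

/-- the functor from the sieve of a compatible family -/
def ofFam (x : Presieve.FamilyOfElements P R.arrows) (hx : x.Compatible) :
    Stk.sieveCat R ⥤ᵇ Stk.ofPsh P where
  toFunctor :=
    { obj := fun a => ⟨a.obj.left, x a.obj.hom a.property⟩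
      map := fun {a b} φ => ⟨φ.hom.left, by
        change P.map φ.hom.left.op (x b.obj.hom b.property) = x a.obj.hom a.property
        rw [← (Presieve.compatible_iff_sieveCompatible x).mp hx b.obj.hom φ.hom.left b.property]
        exact fam_congr R x (Over.w φ.hom) _ _⟩
      map_id := fun a => EltObj.hom_ext rfl
      map_comp := fun f g => EltObj.hom_ext rfl }
  w := rfl

theorem secAt_ofFam (x : Presieve.FamilyOfElements P R.arrows) (hx : x.Compatible)
    (a : (Stk.sieveCat R).obj) : secAt (ofFam R x hx) a = x a.obj.hom a.property :=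
  pmap_eqToHom_rfl _ _

end Yoneda

/-- **the category of a presheaf is a stack iff the presheaf is a sheaf** -/
theorem isStack_ofPsh_iff (J : GrothendieckTopology C) (P : Cᵒᵖ ⥤ Type w) :
    Stk.IsStack J (Stk.ofPsh P) ↔ Presieve.IsSheaf J P := by
  constructor
  · rintro ⟨-, hS⟩ U R hR
    have hE : (Stk.resSieve R (Stk.ofPsh P)).IsEquivalence := hS R hR
    rw [← Presieve.isSeparatedFor_and_exists_isAmalgamation_iff_isSheafFor]
    constructor
    · intro x t₁ t₂ h₁ h₂
      have hfull : (Stk.resSieve R (Stk.ofPsh P)).Full := hE.full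
      let β : BasedFunctor.comp (Stk.sieveIncl R) (yo t₁) ⟶
          BasedFunctor.comp (Stk.sieveIncl R) (yo t₂) :=
        homOfSecAt (fun a => by
          rw [secAt_incl, secAt_incl, secAt_yo, secAt_yo]
          exact (h₁ a.obj.hom a.property).trans (h₂ a.obj.hom a.property).symm)
      obtain ⟨α, -⟩ := (Stk.resSieve R (Stk.ofPsh P)).map_surjective β
      have := secAt_eq_of_hom α (Over.mk (𝟙 U))
      change secT (yo t₁) = secT (yo t₂) at this
      rwa [secT_yo, secT_yo] at this
    · intro x hx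
      have hess : (Stk.resSieve R (Stk.ofPsh P)).EssSurj := hE.essSurj
      obtain ⟨G, ⟨e⟩⟩ := hess.mem_essImage (ofFam R x hx)
      refine ⟨secT G, fun V f hf => ?_⟩
      have h1 := secAt_eq_pull G (Over.mk f)
      have h2 := secAt_eq_of_hom e.hom ⟨Over.mk f, hf⟩
      change secAt (BasedFunctor.comp (Stk.sieveIncl R) G) ⟨Over.mk f, hf⟩ = _ at h2
      rw [secAt_incl, secAt_ofFam] at h2
      exact h1.symm.trans h2
  · intro hP
    refine ⟨Stk.isFibGrpd_ofPsh P, fun U R hR => ?_⟩
    have hsh : Presieve.IsSheafFor P R.arrows := hP R hR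
    have hfaith : (Stk.resSieve R (Stk.ofPsh P)).Faithful :=
      ⟨fun {G G'} α β _ => hom_subsingleton _ _ α β⟩
    have hfull : (Stk.resSieve R (Stk.ofPsh P)).Full := by
      refine ⟨fun {G G'} β => ?_⟩
      have hT : secT G = secT G' := by
        apply hsh.isSeparatedFor.ext
        intro V f hf
        have h1 := secAt_eq_pull G (Over.mk f)
        have h1' := secAt_eq_pull G' (Over.mk f)
        have h2 := secAt_eq_of_hom β ⟨Over.mk f, hf⟩
        change secAt (BasedFunctor.comp (Stk.sieveIncl R) G) ⟨Over.mk f, hf⟩ =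
          secAt (BasedFunctor.comp (Stk.sieveIncl R) G') ⟨Over.mk f, hf⟩ at h2
        rw [secAt_incl, secAt_incl] at h2
        exact h1.symm.trans (h2.trans h1')
      refine ⟨homOfSecAt (fun a => ?_), hom_subsingleton _ _ _ _⟩
      rw [secAt_eq_pull G a, secAt_eq_pull G' a, hT]
    have hess : (Stk.resSieve R (Stk.ofPsh P)).EssSurj := by
      refine ⟨fun H => ?_⟩
      let s := hsh.amalgamate (fam R H) (fam_compatible R H)
      refine ⟨yo s, ⟨isoOfSecAt (fun a => ?_)⟩⟩
      change secAt (BasedFunctor.comp (Stk.sieveIncl R) (yo s)) a = secAt H a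
      rw [secAt_incl, secAt_yo]
      exact hsh.valid_glue (fam_compatible R H) a.obj.hom a.property
    exact { }

end Groth.Agent.Lib.Helper17.PSK
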