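import Groth.Prelude.Def_FibCat2
import Groth.Prelude.Def_AlgSt
import Groth.Agent.Lib.Helper17.HomLift
import Groth.Agent.Lib.Helper17.EquivOver
import Groth.Agent.S5139

set_option autoImplicit false
universe w v₂ u₂ v u

namespace Groth.Agent.Lib.Helper17.TH

open CategoryTheory CategoryTheory.Functor FibCat
open Groth.Agent.Lib.Helper17 Groth.Agent.Lib.Helper17.EO

/-- morphisms over identities are determined: the "thin fibres" condition, unbundled -/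
def ThinOver {C : Type u} [Category.{v} C] (𝒜 : BasedCategory.{v₂, u₂} C) : Prop :=
  ∀ (U : C) {a b : 𝒜.obj} (φ ψ : a ⟶ b), 𝒜.p.IsHomLift (𝟙 U) φ → 𝒜.p.IsHomLift (𝟙 U) ψ → φ = ψ

theorem thinOver_iff {C : Type u} [Category.{v} C] (𝒜 : BasedCategory.{v₂, u₂} C) :
    ThinOver 𝒜 ↔ ∀ U : C, Quiver.IsThin (𝒜.p.Fiber U) := by
  constructor
  · intro h U a b
    constructor
    intro φ ψ
    apply Functor.Fiber.hom_ext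
    exact h U _ _ φ.2 ψ.2
  · intro h U a b φ ψ hφ hψ
    let X : 𝒜.p.Fiber U := ⟨a, hl_dom hφ⟩
    let Y : 𝒜.p.Fiber U := ⟨b, hl_cod hφ⟩
    let m₁ : X ⟶ Y := ⟨φ, hφ⟩
    let m₂ : X ⟶ Y := ⟨ψ, hψ⟩
    have : m₁ = m₂ := (h U X Y).elim _ _
    exact congrArg Subtype.val this

theorem thinOver_of_equiv {C : Type u} [Category.{v} C] {𝒜 ℬ : BasedCategory.{v₂, u₂} C}
    (e : 𝒜 ⥤ᵇ ℬ) (he : FibCat.IsEquivOver e) (h : ThinOver 𝒜) : ThinOver ℬ := by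
  obtain ⟨⟨hfull, hfaith⟩, hess⟩ := (Groth.Agent.S5139.result e).mp he
  intro U a b φ ψ hφ hψ
  obtain ⟨ξa, ia, hia⟩ := hess a
  obtain ⟨ξb, ib, hib⟩ := hess b
  have ha : ℬ.p.obj a = U := hl_dom hφ
  have hb : ℬ.p.obj b = U := hl_cod hφ
  rw [ha] at hia
  rw [hb] at hib
  have hibinv : ℬ.p.IsHomLift (𝟙 U) ib.inv := inferInstance
  have h1 : ℬ.p.IsHomLift (𝟙 U) (ia.hom ≫ φ ≫ ib.inv) := by
    have : ℬ.p.IsHomLift (𝟙 U) (φ ≫ ib.inv) := IsHomLift.comp_of_lift_id ℬ.p U φ ib.inv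
    exact IsHomLift.comp_of_lift_id ℬ.p U ia.hom (φ ≫ ib.inv)
  have h2 : ℬ.p.IsHomLift (𝟙 U) (ia.hom ≫ ψ ≫ ib.inv) := by
    have : ℬ.p.IsHomLift (𝟙 U) (ψ ≫ ib.inv) := IsHomLift.comp_of_lift_id ℬ.p U ψ ib.inv
    exact IsHomLift.comp_of_lift_id ℬ.p U ia.hom (ψ ≫ ib.inv)
  obtain ⟨φ₀, hφ₀⟩ := hfull.map_surjective (ia.hom ≫ φ ≫ ib.inv)
  obtain ⟨ψ₀, hψ₀⟩ := hfull.map_surjective (ia.hom ≫ ψ ≫ ib.inv)
  rw [← hφ₀] at h1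
  rw [← hψ₀] at h2
  have h3 : 𝒜.p.IsHomLift (𝟙 U) φ₀ := (BasedFunctor.isHomLift_iff e (𝟙 U) φ₀).mp h1
  have h4 : 𝒜.p.IsHomLift (𝟙 U) ψ₀ := (BasedFunctor.isHomLift_iff e (𝟙 U) ψ₀).mp h2
  have h5 : φ₀ = ψ₀ := h U φ₀ ψ₀ h3 h4
  have h6 : ia.hom ≫ φ ≫ ib.inv = ia.hom ≫ ψ ≫ ib.inv := by rw [← hφ₀, ← hψ₀, h5]
  have h7 := (cancel_epi ia.hom).mp h6
  exact (cancel_mono ib.inv).mp h7

theorem thinOver_ofPsh {C : Type u} [Category.{v} C] (P : Cᵒᵖ ⥤ Type w) :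
    ThinOver (Stk.ofPsh P) := by
  intro U a b φ ψ hφ hψ
  apply Stk.EltObj.hom_ext
  have h1 := hl_fac' hφ
  have h2 := hl_fac' hψ
  exact h1.trans h2.symm

end Groth.Agent.Lib.Helper17.TH
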