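import Groth.Prelude.Def_AlgSpRep
import Groth.Agent.S9875
import Mathlib.CategoryTheory.Sites.Limits

set_option autoImplicit false
universe u

namespace Groth.Agent.Lib.Helper17.AR

open CategoryTheory CategoryTheory.Limits AlgebraicGeometry Opposite

variable {S : Scheme.{u}}

/-- every map between algebraic spaces is representable by algebraic spaces -/
theorem repBySp_of_algSpaces (F G : AlgSp.Space S) (a : F.obj.obj ⟶ G.obj.obj) :
    AlgSp.RepBySp a := by
  intro U ξ F' fst snd sq
  obtain ⟨hpb, hpres⟩ := Groth.Agent.S9875.result S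
  let Y : AlgSp.Space S := (AlgSp.ofScheme S).obj U
  let a' : F ⟶ G := ObjectProperty.homMk (ObjectProperty.homMk a)
  let ξ' : Y ⟶ G := ObjectProperty.homMk (ObjectProperty.homMk ξ)
  have sq0 : IsPullback (pullback.fst a' ξ') (pullback.snd a' ξ') a' ξ' :=
    IsPullback.of_hasPullback a' ξ'
  have sq1 := sq0.map (ObjectProperty.ι (AlgSp.IsAlgSpace (S := S)))
  have sq2 := sq1.map (sheafToPresheaf (AlgSp.J S) (Type (u + 1)))
  let e : F' ≅ (pullback a' ξ').obj.obj := sq.isoIsPullback _ _ sq2
  exact AlgSp.IsAlgSpaceP.of_iso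
    ((AlgSp.isAlgSpaceP_obj_iff (pullback a' ξ').obj).mpr (pullback a' ξ').property) e.symm

end Groth.Agent.Lib.Helper17.AR
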