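import Groth.Agent.Lib.Helper17.PshDict
import Groth.Agent.Lib.Helper17.FibProd
import Groth.Agent.Lib.Helper17.DiagRep
import Groth.Agent.S5139

set_option autoImplicit false
set_option backward.isDefEq.respectTransparency false
set_option backward.isDefEq.respectTransparency.types false
universe v u

namespace Groth.Agent.Lib.Helper17.PF

open CategoryTheory Opposite FibCat Stk
open Groth.Agent.Lib.Helper17 Groth.Agent.Lib.Helper17.PD Groth.Agent.Lib.Helper17.FP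

variable {C : Type u} [Category.{v} C] {F G H F' : Cᵒᵖ ⥤ Type (max u v)}
  (a : F ⟶ G) (ξ : H ⟶ G) (fst : F' ⟶ F) (snd : F' ⟶ H)
  (comm : ∀ (T : Cᵒᵖ) (s : F'.obj T), ξ.app T (snd.app T s) = a.app T (fst.app T s))

/-- objects: `(T, s) ↦ ((T, snd s), (T, fst s), id)` -/
def EObj (comm : ∀ (T : Cᵒᵖ) (s : F'.obj T), ξ.app T (snd.app T s) = a.app T (fst.app T s))
    (x : EltObj F') : (fp (ofPshMap ξ) (ofPshMap a)).obj :=
  mkObj (F := ofPshMap ξ) (G := ofPshMap a) (⟨x.base, snd.app _ x.sec⟩ : EltObj H)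
    (⟨x.base, fst.app _ x.sec⟩ : EltObj F)
    (isoOfEq x.base _ _ (comm _ x.sec)) (isoOfEq_lift x.base _ _ (comm _ x.sec))

def EMap (comm : ∀ (T : Cᵒᵖ) (s : F'.obj T), ξ.app T (snd.app T s) = a.app T (fst.app T s))
    {x x' : EltObj F'} (k : x ⟶ x') : EObj a ξ fst snd comm x ⟶ EObj a ξ fst snd comm x' :=
  mkHom (z := EObj a ξ fst snd comm x) (z' := EObj a ξ fst snd comm x')
    (⟨k.hom, by
      change H.map k.hom.op (snd.app _ x'.sec) = snd.app _ x.sec
      rw [← NatTrans.naturality_apply, k.map_sec]⟩ :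
      (⟨x.base, snd.app _ x.sec⟩ : EltObj H) ⟶ ⟨x'.base, snd.app _ x'.sec⟩)
    (⟨k.hom, by
      change F.map k.hom.op (fst.app _ x'.sec) = fst.app _ x.sec
      rw [← NatTrans.naturality_apply, k.map_sec]⟩ :
      (⟨x.base, fst.app _ x.sec⟩ : EltObj F) ⟶ ⟨x'.base, fst.app _ x'.sec⟩)
    (by
      apply EltObj.hom_ext
      exact (Category.comp_id _).trans (Category.id_comp _).symm)

/-- the comparison functor from the category of a fibre product of presheaves to the 2-fibre product -/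
def E : ofPsh F' ⥤ᵇ fp (ofPshMap ξ) (ofPshMap a) where
  toFunctor :=
    { obj := EObj a ξ fst snd comm
      map := EMap a ξ fst snd comm
      map_id := fun x => by
        apply hom_ext
        · rfl
        · rfl
      map_comp := fun k k' => by
        apply hom_ext
        · rfl
        · rfl }
  w := rfl

theorem E_fst : BasedFunctor.comp (E a ξ fst snd comm) (fpFst (ofPshMap ξ) (ofPshMap a)) =
    ofPshMap snd := DR.basedFunctor_ext rfl

theorem E_snd : BasedFunctor.comp (E a ξ fst snd comm) (fpSnd (ofPshMap ξ) (ofPshMap a)) =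
    ofPshMap fst := DR.basedFunctor_ext rfl

theorem E_faithful : (E a ξ fst snd comm).toFunctor.Faithful := by
  constructor
  intro x x' k k' h
  apply EltObj.hom_ext
  exact congrArg (fun m => m.hom.fst.hom) h

theorem E_full
    (inj : ∀ (T : Cᵒᵖ) (s s' : F'.obj T), fst.app T s = fst.app T s' → snd.app T s = snd.app T s' →
      s = s') : (E a ξ fst snd comm).toFunctor.Full := by
  constructor
  intro x x' m
  obtain ⟨t, ht⟩ : ∃ t : x.base ⟶ x'.base, t = m.hom.fst.hom := ⟨_, rfl⟩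
  obtain ⟨t₂, ht₂⟩ : ∃ t₂ : x.base ⟶ x'.base, t₂ = m.hom.snd.hom := ⟨_, rfl⟩
  have hw := congrArg (fun q => q.hom) m.hom.w
  change m.hom.fst.hom ≫ 𝟙 _ = 𝟙 _ ≫ m.hom.snd.hom at hw
  rw [Category.comp_id, Category.id_comp, ← ht, ← ht₂] at hw
  have h1 : H.map t.op (snd.app _ x'.sec) = snd.app _ x.sec := by
    rw [ht]; exact m.hom.fst.map_sec
  have h2 : F.map t.op (fst.app _ x'.sec) = fst.app _ x.sec := by
    rw [hw, ht₂]; exact m.hom.snd.map_sec
  have h3 : F'.map t.op x'.sec = x.sec := by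
    apply inj
    · rw [NatTrans.naturality_apply, h2]
    · rw [NatTrans.naturality_apply, h1]
  refine ⟨⟨t, h3⟩, ?_⟩
  apply hom_ext
  · apply EltObj.hom_ext
    exact ht
  · apply EltObj.hom_ext
    exact hw.trans ht₂

theorem E_essSurj
    (surj : ∀ (T : Cᵒᵖ) (x : F.obj T) (h : H.obj T), ξ.app T h = a.app T x →
      ∃ s : F'.obj T, fst.app T s = x ∧ snd.app T s = h)
    (η : (fp (ofPshMap ξ) (ofPshMap a)).obj) :
    ∃ (x : EltObj F') (e : (E a ξ fst snd comm).toFunctor.obj x ≅ η),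
      (fp (ofPshMap ξ) (ofPshMap a)).p.IsHomLift
        (𝟙 ((fp (ofPshMap ξ) (ofPshMap a)).p.obj η)) e.hom := by
  obtain ⟨⟨⟨T₁, h⟩, ⟨T₂, x⟩, θ⟩, hθ⟩ := η
  have hθ' : (ofPsh G).p.IsHomLift (𝟙 T₁) θ.hom := hθ
  have e₂ : T₂ = T₁ := hl_cod hθ'
  subst e₂
  have hsec : ξ.app _ h = a.app _ x := sec_eq_of_lift_id θ.hom hθ'
  obtain ⟨s, hs1, hs2⟩ := surj _ x h hsec
  have hθhom : θ.hom.hom = 𝟙 T₂ := by
    have := hl_eq (p := EltObj.forget G) (a := (⟨T₂, ξ.app _ h⟩ : EltObj G))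
      (b := (⟨T₂, a.app _ x⟩ : EltObj G)) hθ'
    exact this.symm
  refine ⟨⟨T₂, s⟩, mkIso (z := EObj a ξ fst snd comm ⟨T₂, s⟩)
    (z' := (⟨⟨⟨T₂, h⟩, ⟨T₂, x⟩, θ⟩, hθ⟩ : (fp (ofPshMap ξ) (ofPshMap a)).obj))
    (isoOfEq T₂ _ _ hs2) (isoOfEq T₂ _ _ hs1) ?_, ?_⟩
  · apply EltObj.hom_ext
    change 𝟙 T₂ ≫ θ.hom.hom = 𝟙 T₂ ≫ 𝟙 T₂
    rw [hθhom]
  · rw [isHomLift_iff_fst]
    exact isoOfEq_lift T₂ _ _ hs2

theorem E_isEquivOver
    (inj : ∀ (T : Cᵒᵖ) (s s' : F'.obj T), fst.app T s = fst.app T s' → snd.app T s = snd.app T s' →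
      s = s')
    (surj : ∀ (T : Cᵒᵖ) (x : F.obj T) (h : H.obj T), ξ.app T h = a.app T x →
      ∃ s : F'.obj T, fst.app T s = x ∧ snd.app T s = h) :
    FibCat.IsEquivOver (E a ξ fst snd comm) := by
  rw [Groth.Agent.S5139.result]
  exact ⟨⟨E_full a ξ fst snd comm inj, E_faithful a ξ fst snd comm⟩,
    E_essSurj a ξ fst snd comm surj⟩

end Groth.Agent.Lib.Helper17.PF
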