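import Mathlib.CategoryTheory.Limits.Types.Pullbacks
import Mathlib.CategoryTheory.Limits.FunctorCategory.Basic
import Mathlib.CategoryTheory.Limits.Shapes.Pullback.IsPullback.Basic
import Mathlib.CategoryTheory.Limits.Types.Limits

set_option autoImplicit false
universe w v u

namespace Groth.Agent.Lib.Helper17.PP

open CategoryTheory CategoryTheory.Limits Opposite

variable {C : Type u} [Category.{v} C] {F G H F' : C ⥤ Type w}
  {a : F ⟶ G} {ξ : H ⟶ G} {fst : F' ⟶ F} {snd : F' ⟶ H}

theorem app_isPullback (sq : IsPullback fst snd a ξ) (T : C) :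
    IsPullback (fst.app T) (snd.app T) (a.app T) (ξ.app T) :=
  sq.map ((evaluation C (Type w)).obj T)

theorem comm_of_isPullback (sq : IsPullback fst snd a ξ) (T : C) (s : F'.obj T) :
    ξ.app T (snd.app T s) = a.app T (fst.app T s) := by
  have h := (app_isPullback sq T).w
  exact (ConcreteCategory.congr_hom h s).symm

theorem inj_of_isPullback (sq : IsPullback fst snd a ξ) (T : C) (s s' : F'.obj T)
    (h1 : fst.app T s = fst.app T s') (h2 : snd.app T s = snd.app T s') : s = s' :=
  Types.ext_of_isPullback (app_isPullback sq T) h1 h2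

theorem surj_of_isPullback (sq : IsPullback fst snd a ξ) (T : C) (x : F.obj T) (h : H.obj T)
    (hx : ξ.app T h = a.app T x) : ∃ s : F'.obj T, fst.app T s = x ∧ snd.app T s = h :=
  Types.exists_of_isPullback (app_isPullback sq T) x h hx.symm

end Groth.Agent.Lib.Helper17.PP
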