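import Groth.Prelude.Def_AlgSt2
import Groth.Prelude.Def_AlgSpRep
import Groth.Agent.Lib.Helper17.PshDict
import Groth.Agent.Lib.Helper17.PshFp
import Groth.Agent.Lib.Helper17.PshPullback
import Groth.Agent.Lib.Helper17.FpInvariance
import Groth.Agent.Lib.Helper17.AlgStTransfer

set_option autoImplicit false
set_option backward.isDefEq.respectTransparency false
set_option backward.isDefEq.respectTransparency.types false
universe u

namespace Groth.Agent.Lib.Helper17.AD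

open CategoryTheory CategoryTheory.Limits AlgebraicGeometry Opposite FibCat Stk AlgSt
open Groth.Agent.Lib.Helper17 Groth.Agent.Lib.Helper17.PD Groth.Agent.Lib.Helper17.PF
  Groth.Agent.Lib.Helper17.PP Groth.Agent.Lib.Helper17.FI Groth.Agent.Lib.Helper17.EO
  Groth.Agent.Lib.Helper17.AT

variable {S : Scheme.{u}}

theorem ofOverCat_toOverCat (U : Over S) :
    BasedFunctor.comp (ofOverCat U) (toOverCat U) = BasedFunctor.id _ := DR.basedFunctor_ext rfl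

theorem toOverCat_ofOverCat (U : Over S) :
    BasedFunctor.comp (toOverCat U) (ofOverCat U) = BasedFunctor.id _ := DR.basedFunctor_ext rfl

theorem ofOverCat_isEquivOver (U : Over S) : FibCat.IsEquivOver (ofOverCat U) :=
  ⟨toOverCat U, ⟨eqToIso (ofOverCat_toOverCat U)⟩, ⟨eqToIso (toOverCat_ofOverCat U)⟩⟩

theorem toOverCat_isEquivOver (U : Over S) : FibCat.IsEquivOver (toOverCat U) :=
  ⟨ofOverCat U, ⟨eqToIso (toOverCat_ofOverCat U)⟩, ⟨eqToIso (ofOverCat_toOverCat U)⟩⟩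

/-- the map `h_U ⟶ G` of presheaves attached to a functor `(Sch/U) ⟶ ofPsh G` over `(Sch/S)` -/
def xiOf {G : AlgSp.PSp S} {U : Over S} (y : FibCat.overCat U ⥤ᵇ Stk.ofPsh G) :
    (AlgSp.pyon S).obj U ⟶ G :=
  mapOf (BasedFunctor.comp (toOverCat U) y)

/-- the functor `(Sch/U) ⟶ ofPsh G` attached to a map `h_U ⟶ G` -/
def yOf {G : AlgSp.PSp S} {U : Over S} (ξ : (AlgSp.pyon S).obj U ⟶ G) :
    FibCat.overCat U ⥤ᵇ Stk.ofPsh G :=
  BasedFunctor.comp (ofOverCat U) (Stk.ofPshMap ξ)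

theorem xiOf_yOf {G : AlgSp.PSp S} {U : Over S} (ξ : (AlgSp.pyon S).obj U ⟶ G) :
    xiOf (yOf ξ) = ξ := by
  unfold xiOf yOf
  have : BasedFunctor.comp (toOverCat U) (BasedFunctor.comp (ofOverCat U) (Stk.ofPshMap ξ)) =
      Stk.ofPshMap ξ := DR.basedFunctor_ext rfl
  rw [this, mapOf_ofPshMap]

/-- components of the 2-isomorphism `yOf (xiOf y) ≅ y` -/
def yIso {G : AlgSp.PSp S} {U : Over S} (y : FibCat.overCat U ⥤ᵇ Stk.ofPsh G)
    (w : (FibCat.overCat U).obj) : (yOf (xiOf y)).obj w ≅ y.obj w :=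
  (compIso (BasedFunctor.comp (toOverCat U) y) ((ofOverCat U).obj w)).symm

theorem yIso_nat {G : AlgSp.PSp S} {U : Over S} (y : FibCat.overCat U ⥤ᵇ Stk.ofPsh G)
    {w w' : (FibCat.overCat U).obj} (α : w ⟶ w') :
    (yOf (xiOf y)).map α ≫ (yIso y w').hom = (yIso y w).hom ≫ y.map α := by
  have h := compIso_nat (BasedFunctor.comp (toOverCat U) y) ((ofOverCat U).map α)
  change _ ≫ (compIso (BasedFunctor.comp (toOverCat U) y) ((ofOverCat U).obj w')).inv =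
    (compIso (BasedFunctor.comp (toOverCat U) y) ((ofOverCat U).obj w)).inv ≫ _
  rw [Iso.comp_inv_eq, Category.assoc, Iso.eq_inv_comp]
  exact h.symm

theorem yIso_lift {G : AlgSp.PSp S} {U : Over S} (y : FibCat.overCat U ⥤ᵇ Stk.ofPsh G)
    (w : (FibCat.overCat U).obj) :
    (Stk.ofPsh G).p.IsHomLift (𝟙 ((FibCat.overCat U).p.obj w)) (yIso y w).hom := by
  have h := compIso_lift (BasedFunctor.comp (toOverCat U) y) ((ofOverCat U).obj w)
  have h' : (Stk.ofPsh G).p.IsHomLift (𝟙 ((FibCat.overCat U).p.obj w))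
      (compIso (BasedFunctor.comp (toOverCat U) y) ((ofOverCat U).obj w)).hom := h
  exact IsHomLift.lift_id_inv (Stk.ofPsh G).p ((FibCat.overCat U).p.obj w)
    (compIso (BasedFunctor.comp (toOverCat U) y) ((ofOverCat U).obj w))

/-- the projection of the presheaf-level 2-fibre product to the slice -/
def piOne {F G : AlgSp.PSp S} {U : Over S} (a : F ⟶ G) (ξ : (AlgSp.pyon S).obj U ⟶ G) :
    FibCat.fp (Stk.ofPshMap ξ) (Stk.ofPshMap a) ⥤ᵇ FibCat.overCat U :=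
  BasedFunctor.comp (FibCat.fpFst (Stk.ofPshMap ξ) (Stk.ofPshMap a)) (toOverCat U)

theorem spMap_E {F G F' : AlgSp.PSp S} {U : Over S} (a : F ⟶ G) (ξ : (AlgSp.pyon S).obj U ⟶ G)
    (fst : F' ⟶ F) (snd : F' ⟶ (AlgSp.pyon S).obj U)
    (comm : ∀ (T : (Over S)ᵒᵖ) (s : F'.obj T), ξ.app T (snd.app T s) = a.app T (fst.app T s))
    (h : Presheaf.IsSheaf (AlgSp.J S) F') :
    spMapOfOver (F := (⟨F', h⟩ : AlgSp.Sp S))
      (BasedFunctor.comp (E a ξ fst snd comm) (piOne a ξ)) =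
      (ObjectProperty.homMk snd : (⟨F', h⟩ : AlgSp.Sp S) ⟶ (AlgSp.yon S).obj U) := by
  apply ObjectProperty.hom_ext
  ext T s
  change (⟨secHom _ ⟨T.unop, s⟩⟩ : ULift _) = snd.app T s
  apply ULift.ext
  change eqToHom _ ≫ (snd.app T s).down = (snd.app T s).down
  simp

theorem chain (P : MorphismProperty (AlgSp.Sp S)) {F G F' : AlgSp.PSp S} {U : Over S} (a : F ⟶ G)
    (y : FibCat.overCat U ⥤ᵇ Stk.ofPsh G)
    (fst : F' ⟶ F) (snd : F' ⟶ (AlgSp.pyon S).obj U) (sq : IsPullback fst snd a (xiOf y))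
    (h : Presheaf.IsSheaf (AlgSp.J S) F') (hA : AlgSp.IsAlgSpace (⟨F', h⟩ : AlgSp.Sp S))
    (hP : P (ObjectProperty.homMk snd : (⟨F', h⟩ : AlgSp.Sp S) ⟶ (AlgSp.yon S).obj U)) :
    ∃ (Fsp : AlgSp.Space S) (e : ofSp Fsp.obj ⥤ᵇ FibCat.fp y (Stk.ofPshMap a)),
      FibCat.IsEquivOver e ∧
        P (spMapOfOver (BasedFunctor.comp e (FibCat.fpFst y (Stk.ofPshMap a)))) := by
  have comm := comm_of_isPullback sq
  have h1 : ∃ (Fsp : AlgSp.Space S)
      (e : ofSp Fsp.obj ⥤ᵇ FibCat.fp (Stk.ofPshMap (xiOf y)) (Stk.ofPshMap a)),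
      FibCat.IsEquivOver e ∧ P (spMapOfOver (BasedFunctor.comp e (piOne a (xiOf y)))) := by
    refine ⟨⟨⟨F', h⟩, hA⟩, E a (xiOf y) fst snd comm,
      E_isEquivOver a (xiOf y) fst snd comm (inj_of_isPullback sq) (surj_of_isPullback sq), ?_⟩
    rw [spMap_E a (xiOf y) fst snd comm h]
    exact hP
  have h2 := transfer_inv P (fa (ofOverCat U) (Stk.ofPshMap (xiOf y)) (Stk.ofPshMap a))
    (fa_isEquivOver (ofOverCat U) (Stk.ofPshMap (xiOf y)) (Stk.ofPshMap a)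
      (ofOverCat_isEquivOver U))
    (FibCat.fpFst (yOf (xiOf y)) (Stk.ofPshMap a)) (piOne a (xiOf y))
    (DR.basedFunctor_ext rfl) h1
  exact transfer_inv P
    (tw y (yOf (xiOf y)) (Stk.ofPshMap a) (yIso y) (yIso_nat y) (yIso_lift y))
    (tw_isEquivOver y (yOf (xiOf y)) (Stk.ofPshMap a) (yIso y) (yIso_nat y) (yIso_lift y))
    (FibCat.fpFst y (Stk.ofPshMap a)) (FibCat.fpFst (yOf (xiOf y)) (Stk.ofPshMap a)) rfl h2

/-- `spMapOfOver` in terms of `mapOf` -/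
theorem mapOf_comp_ofOverCat {Fs : AlgSp.Sp S} {U : Over S} (Ψ : ofSp Fs ⥤ᵇ FibCat.overCat U) :
    mapOf (BasedFunctor.comp Ψ (ofOverCat U)) = (spMapOfOver Ψ).hom := by
  ext T s
  change ((AlgSp.pyon S).obj U).map (eqToHom _).op (⟨(Ψ.obj ⟨T.unop, s⟩).hom⟩ : ULift _) =
    (⟨secHom Ψ ⟨T.unop, s⟩⟩ : ULift _)
  rfl

theorem chain_rev {F G F' : AlgSp.PSp S} {U : Over S} (a : F ⟶ G)
    (y : FibCat.overCat U ⥤ᵇ Stk.ofPsh G)
    (fst : F' ⟶ F) (snd : F' ⟶ (AlgSp.pyon S).obj U) (sq : IsPullback fst snd a (xiOf y))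
    (Fs : AlgSp.Sp S) (e : ofSp Fs ⥤ᵇ FibCat.fp y (Stk.ofPshMap a)) (he : FibCat.IsEquivOver e) :
    ∃ ι : Fs.obj ≅ F',
      ι.hom ≫ snd = (spMapOfOver (BasedFunctor.comp e (FibCat.fpFst y (Stk.ofPshMap a)))).hom := by
  have comm := comm_of_isPullback sq
  have hE := E_isEquivOver a (xiOf y) fst snd comm (inj_of_isPullback sq) (surj_of_isPullback sq)
  obtain ⟨E', ⟨e₁⟩, ⟨e₂⟩⟩ := id hE
  have hE' : FibCat.IsEquivOver E' := isEquivOver_symm _ E' e₁ e₂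
  let Φ₀ : ofSp Fs ⥤ᵇ FibCat.fp (Stk.ofPshMap (xiOf y)) (Stk.ofPshMap a) :=
    BasedFunctor.comp (BasedFunctor.comp e
      (tw y (yOf (xiOf y)) (Stk.ofPshMap a) (yIso y) (yIso_nat y) (yIso_lift y)))
      (fa (ofOverCat U) (Stk.ofPshMap (xiOf y)) (Stk.ofPshMap a))
  have hΦ₀ : FibCat.IsEquivOver Φ₀ :=
    isEquivOver_comp _ _ (isEquivOver_comp _ _ he
      (tw_isEquivOver y (yOf (xiOf y)) (Stk.ofPshMap a) (yIso y) (yIso_nat y) (yIso_lift y)))
      (fa_isEquivOver (ofOverCat U) (Stk.ofPshMap (xiOf y)) (Stk.ofPshMap a)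
        (ofOverCat_isEquivOver U))
  let Φ : Stk.ofPsh Fs.obj ⥤ᵇ Stk.ofPsh F' := BasedFunctor.comp Φ₀ E'
  have hΦ : FibCat.IsEquivOver Φ := isEquivOver_comp _ _ hΦ₀ hE'
  have hiso : IsIso (mapOf Φ) := isIso_mapOf Φ hΦ
  refine ⟨asIso (mapOf Φ), ?_⟩
  change mapOf Φ ≫ snd = _
  have s1 : mapOf Φ ≫ snd = mapOf (BasedFunctor.comp Φ (Stk.ofPshMap snd)) := by
    rw [mapOf_comp, mapOf_ofPshMap]
  have s2 : mapOf (BasedFunctor.comp Φ (Stk.ofPshMap snd)) =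
      mapOf (BasedFunctor.comp Φ₀ (FibCat.fpFst (Stk.ofPshMap (xiOf y)) (Stk.ofPshMap a))) := by
    rw [← E_fst a (xiOf y) fst snd comm]
    apply mapOf_congr _ _
      (fun x => (FibCat.fpFst (Stk.ofPshMap (xiOf y)) (Stk.ofPshMap a)).toFunctor.mapIso
        (compApp e₂ (Φ₀.obj x)))
    intro x
    have hl := compApp_lift e₂ (Φ₀.obj x)
    rw [Φ₀.w_obj] at hl
    exact map_lift'' (FibCat.fpFst (Stk.ofPshMap (xiOf y)) (Stk.ofPshMap a)) hl
  have s3 : BasedFunctor.comp Φ₀ (FibCat.fpFst (Stk.ofPshMap (xiOf y)) (Stk.ofPshMap a)) =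
      BasedFunctor.comp (BasedFunctor.comp e (FibCat.fpFst y (Stk.ofPshMap a))) (ofOverCat U) :=
    DR.basedFunctor_ext rfl
  rw [s1, s2, s3, mapOf_comp_ofOverCat]

end Groth.Agent.Lib.Helper17.AD
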