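import Groth.Agent.Lib.Helper17.AlgStDict
import Groth.Agent.Lib.Helper17.AlgStBaseChange
import Groth.Agent.Lib.Helper17.AlgSpRepAll
import Groth.Agent.S12777

set_option autoImplicit false
set_option backward.isDefEq.respectTransparency false
set_option backward.isDefEq.respectTransparency.types false
universe u

namespace Groth.Agent.Lib.Helper17.ARA

open CategoryTheory CategoryTheory.Limits AlgebraicGeometry Opposite FibCat Stk AlgSt
open Groth.Agent.Lib.Helper17 Groth.Agent.Lib.Helper17.PD Groth.Agent.Lib.Helper17.EO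
  Groth.Agent.Lib.Helper17.AT Groth.Agent.Lib.Helper17.AB

variable {S : Scheme.{u}}

/-- a functor between categories of algebraic spaces is representable by algebraic spaces -/
theorem rep1_ofSp (F G : AlgSp.Space S) (φ : ofSp F.obj ⥤ᵇ ofSp G.obj) :
    AlgSt.RepByAlgSp1 (Stk.ofPshMap (mapOf φ)) :=
  (Groth.Agent.S12777.result (mapOf φ)).mp (AR.repBySp_of_algSpaces F G (mapOf φ))

/-- every functor over `(Sch/S)` between categories representable by algebraic spaces is representable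
by algebraic spaces -/
theorem rep1_of_rep {𝒳 𝒴 : AlgSt.Cat S} (hX : AlgSt.RepByAlgSp 𝒳) (hY : AlgSt.RepByAlgSp 𝒴)
    (f : 𝒳 ⥤ᵇ 𝒴) : AlgSt.RepByAlgSp1 f := by
  obtain ⟨F, eX, heX⟩ := hX
  obtain ⟨G, eY, heY⟩ := hY
  obtain ⟨gX, ⟨x₁⟩, ⟨x₂⟩⟩ := id heX
  obtain ⟨gY, ⟨y₁⟩, ⟨y₂⟩⟩ := id heY
  have hgX : FibCat.IsEquivOver gX := isEquivOver_symm eX gX x₁ x₂
  have hgY : FibCat.IsEquivOver gY := isEquivOver_symm eY gY y₁ y₂
  let φ : ofSp F.obj ⥤ᵇ ofSp G.obj := BasedFunctor.comp eX (BasedFunctor.comp f gY)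
  have h0 := rep1_ofSp F G φ
  refine rep1_of_square_fwd (Stk.ofPshMap (mapOf φ)) f gX gY hgX hgY
    (fun x => (BasedFunctor.comp f gY).toFunctor.mapIso (compApp x₂ x).symm ≪≫
      compIso φ (gX.obj x)) ?_ ?_ h0
  · intro x x' β
    have n1 := compApp_nat x₂ β
    have n2 := compIso_nat φ (gX.map β)
    change gY.map (f.map β) ≫ gY.map (f.map (compApp x₂ x').inv) ≫ (compIso φ (gX.obj x')).hom =
      (gY.map (f.map (compApp x₂ x).inv) ≫ (compIso φ (gX.obj x)).hom) ≫
        (Stk.ofPshMap (mapOf φ)).map (gX.map β)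
    rw [Category.assoc, ← n2]
    have n3 : β ≫ (compApp x₂ x').inv = (compApp x₂ x).inv ≫ eX.map (gX.map β) := by
      rw [Iso.comp_inv_eq, Category.assoc, Iso.eq_inv_comp]
      exact n1.symm
    have n4 : gY.map (f.map β) ≫ gY.map (f.map (compApp x₂ x').inv) =
        gY.map (f.map (compApp x₂ x).inv) ≫ φ.map (gX.map β) := by
      change gY.map (f.map β) ≫ gY.map (f.map (compApp x₂ x').inv) =
        gY.map (f.map (compApp x₂ x).inv) ≫ gY.map (f.map (eX.map (gX.map β)))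
      rw [← gY.toFunctor.map_comp, ← gY.toFunctor.map_comp, ← f.toFunctor.map_comp,
        ← f.toFunctor.map_comp, n3]
    rw [← Category.assoc, n4, Category.assoc]
  · intro x
    have l1 : 𝒳.p.IsHomLift (𝟙 (𝒳.p.obj x)) (compApp x₂ x).hom := compApp_lift x₂ x
    have l2 : 𝒳.p.IsHomLift (𝟙 (𝒳.p.obj x)) (compApp x₂ x).inv :=
      IsHomLift.lift_id_inv 𝒳.p (𝒳.p.obj x) (compApp x₂ x)
    have l3 : (ofSp G.obj).p.IsHomLift (𝟙 (𝒳.p.obj x))
        ((BasedFunctor.comp f gY).map (compApp x₂ x).inv) :=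
      map_lift'' (BasedFunctor.comp f gY) l2
    have l4 := compIso_lift φ (gX.obj x)
    rw [gX.w_obj] at l4
    exact IsHomLift.comp_of_lift_id (ofSp G.obj).p (𝒳.p.obj x)
      ((BasedFunctor.comp f gY).map (compApp x₂ x).inv) (compIso φ (gX.obj x)).hom

end Groth.Agent.Lib.Helper17.ARA
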