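import Groth.Agent.Lib.Helper17.AlgStComp
import Groth.Agent.Lib.Helper17.PshPullback

set_option autoImplicit false
universe u

namespace Groth.Agent.Lib.Helper17.SLP

open CategoryTheory CategoryTheory.Limits AlgebraicGeometry Opposite AlgSp
open Groth.Agent.Lib.Helper17 Groth.Agent.Lib.Helper17.ACov Groth.Agent.Lib.Helper17.ACP

variable {S : Scheme.{u}}

/-! ### properties defined through base change to affine schemes -/

/-- properties of morphisms of sheaves defined through base change to affine schemes -/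
def AffMor (Q : ∀ ⦃W Z : Over S⦄, (W ⟶ Z) → Prop) : MorphismProperty (Sp S) := fun F G f =>
  ∀ ⦃Z : Over S⦄, IsAffine Z.left → ∀ (g : (yon S).obj Z ⟶ G),
    ∃ (W : Over S) (i : W ⟶ Z) (fst : (yon S).obj W ⟶ F),
      IsPullback fst ((yon S).map i) f g ∧ Q i

theorem isAffineMor_eq :
    (IsAffineMor : MorphismProperty (Sp S)) = AffMor (fun W _ _ => IsAffine W.left) := rfl

theorem isIntegralMor_eq :
    (IsIntegralMor : MorphismProperty (Sp S)) =
      AffMor (fun W _ i => IsAffine W.left ∧ IsIntegralHom i.left) := rfl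

theorem isFiniteMor_eq :
    (IsFiniteMor : MorphismProperty (Sp S)) =
      AffMor (fun W _ i => IsAffine W.left ∧ IsFinite i.left) := rfl

theorem affMor_of_isPullback (Q : ∀ ⦃W Z : Over S⦄, (W ⟶ Z) → Prop) {F' F G' G : Sp S}
    {t : F' ⟶ F} {f' : F' ⟶ G'} {f : F ⟶ G} {u : G' ⟶ G} (sq : IsPullback t f' f u)
    (hf : AffMor Q f) : AffMor Q f' := by
  intro Z hZ z
  obtain ⟨W, i, fst, hsq, hW⟩ := hf hZ (z ≫ u)
  have hcomm : fst ≫ f = ((yon S).map i ≫ z) ≫ u := by rw [hsq.w, Category.assoc]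
  refine ⟨W, i, sq.lift fst ((yon S).map i ≫ z) hcomm, ?_, hW⟩
  have h1 : sq.lift fst ((yon S).map i ≫ z) hcomm ≫ t = fst := sq.lift_fst _ _ _
  have h2 : sq.lift fst ((yon S).map i ≫ z) hcomm ≫ f' = (yon S).map i ≫ z := sq.lift_snd _ _ _
  refine IsPullback.of_right ?_ h2 sq
  rw [h1]
  exact hsq

theorem affMor_bc (Q : ∀ ⦃W Z : Over S⦄, (W ⟶ Z) → Prop) : BC (AffMor Q) :=
  fun _ _ _ _ _ _ _ _ _ _ _ _ sq ha => affMor_of_isPullback Q sq ha

theorem affMor_cp (Q : ∀ ⦃W Z : Over S⦄, (W ⟶ Z) → Prop)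
    (hQa : ∀ ⦃W Z : Over S⦄ (i : W ⟶ Z), Q i → IsAffine W.left)
    (hQc : ∀ ⦃W₂ W₁ Z : Over S⦄ (i₂ : W₂ ⟶ W₁) (i₁ : W₁ ⟶ Z), Q i₂ → Q i₁ → Q (i₂ ≫ i₁)) :
    CP (AffMor Q) := by
  intro X Y Z _ _ _ a b ha hb T hT z
  obtain ⟨W₁, i₁, fst₁, sq₁, hW₁⟩ := hb hT z
  obtain ⟨W₂, i₂, fst₂, sq₂, hW₂⟩ := ha (hQa i₁ hW₁) fst₁
  refine ⟨W₂, i₂ ≫ i₁, fst₂, ?_, hQc i₂ i₁ hW₂ hW₁⟩
  rw [Functor.map_comp]
  exact sq₂.paste_vert sq₁

theorem affMor_schLocal (Q : ∀ ⦃W Z : Over S⦄, (W ⟶ Z) → Prop) : SchLocal (AffMor Q) := by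
  intro H G _ _ a ha Z hZ g
  obtain ⟨F', fst, snd, sq, -, hQ⟩ := exists_baseChange a ha g
  obtain ⟨W, i, fst', sq', hW⟩ := hQ hZ (𝟙 _)
  refine ⟨W, i, fst' ≫ fst, ?_, hW⟩
  have := sq'.paste_horiz sq
  rwa [Category.id_comp] at this

/-! ### representable morphisms with a property -/

theorem repWith_bc (Q : MorphismProperty Scheme.{u}) : BC (RepWith (S := S) Q) :=
  fun _ _ _ _ _ _ _ _ _ _ _ _ sq ha => (RepWith (S := S) Q).of_isPullback sq ha

theorem repWith_cp (Q : MorphismProperty Scheme.{u}) [Q.IsStableUnderBaseChange]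
    [Q.IsMultiplicative] : CP (RepWith (S := S) Q) := by
  intro X Y Z _ _ _ a b ha hb
  have : (RepWith (S := S) Q).IsMultiplicative := repWith_isMultiplicative _
  exact (RepWith (S := S) Q).comp_mem _ _ ha hb

theorem repWith_schLocal (Q : MorphismProperty Scheme.{u}) : SchLocal (RepWith (S := S) Q) := by
  intro H G _ _ a ha
  rw [repWith_iff]
  constructor
  · intro U g
    obtain ⟨F', fst, snd, sq, -, hQ⟩ := exists_baseChange a ha g
    obtain ⟨V, i, fst', sq'⟩ := ((repWith_iff _ _).mp hQ).1 (𝟙 _)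
    refine ⟨V, i, fst' ≫ fst, ?_⟩
    have := sq'.paste_horiz sq
    rwa [Category.id_comp] at this
  · intro U V g fst snd sq
    obtain ⟨F', fst0, snd0, sq0, -, hQ⟩ := exists_baseChange a ha g
    have h1 : sq0.lift fst ((yon S).map snd) sq.w ≫ fst0 = fst := sq0.lift_fst _ _ _
    have h2 : sq0.lift fst ((yon S).map snd) sq.w ≫ snd0 = (yon S).map snd ≫ 𝟙 _ := by
      rw [Category.comp_id]
      exact sq0.lift_snd _ _ _
    have sq1 : IsPullback (sq0.lift fst ((yon S).map snd) sq.w) ((yon S).map snd) snd0 (𝟙 _) := by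
      refine IsPullback.of_right ?_ h2 sq0
      rw [h1, Category.id_comp]
      exact sq
    exact ((repWith_iff _ _).mp hQ).2 (𝟙 _) _ snd sq1

/-! ### monomorphisms -/

theorem mono_bc : BC (MorphismProperty.monomorphisms (Sp S)) :=
  fun _ _ _ _ _ _ _ _ _ _ _ _ sq ha => (MorphismProperty.monomorphisms (Sp S)).of_isPullback sq ha

theorem mono_cp : CP (MorphismProperty.monomorphisms (Sp S)) := by
  intro X Y Z _ _ _ a b ha hb
  have : Mono a := ha
  have : Mono b := hb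
  exact (inferInstance : Mono (a ≫ b))

theorem injective_app_of_mono {F G : Sp S} (f : F ⟶ G) (hf : Mono f) (T : (Over S)ᵒᵖ) :
    Function.Injective (f.hom.app T) := by
  have h1 : Mono f.hom := (sheafToPresheaf _ _).map_mono f
  have h2 : Mono (f.hom.app T) := inferInstance
  exact (mono_iff_injective _).mp h2

theorem mono_of_injective_app {F G : Sp S} (f : F ⟶ G)
    (hf : ∀ T : (Over S)ᵒᵖ, Function.Injective (f.hom.app T)) : Mono f := by
  have h1 : ∀ T : (Over S)ᵒᵖ, Mono (f.hom.app T) := fun T => (mono_iff_injective _).mpr (hf T)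
  have : Mono f.hom := NatTrans.mono_of_mono_app _
  exact (sheafToPresheaf _ _).mono_of_mono_map this

theorem mono_schLocal : SchLocal (MorphismProperty.monomorphisms (Sp S)) := by
  intro H G _ _ a ha
  apply mono_of_injective_app
  intro T s t hst
  -- the section of `G` as a map from `h_U`
  let g : (yon S).obj T.unop ⟶ G := ObjectProperty.homMk (uliftYonedaEquiv.{u + 1}.symm (a.hom.app T s))
  obtain ⟨F', fst, snd, sq, -, hmono⟩ := exists_baseChange a ha g
  have sqP := isPullback_hom sq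
  have hg : g.hom.app T ⟨𝟙 _⟩ = a.hom.app T s := by
    exact (uliftYonedaEquiv.{u + 1} (X := T.unop)).apply_symm_apply (a.hom.app T s)
  obtain ⟨s', hs1, hs2⟩ := PP.surj_of_isPullback sqP T s ⟨𝟙 _⟩ hg
  obtain ⟨t', ht1, ht2⟩ := PP.surj_of_isPullback sqP T t ⟨𝟙 _⟩ (hg.trans hst)
  have : s' = t' := injective_app_of_mono snd hmono T (hs2.trans ht2.symm)
  rw [← hs1, ← ht1, this]

end Groth.Agent.Lib.Helper17.SLP
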