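import Groth.Agent.Lib.Helper17.DiagRep
import Groth.Agent.Lib.Helper17.Pasting
import Groth.Agent.Lib.Helper17.FpInvariance
import Groth.Agent.S5139

set_option autoImplicit false
universe v u

namespace Groth.Agent.Lib.Helper17.DRB

open CategoryTheory CategoryTheory.Functor CategoryTheory.Limits FibCat
open Groth.Agent.Lib.Helper17 Groth.Agent.Lib.Helper17.FP Groth.Agent.Lib.Helper17.FG
  Groth.Agent.Lib.Helper17.SP Groth.Agent.Lib.Helper17.DR

variable {C : Type u} [Category.{v} C] {𝒮 : BasedCategory.{v, max u v} C}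

section Fwd

variable [HasBinaryProducts C] {U V : C} (G' : overCat V ⥤ᵇ 𝒮) (G : overCat U ⥤ᵇ 𝒮)

/-- `Psi` as a functor over `C` -/
noncomputable def PsiB : fp (HF G' G) (Dg 𝒮) ⥤ᵇ fp G' G where
  toFunctor := Psi G' G
  w := rfl

theorem PsiB_essSurj (y : (fp G' G).obj) :
    ∃ (ξ : (fp (HF G' G) (Dg 𝒮)).obj) (e : (PsiB G' G).toFunctor.obj ξ ≅ y),
      (fp G' G).p.IsHomLift (𝟙 ((fp G' G).p.obj y)) e.hom := by
  obtain ⟨a, b, ι, hι, rfl⟩ : ∃ (a : Over V) (b : Over U) (ι : G'.obj a ≅ G.obj b)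
      (hι : 𝒮.p.IsHomLift (𝟙 a.left) ι.hom), y = mkObj a b ι hι :=
    ⟨y.obj.fst, y.obj.snd, y.obj.iso, iso_isHomLift y, rfl⟩
  have hb : b.left = a.left := (G.w_obj b).symm.trans (hl_cod hι)
  let c : Over (V ⨯ U) := Over.mk (prod.lift a.hom (eqToHom hb.symm ≫ b.hom))
  let i₁ : (overMap prod.fst).obj c ≅ a := Over.isoMk (Iso.refl _) (by
    change 𝟙 _ ≫ a.hom = prod.lift a.hom _ ≫ prod.fst
    rw [Category.id_comp, prod.lift_fst])
  let i₂ : (overMap prod.snd).obj c ≅ b := Over.isoMk (eqToIso hb.symm) (by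
    change eqToHom hb.symm ≫ b.hom = prod.lift a.hom (eqToHom hb.symm ≫ b.hom) ≫ prod.snd
    rw [prod.lift_snd])
  have hi₁ : (overCat V).p.IsHomLift (𝟙 a.left) i₁.hom :=
    IsHomLift.of_fac (overCat V).p (𝟙 a.left) i₁.hom rfl rfl (by
      change 𝟙 a.left = eqToHom (Eq.refl a.left) ≫ 𝟙 a.left ≫ eqToHom (Eq.refl a.left)
      rw [eqToHom_refl, Category.id_comp, Category.id_comp])
  have hi₂ : (overCat U).p.IsHomLift (𝟙 a.left) i₂.hom :=
    IsHomLift.of_fac (overCat U).p (𝟙 a.left) i₂.hom rfl hb (by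
      change 𝟙 a.left = eqToHom (Eq.refl a.left) ≫ eqToHom hb.symm ≫ eqToHom hb
      rw [eqToHom_refl, Category.id_comp, eqToHom_trans, eqToHom_refl])
  let θ₁ : G'.obj ((overMap prod.fst).obj c) ≅ G.obj b := G'.toFunctor.mapIso i₁ ≪≫ ι
  let θ₂ : G.obj ((overMap prod.snd).obj c) ≅ G.obj b := G.toFunctor.mapIso i₂
  have hθ₁ : 𝒮.p.IsHomLift (𝟙 a.left) θ₁.hom := by
    have h1 : 𝒮.p.IsHomLift (𝟙 a.left) (G'.map i₁.hom) := map_lift G' hi₁
    exact IsHomLift.comp_of_lift_id 𝒮.p a.left (G'.map i₁.hom) ι.hom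
  have hθ₂ : 𝒮.p.IsHomLift (𝟙 a.left) θ₂.hom := by
    have h1 : 𝒮.p.IsHomLift (𝟙 a.left) (G.map i₂.hom) := map_lift G hi₂
    exact h1
  let Θ : (HF G' G).obj c ≅ (Dg 𝒮).obj (G.obj b) :=
    mkIsoSq (z := (HF G' G).obj c) (z' := (Dg 𝒮).obj (G.obj b)) θ₁ θ₂
      (lift_map_of_lift hθ₁ hθ₂)
  have hΘ : (Sq 𝒮).p.IsHomLift (𝟙 ((overCat (V ⨯ U)).p.obj c)) Θ.hom :=
    (isHomLift_iff_fst Θ.hom _).mpr hθ₁
  let z : (fp (HF G' G) (Dg 𝒮)).obj := mkObj c (G.obj b) Θ hΘ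
  refine ⟨z, mkIso (z := (Psi G' G).obj z) (z' := mkObj a b ι hι) i₁ i₂ ?_, ?_⟩
  · change G'.map i₁.hom ≫ ι.hom = ((G'.map i₁.hom ≫ ι.hom) ≫ θ₂.inv) ≫ G.map i₂.hom
    have e : θ₂.inv ≫ G.map i₂.hom = 𝟙 _ := θ₂.inv_hom_id
    rw [Category.assoc, e, Category.comp_id]
  · rw [isHomLift_iff_fst]
    exact hi₁

theorem PsiB_isEquivOver : FibCat.IsEquivOver (PsiB G' G) := by
  rw [Groth.Agent.S5139.result]
  exact ⟨⟨Psi_full G' G, Psi_faithful G' G⟩, PsiB_essSurj G' G⟩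

end Fwd

end Groth.Agent.Lib.Helper17.DRB

namespace Groth.Agent.Lib.Helper17.DRB

open CategoryTheory CategoryTheory.Functor CategoryTheory.Limits FibCat
open Groth.Agent.Lib.Helper17 Groth.Agent.Lib.Helper17.FP Groth.Agent.Lib.Helper17.FG
  Groth.Agent.Lib.Helper17.SP Groth.Agent.Lib.Helper17.DR

variable {C : Type u} [Category.{v} C] {𝒮 : BasedCategory.{v, max u v} C}

section Bwd

variable [HasBinaryProducts C] {U : C} (H : overCat U ⥤ᵇ Sq 𝒮)

/-- the diagonal of `U`, on slices -/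
noncomputable def dl (U : C) : overCat U ⥤ᵇ overCat (U ⨯ U) := overMap (Limits.diag U)

noncomputable def i1 (w : Over U) : w ≅ (overMap prod.fst).obj ((dl U).obj w) :=
  Over.isoMk (Iso.refl _) (by
    change 𝟙 _ ≫ (w.hom ≫ Limits.diag U) ≫ prod.fst = w.hom
    rw [Category.id_comp, Category.assoc, Limits.diag, prod.lift_fst, Category.comp_id])

noncomputable def i2 (w : Over U) : w ≅ (overMap prod.snd).obj ((dl U).obj w) :=
  Over.isoMk (Iso.refl _) (by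
    change 𝟙 _ ≫ (w.hom ≫ Limits.diag U) ≫ prod.snd = w.hom
    rw [Category.id_comp, Category.assoc, Limits.diag, prod.lift_snd, Category.comp_id])

theorem i1_lift (w : Over U) : (overCat U).p.IsHomLift (𝟙 w.left) (i1 w).hom :=
  IsHomLift.of_fac (overCat U).p (𝟙 w.left) (i1 w).hom rfl rfl (by
    change 𝟙 w.left = eqToHom (Eq.refl w.left) ≫ 𝟙 w.left ≫ eqToHom (Eq.refl w.left)
    rw [eqToHom_refl, Category.id_comp, Category.id_comp])

theorem i2_lift (w : Over U) : (overCat U).p.IsHomLift (𝟙 w.left) (i2 w).hom :=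
  IsHomLift.of_fac (overCat U).p (𝟙 w.left) (i2 w).hom rfl rfl (by
    change 𝟙 w.left = eqToHom (Eq.refl w.left) ≫ 𝟙 w.left ≫ eqToHom (Eq.refl w.left)
    rw [eqToHom_refl, Category.id_comp, Category.id_comp])

theorem i1_nat {w w' : Over U} (α : w ⟶ w') :
    α ≫ (i1 w').hom = (i1 w).hom ≫ (overMap prod.fst).map ((dl U).map α) := by
  apply Over.OverMorphism.ext
  change α.left ≫ 𝟙 _ = 𝟙 _ ≫ α.left
  rw [Category.comp_id, Category.id_comp]

theorem i2_nat {w w' : Over U} (α : w ⟶ w') :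
    α ≫ (i2 w').hom = (i2 w).hom ≫ (overMap prod.snd).map ((dl U).map α) := by
  apply Over.OverMorphism.ext
  change α.left ≫ 𝟙 _ = 𝟙 _ ≫ α.left
  rw [Category.comp_id, Category.id_comp]

/-- `H` is 2-isomorphic to the diagonal followed by `G1 × G2` -/
noncomputable def tauIso (w : Over U) :
    H.obj w ≅ (BasedFunctor.comp (dl U) (HF (G1 H) (G2 H))).obj w :=
  mkIsoSq (z := H.obj w) (z' := (BasedFunctor.comp (dl U) (HF (G1 H) (G2 H))).obj w)
    ((G1 H).toFunctor.mapIso (i1 w)) ((G2 H).toFunctor.mapIso (i2 w))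
    (lift_map_of_lift (map_lift (G1 H) (i1_lift w)) (map_lift (G2 H) (i2_lift w)))

theorem tauIso_lift (w : Over U) :
    (Sq 𝒮).p.IsHomLift (𝟙 ((overCat U).p.obj w)) (tauIso H w).hom :=
  (isHomLift_iff_fst (tauIso H w).hom _).mpr (map_lift (G1 H) (i1_lift w))

theorem tauIso_nat {w w' : Over U} (α : w ⟶ w') :
    H.map α ≫ (tauIso H w').hom =
      (tauIso H w).hom ≫ (BasedFunctor.comp (dl U) (HF (G1 H) (G2 H))).map α := by
  apply hom_ext
  · change (G1 H).map α ≫ (G1 H).map (i1 w').hom =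
      (G1 H).map (i1 w).hom ≫ (G1 H).map ((overMap prod.fst).map ((dl U).map α))
    exact ((G1 H).toFunctor.map_comp _ _).symm.trans
      ((congrArg (G1 H).toFunctor.map (i1_nat α)).trans ((G1 H).toFunctor.map_comp _ _))
  · change (G2 H).map α ≫ (G2 H).map (i2 w').hom =
      (G2 H).map (i2 w).hom ≫ (G2 H).map ((overMap prod.snd).map ((dl U).map α))
    exact ((G2 H).toFunctor.map_comp _ _).symm.trans
      ((congrArg (G2 H).toFunctor.map (i2_nat α)).trans ((G2 H).toFunctor.map_comp _ _))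

/-- the comparison `(Sch/U) ×_{Δ, 𝒮×𝒮} 𝒮 ⟶ (Sch/U) ×_{H} 𝒮` -/
noncomputable def twH :
    fp (BasedFunctor.comp (dl U) (HF (G1 H) (G2 H))) (Dg 𝒮) ⥤ᵇ fp H (Dg 𝒮) :=
  FI.tw (BasedFunctor.comp (dl U) (HF (G1 H) (G2 H))) H (Dg 𝒮) (tauIso H)
    (fun α => tauIso_nat H α) (tauIso_lift H)

theorem twH_isEquivOver : FibCat.IsEquivOver (twH H) :=
  FI.tw_isEquivOver _ _ _ _ _ _

end Bwd

end Groth.Agent.Lib.Helper17.DRB
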