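import Groth.Prelude.Def_FibCat2
import Groth.Agent.Lib.Helper17.HomLift
import Groth.Agent.Lib.Helper17.FibProd
import Groth.Agent.Lib.Helper17.FibGrpd
import Groth.Agent.Lib.Helper17.Thin
import Groth.Agent.Lib.Helper86.TwoYoneda

set_option autoImplicit false
universe v u

namespace Groth.Agent.Lib.Helper17.FT

open CategoryTheory CategoryTheory.Functor FibCat
open Groth.Agent.Lib.Helper17 Groth.Agent.Lib.Helper17.FP Groth.Agent.Lib.Helper17.FG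
  Groth.Agent.Lib.Helper17.TH Groth.Agent.Lib.Helper86.TwoYoneda

variable {C : Type u} [Category.{v} C] {𝒳 𝒴 : BasedCategory.{v, max u v} C}

/-- 2-Yoneda, essential surjectivity in elementary form: every object of a category fibred in
groupoids is, up to an isomorphism over the identity, the value at the identity of a functor over
`C` from the slice. -/
theorem exists_slice_functor (h𝒴 : FibCat.IsFibGrpd 𝒴.p) {U : C} (η : 𝒴.obj) (hη : 𝒴.p.obj η = U) :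
    ∃ (y : FibCat.overCat U ⥤ᵇ 𝒴) (ι : y.obj (Over.mk (𝟙 U) : Over U) ≅ η),
      𝒴.p.IsHomLift (𝟙 U) ι.hom := by
  have := isFibered_of_isFibGrpd h𝒴
  let x : 𝒴.p.Fiber U := ⟨η, hη⟩
  have hsc : 𝒴.p.IsStronglyCartesian (𝟙 U) (pbMap x (Over.mk (𝟙 U))) :=
    pbMap_sc x (Over.mk (𝟙 U))
  have hiso : IsIso (pbMap x (Over.mk (𝟙 U))) :=
    Functor.IsStronglyCartesian.isIso_of_base_isIso 𝒴.p (𝟙 U) _
  exact ⟨pbB x, @asIso _ _ _ _ (pbMap x (Over.mk (𝟙 U))) hiso, hsc.toIsHomLift⟩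

/-- an automorphism over the identity killed by `f` is trivial, if the relevant 2-fibre product has thin
fibres -/
theorem eq_id_of_map_eq_id (h𝒴 : FibCat.IsFibGrpd 𝒴.p) (f : 𝒳 ⥤ᵇ 𝒴)
    (hthin : ∀ (U : C) (y : FibCat.overCat U ⥤ᵇ 𝒴), ThinOver (FibCat.fp y f))
    {x : 𝒳.obj} (α : x ⟶ x) (hα : 𝒳.p.IsHomLift (𝟙 (𝒳.p.obj x)) α) (hfα : f.map α = 𝟙 _) :
    α = 𝟙 x := by
  obtain ⟨y, ι, hι⟩ := exists_slice_functor h𝒴 (f.obj x) (f.w_obj x)
  let q : (FibCat.fp y f).obj := mkObj (F := y) (G := f) (Over.mk (𝟙 (𝒳.p.obj x)) : Over _) x ι hι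
  let m₁ : q ⟶ q := mkHom (z := q) (z' := q) (𝟙 _) α (by
    change y.map (𝟙 _) ≫ ι.hom = ι.hom ≫ f.map α
    rw [hfα]
    have e1 : y.map (𝟙 (Over.mk (𝟙 (𝒳.p.obj x)) : Over _)) = 𝟙 _ := y.toFunctor.map_id _
    exact (congrArg (· ≫ ι.hom) e1).trans ((Category.id_comp _).trans (Category.comp_id _).symm))
  have h1 : (FibCat.fp y f).p.IsHomLift (𝟙 (𝒳.p.obj x)) m₁ := by
    rw [isHomLift_iff_fst]
    exact IsHomLift.id rfl
  have h2 : (FibCat.fp y f).p.IsHomLift (𝟙 (𝒳.p.obj x)) (𝟙 q) := IsHomLift.id rfl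
  have h3 : m₁ = 𝟙 q := hthin _ y (𝒳.p.obj x) m₁ (𝟙 q) h1 h2
  exact congrArg (fun m => m.hom.snd) h3

/-- a functor over `C` between categories fibred in groupoids all of whose base changes to slices have
thin fibres is faithful -/
theorem faithful_of_thin (h𝒳 : FibCat.IsFibGrpd 𝒳.p) (h𝒴 : FibCat.IsFibGrpd 𝒴.p) (f : 𝒳 ⥤ᵇ 𝒴)
    (hthin : ∀ (U : C) (y : FibCat.overCat U ⥤ᵇ 𝒴), ThinOver (FibCat.fp y f)) :
    f.toFunctor.Faithful := by
  constructor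
  intro x x' φ ψ hφψ
  have hφψ' : f.map φ = f.map ψ := hφψ
  -- same base morphism
  have hb : 𝒳.p.map φ = 𝒳.p.map ψ := by
    have h1 : 𝒴.p.IsHomLift (𝒳.p.map φ) (f.map φ) := inferInstance
    have h2 : 𝒴.p.IsHomLift (𝒳.p.map ψ) (f.map ψ) := inferInstance
    rw [hφψ'] at h1
    have e1 := hl_fac h1
    have e2 := hl_fac h2
    rw [e1, e2]
  have hψ : 𝒳.p.IsHomLift (𝒳.p.map φ) ψ := by rw [hb]; infer_instance
  have hφ : 𝒳.p.IsHomLift (𝒳.p.map φ) φ := inferInstance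
  obtain ⟨α, hα1, hα2, -⟩ := exists_factor h𝒳 (𝒳.p.map φ) ψ hψ φ hφ
  -- f α = 𝟙
  have hfψ : 𝒴.p.IsHomLift (𝒳.p.map φ) (f.map ψ) := EO.map_lift'' f hψ
  have hsc := sc_all h𝒴 (𝒳.p.map φ) (f.map ψ) hfψ
  have hfα : f.map α = 𝟙 _ := by
    have l1 : 𝒴.p.IsHomLift (𝟙 (𝒳.p.obj x)) (f.map α) := EO.map_lift'' f hα1
    have l2 : 𝒴.p.IsHomLift (𝟙 (𝒳.p.obj x)) (𝟙 (f.obj x)) := IsHomLift.id (f.w_obj x)
    apply sc_ext hsc l1 l2
    rw [← f.toFunctor.map_comp, hα2, Category.id_comp]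
    exact hφψ'
  have := eq_id_of_map_eq_id h𝒴 f hthin α hα1 hfα
  rw [← hα2, this, Category.id_comp]

end Groth.Agent.Lib.Helper17.FT
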