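import Groth.Agent.Lib.Helper17.DiagSections
import Groth.Agent.Lib.Helper17.AlgStRepAll
import Groth.Agent.Lib.Helper17.SchLocalProps
import Groth.Agent.S12765
import Groth.Agent.S12776

set_option autoImplicit false
set_option backward.isDefEq.respectTransparency false
set_option backward.isDefEq.respectTransparency.types false
universe v u

namespace Groth.Agent.Lib.Helper17.DM

open CategoryTheory CategoryTheory.Functor CategoryTheory.Limits AlgebraicGeometry Opposite FibCat Stk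
  AlgSt
open Groth.Agent.Lib.Helper17 Groth.Agent.Lib.Helper17.FP Groth.Agent.Lib.Helper17.EO
  Groth.Agent.Lib.Helper17.PD

section General

variable {C : Type u} [Category.{v} C] {𝒳 𝒴 𝒮 : BasedCategory.{v, max u v} C}

/-- the diagonal of a faithful functor is full -/
theorem diag_full (f : 𝒳 ⥤ᵇ 𝒴) (hf : f.toFunctor.Faithful) : (diag f).toFunctor.Full := by
  constructor
  intro x x' m
  refine ⟨m.hom.fst, ?_⟩
  apply hom_ext
  · rfl
  · change m.hom.fst = m.hom.snd
    apply f.toFunctor.map_injective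
    have h := m.hom.w
    change f.map m.hom.fst ≫ 𝟙 _ = 𝟙 _ ≫ f.map m.hom.snd at h
    rw [Category.comp_id, Category.id_comp] at h
    exact h

/-- the first projection of a 2-fibre product along a full functor is full -/
theorem fpFst_full (F : 𝒳 ⥤ᵇ 𝒮) (G : 𝒴 ⥤ᵇ 𝒮) (hG : G.toFunctor.Full) :
    (fpFst F G).toFunctor.Full := by
  constructor
  intro z z' k₁
  obtain ⟨k₂, hk₂⟩ := G.toFunctor.map_surjective
    (z.obj.iso.inv ≫ F.map (show z.obj.fst ⟶ z'.obj.fst from k₁) ≫ z'.obj.iso.hom)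
  refine ⟨mkHom (F := F) (G := G) (show z.obj.fst ⟶ z'.obj.fst from k₁) k₂ ?_, rfl⟩
  change _ = z.obj.iso.hom ≫ G.toFunctor.map k₂
  rw [hk₂, Iso.hom_inv_id_assoc]

end General

variable {S : Scheme.{u}}

/-- a full functor from the category of a sheaf to a slice gives a map of sheaves injective on
sections -/
theorem sec_injective_of_full {G : AlgSp.Sp S} {U : Over S} (Φ : ofSp G ⥤ᵇ FibCat.overCat U)
    (hΦ : Φ.toFunctor.Full) (T : Over S) (x x' : G.obj.obj (op T))
    (h : secHom Φ ⟨T, x⟩ = secHom Φ ⟨T, x'⟩) : x = x' := by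
  let a : (ofSp G).obj := ⟨T, x⟩
  let a' : (ofSp G).obj := ⟨T, x'⟩
  have e1 : (Φ.obj a).left = T := Φ.w_obj a
  have e2 : (Φ.obj a').left = T := Φ.w_obj a'
  let k : Φ.obj a ⟶ Φ.obj a' := Over.homMk (eqToHom (e1.trans e2.symm)) (by
    have h' : eqToHom e1.symm ≫ (Φ.obj a).hom = eqToHom e2.symm ≫ (Φ.obj a').hom := h
    have : (Φ.obj a).hom = eqToHom e1 ≫ eqToHom e2.symm ≫ (Φ.obj a').hom := by
      rw [← h', eqToHom_trans_assoc, eqToHom_refl, Category.id_comp]
    rw [this, ← Category.assoc, eqToHom_trans])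
  have hk : (FibCat.overCat U).p.IsHomLift (𝟙 T) k := by
    apply IsHomLift.of_fac' (FibCat.overCat U).p (𝟙 T) k e1 e2
    change eqToHom (e1.trans e2.symm) = eqToHom e1 ≫ 𝟙 T ≫ eqToHom e2.symm
    rw [Category.id_comp, eqToHom_trans]
  obtain ⟨m, hm⟩ := Φ.toFunctor.map_surjective k
  have hm' : (ofSp G).p.IsHomLift (𝟙 T) m := by
    rw [← BasedFunctor.isHomLift_iff Φ]
    change (FibCat.overCat U).p.IsHomLift (𝟙 T) (Φ.toFunctor.map m)
    rw [hm]
    exact hk
  exact sec_eq_of_lift_id m hm'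

theorem mono_of_full {G : AlgSp.Sp S} {U : Over S} (Φ : ofSp G ⥤ᵇ FibCat.overCat U)
    (hΦ : Φ.toFunctor.Full) : Mono (spMapOfOver Φ) := by
  apply SLP.mono_of_injective_app
  intro T x x' h
  have h' : (⟨secHom Φ ⟨T.unop, x⟩⟩ : ULift _) = ⟨secHom Φ ⟨T.unop, x'⟩⟩ := h
  exact sec_injective_of_full Φ hΦ T.unop x x' (congrArg ULift.down h')

/-- the base change of the diagonal of a functor representable by algebraic spaces is representable
by an algebraic space -/
theorem rep_fp_diag {𝒳 𝒴 : AlgSt.Cat S} (f : 𝒳 ⥤ᵇ 𝒴) (hf : AlgSt.RepByAlgSp1 f) (U : Over S)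
    (y : FibCat.overCat U ⥤ᵇ FibCat.fp f f) : AlgSt.RepByAlgSp (FibCat.fp y (FibCat.diag f)) := by
  have hA : AlgSt.RepByAlgSp (DS.A f y) := hf U _
  have h2 : AlgSt.RepByAlgSp1 (DS.s2 f y) :=
    ARA.rep1_of_rep (Groth.Agent.S12765.rep_overCat U) hA _
  have h3 : AlgSt.RepByAlgSp (FibCat.fp (DS.s1 f y) (DS.s2 f y)) := h2 U (DS.s1 f y)
  exact Groth.Agent.S12765.rep_of_equiv' (DS.K f y) (DS.K_isEquivOver f y) h3

/-- any representing space of a base change of the diagonal of a faithful functor maps by a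
monomorphism to the base -/
theorem mono_fp_diag {𝒳 𝒴 : AlgSt.Cat S} (f : 𝒳 ⥤ᵇ 𝒴) (hf : f.toFunctor.Faithful) (U : Over S)
    (y : FibCat.overCat U ⥤ᵇ FibCat.fp f f) (F : AlgSp.Sp S)
    (e : ofSp F ⥤ᵇ FibCat.fp y (FibCat.diag f)) (he : FibCat.IsEquivOver e) :
    Mono (spMapOfOver (BasedFunctor.comp e (FibCat.fpFst y (FibCat.diag f)))) := by
  apply mono_of_full
  obtain ⟨⟨he1, -⟩, -⟩ := (Groth.Agent.S5139.result e).mp he
  have h2 : (FibCat.fpFst y (FibCat.diag f)).toFunctor.Full :=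
    fpFst_full y (FibCat.diag f) (diag_full f hf)
  exact (inferInstance : (e.toFunctor ⋙ (FibCat.fpFst y (FibCat.diag f)).toFunctor).Full)

/-- a monomorphism of sheaves is separated -/
theorem isSeparatedMor_of_mono {F G : AlgSp.Sp S} (a : F ⟶ G) [Mono a] :
    AlgSp.IsSeparatedMor a := by
  have : IsIso (pullback.diagonal a) := inferInstance
  exact MorphismProperty.of_isIso (AlgSp.RepWith @IsClosedImmersion) (pullback.diagonal a)

end Groth.Agent.Lib.Helper17.DM
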