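import Groth.Prelude.Def_FibCat2
import Groth.Agent.Lib.Helper17.HomLift
import Groth.Agent.Lib.Helper17.FibEquiv
import Groth.Agent.Lib.Helper17.FibGrpd
import Groth.Agent.Lib.Helper17.Thin

set_option autoImplicit false
universe v₃ u₃ v₂ u₂ v u

namespace Groth.Agent.Lib.Helper17.EG

open CategoryTheory CategoryTheory.Functor FibCat
open Groth.Agent.Lib.Helper17 Groth.Agent.Lib.Helper17.FG Groth.Agent.Lib.Helper17.TH

variable {C : Type u} [Category.{v} C] {𝒳 : BasedCategory.{v₂, u₂} C}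
  {𝒴 : BasedCategory.{v₃, u₃} C}

/-- the easy direction of the characterisation of equivalences over `C`, in arbitrary universes -/
theorem props_of_isEquivOver (F : 𝒳 ⥤ᵇ 𝒴) (hF : FibCat.IsEquivOver F) :
    (F.toFunctor.Full ∧ F.toFunctor.Faithful) ∧
      ∀ η : 𝒴.obj, ∃ (ξ : 𝒳.obj) (e : F.toFunctor.obj ξ ≅ η),
        𝒴.p.IsHomLift (𝟙 (𝒴.p.obj η)) e.hom := by
  obtain ⟨G, ⟨α⟩, ⟨β⟩⟩ := hF
  let α' : F.toFunctor ⋙ G.toFunctor ≅ 𝟭 _ := (BasedNatTrans.forgetful _ _).mapIso α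
  let β' : G.toFunctor ⋙ F.toFunctor ≅ 𝟭 _ := (BasedNatTrans.forgetful _ _).mapIso β
  haveI : F.toFunctor.IsEquivalence :=
    (CategoryTheory.Equivalence.mk F.toFunctor G.toFunctor α'.symm β').isEquivalence_functor
  refine ⟨⟨inferInstance, inferInstance⟩, fun η => ⟨G.obj η, β'.app η, ?_⟩⟩
  exact β.hom.isHomLift' η

theorem isEquivOver_inv (F : 𝒳 ⥤ᵇ 𝒴) (hF : FibCat.IsEquivOver F) :
    ∃ G : 𝒴 ⥤ᵇ 𝒳, FibCat.IsEquivOver G := by
  obtain ⟨G, ⟨e₁⟩, ⟨e₂⟩⟩ := hF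
  exact ⟨G, isEquivOver_symm F G e₁ e₂⟩

/-- a fully faithful functor over `C` reflects strongly cartesian morphisms -/
theorem sc_of_map_sc (F : 𝒳 ⥤ᵇ 𝒴) [F.toFunctor.Full] [F.toFunctor.Faithful] {R S : C} (f : R ⟶ S)
    {a b : 𝒳.obj} (φ : a ⟶ b) (h : 𝒴.p.IsStronglyCartesian f (F.map φ)) :
    𝒳.p.IsStronglyCartesian f φ := by
  have h0 : 𝒴.p.IsHomLift f (F.map φ) := h.toIsHomLift
  have h0' : 𝒳.p.IsHomLift f φ := BasedFunctor.isHomLift_map F f φ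
  refine { toIsHomLift := h0', universal_property' := ?_ }
  intro a' g φ' hφ'
  have h1 : 𝒴.p.IsHomLift (g ≫ f) (F.map φ') := inferInstance
  obtain ⟨χ', ⟨hχ1, hχ2⟩, hχu⟩ :=
    IsStronglyCartesian.universal_property 𝒴.p f (F.map φ) g (g ≫ f) rfl (F.map φ')
  have hpre : F.map (F.toFunctor.preimage χ') = χ' := F.toFunctor.map_preimage χ'
  refine ⟨F.toFunctor.preimage χ', ⟨?_, ?_⟩, ?_⟩
  · have : 𝒴.p.IsHomLift g (F.map (F.toFunctor.preimage χ')) := by rw [hpre]; exact hχ1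
    exact BasedFunctor.isHomLift_map F g _
  · apply F.toFunctor.map_injective
    rw [F.toFunctor.map_comp]
    change F.map (F.toFunctor.preimage χ') ≫ F.map φ = F.map φ'
    rw [hpre, hχ2]
  · rintro χ ⟨h2, h3⟩
    apply F.toFunctor.map_injective
    change F.map χ = F.map (F.toFunctor.preimage χ')
    rw [hpre]
    apply hχu
    refine ⟨inferInstance, ?_⟩
    rw [← h3]
    exact (F.toFunctor.map_comp χ φ).symm

/-- pull back "fibred in groupoids" along an equivalence over `C` (arbitrary universes) -/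
theorem isFibGrpd_of_isEquivOver (F : 𝒳 ⥤ᵇ 𝒴) (hF : FibCat.IsEquivOver F)
    (h𝒴 : FibCat.IsFibGrpd 𝒴.p) : FibCat.IsFibGrpd 𝒳.p := by
  obtain ⟨⟨hfull, hfaith⟩, hess⟩ := props_of_isEquivOver F hF
  refine ⟨?_, ?_⟩
  · intro x V f
    have hFx : 𝒴.p.obj (F.obj x) = 𝒳.p.obj x := F.w_obj x
    obtain ⟨y, ψ, hψ⟩ := exists_lift_of_eq h𝒴 hFx f
    have hV : 𝒴.p.obj y = V := hl_dom hψ.toIsHomLift
    subst hV
    obtain ⟨ξ, e, he⟩ := hess y
    have h1 : 𝒴.p.IsHomLift f (e.hom ≫ ψ) := IsHomLift.comp_lift_id_left 𝒴.p f ψ e.hom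
    refine ⟨ξ, F.toFunctor.preimage (e.hom ≫ ψ), ?_⟩
    have h2 : 𝒴.p.IsHomLift f (F.map (F.toFunctor.preimage (e.hom ≫ ψ))) := by
      have : F.map (F.toFunctor.preimage (e.hom ≫ ψ)) = e.hom ≫ ψ :=
        F.toFunctor.map_preimage _
      rw [this]
      exact h1
    exact BasedFunctor.isHomLift_map F f _
  · intro x' x φ
    apply sc_of_map_sc F
    exact sc_all h𝒴 _ (F.map φ) inferInstance

/-- thin fibres pull back along a faithful functor over `C` -/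
theorem thinOver_of_faithful (F : 𝒳 ⥤ᵇ 𝒴) [F.toFunctor.Faithful] (h : ThinOver 𝒴) :
    ThinOver 𝒳 := by
  intro U a b φ ψ hφ hψ
  apply F.toFunctor.map_injective
  have h1 : 𝒴.p.IsHomLift (𝟙 U) (F.map φ) := inferInstance
  have h2 : 𝒴.p.IsHomLift (𝟙 U) (F.map ψ) := inferInstance
  exact h U (F.map φ) (F.map ψ) h1 h2

theorem isFibSetoid_iff_thinOver : FibCat.IsFibSetoid 𝒳.p ↔ FibCat.IsFibGrpd 𝒳.p ∧ ThinOver 𝒳 := by
  unfold FibCat.IsFibSetoid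
  rw [thinOver_iff]

/-- "fibred in setoids" pulls back along an equivalence over `C` (arbitrary universes) -/
theorem isFibSetoid_of_isEquivOver (F : 𝒳 ⥤ᵇ 𝒴) (hF : FibCat.IsEquivOver F)
    (h𝒴 : FibCat.IsFibSetoid 𝒴.p) : FibCat.IsFibSetoid 𝒳.p := by
  rw [isFibSetoid_iff_thinOver] at h𝒴 ⊢
  obtain ⟨⟨hfull, hfaith⟩, -⟩ := props_of_isEquivOver F hF
  exact ⟨isFibGrpd_of_isEquivOver F hF h𝒴.1, thinOver_of_faithful F h𝒴.2⟩

theorem isFibGrpd_iff_of_isEquivOver (F : 𝒳 ⥤ᵇ 𝒴) (hF : FibCat.IsEquivOver F) :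
    FibCat.IsFibGrpd 𝒳.p ↔ FibCat.IsFibGrpd 𝒴.p := by
  obtain ⟨G, hG⟩ := isEquivOver_inv F hF
  exact ⟨isFibGrpd_of_isEquivOver G hG, isFibGrpd_of_isEquivOver F hF⟩

theorem isFibSetoid_iff_of_isEquivOver (F : 𝒳 ⥤ᵇ 𝒴) (hF : FibCat.IsEquivOver F) :
    FibCat.IsFibSetoid 𝒳.p ↔ FibCat.IsFibSetoid 𝒴.p := by
  obtain ⟨G, hG⟩ := isEquivOver_inv F hF
  exact ⟨isFibSetoid_of_isEquivOver G hG, isFibSetoid_of_isEquivOver F hF⟩

end Groth.Agent.Lib.Helper17.EG
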