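import Groth.Agent.Lib.Helper17.Comparison

set_option autoImplicit false
set_option backward.isDefEq.respectTransparency false
set_option backward.isDefEq.respectTransparency.types false
universe u

/-! The diagonal of a composite: `Δ_{g ∘ f} ≅ ι ∘ Δ_f` with `ι` a base change of `Δ_g`. -/

namespace Groth.Agent.Lib.Helper17.DC

open CategoryTheory CategoryTheory.Functor CategoryTheory.Limits AlgebraicGeometry Opposite FibCat Stk
  AlgSt AlgSp
open Groth.Agent.Lib.Helper17 Groth.Agent.Lib.Helper17.FP Groth.Agent.Lib.Helper17.EO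
  Groth.Agent.Lib.Helper17.PD Groth.Agent.Lib.Helper17.AT Groth.Agent.Lib.Helper17.AB
  Groth.Agent.Lib.Helper17.AOS

variable {S : Scheme.{u}}

theorem isEtCover_of_atlas {G : Sp S} {V : Over S} (φ : (yon S).obj V ⟶ G)
    (he : RepWith @Etale φ) (hs : RepWith @Surjective φ) :
    IsEtCover (fun _ : PUnit.{u + 1} => (yon S).obj V) (fun _ => φ) :=
  ⟨fun _ => ACov.isEtaleMor_of_repWith φ he,
    fun x => ⟨PUnit.unit, ACov.points_map_surjective φ hs x⟩⟩

/-- for `P` etale local on the base: a morphism of algebraic spaces all of whose base changes to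
schemes have `P` has `P` -/
theorem schLocal_of_isLocalOnBase_et (P : MorphismProperty (Sp S))
    (hP : IsLocalOnBase (IsEtCover (S := S)) P) : ACov.SchLocal P := by
  intro H G hH hG a ha
  obtain ⟨V, φ, he, hs⟩ := hG.atlas
  have hcov := isEtCover_of_atlas φ he hs
  have sq : IsPullback (pullback.fst a φ) (pullback.snd a φ) a φ := IsPullback.of_hasPullback a φ
  have sq' : IsPullback (pullback.fst a φ).hom (pullback.snd a φ).hom a.hom φ.hom :=
    sq.map (sheafToPresheaf _ _)
  obtain ⟨h, hA, hQ⟩ := ha φ.hom _ _ sq'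
  exact (hP (fun _ : PUnit.{u + 1} => (yon S).obj V) (fun _ => φ) hG
    (fun _ => IsAlgSpace.yon_obj V) hcov a hH (fun _ => pullback a φ)
    (fun _ => pullback.snd a φ) (fun _ => pullback.fst a φ) (fun _ => hA) (fun _ => sq)).mpr
    (fun _ => hQ)

/-- the diagonal of a composite is the diagonal of the first functor followed by a base change of
the diagonal of the second -/
theorem repWith_diag_comp {𝒳 𝒴 𝒵 : AlgSt.Cat S}
    (h𝒳 : FibCat.IsFibGrpd 𝒳.p) (h𝒵 : FibCat.IsFibGrpd 𝒵.p)
    (P : MorphismProperty (AlgSp.Sp S)) (hPb : ACP.BC P) (hPc : ACP.CP P) (hP : ACov.SchLocal P)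
    (f : 𝒳 ⥤ᵇ 𝒴) (g : 𝒴 ⥤ᵇ 𝒵) (hf : AlgSt.RepByAlgSpWith P (FibCat.diag f))
    (hg : AlgSt.RepByAlgSpWith P (FibCat.diag g)) :
    AlgSt.RepByAlgSpWith P (FibCat.diag (BasedFunctor.comp f g)) := by
  have h1 : AlgSt.RepByAlgSpWith P (CMP.iota f f g) := CMP.repWith_iota P f f g hg
  have hfT : FibCat.IsFibGrpd (FibCat.fp (BasedFunctor.comp f g) (BasedFunctor.comp f g)).p :=
    SP.isFibGrpd_fp _ _ h𝒳 h𝒳 h𝒵
  have h2 : AlgSt.RepByAlgSpWith P (BasedFunctor.comp (FibCat.diag f) (CMP.iota f f g)) :=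
    ACP.repWith_comp_of_schLocal' h𝒳 hfT P hPb hPc hP _ _ hf h1
  refine repWith_of_square_fwd P (BasedFunctor.comp (FibCat.diag f) (CMP.iota f f g))
    (FibCat.diag (BasedFunctor.comp f g)) (BasedFunctor.id _) (BasedFunctor.id _)
    (isEquivOver_id _) (isEquivOver_id _)
    (fun x' => mkIso (z := (FibCat.diag (BasedFunctor.comp f g)).obj x')
      (z' := (BasedFunctor.comp (FibCat.diag f) (CMP.iota f f g)).obj x') (Iso.refl _) (Iso.refl _)
      ?_) ?_ ?_ h2
  · change g.map (f.map (𝟙 _)) ≫ g.map (𝟙 _) = 𝟙 _ ≫ g.map (f.map (𝟙 _))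
    rw [f.map_id, g.map_id, Category.id_comp]
  · intro x x₁ β
    apply hom_ext
    · exact (Category.comp_id _).trans (Category.id_comp _).symm
    · exact (Category.comp_id _).trans (Category.id_comp _).symm
  · intro x'
    rw [isHomLift_iff_fst]
    exact IsHomLift.id rfl

end Groth.Agent.Lib.Helper17.DC
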