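import Groth.Agent.Lib.Helper17.DiagCover
import Groth.Agent.Lib.Helper17.DiagComp
import Groth.Agent.Lib.Helper30.EtaleSourceSmooth
import Groth.Agent.S12792
import Groth.Agent.S12765
import Groth.Agent.S10542

set_option autoImplicit false
set_option backward.isDefEq.respectTransparency false
set_option backward.isDefEq.respectTransparency.types false
universe u

namespace Groth.Agent.Lib.Helper17.AFP

open CategoryTheory CategoryTheory.Limits AlgebraicGeometry Opposite AlgSp FibCat Stk AlgSt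
open Groth.Agent.Lib.Helper17 Groth.Agent.Lib.Helper17.FP Groth.Agent.Lib.Helper17.EO
  Groth.Agent.Lib.Helper17.PD Groth.Agent.Lib.Helper17.AT Groth.Agent.Lib.Helper17.AB
  Groth.Agent.Lib.Helper17.AOS Groth.Agent.Lib.Helper17.ACP
open Groth.Agent.Lib.Helper46 Groth.Agent.Lib.Helper46.LocPChart

variable {S : Scheme.{u}}

theorem sm_bc : BC (LocP (S := S) @Smooth) :=
  fun _ _ _ _ h1 h2 h3 h4 _ _ _ _ sq h =>
    locP_of_isPullback Groth.Agent.Lib.Helper30.EtLocalInst.etLocal_smooth h1 h2 h3 h4 sq h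

theorem sm_cp : CP (LocP (S := S) @Smooth) :=
  fun X Y Z hX hY hZ a b ha hb =>
    Groth.Agent.S9985.result @Smooth (Or.inr (Or.inr (Or.inr (Or.inl rfl))))
      (X := ⟨X, hX⟩) (Y := ⟨Y, hY⟩) (Z := ⟨Z, hZ⟩) (ObjectProperty.homMk a) (ObjectProperty.homMk b)
      ha hb

theorem sm_local : IsLocalOnBase (IsFppfCover (S := S)) (LocP @Smooth) :=
  PB.fppf_of_fpqc _ (Groth.Agent.S10542.result S)

/-- the product `x × y : 𝒰 ×_𝒵 𝒱 ⟶ 𝒳 ×_𝒵 𝒴` of two functors with `P` has `P` -/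
theorem repWith_prod (P : MorphismProperty (AlgSp.Sp S)) (hPb : ACP.BC P) (hPc : ACP.CP P)
    (hP : ACov.SchLocal P) {𝒰 𝒱 𝒳 𝒴 𝒵 : AlgSt.Cat S}
    (h𝒰 : FibCat.IsFibGrpd 𝒰.p) (h𝒱 : FibCat.IsFibGrpd 𝒱.p) (h𝒳 : FibCat.IsFibGrpd 𝒳.p)
    (h𝒴 : FibCat.IsFibGrpd 𝒴.p) (h𝒵 : FibCat.IsFibGrpd 𝒵.p)
    (f : 𝒳 ⥤ᵇ 𝒵) (g : 𝒴 ⥤ᵇ 𝒵) (x : 𝒰 ⥤ᵇ 𝒳) (y : 𝒱 ⥤ᵇ 𝒴)
    (hx : AlgSt.RepByAlgSpWith P x) (hy : AlgSt.RepByAlgSpWith P y) :
    AlgSt.RepByAlgSpWith P
      (BasedFunctor.comp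
        (BasedFunctor.comp (PS.paste x f (BasedFunctor.comp y g))
          (FibCat.fpSnd x (FibCat.fpFst f (BasedFunctor.comp y g))))
        (BasedFunctor.comp (PSR.paste f y g) (FibCat.fpFst (FibCat.fpSnd f g) y))) := by
  have hB : FibCat.IsFibGrpd (FibCat.fp (BasedFunctor.comp x f) (BasedFunctor.comp y g)).p :=
    SP.isFibGrpd_fp _ _ h𝒰 h𝒱 h𝒵
  have hfg : FibCat.IsFibGrpd (FibCat.fp f g).p := SP.isFibGrpd_fp f g h𝒳 h𝒴 h𝒵
  have h1 : AlgSt.RepByAlgSpWith P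
      (BasedFunctor.comp (PS.paste x f (BasedFunctor.comp y g))
        (FibCat.fpSnd x (FibCat.fpFst f (BasedFunctor.comp y g)))) :=
    FD.repWith_precomp_equiv P _ (PS.paste_isEquivOver x f (BasedFunctor.comp y g)) _
      (AB.repWith_fpSnd P x (FibCat.fpFst f (BasedFunctor.comp y g)) hx)
  have h2 : AlgSt.RepByAlgSpWith P
      (BasedFunctor.comp (PSR.paste f y g) (FibCat.fpFst (FibCat.fpSnd f g) y)) :=
    FD.repWith_precomp_equiv P _ (PSR.paste_isEquivOver f y g) _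
      (AB.repWith_fpFst P y (FibCat.fpSnd f g) hy)
  exact ACP.repWith_comp_of_schLocal' hB hfg P hPb hPc hP _ _ h1 h2

/-- **the 2-fibre product of algebraic stacks over a stack with representable diagonal is an
algebraic stack** -/
theorem isAlgStack_fp {𝒳 𝒴 𝒵 : AlgSt.Cat S}
    (h𝒵 : Stk.IsStack (QuotSh.J Scheme.fppfPrecoverage S) 𝒵)
    (hΔ : AlgSt.RepByAlgSp1 (FibCat.diag (FibCat.toSelf 𝒵)))
    (h𝒳 : AlgSt.IsAlgStack Scheme.fppfPrecoverage 𝒳)
    (h𝒴 : AlgSt.IsAlgStack Scheme.fppfPrecoverage 𝒴) (f : 𝒳 ⥤ᵇ 𝒵) (g : 𝒴 ⥤ᵇ 𝒵) :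
    AlgSt.IsAlgStack Scheme.fppfPrecoverage (FibCat.fp f g) := by
  have hX := h𝒳.isStack.1
  have hY := h𝒴.isStack.1
  have hZ := h𝒵.1
  have hO : FibCat.IsFibGrpd (FibCat.selfOver (Over S)).p := SP.isFibGrpd_selfOver
  have hW : FibCat.IsFibGrpd (FibCat.fp f g).p := SP.isFibGrpd_fp f g hX hY hZ
  refine ⟨?_, ?_, ?_⟩
  · refine Groth.Agent.S12792.result _ f g h𝒳.isStack h𝒴.isStack ⟨hZ, fun U R hR => ?_⟩
    have := h𝒵.2 R hR
    have : (Stk.resSieve R 𝒵).IsEquivalence := this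
    exact ⟨inferInstance, inferInstance⟩
  · have hΔg : AlgSt.RepByAlgSp1 (FibCat.diag g) := DCN.rep1_diag hY hZ h𝒴.diag hΔ g
    have hΔπ : AlgSt.RepByAlgSpWith ⊤ (FibCat.diag (FibCat.fpFst f g)) :=
      Groth.Agent.Lib.Helper38.DBCAlgSt.repByAlgSpWith_diag_fpFst hY hZ hX ⊤ g f
        ((rep1_iff_top _).mp hΔg)
    have h1 := DC.repWith_diag_comp hW hO ⊤ DCN.top_bc DCN.top_cp DCN.top_schLocal
      (FibCat.fpFst f g) (FibCat.toSelf 𝒳) hΔπ ((rep1_iff_top _).mp h𝒳.diag)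
    have e : BasedFunctor.comp (FibCat.fpFst f g) (FibCat.toSelf 𝒳) =
        FibCat.toSelf (FibCat.fp f g) := DR.basedFunctor_ext (FibCat.fpFst f g).w
    rw [e] at h1
    exact (rep1_iff_top _).mpr h1
  · obtain ⟨U, x, hxs, hxsurj⟩ := h𝒳.atlas
    obtain ⟨V, y, hys, hysurj⟩ := h𝒴.atlas
    have hU : FibCat.IsFibGrpd (FibCat.overCat U).p := FG.isFibGrpd_overForget U
    have hV : FibCat.IsFibGrpd (FibCat.overCat V).p := FG.isFibGrpd_overForget V
    have hR : FibCat.IsFibGrpd (FibCat.fp (BasedFunctor.comp x f) (BasedFunctor.comp y g)).p :=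
      SP.isFibGrpd_fp _ _ hU hV hZ
    have hm₁ := repWith_prod _ sm_bc sm_cp (ACov.schLocal_of_isLocalOnBase _ sm_local)
      hU hV hX hY hZ f g x y hxs hys
    have hm₂ := repWith_prod _ DL.surj_bc DL.surj_cp
      (ACov.schLocal_of_isLocalOnBase _ SD.isLocalOnBase_isSurjectiveMor)
      hU hV hX hY hZ f g x y hxsurj hysurj
    -- the source of the product is an algebraic space
    have hrep : AlgSt.RepByAlgSp (FibCat.fp (BasedFunctor.comp x f) (BasedFunctor.comp y g)) :=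
      (Groth.Agent.S12765.result hZ).mp hΔ V (BasedFunctor.comp y g) U (BasedFunctor.comp x f)
    obtain ⟨R, e, he⟩ := hrep
    obtain ⟨W, c, hce, hcs⟩ := R.property.atlas
    have hcet := ACov.isEtaleMor_of_repWith c hce
    have hWf : FibCat.IsFibGrpd (FibCat.overCat W).p := FG.isFibGrpd_overForget W
    let WW : AlgSp.Space S := ⟨(yon S).obj W, IsAlgSpace.yon_obj W⟩
    let x₀ : FibCat.overCat W ⥤ᵇ ofSp R.obj := BasedFunctor.comp (ofOverCat W) (ofSpMap c)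
    have hx₀ : ∀ (C : MorphismProperty (Sp S)), BC C → C c → AlgSt.RepByAlgSpWith C x₀ :=
      fun C hCb hc => FD.repWith_precomp_equiv C (ofOverCat W) (AD.ofOverCat_isEquivOver W) _
        (DCV.repWith_ofSpMap C hCb WW R c hc)
    let mm : FibCat.fp (BasedFunctor.comp x f) (BasedFunctor.comp y g) ⥤ᵇ FibCat.fp f g :=
      BasedFunctor.comp
        (BasedFunctor.comp (PS.paste x f (BasedFunctor.comp y g))
          (FibCat.fpSnd x (FibCat.fpFst f (BasedFunctor.comp y g))))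
        (BasedFunctor.comp (PSR.paste f y g) (FibCat.fpFst (FibCat.fpSnd f g) y))
    refine ⟨W, BasedFunctor.comp x₀ (BasedFunctor.comp e mm), ?_, ?_⟩
    · exact repWith_comp_of_schLocal' hWf hW _ sm_bc sm_cp
        (ACov.schLocal_of_isLocalOnBase _ sm_local) x₀ _
        (hx₀ _ sm_bc (ACov.locP_of_isEtaleMor (P := @Smooth)
          (fun X Y f hf => by have := hf; infer_instance) c hcet))
        (FD.repWith_precomp_equiv _ e he _ hm₁)
    · exact repWith_comp_of_schLocal' hWf hW _ DL.surj_bc DL.surj_cp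
        (ACov.schLocal_of_isLocalOnBase _ SD.isLocalOnBase_isSurjectiveMor) x₀ _
        (hx₀ _ DL.surj_bc (ACov.points_map_surjective c hcs))
        (FD.repWith_precomp_equiv _ e he _ hm₂)

end Groth.Agent.Lib.Helper17.AFP
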