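import Groth.Agent.Lib.Helper17.PointsTop

set_option autoImplicit false
set_option backward.isDefEq.respectTransparency false
set_option backward.isDefEq.respectTransparency.types false
universe u

namespace Groth.Agent.Lib.Helper17.PTS

open CategoryTheory CategoryTheory.Limits AlgebraicGeometry Opposite AlgSp FibCat Stk AlgSt
open Groth.Agent.Lib.Helper17 Groth.Agent.Lib.Helper17.FP Groth.Agent.Lib.Helper17.EO
  Groth.Agent.Lib.Helper17.PD Groth.Agent.Lib.Helper17.AT Groth.Agent.Lib.Helper17.AB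
  Groth.Agent.Lib.Helper17.AOS Groth.Agent.Lib.Helper17.ACP
open Groth.Agent.Lib.Helper46 Groth.Agent.Lib.Helper46.LocPChart

variable {S : Scheme.{u}}

theorem locP_mono {P P' : MorphismProperty Scheme.{u}} (h : ∀ ⦃X Y : Scheme.{u}⦄ (f : X ⟶ Y), P f → P' f)
    {F G : Sp S} (f : F ⟶ G) (hf : LocP P f) : LocP P' f := by
  intro U V a b g ha hb w
  exact h _ (hf a b g ha hb w)

theorem repWith_locP_mono {P P' : MorphismProperty Scheme.{u}}
    (h : ∀ ⦃X Y : Scheme.{u}⦄ (f : X ⟶ Y), P f → P' f) {𝒳 𝒴 : AlgSt.Cat S} (f : 𝒳 ⥤ᵇ 𝒴)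
    (hf : AlgSt.RepByAlgSpWith (LocP P) f) : AlgSt.RepByAlgSpWith (LocP P') f :=
  DDC.repWith_mono (fun _ _ a _ _ ha => locP_mono h a ha) f hf

theorem flat_of_smooth {𝒳 𝒴 : AlgSt.Cat S} (f : 𝒳 ⥤ᵇ 𝒴)
    (hf : AlgSt.RepByAlgSpWith (LocP @Smooth) f) : AlgSt.RepByAlgSpWith (LocP @Flat) f :=
  repWith_locP_mono (fun _ _ g hg => by have := hg; infer_instance) f hf

theorem lfp_of_smooth {𝒳 𝒴 : AlgSt.Cat S} (f : 𝒳 ⥤ᵇ 𝒴)
    (hf : AlgSt.RepByAlgSpWith (LocP @Smooth) f) :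
    AlgSt.RepByAlgSpWith (LocP @LocallyOfFinitePresentation) f :=
  repWith_locP_mono (fun _ _ g hg => by have := hg; infer_instance) f hf

theorem flat_schLocal : ACov.SchLocal (LocP (S := S) @Flat) :=
  ACov.schLocal_of_isLocalOnBase _ DL.flat_local

theorem lfp_schLocal : ACov.SchLocal (LocP (S := S) @LocallyOfFinitePresentation) :=
  ACov.schLocal_of_isLocalOnBase _ DL.lfp_local

/-- **a flat, locally finitely presented chart is open on points** (category fibred in groupoids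
with representable diagonal) -/
theorem isOpenMap_ofChart {𝒳 : AlgSt.Cat S} (hX : FibCat.IsFibGrpd 𝒳.p)
    (hΔ : AlgSt.RepByAlgSp1 (FibCat.diag (FibCat.toSelf 𝒳))) {U₀ : Over S}
    (x₀ : FibCat.overCat U₀ ⥤ᵇ 𝒳) (h1 : AlgSt.RepByAlgSpWith (LocP @Flat) x₀)
    (h2 : AlgSt.RepByAlgSpWith (LocP @LocallyOfFinitePresentation) x₀) :
    IsOpenMap (AlgSt.Points.ofChart x₀) := by
  intro O hO U x _
  obtain ⟨W, a, b, ha, -, -, -, hw, hpt⟩ := exists_bridge_full hX hΔ x x₀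
  have : Flat a.left := ha @Flat (fun _ _ f hf => by have := hf; infer_instance)
    DL.flat_bc DL.flat_cp h1
  have : LocallyOfFinitePresentation a.left :=
    ha @LocallyOfFinitePresentation (fun _ _ f hf => by have := hf; infer_instance)
      DL.lfp_bc DL.lfp_cp h2
  have e : AlgSt.Points.ofChart x ⁻¹' (AlgSt.Points.ofChart x₀ '' O) =
      a.left '' (b.left ⁻¹' O) := by
    ext u
    constructor
    · rintro ⟨u₀, hu₀, h⟩
      obtain ⟨w, rfl, rfl⟩ := hpt u u₀ h.symm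
      exact ⟨w, hu₀, rfl⟩
    · rintro ⟨w, hw', rfl⟩
      exact ⟨b.left w, hw', (hw w).symm⟩
  rw [e]
  exact a.left.isOpenMap _ (hO.preimage b.left.continuous)

/-- **every chart of an algebraic stack is continuous on points** -/
theorem continuous_ofChart {𝒳 : AlgSt.Cat S} (h𝒳 : AlgSt.IsAlgStack Scheme.fppfPrecoverage 𝒳)
    {U : Over S} (x : FibCat.overCat U ⥤ᵇ 𝒳) : Continuous (AlgSt.Points.ofChart x) := by
  have hX := h𝒳.isStack.1
  obtain ⟨U₀, x₀, hxs, hxsurj⟩ := h𝒳.atlas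
  rw [continuous_def]
  intro W' hW'
  obtain ⟨W, a, b, ha, ha', -, -, hw, hpt⟩ := exists_bridge_full hX h𝒳.diag x x₀
  have : Smooth a.left := ha @Smooth (fun _ _ f hf => by have := hf; infer_instance)
    AFP.sm_bc AFP.sm_cp hxs
  have hsurj := ha' hxsurj
  have hO : IsOpen (AlgSt.Points.ofChart x₀ ⁻¹' W') := hW' U₀ x₀ hxs
  have e : AlgSt.Points.ofChart x ⁻¹' W' =
      a.left '' (b.left ⁻¹' (AlgSt.Points.ofChart x₀ ⁻¹' W')) := by
    ext u
    constructor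
    · intro hu
      obtain ⟨w, rfl⟩ := hsurj u
      refine ⟨w, ?_, rfl⟩
      change AlgSt.Points.ofChart x₀ (b.left w) ∈ W'
      rw [← hw w]
      exact hu
    · rintro ⟨w, hw', rfl⟩
      change AlgSt.Points.ofChart x (a.left w) ∈ W'
      rw [hw w]
      exact hw'
  rw [e]
  exact a.left.isOpenMap _ (hO.preimage b.left.continuous)

/-- **the map on points of a functor to an algebraic stack is continuous** -/
theorem continuous_map {𝒳 𝒴 : AlgSt.Cat S} (h𝒴 : AlgSt.IsAlgStack Scheme.fppfPrecoverage 𝒴)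
    (f : 𝒳 ⥤ᵇ 𝒴) : Continuous (AlgSt.Points.map f) := by
  rw [continuous_def]
  intro W' hW' U x _
  exact (continuous_ofChart h𝒴 (BasedFunctor.comp x f)).isOpen_preimage W' hW'

/-- the smooth surjective chart of the category of an algebraic space given by an etale atlas, and
its composites -/
theorem exists_space_chart (U : AlgSp.Space S) :
    ∃ (W : Over S) (q : FibCat.overCat W ⥤ᵇ ofSp U.obj),
      AlgSt.RepByAlgSpWith (LocP @Smooth) q ∧ AlgSt.IsSurjective q ∧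
      ∀ (P : MorphismProperty Scheme.{u}), (∀ ⦃X Y : Scheme.{u}⦄ (f : X ⟶ Y), Etale f → P f) →
        BC (LocP (S := S) P) → CP (LocP (S := S) P) → ACov.SchLocal (LocP (S := S) P) →
        ∀ {𝒳 : AlgSt.Cat S}, FibCat.IsFibGrpd 𝒳.p → ∀ (u : ofSp U.obj ⥤ᵇ 𝒳),
          AlgSt.RepByAlgSpWith (LocP P) u → AlgSt.RepByAlgSpWith (LocP P) (BasedFunctor.comp q u) := by
  obtain ⟨W, c, hce, hcs⟩ := U.property.atlas
  have hcet := ACov.isEtaleMor_of_repWith c hce
  have hcsurj : IsSurjectiveMor c := ACov.points_map_surjective c hcs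
  refine ⟨W, BasedFunctor.comp (ofOverCat W) (ofSpMap c), ?_, ?_, ?_⟩
  · exact FD.repWith_precomp_equiv _ (ofOverCat W) (AD.ofOverCat_isEquivOver W) _
      (DCV.repWith_ofSpMap _ AFP.sm_bc ⟨(yon S).obj W, IsAlgSpace.yon_obj W⟩ U c
        (ACov.locP_of_isEtaleMor (P := @Smooth) (fun X Y f hf => by have := hf; infer_instance)
          c hcet))
  · exact isSurjective_of_repWith (Stk.isFibGrpd_ofPsh _) _
      (FD.repWith_precomp_equiv _ (ofOverCat W) (AD.ofOverCat_isEquivOver W) _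
        (DCV.repWith_ofSpMap _ DL.surj_bc ⟨(yon S).obj W, IsAlgSpace.yon_obj W⟩ U c hcsurj))
  · intro P hP hbc hcp hl 𝒳 hX u hu
    exact CT.repWith_chart_of_space _ hbc hcp hl hX U u hu c (ACov.locP_of_isEtaleMor hP c hcet)

/-- **a flat, locally finitely presented morphism from an algebraic space is open on points** -/
theorem isOpenMap_map_of_space {𝒳 : AlgSt.Cat S} (hX : FibCat.IsFibGrpd 𝒳.p)
    (hΔ : AlgSt.RepByAlgSp1 (FibCat.diag (FibCat.toSelf 𝒳))) (U : AlgSp.Space S)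
    (u : ofSp U.obj ⥤ᵇ 𝒳) (hu₁ : AlgSt.RepByAlgSpWith (LocP @Flat) u)
    (hu₂ : AlgSt.RepByAlgSpWith (LocP @LocallyOfFinitePresentation) u) :
    IsOpenMap (AlgSt.Points.map u) := by
  obtain ⟨W, q, hqs, hqsurj, hq⟩ := exists_space_chart U
  have h1 := hq @Flat (fun _ _ f hf => by have := hf; infer_instance) DL.flat_bc DL.flat_cp
    flat_schLocal hX u hu₁
  have h2 := hq @LocallyOfFinitePresentation (fun _ _ f hf => by have := hf; infer_instance)
    DL.lfp_bc DL.lfp_cp lfp_schLocal hX u hu₂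
  intro O hO
  have hO' : IsOpen (AlgSt.Points.ofChart q ⁻¹' O) := hO W q hqs
  have e : AlgSt.Points.map u '' O =
      AlgSt.Points.ofChart (BasedFunctor.comp q u) '' (AlgSt.Points.ofChart q ⁻¹' O) := by
    ext η
    constructor
    · rintro ⟨ξ, hξ, rfl⟩
      obtain ⟨w, rfl⟩ := ofChart_surjective q hqsurj ξ
      exact ⟨w, hξ, rfl⟩
    · rintro ⟨w, hw, rfl⟩
      exact ⟨AlgSt.Points.ofChart q w, hw, rfl⟩
  rw [e]
  exact isOpenMap_ofChart hX hΔ _ h1 h2 _ hO'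

/-- the topology of `|𝒳|` is the quotient topology of any surjective flat lfp chart from a space -/
theorem isOpen_iff_preimage_space {𝒳 : AlgSt.Cat S}
    (h𝒳 : AlgSt.IsAlgStack Scheme.fppfPrecoverage 𝒳) (U : AlgSp.Space S)
    (p : ofSp U.obj ⥤ᵇ 𝒳) (hp₁ : AlgSt.RepByAlgSpWith (LocP @Flat) p)
    (hp₂ : AlgSt.RepByAlgSpWith (LocP @LocallyOfFinitePresentation) p)
    (hp₃ : AlgSt.RepByAlgSpWith IsSurjectiveMor p) (W : Set (AlgSt.Points 𝒳)) :
    IsOpen W ↔ IsOpen (AlgSt.Points.map p ⁻¹' W) := by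
  have hX := h𝒳.isStack.1
  constructor
  · exact fun h => (continuous_map h𝒳 p).isOpen_preimage _ h
  · intro h
    have hs : Function.Surjective (AlgSt.Points.map p) := isSurjective_of_repWith hX p hp₃
    have := isOpenMap_map_of_space hX h𝒳.diag U p hp₁ hp₂ _ h
    rwa [Set.image_preimage_eq _ hs] at this

/-- `|𝒳|` is locally quasi-compact -/
theorem exists_compact_open_nhds {𝒳 : AlgSt.Cat S}
    (h𝒳 : AlgSt.IsAlgStack Scheme.fppfPrecoverage 𝒳) (x : AlgSt.Points 𝒳)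
    (W : Set (AlgSt.Points 𝒳)) (hW : IsOpen W) (hx : x ∈ W) :
    ∃ V : Set (AlgSt.Points 𝒳), IsOpen V ∧ IsCompact V ∧ x ∈ V ∧ V ⊆ W := by
  have hX := h𝒳.isStack.1
  obtain ⟨U₀, x₀, hxs, hxsurj⟩ := h𝒳.atlas
  have hsurj := ofChart_surjective x₀ (isSurjective_of_repWith hX x₀ hxsurj)
  obtain ⟨u₀, rfl⟩ := hsurj x
  have hO : IsOpen (AlgSt.Points.ofChart x₀ ⁻¹' W) := hW U₀ x₀ hxs
  obtain ⟨V₀, hV₀aff, hu₀, hV₀O⟩ :=
    exists_isAffineOpen_mem_and_subset (x := u₀) (U := ⟨_, hO⟩) hx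
  refine ⟨AlgSt.Points.ofChart x₀ '' V₀, ?_, ?_, ⟨u₀, hu₀, rfl⟩, ?_⟩
  · exact isOpenMap_ofChart hX h𝒳.diag x₀ (flat_of_smooth _ hxs) (lfp_of_smooth _ hxs) _ V₀.2
  · exact hV₀aff.isCompact.image (continuous_ofChart h𝒳 x₀)
  · rintro _ ⟨v, hv, rfl⟩
    exact hV₀O hv

end Groth.Agent.Lib.Helper17.PTS
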