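import Groth.Prelude.Def_FibCat2
import Groth.Agent.Lib.Helper17.HomLift
import Groth.Agent.Lib.Helper17.FibProd
import Groth.Agent.Lib.Helper17.FibGrpd

set_option autoImplicit false
universe v₃ u₃ v₂ u₂ v u

namespace Groth.Agent.Lib.Helper17.SP

open CategoryTheory CategoryTheory.Functor CategoryTheory.Limits FibCat
open Groth.Agent.Lib.Helper17 Groth.Agent.Lib.Helper17.FP Groth.Agent.Lib.Helper17.FG

variable {C : Type u} [Category.{v} C]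

theorem isFibGrpd_selfOver : FibCat.IsFibGrpd (FibCat.selfOver C).p := by
  refine ⟨?_, ?_⟩
  · intro x V f
    exact ⟨V, f, hl_of_eq rfl⟩
  · intro y x φ
    refine { toIsHomLift := inferInstance, universal_property' := ?_ }
    intro a' g φ' hφ'
    have e1 : g ≫ (𝟭 C).map φ = (𝟭 C).map φ' := hl_eq hφ'
    refine ⟨g, ⟨hl_of_eq rfl, e1⟩, ?_⟩
    rintro χ ⟨h1, -⟩
    have e2 : g = (𝟭 C).map χ := hl_eq h1
    exact e2.symm

section General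

universe v₄ u₄

variable {𝒳 : BasedCategory.{v₂, u₂} C} {𝒴 : BasedCategory.{v₃, u₃} C}
  {𝒵 : BasedCategory.{v₄, u₄} C}

/-- universe-general version: the 2-fibre product of categories fibred in groupoids is fibred in
groupoids -/
theorem isFibGrpd_fp (F : 𝒳 ⥤ᵇ 𝒵) (G : 𝒴 ⥤ᵇ 𝒵) (h𝒳 : FibCat.IsFibGrpd 𝒳.p)
    (h𝒴 : FibCat.IsFibGrpd 𝒴.p) (h𝒵 : FibCat.IsFibGrpd 𝒵.p) :
    FibCat.IsFibGrpd (FibCat.fp F G).p := by
  refine ⟨?_, ?_⟩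
  · intro z V f
    obtain ⟨f', rfl⟩ : ∃ f' : V ⟶ 𝒳.p.obj z.obj.fst, f' = f := ⟨f, rfl⟩
    obtain ⟨x', φ, hφ⟩ := exists_lift_of_eq h𝒳 (x := z.obj.fst) rfl f'
    obtain ⟨y', ψ, hψ⟩ := exists_lift_of_eq h𝒴 (x := z.obj.snd) (snd_obj z) f'
    have hFφ : 𝒵.p.IsStronglyCartesian f' (F.map φ) := sc_all h𝒵 f' (F.map φ) inferInstance
    have hGψ : 𝒵.p.IsStronglyCartesian f' (G.map ψ) := sc_all h𝒵 f' (G.map ψ) inferInstance
    obtain ⟨z', k, hk⟩ := exists_sc_lift z f' φ hφ ψ hψ hFφ hGψ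
    exact ⟨z', k, hk.toIsHomLift⟩
  · intro z' z k
    apply sc_of_components k
    · exact h𝒳.isStronglyCartesian k.hom.fst
    · exact sc_all h𝒴 _ k.hom.snd (FibCat.fp_isHomLift_snd F G k)
    · have h1 : 𝒴.p.IsHomLift (𝒳.p.map k.hom.fst) k.hom.snd := FibCat.fp_isHomLift_snd F G k
      exact sc_all h𝒵 _ (G.map k.hom.snd) inferInstance

end General

variable {𝒳 : BasedCategory.{v₂, u₂} C} {𝒴 : BasedCategory.{v₃, u₃} C}

theorem isFibGrpd_sq (h𝒳 : FibCat.IsFibGrpd 𝒳.p) (h𝒴 : FibCat.IsFibGrpd 𝒴.p) :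
    FibCat.IsFibGrpd (fp (toSelf 𝒳) (toSelf 𝒴)).p :=
  isFibGrpd_fp (toSelf 𝒳) (toSelf 𝒴) h𝒳 h𝒴 isFibGrpd_selfOver

theorem iso_hom_eq (z : (fp (toSelf 𝒳) (toSelf 𝒴)).obj) :
    z.obj.iso.hom = eqToHom (snd_obj z).symm := by
  have hz := iso_isHomLift z
  have h1 := hl_fac' hz
  have h2 : (FibCat.selfOver C).p.map z.obj.iso.hom = z.obj.iso.hom := rfl
  rw [h2] at h1
  rw [h1]
  simp
  rfl

/-- in `𝒳 ×_C 𝒴` the commutation condition for morphisms is automatic -/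
theorem w_of_lift (z z' : (fp (toSelf 𝒳) (toSelf 𝒴)).obj) (α : z.obj.fst ⟶ z'.obj.fst)
    (β : z.obj.snd ⟶ z'.obj.snd) (h : 𝒴.p.IsHomLift (𝒳.p.map α) β) :
    (toSelf 𝒳).map α ≫ z'.obj.iso.hom = z.obj.iso.hom ≫ (toSelf 𝒴).map β := by
  rw [iso_hom_eq z, iso_hom_eq z']
  have h1 := hl_fac' h
  change 𝒳.p.map α ≫ _ = _ ≫ 𝒴.p.map β
  rw [h1]
  simp

/-- morphisms of `𝒳 ×_C 𝒴` from components over the same base morphism -/
def mkHomSq {z z' : (fp (toSelf 𝒳) (toSelf 𝒴)).obj} (α : z.obj.fst ⟶ z'.obj.fst)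
    (β : z.obj.snd ⟶ z'.obj.snd) (h : 𝒴.p.IsHomLift (𝒳.p.map α) β) : z ⟶ z' :=
  mkHom α β (w_of_lift z z' α β h)

theorem lift_map_of_lift {𝒜 : Type u₂} {ℬ : Type u₃} [Category.{v₂} 𝒜] [Category.{v₃} ℬ]
    {p : 𝒜 ⥤ ℬ} {R S : ℬ} {f : R ⟶ S} {a b a' b' : 𝒜} {φ : a ⟶ b} {ψ : a' ⟶ b'}
    (h1 : p.IsHomLift f φ) (h2 : p.IsHomLift f ψ) : p.IsHomLift (p.map φ) ψ := by
  subst_hom_lift p f φ
  exact h2

/-- isomorphisms of `𝒳 ×_C 𝒴` from isomorphisms of the components over the same base morphism -/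
def mkIsoSq {z z' : (fp (toSelf 𝒳) (toSelf 𝒴)).obj} (α : z.obj.fst ≅ z'.obj.fst)
    (β : z.obj.snd ≅ z'.obj.snd) (h : 𝒴.p.IsHomLift (𝒳.p.map α.hom) β.hom) : z ≅ z' :=
  mkIso α β (w_of_lift z z' α.hom β.hom h)

end Groth.Agent.Lib.Helper17.SP
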