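import Groth.Agent.Lib.Helper17.PshStack
import Groth.Agent.Lib.Helper17.PointsTop2
import Groth.Agent.S12770

set_option autoImplicit false
set_option backward.isDefEq.respectTransparency false
set_option backward.isDefEq.respectTransparency.types false
universe u

namespace Groth.Agent.Lib.Helper17.SPS

open CategoryTheory CategoryTheory.Limits AlgebraicGeometry Opposite AlgSp FibCat Stk AlgSt
open Groth.Agent.Lib.Helper17 Groth.Agent.Lib.Helper17.FP Groth.Agent.Lib.Helper17.EO
  Groth.Agent.Lib.Helper17.PD Groth.Agent.Lib.Helper17.AT Groth.Agent.Lib.Helper17.AB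
  Groth.Agent.Lib.Helper17.AOS Groth.Agent.Lib.Helper17.ACP
open Groth.Agent.Lib.Helper46 Groth.Agent.Lib.Helper46.LocPChart

variable {S : Scheme.{u}}

/-- **the category of an fppf sheaf is a stack** -/
theorem isStack_ofSp (F : Sp S) :
    Stk.IsStack (QuotSh.J Scheme.fppfPrecoverage S) (ofSp F) :=
  (PSK.isStack_ofPsh_iff _ F.obj).mpr ((isSheaf_iff_isSheaf_of_type _ _).mp F.property)

theorem et_bc : BC (IsEtaleMor (S := S)) :=
  fun _ _ _ _ h1 h2 h3 h4 _ _ _ _ sq h => STLocal.isEtaleMor_baseChange h1 h2 h3 h4 sq h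

/-- the etale surjective chart of the category of an algebraic space -/
theorem exists_etale_chart (X : AlgSp.Space S) :
    ∃ (W : Over S) (q : FibCat.overCat W ⥤ᵇ ofSp X.obj),
      AlgSt.RepByAlgSpWith IsEtaleMor q ∧ AlgSt.RepByAlgSpWith (LocP @Smooth) q ∧
      AlgSt.RepByAlgSpWith IsSurjectiveMor q := by
  obtain ⟨W, c, hce, hcs⟩ := X.property.atlas
  have hcet := ACov.isEtaleMor_of_repWith c hce
  have hcsurj : IsSurjectiveMor c := ACov.points_map_surjective c hcs
  refine ⟨W, BasedFunctor.comp (ofOverCat W) (ofSpMap c), ?_, ?_, ?_⟩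
  · exact FD.repWith_precomp_equiv _ (ofOverCat W) (AD.ofOverCat_isEquivOver W) _
      (DCV.repWith_ofSpMap _ et_bc ⟨(yon S).obj W, IsAlgSpace.yon_obj W⟩ X c hcet)
  · exact FD.repWith_precomp_equiv _ (ofOverCat W) (AD.ofOverCat_isEquivOver W) _
      (DCV.repWith_ofSpMap _ AFP.sm_bc ⟨(yon S).obj W, IsAlgSpace.yon_obj W⟩ X c
        (ACov.locP_of_isEtaleMor (P := @Smooth) (fun X Y f hf => by have := hf; infer_instance)
          c hcet))
  · exact FD.repWith_precomp_equiv _ (ofOverCat W) (AD.ofOverCat_isEquivOver W) _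
      (DCV.repWith_ofSpMap _ DL.surj_bc ⟨(yon S).obj W, IsAlgSpace.yon_obj W⟩ X c hcsurj)

/-- **the category of an algebraic space is an algebraic stack** -/
theorem isAlgStack_ofSp (X : AlgSp.Space S) :
    AlgSt.IsAlgStack Scheme.fppfPrecoverage (ofSp X.obj) := by
  obtain ⟨W, q, -, hqs, hqsurj⟩ := exists_etale_chart X
  exact ⟨isStack_ofSp X.obj, SPD.rep1_diag_ofSp X, ⟨W, q, hqs, hqsurj⟩⟩

/-- the category of an algebraic space is a Deligne-Mumford stack -/
theorem isDM_ofSp (X : AlgSp.Space S) : AlgSt.IsDM Scheme.fppfPrecoverage (ofSp X.obj) := by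
  obtain ⟨W, q, hqe, -, hqsurj⟩ := exists_etale_chart X
  exact ⟨isAlgStack_ofSp X, ⟨W, q, hqe, hqsurj⟩⟩

/-- a category representable by an algebraic space is a Deligne-Mumford stack -/
theorem isDM_of_repByAlgSp {𝒳 : AlgSt.Cat S} (hr : AlgSt.RepByAlgSp 𝒳) :
    AlgSt.IsDM Scheme.fppfPrecoverage 𝒳 := by
  obtain ⟨X, e, he⟩ := hr
  obtain ⟨W, q, hqe, -, hqsurj⟩ := exists_etale_chart X
  refine ⟨(Groth.Agent.S12770.result e he).mp (isAlgStack_ofSp X), ⟨W, BasedFunctor.comp q e, ?_, ?_⟩⟩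
  · exact CMP.repWith_comp_equiv _ q e he hqe
  · exact CMP.repWith_comp_equiv _ q e he hqsurj

/-- the slice over a scheme is an algebraic stack -/
theorem isAlgStack_overCat (U : Over S) :
    AlgSt.IsAlgStack Scheme.fppfPrecoverage (FibCat.overCat U) :=
  (Groth.Agent.S12770.result (ofOverCat U) (AD.ofOverCat_isEquivOver U)).mpr
    (isAlgStack_ofSp ⟨(yon S).obj U, IsAlgSpace.yon_obj U⟩)

end Groth.Agent.Lib.Helper17.SPS
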