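import Groth.Agent.Lib.Helper17.QcCover
import Groth.Agent.Lib.Helper46.LargestOpen

set_option autoImplicit false
set_option backward.isDefEq.respectTransparency false
set_option backward.isDefEq.respectTransparency.types false
universe u w

namespace Groth.Agent.Lib.Helper17.PTS

open CategoryTheory CategoryTheory.Limits AlgebraicGeometry Opposite AlgSp FibCat Stk AlgSt
open Groth.Agent.Lib.Helper17 Groth.Agent.Lib.Helper17.FP Groth.Agent.Lib.Helper17.EO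
  Groth.Agent.Lib.Helper17.PD Groth.Agent.Lib.Helper17.AT Groth.Agent.Lib.Helper17.AB
  Groth.Agent.Lib.Helper17.AOS Groth.Agent.Lib.Helper17.ACP
open Groth.Agent.Lib.Helper46 Groth.Agent.Lib.Helper46.LocPChart

variable {S : Scheme.{u}}

/-- **a flat, locally finitely presented morphism of algebraic stacks is open on points** -/
theorem isOpenMap_map_of_flat_lfp {𝒰 𝒳 : AlgSt.Cat S}
    (h𝒰 : AlgSt.IsAlgStack Scheme.fppfPrecoverage 𝒰)
    (h𝒳 : AlgSt.IsAlgStack Scheme.fppfPrecoverage 𝒳) (i : 𝒰 ⥤ᵇ 𝒳)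
    (hi₁ : AlgSt.RepByAlgSpWith (LocP @Flat) i)
    (hi₂ : AlgSt.RepByAlgSpWith (LocP @LocallyOfFinitePresentation) i) :
    IsOpenMap (AlgSt.Points.map i) := by
  have hX := h𝒳.isStack.1
  have hU := h𝒰.isStack.1
  obtain ⟨U₀, q, hqs, hqsurj⟩ := h𝒰.atlas
  have hU₀f : FibCat.IsFibGrpd (FibCat.overCat U₀).p := FG.isFibGrpd_overForget U₀
  have h1 : AlgSt.RepByAlgSpWith (LocP @Flat) (BasedFunctor.comp q i) :=
    repWith_comp_of_schLocal' hU₀f hX _ DL.flat_bc DL.flat_cp flat_schLocal q i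
      (flat_of_smooth q hqs) hi₁
  have h2 : AlgSt.RepByAlgSpWith (LocP @LocallyOfFinitePresentation) (BasedFunctor.comp q i) :=
    repWith_comp_of_schLocal' hU₀f hX _ DL.lfp_bc DL.lfp_cp lfp_schLocal q i
      (lfp_of_smooth q hqs) hi₂
  have hsj := ofChart_surjective q (isSurjective_of_repWith hU q hqsurj)
  intro O hO
  have hO' : IsOpen (AlgSt.Points.ofChart q ⁻¹' O) := hO U₀ q hqs
  have e : AlgSt.Points.map i '' O =
      AlgSt.Points.ofChart (BasedFunctor.comp q i) '' (AlgSt.Points.ofChart q ⁻¹' O) := by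
    ext η
    constructor
    · rintro ⟨ξ, hξ, rfl⟩
      obtain ⟨w, rfl⟩ := hsj ξ
      exact ⟨w, hξ, rfl⟩
    · rintro ⟨w, hw, rfl⟩
      exact ⟨AlgSt.Points.ofChart q w, hw, rfl⟩
  rw [e]
  exact isOpenMap_ofChart hX h𝒳.diag _ h1 h2 _ hO'

/-- an open immersion is flat and locally of finite presentation -/
theorem flat_lfp_of_isOpenImm {𝒰 𝒳 : AlgSt.Cat S} (i : 𝒰 ⥤ᵇ 𝒳) (hi : AlgSt.IsOpenImm i) :
    AlgSt.RepByAlgSpWith (LocP @Flat) i ∧
      AlgSt.RepByAlgSpWith (LocP @LocallyOfFinitePresentation) i ∧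
      AlgSt.RepByAlgSpWith (LocP @Smooth) i := by
  have h : AlgSt.RepByAlgSpWith (LocP @Smooth) i :=
    DDC.repWith_mono (fun _ _ a _ _ ha =>
      STLocal.sm_of_isEtaleMor a (LargestOpen.isEtaleMor_of_isOpenImmersion a ha)) i hi
  exact ⟨flat_of_smooth i h, lfp_of_smooth i h, h⟩

/-- an open immersion of algebraic stacks is open on points -/
theorem isOpenMap_map_of_isOpenImm {𝒰 𝒳 : AlgSt.Cat S}
    (h𝒰 : AlgSt.IsAlgStack Scheme.fppfPrecoverage 𝒰)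
    (h𝒳 : AlgSt.IsAlgStack Scheme.fppfPrecoverage 𝒳) (i : 𝒰 ⥤ᵇ 𝒳) (hi : AlgSt.IsOpenImm i) :
    IsOpenMap (AlgSt.Points.map i) := by
  obtain ⟨h1, h2, -⟩ := flat_lfp_of_isOpenImm i hi
  exact isOpenMap_map_of_flat_lfp h𝒰 h𝒳 i h1 h2

theorem isOpen_range_subIncl {𝒳 : AlgSt.Cat S}
    (h𝒳 : AlgSt.IsAlgStack Scheme.fppfPrecoverage 𝒳) (Q : 𝒳.obj → Prop)
    (hQ : AlgSt.IsOpenSubstack 𝒳 Q Scheme.fppfPrecoverage) :
    IsOpen (Set.range (AlgSt.Points.map (AlgSt.subIncl 𝒳 Q))) :=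
  (isOpenMap_map_of_isOpenImm hQ.2.1 h𝒳 _ hQ.2.2).isOpen_range

/-- a quasi-compact open substack covered by open substacks is covered by finitely many -/
theorem exists_finset_subcover {𝒳 : AlgSt.Cat S}
    (h𝒳 : AlgSt.IsAlgStack Scheme.fppfPrecoverage 𝒳) (Q' : 𝒳.obj → Prop)
    (hQ' : AlgSt.IsOpenSubstack 𝒳 Q' Scheme.fppfPrecoverage)
    (hqc : AlgSt.IsQuasiCompact (AlgSt.fullSub 𝒳 Q'))
    {ι : Type w} (Q : ι → 𝒳.obj → Prop)
    (hQ : ∀ i, AlgSt.IsOpenSubstack 𝒳 (Q i) Scheme.fppfPrecoverage)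
    (hcov : Set.range (AlgSt.Points.map (AlgSt.subIncl 𝒳 Q')) ⊆
      ⋃ i, Set.range (AlgSt.Points.map (AlgSt.subIncl 𝒳 (Q i)))) :
    ∃ I' : Finset ι, Set.range (AlgSt.Points.map (AlgSt.subIncl 𝒳 Q')) ⊆
      ⋃ i ∈ I', Set.range (AlgSt.Points.map (AlgSt.subIncl 𝒳 (Q i))) := by
  have hc : CompactSpace (AlgSt.Points (AlgSt.fullSub 𝒳 Q')) :=
    (isQuasiCompact_iff_compactSpace hQ'.2.1).mp hqc
  have hcomp : IsCompact (Set.range (AlgSt.Points.map (AlgSt.subIncl 𝒳 Q'))) :=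
    isCompact_range (continuous_map h𝒳 _)
  exact hcomp.elim_finite_subcover _ (fun i => isOpen_range_subIncl h𝒳 (Q i) (hQ i)) hcov

end Groth.Agent.Lib.Helper17.PTS
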