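import Groth.Agent.Lib.Helper17.TriCancel
import Groth.Agent.Lib.Helper17.AlgSpRepAll
import Groth.Agent.Lib.Helper17.AlgStConj
import Groth.Agent.Lib.Helper46.RepIso
import Groth.Agent.S12778

set_option autoImplicit false
set_option backward.isDefEq.respectTransparency false
set_option backward.isDefEq.respectTransparency.types false
universe u

/-!
# fppf descent of `RepByAlgSpWith P` along a flat, locally finitely presented, surjective
morphism (helper17)
-/

namespace Groth.Agent.Lib.Helper17.FD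

open CategoryTheory CategoryTheory.Limits AlgebraicGeometry Opposite FibCat Stk AlgSt
open Groth.Agent.Lib.Helper17 Groth.Agent.Lib.Helper17.PD Groth.Agent.Lib.Helper17.EO
  Groth.Agent.Lib.Helper17.AT Groth.Agent.Lib.Helper17.AB Groth.Agent.Lib.Helper17.FI
  Groth.Agent.Lib.Helper17.PS

variable {S : Scheme.{u}}

/-! ### properties respecting isomorphisms -/

theorem locP_respectsIso (Q : MorphismProperty Scheme.{u}) :
    (AlgSp.LocP (S := S) Q).RespectsIso := by
  apply MorphismProperty.RespectsIso.mk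
  · intro X Y Z e f hf U V a b h ha hb w
    refine hf (a ≫ e.hom) b h ?_ hb (by rw [Category.assoc]; exact w)
    have : (AlgSp.RepWith (S := S) @Etale).IsMultiplicative := AlgSp.repWith_isMultiplicative _
    exact (AlgSp.RepWith (S := S) @Etale).comp_mem _ _ ha
      (Groth.Agent.Lib.Helper46.RepIso.repWith_of_isIso @Etale e.hom)
  · intro X Y Z e f hf U V a b h ha hb w
    have : (AlgSp.RepWith (S := S) @Etale).IsMultiplicative := AlgSp.repWith_isMultiplicative _
    refine hf a (b ≫ e.inv) h ha ?_ ?_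
    · exact (AlgSp.RepWith (S := S) @Etale).comp_mem _ _ hb
        (Groth.Agent.Lib.Helper46.RepIso.repWith_of_isIso @Etale e.inv)
    · rw [← Category.assoc, ← w, Category.assoc, Category.assoc, e.hom_inv_id, Category.comp_id]

theorem isSurjectiveMor_respectsIso : (AlgSp.IsSurjectiveMor (S := S)).RespectsIso := by
  have hiso : ∀ {X Y : AlgSp.Sp S} (e : X ≅ Y), Function.Surjective (AlgSp.Points.map e.hom) := by
    intro X Y e y
    refine ⟨AlgSp.Points.map e.inv y, ?_⟩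
    rw [← AlgSp.Points.map_comp, e.inv_hom_id, AlgSp.Points.map_id]
  apply MorphismProperty.RespectsIso.mk
  · intro X Y Z e f hf
    have : AlgSp.Points.map (e.hom ≫ f) = AlgSp.Points.map f ∘ AlgSp.Points.map e.hom := by
      funext x
      exact AlgSp.Points.map_comp _ _ _
    change Function.Surjective (AlgSp.Points.map (e.hom ≫ f))
    rw [this]
    exact hf.comp (hiso e)
  · intro X Y Z e f hf
    have : AlgSp.Points.map (f ≫ e.hom) = AlgSp.Points.map e.hom ∘ AlgSp.Points.map f := by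
      funext x
      exact AlgSp.Points.map_comp _ _ _
    change Function.Surjective (AlgSp.Points.map (f ≫ e.hom))
    rw [this]
    exact (hiso e).comp hf

/-! ### independence of the representing space -/

/-- for `P` respecting isomorphisms, `P` of the structure map does not depend on the chosen
representing sheaf -/
theorem rep_unique (P : MorphismProperty (AlgSp.Sp S)) [P.RespectsIso] {𝒜 : AlgSt.Cat S}
    {U : Over S} (q : 𝒜 ⥤ᵇ FibCat.overCat U) {F₁ F₂ : AlgSp.Sp S} (e₁ : ofSp F₁ ⥤ᵇ 𝒜)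
    (e₂ : ofSp F₂ ⥤ᵇ 𝒜) (h₁ : FibCat.IsEquivOver e₁) (h₂ : FibCat.IsEquivOver e₂)
    (hP : P (spMapOfOver (BasedFunctor.comp e₁ q))) :
    P (spMapOfOver (BasedFunctor.comp e₂ q)) := by
  obtain ⟨e₁', ⟨u₁⟩, ⟨c₁⟩⟩ := id h₁
  have h₁' : FibCat.IsEquivOver e₁' := isEquivOver_symm e₁ e₁' u₁ c₁
  let Φ : ofSp F₂ ⥤ᵇ ofSp F₁ := BasedFunctor.comp e₂ e₁'
  have hΦ : FibCat.IsEquivOver Φ := isEquivOver_comp _ _ h₂ h₁'
  have hiso : IsIso (mapOf Φ) := isIso_mapOf Φ hΦ
  let ι : F₂ ⟶ F₁ := ObjectProperty.homMk (mapOf Φ)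
  have hι : IsIso ι := by
    have : IsIso ((sheafToPresheaf (AlgSp.J S) (Type (u + 1))).map ι) := hiso
    exact isIso_of_reflects_iso ι (sheafToPresheaf (AlgSp.J S) (Type (u + 1)))
  have key : spMapOfOver (BasedFunctor.comp e₂ q) = ι ≫ spMapOfOver (BasedFunctor.comp e₁ q) := by
    apply ObjectProperty.hom_ext
    change (spMapOfOver (BasedFunctor.comp e₂ q)).hom =
      mapOf Φ ≫ (spMapOfOver (BasedFunctor.comp e₁ q)).hom
    rw [← AD.mapOf_comp_ofOverCat, ← AD.mapOf_comp_ofOverCat, ← mapOf_comp]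
    apply mapOf_congr _ _
      (fun a => (BasedFunctor.comp q (ofOverCat U)).toFunctor.mapIso (compApp c₁ (e₂.obj a)).symm)
    intro a
    have hl := compApp_lift c₁ (e₂.obj a)
    rw [e₂.w_obj] at hl
    have hl' : 𝒜.p.IsHomLift (𝟙 ((ofSp F₂).p.obj a)) (compApp c₁ (e₂.obj a)).symm.hom :=
      IsHomLift.lift_id_inv 𝒜.p _ (compApp c₁ (e₂.obj a))
    exact map_lift'' (BasedFunctor.comp q (ofOverCat U)) hl'
  rw [key]
  exact (P.cancel_left_of_respectsIso ι _).mpr hP

/-- a functor from the category of a sheaf to a slice is 2-isomorphic to the functor of its map of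
sheaves: components -/
def slIso {F : AlgSp.Sp S} {U : Over S} (Φ : ofSp F ⥤ᵇ FibCat.overCat U) (x : (ofSp F).obj) :
    (toOverCat U).obj ((ofSpMap (spMapOfOver Φ)).obj x) ≅ Φ.obj x :=
  Over.isoMk (eqToIso (Φ.w_obj x).symm) rfl

theorem slIso_lift {F : AlgSp.Sp S} {U : Over S} (Φ : ofSp F ⥤ᵇ FibCat.overCat U)
    (x : (ofSp F).obj) :
    (FibCat.overCat U).p.IsHomLift (𝟙 ((ofSp F).p.obj x)) (slIso Φ x).hom := by
  apply IsHomLift.of_fac (FibCat.overCat U).p (𝟙 ((ofSp F).p.obj x)) (slIso Φ x).hom rfl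
    (Φ.w_obj x)
  change 𝟙 ((ofSp F).p.obj x) = eqToHom rfl ≫ eqToHom (Φ.w_obj x).symm ≫ eqToHom (Φ.w_obj x)
  simp

theorem slIso_nat {F : AlgSp.Sp S} {U : Over S} (Φ : ofSp F ⥤ᵇ FibCat.overCat U)
    {x x' : (ofSp F).obj} (ψ : x ⟶ x') :
    (toOverCat U).map ((ofSpMap (spMapOfOver Φ)).map ψ) ≫ (slIso Φ x').hom =
      (slIso Φ x).hom ≫ Φ.map ψ := by
  apply Over.OverMorphism.ext
  have h2 : (Φ.map ψ).left = eqToHom (Φ.w_obj x) ≫ ψ.hom ≫ eqToHom (Φ.w_obj x').symm :=
    IsHomLift.fac' (FibCat.overCat U).p ((ofSp F).p.map ψ) (Φ.map ψ)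
  change ψ.hom ≫ eqToHom (Φ.w_obj x').symm = eqToHom (Φ.w_obj x).symm ≫ (Φ.map ψ).left
  rw [h2]
  simp

theorem slIso_symm_nat {F : AlgSp.Sp S} {U : Over S} (Φ : ofSp F ⥤ᵇ FibCat.overCat U)
    {w w' : (ofSp F).obj} (α : w ⟶ w') :
    Φ.map α ≫ (slIso Φ w').symm.hom = (slIso Φ w).symm.hom ≫
      (BasedFunctor.comp (ofSpMap (spMapOfOver Φ)) (toOverCat U)).map α := by
  have h := slIso_nat Φ α
  change _ ≫ (slIso Φ w').inv = (slIso Φ w).inv ≫ _
  rw [Iso.comp_inv_eq, Category.assoc, Iso.eq_inv_comp]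
  exact h.symm

theorem slIso_symm_lift {F : AlgSp.Sp S} {U : Over S} (Φ : ofSp F ⥤ᵇ FibCat.overCat U)
    (w : (ofSp F).obj) :
    (FibCat.overCat U).p.IsHomLift (𝟙 ((ofSp F).p.obj w)) (slIso Φ w).symm.hom := by
  have := slIso_lift Φ w
  exact IsHomLift.lift_id_inv (FibCat.overCat U).p _ (slIso Φ w)

/-- the comparison between the 2-fibre product of the maps of sheaves and the 2-fibre product of the
functors to the slice -/
noncomputable def KK {𝒜 𝒱 : AlgSt.Cat S} {U : Over S} (g : 𝒜 ⥤ᵇ FibCat.overCat U)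
    (c : 𝒱 ⥤ᵇ FibCat.overCat U) {F G : AlgSp.Sp S} (e : ofSp F ⥤ᵇ 𝒜) (eG : ofSp G ⥤ᵇ 𝒱) :
    FibCat.fp (ofSpMap (spMapOfOver (BasedFunctor.comp eG c)))
      (ofSpMap (spMapOfOver (BasedFunctor.comp e g))) ⥤ᵇ FibCat.fp c g :=
  BasedFunctor.comp
    (BasedFunctor.comp
      (sq e (toOverCat U) g (ofSpMap (spMapOfOver (BasedFunctor.comp e g)))
        (ofSpMap (spMapOfOver (BasedFunctor.comp eG c)))
        (fun x' => slIso (BasedFunctor.comp e g) x')
        (fun β => slIso_nat (BasedFunctor.comp e g) β)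
        (fun x' => slIso_lift (BasedFunctor.comp e g) x'))
      (tw (BasedFunctor.comp (ofSpMap (spMapOfOver (BasedFunctor.comp eG c))) (toOverCat U))
        (BasedFunctor.comp eG c) g
        (fun w => (slIso (BasedFunctor.comp eG c) w).symm)
        (fun α => slIso_symm_nat (BasedFunctor.comp eG c) α)
        (fun w => slIso_symm_lift (BasedFunctor.comp eG c) w)))
    (fa eG c g)

theorem KK_isEquivOver {𝒜 𝒱 : AlgSt.Cat S} {U : Over S} (g : 𝒜 ⥤ᵇ FibCat.overCat U)
    (c : 𝒱 ⥤ᵇ FibCat.overCat U) {F G : AlgSp.Sp S} (e : ofSp F ⥤ᵇ 𝒜) (eG : ofSp G ⥤ᵇ 𝒱)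
    (he : FibCat.IsEquivOver e) (heG : FibCat.IsEquivOver eG) :
    FibCat.IsEquivOver (KK g c e eG) := by
  unfold KK
  refine isEquivOver_comp _ _ (isEquivOver_comp _ _ ?_ ?_) (fa_isEquivOver eG c g heG)
  · exact sq_isEquivOver e (toOverCat U) g (ofSpMap (spMapOfOver (BasedFunctor.comp e g)))
        (ofSpMap (spMapOfOver (BasedFunctor.comp eG c)))
        (fun x' => slIso (BasedFunctor.comp e g) x')
        (fun β => slIso_nat (BasedFunctor.comp e g) β)
        (fun x' => slIso_lift (BasedFunctor.comp e g) x') he (AD.toOverCat_isEquivOver U)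
  · exact tw_isEquivOver
        (BasedFunctor.comp (ofSpMap (spMapOfOver (BasedFunctor.comp eG c))) (toOverCat U))
        (BasedFunctor.comp eG c) g
        (fun w => (slIso (BasedFunctor.comp eG c) w).symm)
        (fun α => slIso_symm_nat (BasedFunctor.comp eG c) α)
        (fun w => slIso_symm_lift (BasedFunctor.comp eG c) w)

theorem KK_fst {𝒜 𝒱 : AlgSt.Cat S} {U : Over S} (g : 𝒜 ⥤ᵇ FibCat.overCat U)
    (c : 𝒱 ⥤ᵇ FibCat.overCat U) {F G : AlgSp.Sp S} (e : ofSp F ⥤ᵇ 𝒜) (eG : ofSp G ⥤ᵇ 𝒱) :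
    BasedFunctor.comp (KK g c e eG) (FibCat.fpFst c g) =
      BasedFunctor.comp (FibCat.fpFst (ofSpMap (spMapOfOver (BasedFunctor.comp eG c)))
        (ofSpMap (spMapOfOver (BasedFunctor.comp e g)))) eG := rfl

/-- **fppf descent for the structure map of a representing space**: if `g : 𝒜 ⟶ (Sch/U)` is
representable by algebraic spaces and its base change along a flat, locally finitely presented,
surjective `c : 𝒱 ⟶ (Sch/U)` has `P` (stable under base change, fppf local on the base), then the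
structure map of a space representing `𝒜` has `P`. -/
theorem exists_of_cover (P : MorphismProperty (AlgSp.Sp S)) (hPb : ACP.BC P)
    (hP : AlgSp.IsLocalOnBase (AlgSp.IsFppfCover (S := S)) P)
    {𝒜 𝒱 : AlgSt.Cat S} {U : Over S}
    (g : 𝒜 ⥤ᵇ FibCat.overCat U) (hg : AlgSt.RepByAlgSp1 g)
    (c : 𝒱 ⥤ᵇ FibCat.overCat U)
    (hc₁ : AlgSt.RepByAlgSpWith (AlgSp.LocP @Flat) c)
    (hc₂ : AlgSt.RepByAlgSpWith (AlgSp.LocP @LocallyOfFinitePresentation) c)
    (hc₃ : AlgSt.RepByAlgSpWith AlgSp.IsSurjectiveMor c)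
    (h : AlgSt.RepByAlgSpWith P (FibCat.fpFst c g)) :
    ∃ (F : AlgSp.Space S) (e : ofSp F.obj ⥤ᵇ 𝒜),
      FibCat.IsEquivOver e ∧ P (spMapOfOver (BasedFunctor.comp e g)) := by
  obtain ⟨F, e, he, -⟩ := TC.exists_of_repWith_to_slice ⊤ g ((rep1_iff_top g).mp hg)
  obtain ⟨G, eG, heG, hfl⟩ := TC.exists_of_repWith_to_slice _ c hc₁
  obtain ⟨G₂, eG₂, heG₂, hlfp₂⟩ := TC.exists_of_repWith_to_slice _ c hc₂
  obtain ⟨G₃, eG₃, heG₃, hsurj₃⟩ := TC.exists_of_repWith_to_slice _ c hc₃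
  have i1 := locP_respectsIso (S := S) @LocallyOfFinitePresentation
  have i2 := isSurjectiveMor_respectsIso (S := S)
  have hlfp := rep_unique (AlgSp.LocP @LocallyOfFinitePresentation) c eG₂ eG heG₂ heG hlfp₂
  have hsurj := rep_unique AlgSp.IsSurjectiveMor c eG₃ eG heG₃ heG hsurj₃
  refine ⟨F, e, he, ?_⟩
  have hcov : AlgSp.IsFppfCover (fun _ : PUnit.{u + 1} => G.obj)
      (fun _ => spMapOfOver (BasedFunctor.comp eG c)) :=
    ⟨fun _ => ⟨hfl, hlfp⟩, fun x => ⟨PUnit.unit, hsurj x⟩⟩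
  -- the pullback, in algebraic spaces
  obtain ⟨hpb, hpres⟩ := Groth.Agent.S9875.result S
  let Y : AlgSp.Space S := (AlgSp.ofScheme S).obj U
  let a' : F ⟶ Y := ObjectProperty.homMk (spMapOfOver (BasedFunctor.comp e g))
  let c' : G ⟶ Y := ObjectProperty.homMk (spMapOfOver (BasedFunctor.comp eG c))
  have sq0 : IsPullback (pullback.fst a' c') (pullback.snd a' c') a' c' :=
    IsPullback.of_hasPullback a' c'
  have sq1 : IsPullback (pullback.fst a' c').hom (pullback.snd a' c').hom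
      (spMapOfOver (BasedFunctor.comp e g)) (spMapOfOver (BasedFunctor.comp eG c)) :=
    sq0.map (ObjectProperty.ι (AlgSp.IsAlgSpace (S := S)))
  have sq2 : IsPullback (pullback.fst a' c').hom.hom (pullback.snd a' c').hom.hom
      (spMapOfOver (BasedFunctor.comp e g)).hom (spMapOfOver (BasedFunctor.comp eG c)).hom :=
    sq1.map (sheafToPresheaf (AlgSp.J S) (Type (u + 1)))
  have hQ : (ACP.restr P).RespectsIso := ACP.restr_respectsIso P hPb
  have hsl : ACov.SchLocal P := ACov.schLocal_of_isLocalOnBase P hP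
  -- the base change has `P`
  have hsnd : P (pullback.snd a' c').hom := by
    apply hsl (pullback a' c').property G.property
    have hrb : AlgSp.RepBySp (pullback.snd a' c').hom.hom :=
      AR.repBySp_of_algSpaces (pullback a' c') G _
    have h1 : AlgSt.RepByAlgSpWith (ACP.restr P) (FibCat.fpFst c g) :=
      (ACP.repWith_restr_iff P _).mpr h
    have h3 : AlgSt.RepByAlgSpWith (ACP.restr P)
        (FibCat.fpFst (ofSpMap (spMapOfOver (BasedFunctor.comp eG c)))
          (ofSpMap (spMapOfOver (BasedFunctor.comp e g)))) := by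
      refine repWith_of_square_fwd (ACP.restr P) (FibCat.fpFst c g) _ (KK g c e eG) eG
        (KK_isEquivOver g c e eG he heG) heG (fun x' => Iso.refl _) ?_ ?_ h1
      · intro x x₁ β
        exact (Category.comp_id _).trans (Category.id_comp _).symm
      · intro x'
        exact IsHomLift.id ((BasedFunctor.comp (FibCat.fpFst _ _) eG).w_obj x')
    have comm := PP.comm_of_isPullback sq2
    have hE := PF.E_isEquivOver _ _ _ _ comm (PP.inj_of_isPullback sq2) (PP.surj_of_isPullback sq2)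
    have h4 : AlgSt.RepByAlgSpWith (ACP.restr P) (Stk.ofPshMap (pullback.snd a' c').hom.hom) := by
      rw [← PF.E_fst _ _ _ _ comm]
      refine repWith_of_square_fwd (ACP.restr P) _ _ (PF.E _ _ _ _ comm) (BasedFunctor.id _) hE
        (AOS.isEquivOver_id _) (fun x' => Iso.refl _) ?_ ?_ h3
      · intro x x₁ β
        exact (Category.comp_id _).trans (Category.id_comp _).symm
      · intro x'
        exact IsHomLift.id ((BasedFunctor.comp (PF.E _ _ _ _ comm) (FibCat.fpFst _ _)).w_obj x')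
    have h5 : AlgSp.RepBySpWith (ACP.restr P) (pullback.snd a' c').hom.hom :=
      (Groth.Agent.S12778.result (ACP.restr P) _ hrb).mpr h4
    intro T ξ F' fst snd sq
    obtain ⟨hh, hA, -, -, hq⟩ := h5 ξ fst snd sq
    exact ⟨hh, hA, hq⟩
  exact (hP (fun _ : PUnit.{u + 1} => G.obj) (fun _ => spMapOfOver (BasedFunctor.comp eG c))
    (AlgSp.IsAlgSpace.yon_obj U) (fun _ => G.property) hcov
    (spMapOfOver (BasedFunctor.comp e g)) F.property (fun _ => (pullback a' c').obj)
    (fun _ => (pullback.snd a' c').hom) (fun _ => (pullback.fst a' c').hom)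
    (fun _ => (pullback a' c').property) (fun _ => sq1)).mpr (fun _ => hsnd)


/-- precomposition with an equivalence keeps `RepByAlgSpWith P` -/
theorem repWith_precomp_equiv (P : MorphismProperty (AlgSp.Sp S)) {𝒳 𝒳' 𝒴 : AlgSt.Cat S}
    (k : 𝒳 ⥤ᵇ 𝒳') (hk : FibCat.IsEquivOver k) (f' : 𝒳' ⥤ᵇ 𝒴)
    (h : AlgSt.RepByAlgSpWith P f') : AlgSt.RepByAlgSpWith P (BasedFunctor.comp k f') := by
  refine repWith_of_square_fwd P f' (BasedFunctor.comp k f') k (BasedFunctor.id _) hk
    (AOS.isEquivOver_id _) (fun x' => Iso.refl _) ?_ ?_ h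
  · intro x x₁ β
    exact (Category.comp_id _).trans (Category.id_comp _).symm
  · intro x'
    exact IsHomLift.id ((BasedFunctor.comp k f').w_obj x')

/-- `RepByAlgSpWith P` can be checked after precomposition with an equivalence -/
theorem repWith_of_precomp_equiv (P : MorphismProperty (AlgSp.Sp S)) {𝒳 𝒳' 𝒴 : AlgSt.Cat S}
    (k : 𝒳 ⥤ᵇ 𝒳') (hk : FibCat.IsEquivOver k) (f' : 𝒳' ⥤ᵇ 𝒴)
    (h : AlgSt.RepByAlgSpWith P (BasedFunctor.comp k f')) : AlgSt.RepByAlgSpWith P f' := by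
  obtain ⟨k', ⟨un⟩, ⟨cu⟩⟩ := id hk
  have hk' : FibCat.IsEquivOver k' := isEquivOver_symm k k' un cu
  refine repWith_of_square_fwd P (BasedFunctor.comp k f') f' k' (BasedFunctor.id _) hk'
    (AOS.isEquivOver_id _) (fun x' => f'.toFunctor.mapIso (compApp cu x').symm) ?_ ?_ h
  · intro x x₁ β
    have n := compApp_nat cu β
    change f'.map β ≫ f'.map (compApp cu x₁).inv =
      f'.map (compApp cu x).inv ≫ f'.map (k.map (k'.map β))
    rw [← f'.toFunctor.map_comp, ← f'.toFunctor.map_comp]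
    congr 1
    rw [Iso.comp_inv_eq, Category.assoc, Iso.eq_inv_comp]
    exact n.symm
  · intro x'
    have hl := compApp_lift cu x'
    have hl' : 𝒳'.p.IsHomLift (𝟙 (𝒳'.p.obj x')) (compApp cu x').symm.hom := by
      have h1 : 𝒳'.p.obj ((BasedFunctor.comp k' k).obj x') = 𝒳'.p.obj x' :=
        (BasedFunctor.comp k' k).w_obj x'
      have := hl
      exact IsHomLift.lift_id_inv 𝒳'.p _ (compApp cu x')
    exact map_lift'' f' hl'

/-- **fppf descent of `RepByAlgSpWith P`** along a flat, locally finitely presented, surjective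
morphism `z : 𝒵 ⟶ 𝒴` representable by algebraic spaces -/
theorem repWith_of_fpFst_cover (P : MorphismProperty (AlgSp.Sp S)) (hPb : ACP.BC P)
    (hP : AlgSp.IsLocalOnBase (AlgSp.IsFppfCover (S := S)) P)
    {𝒳 𝒴 𝒵 : AlgSt.Cat S} (f : 𝒳 ⥤ᵇ 𝒴) (hf : AlgSt.RepByAlgSp1 f) (z : 𝒵 ⥤ᵇ 𝒴)
    (hz₁ : AlgSt.RepByAlgSpWith (AlgSp.LocP @Flat) z)
    (hz₂ : AlgSt.RepByAlgSpWith (AlgSp.LocP @LocallyOfFinitePresentation) z)
    (hz₃ : AlgSt.RepByAlgSpWith AlgSp.IsSurjectiveMor z)
    (h : AlgSt.RepByAlgSpWith P (FibCat.fpFst z f)) : AlgSt.RepByAlgSpWith P f := by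
  intro U y
  have hg : AlgSt.RepByAlgSp1 (FibCat.fpFst y f) := by
    rw [rep1_iff_top] at hf ⊢
    exact repWith_fpFst ⊤ f y hf
  have hc₁ := repWith_fpFst _ z y hz₁
  have hc₂ := repWith_fpFst _ z y hz₂
  have hc₃ := repWith_fpFst _ z y hz₃
  have h1 : AlgSt.RepByAlgSpWith P (FibCat.fpFst (FibCat.fpSnd y z) (FibCat.fpFst z f)) :=
    repWith_fpFst P (FibCat.fpFst z f) (FibCat.fpSnd y z) h
  have h2 : AlgSt.RepByAlgSpWith P
      (FibCat.fpFst (BasedFunctor.comp (FibCat.fpSnd y z) z) f) :=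
    repWith_precomp_equiv P (paste (FibCat.fpSnd y z) z f) (paste_isEquivOver _ _ _) _ h1
  have h3 : AlgSt.RepByAlgSpWith P
      (FibCat.fpFst (BasedFunctor.comp (FibCat.fpFst y z) y) f) :=
    repWith_precomp_equiv P
      (tw (BasedFunctor.comp (FibCat.fpFst y z) y) (BasedFunctor.comp (FibCat.fpSnd y z) z) f
        (fun w => compApp (FibCat.fpIso y z).symm w)
        (fun α => compApp_nat (FibCat.fpIso y z).symm α)
        (fun w => compApp_lift (FibCat.fpIso y z).symm w))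
      (tw_isEquivOver _ _ _ _ _ _) _ h2
  have h4 : AlgSt.RepByAlgSpWith P (FibCat.fpFst (FibCat.fpFst y z) (FibCat.fpFst y f)) :=
    repWith_of_precomp_equiv P (paste (FibCat.fpFst y z) y f) (paste_isEquivOver _ _ _) _ h3
  exact exists_of_cover P hPb hP (FibCat.fpFst y f) hg (FibCat.fpFst y z) hc₁ hc₂ hc₃ h4

end Groth.Agent.Lib.Helper17.FD
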