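import Groth.Agent.Lib.Helper17.DiagComp
import Groth.Agent.Lib.Helper17.DiagMono
import Groth.Agent.Lib.Helper17.FppfDescent
import Groth.Agent.Lib.Helper38.DiagBaseChangeAlgSt

set_option autoImplicit false
set_option backward.isDefEq.respectTransparency false
set_option backward.isDefEq.respectTransparency.types false
universe u

/-!
# Cancellation for diagonals, and representability of the diagonal of a morphism of algebraic
stacks (helper17)
-/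

namespace Groth.Agent.Lib.Helper17.DCN

open CategoryTheory CategoryTheory.Functor CategoryTheory.Limits AlgebraicGeometry Opposite FibCat Stk
  AlgSt
open Groth.Agent.Lib.Helper17 Groth.Agent.Lib.Helper17.FP Groth.Agent.Lib.Helper17.EO
  Groth.Agent.Lib.Helper17.PD Groth.Agent.Lib.Helper17.AT Groth.Agent.Lib.Helper17.AB
  Groth.Agent.Lib.Helper17.AOS Groth.Agent.Lib.Helper38.DBC

variable {S : Scheme.{u}}

/-- invariance of `RepByAlgSpWith P` under 2-isomorphism -/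
theorem repWith_of_iso (P : MorphismProperty (AlgSp.Sp S)) {𝒳 𝒴 : AlgSt.Cat S} {f f' : 𝒳 ⥤ᵇ 𝒴}
    (e : f' ≅ f) (h : AlgSt.RepByAlgSpWith P f) : AlgSt.RepByAlgSpWith P f' := by
  refine repWith_of_square_fwd P f f' (BasedFunctor.id _) (BasedFunctor.id _)
    (isEquivOver_id _) (isEquivOver_id _) (fun x' => compApp e x') ?_ ?_ h
  · intro x x₁ β
    exact compApp_nat e β
  · intro x'
    exact compApp_lift e x'

/-- an equivalence on the right can be cancelled -/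
theorem repWith_of_comp_equiv (P : MorphismProperty (AlgSp.Sp S)) {𝒳 𝒴 𝒴' : AlgSt.Cat S}
    (f : 𝒳 ⥤ᵇ 𝒴) (E : 𝒴 ⥤ᵇ 𝒴') (hE : FibCat.IsEquivOver E)
    (h : AlgSt.RepByAlgSpWith P (BasedFunctor.comp f E)) : AlgSt.RepByAlgSpWith P f := by
  obtain ⟨E', ⟨e₁⟩, ⟨e₂⟩⟩ := id hE
  have hE' : FibCat.IsEquivOver E' := isEquivOver_symm E E' e₁ e₂
  have h1 := CMP.repWith_comp_equiv P (BasedFunctor.comp f E) E' hE' h
  refine repWith_of_square_fwd P (BasedFunctor.comp (BasedFunctor.comp f E) E') f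
    (BasedFunctor.id _) (BasedFunctor.id _) (isEquivOver_id _) (isEquivOver_id _)
    (fun x' => (compApp e₁ (f.obj x')).symm) ?_ ?_ h1
  · intro x x₁ β
    have n := compApp_nat e₁ (f.map β)
    change f.map β ≫ (compApp e₁ (f.obj x₁)).inv = (compApp e₁ (f.obj x)).inv ≫ _
    rw [Iso.comp_inv_eq, Category.assoc, Iso.eq_inv_comp]
    exact n.symm
  · intro x'
    have hl := compApp_lift e₁ (f.obj x')
    rw [f.w_obj] at hl
    have := hl
    exact IsHomLift.lift_id_inv 𝒴.p _ (compApp e₁ (f.obj x'))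

/-- **Cancellation for diagonals**: if the diagonals of `g ∘ f` and of the diagonal of `g` have `P`,
so does the diagonal of `f` -/
theorem repWith_diag_of_comp {𝒳 𝒴 𝒵 : AlgSt.Cat S}
    (h𝒳 : FibCat.IsFibGrpd 𝒳.p) (h𝒴 : FibCat.IsFibGrpd 𝒴.p) (h𝒵 : FibCat.IsFibGrpd 𝒵.p)
    (P : MorphismProperty (AlgSp.Sp S)) (hPb : ACP.BC P) (hPc : ACP.CP P) (hP : ACov.SchLocal P)
    (f : 𝒳 ⥤ᵇ 𝒴) (g : 𝒴 ⥤ᵇ 𝒵)
    (hfg : AlgSt.RepByAlgSpWith P (FibCat.diag (BasedFunctor.comp f g)))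
    (hΔΔ : AlgSt.RepByAlgSpWith P (FibCat.diag (FibCat.diag g))) :
    AlgSt.RepByAlgSpWith P (FibCat.diag f) := by
  have hgg : FibCat.IsFibGrpd (FibCat.fp g g).p := SP.isFibGrpd_fp g g h𝒴 h𝒴 h𝒵
  have hB : FibCat.IsFibGrpd (MS.B f g f).p :=
    SP.isFibGrpd_fp (BasedFunctor.comp f g) (BasedFunctor.comp f g) h𝒳 h𝒳 h𝒵
  have hM : FibCat.IsFibGrpd (FibCat.fp (MS.m f g f) (FibCat.diag g)).p :=
    SP.isFibGrpd_fp _ _ hB h𝒴 hgg
  -- the diagonal of `f` followed by the comparison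
  have h3 : AlgSt.RepByAlgSpWith P (BasedFunctor.comp (FibCat.diag f) (CMP.iota f f g)) := by
    refine repWith_of_square_fwd P (FibCat.diag (BasedFunctor.comp f g))
      (BasedFunctor.comp (FibCat.diag f) (CMP.iota f f g)) (BasedFunctor.id _) (BasedFunctor.id _)
      (isEquivOver_id _) (isEquivOver_id _)
      (fun x' => mkIso (z := (BasedFunctor.comp (FibCat.diag f) (CMP.iota f f g)).obj x')
        (z' := (FibCat.diag (BasedFunctor.comp f g)).obj x') (Iso.refl _) (Iso.refl _) ?_) ?_ ?_ hfg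
    · change g.map (f.map (𝟙 _)) ≫ 𝟙 _ = g.map (𝟙 _) ≫ g.map (f.map (𝟙 _))
      rw [f.map_id, g.map_id, Category.id_comp]
    · intro x x₁ β
      apply hom_ext
      · exact (Category.comp_id _).trans (Category.id_comp _).symm
      · exact (Category.comp_id _).trans (Category.id_comp _).symm
    · intro x'
      rw [isHomLift_iff_fst]
      exact IsHomLift.id rfl
  have hb : AlgSt.RepByAlgSpWith P
      (FibCat.diag (FibCat.fpFst (MS.m f g f) (FibCat.diag g))) :=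
    Groth.Agent.Lib.Helper38.DBCAlgSt.repByAlgSpWith_diag_fpFst h𝒴 hgg hB P (FibCat.diag g)
      (MS.m f g f) hΔΔ
  have h4 : AlgSt.RepByAlgSpWith P (BasedFunctor.comp (FibCat.diag f) (MS.M f g f)) :=
    TC.repWith_cancel h𝒳 hM hB P hPb hPc hP (BasedFunctor.comp (FibCat.diag f) (MS.M f g f))
      (FibCat.fpFst (MS.m f g f) (FibCat.diag g)) h3 hb
  exact repWith_of_comp_equiv P (FibCat.diag f) (MS.M f g f) (MS.M_isEquivOver f g f) h4

theorem top_bc : ACP.BC (⊤ : MorphismProperty (AlgSp.Sp S)) :=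
  fun _ _ _ _ _ _ _ _ _ _ _ _ _ _ => trivial

theorem top_cp : ACP.CP (⊤ : MorphismProperty (AlgSp.Sp S)) :=
  fun _ _ _ _ _ _ _ _ _ _ => trivial

theorem top_schLocal : ACov.SchLocal (⊤ : MorphismProperty (AlgSp.Sp S)) :=
  fun _ _ _ _ _ _ => trivial

/-- **the diagonal of a functor between categories fibred in groupoids with diagonals representable
by algebraic spaces is representable by algebraic spaces** -/
theorem rep1_diag {𝒳 𝒴 : AlgSt.Cat S} (h𝒳 : FibCat.IsFibGrpd 𝒳.p) (h𝒴 : FibCat.IsFibGrpd 𝒴.p)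
    (hΔX : AlgSt.RepByAlgSp1 (FibCat.diag (FibCat.toSelf 𝒳)))
    (hΔY : AlgSt.RepByAlgSp1 (FibCat.diag (FibCat.toSelf 𝒴))) (f : 𝒳 ⥤ᵇ 𝒴) :
    AlgSt.RepByAlgSp1 (FibCat.diag f) := by
  rw [rep1_iff_top]
  refine repWith_diag_of_comp h𝒳 h𝒴 SP.isFibGrpd_selfOver ⊤ top_bc top_cp top_schLocal f
    (FibCat.toSelf 𝒴) ?_ ?_
  · have e : BasedFunctor.comp f (FibCat.toSelf 𝒴) = FibCat.toSelf 𝒳 := DR.basedFunctor_ext f.w
    rw [e]
    exact (rep1_iff_top _).mp hΔX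
  · rw [← rep1_iff_top]
    intro U y
    exact DM.rep_fp_diag (FibCat.diag (FibCat.toSelf 𝒴)) hΔY U y

/-- the comparison `(𝒵 ×_𝒴 𝒳) ×_𝒵 (𝒵 ×_𝒴 𝒳) ⟶ 𝒳 ×_𝒴 𝒳` is a base change of `g : 𝒵 ⟶ 𝒴` -/
theorem repWith_c (C : MorphismProperty (AlgSp.Sp S)) {𝒳 𝒴 𝒵 : AlgSt.Cat S} (g : 𝒵 ⥤ᵇ 𝒴)
    (f : 𝒳 ⥤ᵇ 𝒴) (hg : AlgSt.RepByAlgSpWith C g) : AlgSt.RepByAlgSpWith C (c g f) := by
  let s : FibCat.fp g f ⥤ᵇ 𝒳 := FibCat.fpSnd g f
  let f' : FibCat.fp g f ⥤ᵇ 𝒵 := FibCat.fpFst g f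
  let Θ₁ := PS.paste s f f
  let tw' := FI.tw (BasedFunctor.comp s f) (BasedFunctor.comp f' g) f
    (fun ξ => compApp (FibCat.fpIso g f) ξ) (fun α => compApp_nat (FibCat.fpIso g f) α)
    (fun ξ => compApp_lift (FibCat.fpIso g f) ξ)
  have htw' : FibCat.IsEquivOver tw' := FI.tw_isEquivOver _ _ _ _ _ _
  let Θ₂ := BasedFunctor.comp tw' (PS.paste f' g f)
  have hΘ₂ : FibCat.IsEquivOver Θ₂ := isEquivOver_comp _ _ htw' (PS.paste_isEquivOver f' g f)
  have h1 : AlgSt.RepByAlgSpWith C (FibCat.fpSnd g f) := repWith_fpSnd C g f hg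
  have h2 : AlgSt.RepByAlgSpWith C (FibCat.fpSnd s (FibCat.fpFst f f)) :=
    repWith_fpSnd C s (FibCat.fpFst f f) h1
  have h3 : AlgSt.RepByAlgSpWith C
      (BasedFunctor.comp Θ₁ (FibCat.fpSnd s (FibCat.fpFst f f))) :=
    FD.repWith_precomp_equiv C Θ₁ (PS.paste_isEquivOver s f f) _ h2
  have h4 : AlgSt.RepByAlgSpWith C (BasedFunctor.comp Θ₂ (c g f)) := by
    refine repWith_of_square_fwd C (BasedFunctor.comp Θ₁ (FibCat.fpSnd s (FibCat.fpFst f f)))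
      (BasedFunctor.comp Θ₂ (c g f)) (BasedFunctor.id _) (BasedFunctor.id _)
      (isEquivOver_id _) (isEquivOver_id _)
      (fun x' => mkIso (z := (BasedFunctor.comp Θ₂ (c g f)).obj x')
        (z' := (BasedFunctor.comp Θ₁ (FibCat.fpSnd s (FibCat.fpFst f f))).obj x')
        (Iso.refl _) (Iso.refl _) ?_) ?_ ?_ h3
    · change f.map (𝟙 _) ≫ x'.obj.iso.hom =
        (x'.obj.fst.obj.iso.inv ≫ g.map (𝟙 _) ≫ x'.obj.fst.obj.iso.hom ≫ x'.obj.iso.hom) ≫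
          f.map (𝟙 _)
      rw [f.map_id, f.map_id, g.map_id, Category.id_comp, Category.comp_id, Category.id_comp,
        Iso.inv_hom_id_assoc]
    · intro x x₁ β
      apply hom_ext
      · exact (Category.comp_id _).trans (Category.id_comp _).symm
      · exact (Category.comp_id _).trans (Category.id_comp _).symm
    · intro x'
      rw [isHomLift_iff_fst]
      exact IsHomLift.id (FP.snd_obj x'.obj.fst)
  exact FD.repWith_of_precomp_equiv C Θ₂ hΘ₂ _ h4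

/-- **fppf descent for properties of the diagonal** -/
theorem repWith_diag_of_fpFst_cover (P : MorphismProperty (AlgSp.Sp S)) (hPb : ACP.BC P)
    (hP : AlgSp.IsLocalOnBase (AlgSp.IsFppfCover (S := S)) P) {𝒳 𝒴 𝒵 : AlgSt.Cat S}
    (h𝒳 : FibCat.IsFibGrpd 𝒳.p) (h𝒴 : FibCat.IsFibGrpd 𝒴.p)
    (hΔX : AlgSt.RepByAlgSp1 (FibCat.diag (FibCat.toSelf 𝒳)))
    (hΔY : AlgSt.RepByAlgSp1 (FibCat.diag (FibCat.toSelf 𝒴)))
    (f : 𝒳 ⥤ᵇ 𝒴) (w : 𝒵 ⥤ᵇ 𝒴)
    (hw₁ : AlgSt.RepByAlgSpWith (AlgSp.LocP @Flat) w)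
    (hw₂ : AlgSt.RepByAlgSpWith (AlgSp.LocP @LocallyOfFinitePresentation) w)
    (hw₃ : AlgSt.RepByAlgSpWith AlgSp.IsSurjectiveMor w)
    (h : AlgSt.RepByAlgSpWith P (FibCat.diag (FibCat.fpFst w f))) :
    AlgSt.RepByAlgSpWith P (FibCat.diag f) := by
  have hrep := rep1_diag h𝒳 h𝒴 hΔX hΔY f
  have h' : AlgSt.RepByAlgSpWith P (FibCat.fpFst (Groth.Agent.Lib.Helper38.DBC.c w f)
      (FibCat.diag f)) :=
    FD.repWith_of_precomp_equiv P (Groth.Agent.Lib.Helper38.DBC.a w f)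
      (Groth.Agent.Lib.Helper38.DBC.a_isEquivOver w f) _ h
  exact FD.repWith_of_fpFst_cover P hPb hP (FibCat.diag f) hrep
    (Groth.Agent.Lib.Helper38.DBC.c w f) (repWith_c _ w f hw₁) (repWith_c _ w f hw₂)
    (repWith_c _ w f hw₃) h'

end Groth.Agent.Lib.Helper17.DCN
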