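import Groth.Agent.Lib.Helper17.SectionUnr
import Groth.Agent.Lib.Helper23.AlgSpDiag2
import Groth.Agent.Lib.Helper23.AlgSpProper
import Groth.Agent.Lib.Helper23.AlgSpDiag3
import Groth.Agent.Lib.Helper23.AlgSpMor7

set_option autoImplicit false
set_option backward.isDefEq.respectTransparency false
set_option backward.isDefEq.respectTransparency.types false
universe u

namespace Groth.Agent.Lib.Helper17.DD

open CategoryTheory CategoryTheory.Limits AlgebraicGeometry Opposite AlgSp FibCat Stk AlgSt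
open Groth.Agent.Lib.Helper36.AlgSpCharts Groth.Agent.Lib.Helper46 Groth.Agent.Lib.Helper46.LocPChart
open Groth.Agent.Lib.Helper17 Groth.Agent.Lib.Helper17.FP Groth.Agent.Lib.Helper17.EO
  Groth.Agent.Lib.Helper17.PD Groth.Agent.Lib.Helper17.AT Groth.Agent.Lib.Helper17.AB
  Groth.Agent.Lib.Helper17.AOS

variable {S : Scheme.{u}}

/-- **sections of a functor to a slice whose source is an algebraic space**: if every section of
the structure map of the representing space has `P`, so does every section of the functor -/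
theorem repWith_section_core (P : MorphismProperty (Sp S)) (hbc : ACP.BC P)
    {𝒜 : AlgSt.Cat S} {U : Over S} (π : 𝒜 ⥤ᵇ FibCat.overCat U) (Y : AlgSp.Space S)
    (e : ofSp Y.obj ⥤ᵇ 𝒜) (he : FibCat.IsEquivOver e)
    (hP : ∀ σ : (yon S).obj U ⟶ Y.obj,
      σ ≫ spMapOfOver (BasedFunctor.comp e π) = 𝟙 _ → P σ)
    (s : FibCat.overCat U ⥤ᵇ 𝒜) (ι : BasedFunctor.comp s π ≅ BasedFunctor.id _) :
    AlgSt.RepByAlgSpWith P s := by
  obtain ⟨e', ⟨u₁⟩, ⟨c₁⟩⟩ := id he
  have he' : FibCat.IsEquivOver e' := isEquivOver_symm e e' u₁ c₁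
  let Sg : ofSp ((yon S).obj U) ⥤ᵇ ofSp Y.obj :=
    BasedFunctor.comp (toOverCat U) (BasedFunctor.comp s e')
  let σ : (yon S).obj U ⟶ Y.obj := ObjectProperty.homMk (mapOf Sg)
  let a : Y.obj ⟶ (yon S).obj U := spMapOfOver (BasedFunctor.comp e π)
  have hσ : σ ≫ a = 𝟙 _ := by
    apply ObjectProperty.hom_ext
    change mapOf Sg ≫ (spMapOfOver (BasedFunctor.comp e π)).hom = 𝟙 _
    rw [← AD.mapOf_comp_ofOverCat, ← mapOf_comp, ← mapOf_id]
    refine mapOf_congr _ _ (fun x => ?_) (fun x => ?_)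
    · exact ((BasedFunctor.comp π (ofOverCat U)).toFunctor.mapIso
          (compApp c₁ (s.obj ((toOverCat U).obj x))) ≪≫
        (ofOverCat U).toFunctor.mapIso (compApp ι ((toOverCat U).obj x)) :
        _ ≅ (ofOverCat U).obj ((toOverCat U).obj x))
    · have hl1 := compApp_lift c₁ (s.obj ((toOverCat U).obj x))
      rw [s.w_obj, (toOverCat U).w_obj] at hl1
      have hl1' : (ofSch U).p.IsHomLift (𝟙 x.base)
          ((BasedFunctor.comp π (ofOverCat U)).toFunctor.mapIso
            (compApp c₁ (s.obj ((toOverCat U).obj x)))).hom :=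
        map_lift'' (BasedFunctor.comp π (ofOverCat U)) hl1
      have hl2 := compApp_lift ι ((toOverCat U).obj x)
      rw [(toOverCat U).w_obj] at hl2
      have hl2' : (ofSch U).p.IsHomLift (𝟙 x.base)
          ((ofOverCat U).toFunctor.mapIso (compApp ι ((toOverCat U).obj x))).hom :=
        map_lift'' (ofOverCat U) hl2
      exact IsHomLift.comp_of_lift_id (ofSch U).p _ _ _
  have hPσ : P σ := hP σ hσ
  -- the map of sheaves is representable by algebraic spaces with `P`
  have hrb : AlgSp.RepBySp σ.hom :=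
    AR.repBySp_of_algSpaces ⟨(yon S).obj U, IsAlgSpace.yon_obj U⟩ Y _
  have hRI : (ACP.restr P).RespectsIso := ACP.restr_respectsIso _ hbc
  have h0 : AlgSp.RepBySpWith (ACP.restr P) σ.hom := by
    rw [AlgSp.repBySpWith_hom_iff]
    intro T ξ F' fst snd sq
    have hF' : AlgSp.IsAlgSpace F' := (AlgSp.repBySp_hom_iff σ).mp hrb ξ fst snd sq
    exact ⟨hF', hF', IsAlgSpace.yon_obj T,
      hbc (IsAlgSpace.yon_obj U) Y.property hF' (IsAlgSpace.yon_obj T) σ ξ snd fst sq hPσ⟩
  have h1 : AlgSt.RepByAlgSpWith P (Stk.ofPshMap σ.hom) :=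
    (ACP.repWith_restr_iff _ _).mp ((Groth.Agent.S12778.result _ _ hrb).mp h0)
  have h2 : AlgSt.RepByAlgSpWith P Sg := by
    refine repWith_of_square_fwd _ (Stk.ofPshMap (mapOf Sg)) Sg (BasedFunctor.id _)
      (BasedFunctor.id _) (isEquivOver_id _) (isEquivOver_id _) (fun x' => compIso Sg x') ?_ ?_ h1
    · intro x x₁ β
      exact compIso_nat Sg β
    · intro x'
      exact compIso_lift Sg x'
  have h3 : AlgSt.RepByAlgSpWith P (BasedFunctor.comp s e') :=
    FD.repWith_of_precomp_equiv _ (toOverCat U) (AD.toOverCat_isEquivOver U) _ h2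
  exact DCN.repWith_of_comp_equiv _ s e' he' h3

/-- **from sections to the diagonal**: if, for every base change of `f` to a scheme, every section
of the structure map of the representing space has `P`, then the diagonal of `f` has `P` -/
theorem repWith_diag_of_sections (P : MorphismProperty (Sp S)) (hbc : ACP.BC P)
    {𝒳 𝒴 : AlgSt.Cat S} (f : 𝒳 ⥤ᵇ 𝒴)
    (hf : ∀ (T : Over S) (y : FibCat.overCat T ⥤ᵇ 𝒴),
      ∃ (F : AlgSp.Space S) (e : ofSp F.obj ⥤ᵇ FibCat.fp y f), FibCat.IsEquivOver e ∧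
        ∀ σ : (yon S).obj T ⟶ F.obj,
          σ ≫ spMapOfOver (BasedFunctor.comp e (FibCat.fpFst y f)) = 𝟙 _ → P σ) :
    AlgSt.RepByAlgSpWith P (FibCat.diag f) := by
  intro T z
  apply TC.exists_of_repWith_to_slice
  have hι : BasedFunctor.comp (DS.s2 f z) (FibCat.fpFst (BasedFunctor.comp (DS.x1 f z) f) f) =
      BasedFunctor.id _ := DR.basedFunctor_ext rfl
  obtain ⟨F, e, he, hσ⟩ := hf T (BasedFunctor.comp (DS.x1 f z) f)
  have hs2 : AlgSt.RepByAlgSpWith P (DS.s2 f z) :=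
    repWith_section_core P hbc (FibCat.fpFst (BasedFunctor.comp (DS.x1 f z) f) f) F e he hσ
      (DS.s2 f z) (eqToIso hι)
  have h1 : AlgSt.RepByAlgSpWith P (FibCat.fpFst (DS.s1 f z) (DS.s2 f z)) :=
    repWith_fpFst _ (DS.s2 f z) (DS.s1 f z) hs2
  exact FD.repWith_precomp_equiv _ (DS.K f z) (DS.K_isEquivOver f z) _ h1

/-- separated base changes give a proper diagonal -/
theorem isSeparatedMor_diag_of_repWith_isSeparatedMor {𝒳 𝒴 : AlgSt.Cat S} (f : 𝒳 ⥤ᵇ 𝒴)
    (hf : AlgSt.RepByAlgSpWith AlgSp.IsSeparatedMor f) :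
    AlgSt.RepByAlgSpWith AlgSp.IsProperMor (FibCat.diag f) := by
  refine repWith_diag_of_sections _ PB.proper_bc f (fun T y => ?_)
  obtain ⟨F, e, he, hsep⟩ := hf T y
  refine ⟨F, e, he, fun σ hσ => ?_⟩
  have h := (Groth.Agent.Lib.Helper23.AlgSpMor.section_properties F.property _ σ hσ).2.2.2.2.2.1 hsep
  exact Groth.Agent.Lib.Helper23.AlgSpMor.isProperMor_of_repWith_isClosedImmersion
    (IsAlgSpace.yon_obj T) F.property σ h

/-- quasi-separated base changes give a quasi-compact and quasi-separated diagonal -/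
theorem qcqs_diag_of_repWith_isQuasiSeparatedMor {𝒳 𝒴 : AlgSt.Cat S} (f : 𝒳 ⥤ᵇ 𝒴)
    (hf : AlgSt.RepByAlgSpWith AlgSp.IsQuasiSeparatedMor f) :
    AlgSt.RepByAlgSpWith (AlgSp.IsQuasiCompactMor ⊓ AlgSp.IsQuasiSeparatedMor) (FibCat.diag f) := by
  refine repWith_diag_of_sections _ PB.qcqs_bc f (fun T y => ?_)
  obtain ⟨F, e, he, hqs⟩ := hf T y
  refine ⟨F, e, he, fun σ hσ => ?_⟩
  have hsp := Groth.Agent.Lib.Helper23.AlgSpMor.section_properties F.property _ σ hσ
  have hqc : RepWith @QuasiCompact σ := hsp.2.2.2.2.2.2 hqs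
  have hsep : RepWith @IsSeparated σ := hsp.2.2.2.1
  refine ⟨Groth.Agent.Lib.Helper23.AlgSpMor.isQuasiCompactMor_of_repWith σ hqc, ?_⟩
  refine (Groth.Agent.Lib.Helper23.AlgSpMor.isQuasiSeparatedMor_iff_repWith σ hsp.1).2
    ⟨hsep.rep, fun _ _ g fst snd sq => ?_⟩
  have : IsSeparated snd.left := hsep.property g fst snd sq
  exact (inferInstance : QuasiSeparated snd.left)

end Groth.Agent.Lib.Helper17.DD
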