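import Groth.Agent.Lib.Helper17.AlgStQc3
import Groth.Agent.Lib.Helper17.DiagDict
import Groth.Agent.Lib.Helper17.DiagCancel
import Groth.Agent.Lib.Helper17.PropsBC

set_option autoImplicit false
set_option backward.isDefEq.respectTransparency false
set_option backward.isDefEq.respectTransparency.types false
universe u

namespace Groth.Agent.Lib.Helper17.QC4

open CategoryTheory CategoryTheory.Limits AlgebraicGeometry Opposite AlgSp FibCat Stk AlgSt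
open Groth.Agent.Lib.Helper17 Groth.Agent.Lib.Helper17.FP Groth.Agent.Lib.Helper17.EO
  Groth.Agent.Lib.Helper17.PD Groth.Agent.Lib.Helper17.AT Groth.Agent.Lib.Helper17.AB
  Groth.Agent.Lib.Helper17.AOS Groth.Agent.Lib.Helper17.ACP

variable {S : Scheme.{u}}

theorem isQuasiCompact_prod' [QuasiSeparatedSpace ↥S] {𝒲 𝒳 : AlgSt.Cat S}
    (hW : FibCat.IsFibGrpd 𝒲.p) (hX : FibCat.IsFibGrpd 𝒳.p)
    (hWq : AlgSt.IsQuasiCompact 𝒲) (hXq : AlgSt.IsQuasiCompact 𝒳)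
    (y : 𝒲 ⥤ᵇ FibCat.selfOver (Over S)) (y' : 𝒳 ⥤ᵇ FibCat.selfOver (Over S)) :
    AlgSt.IsQuasiCompact (FibCat.fp y y') := by
  obtain rfl := SST.toSelfOver_eq y (FibCat.toSelf 𝒲)
  obtain rfl := SST.toSelfOver_eq y' (FibCat.toSelf 𝒳)
  exact QC3.isQuasiCompact_prod hW hX hWq hXq

/-- over a quasi-separated base, a 2-fibre product of stacks quasi-compact and quasi-separated
over the base is quasi-compact and quasi-separated over the base -/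
theorem qcqs_fp [QuasiSeparatedSpace ↥S] {𝒳 𝒴 𝒵 : AlgSt.Cat S}
    (hX : FibCat.IsFibGrpd 𝒳.p) (hY : FibCat.IsFibGrpd 𝒴.p) (hZ : FibCat.IsFibGrpd 𝒵.p)
    (a : 𝒳 ⥤ᵇ 𝒴) (b : 𝒵 ⥤ᵇ 𝒴)
    (hXq : AlgSt.IsQuasiCompact 𝒳) (hXs : AlgSt.IsQuasiSeparatedOver 𝒳)
    (hYs : AlgSt.IsQuasiSeparatedOver 𝒴)
    (hZq : AlgSt.IsQuasiCompact 𝒵) (hZs : AlgSt.IsQuasiSeparatedOver 𝒵) :
    AlgSt.IsQuasiCompact (FibCat.fp a b) ∧ AlgSt.IsQuasiSeparatedOver (FibCat.fp a b) := by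
  have hO : FibCat.IsFibGrpd (FibCat.selfOver (Over S)).p := SP.isFibGrpd_selfOver
  have hW : FibCat.IsFibGrpd (FibCat.fp a b).p := SP.isFibGrpd_fp a b hX hZ hY
  have hsl : ACov.SchLocal (IsQuasiCompactMor (S := S) ⊓ IsQuasiSeparatedMor) :=
    ACov.schLocal_of_isLocalOnBase _ PB.qcqs_local
  constructor
  · have hΔ : AlgSt.RepByAlgSpWith AlgSp.IsQuasiCompactMor (FibCat.diag (FibCat.toSelf 𝒴)) :=
      DDC.repWith_mono (fun _ _ _ _ _ h => h.1) _ hYs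
    exact QC3.isQuasiCompact_fp_of_diag hX hZ hY hO b (FibCat.toSelf 𝒴) a hΔ
      (isQuasiCompact_prod' hX hZ hXq hZq _ _)
  · have hfg : AlgSt.RepByAlgSpWith (IsQuasiCompactMor ⊓ IsQuasiSeparatedMor)
        (FibCat.diag (BasedFunctor.comp b (FibCat.toSelf 𝒴))) := by
      have e : BasedFunctor.comp b (FibCat.toSelf 𝒴) = FibCat.toSelf 𝒵 := SST.toSelfOver_eq _ _
      rw [e]
      exact hZs
    have hΔΔ : AlgSt.RepByAlgSpWith (IsQuasiCompactMor ⊓ IsQuasiSeparatedMor)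
        (FibCat.diag (FibCat.diag (FibCat.toSelf 𝒴))) :=
      DD.qcqs_diag_of_repWith_isQuasiSeparatedMor _
        (DDC.repWith_mono (fun _ _ _ _ _ h => h.2) _ hYs)
    have hΔb : AlgSt.RepByAlgSpWith (IsQuasiCompactMor ⊓ IsQuasiSeparatedMor) (FibCat.diag b) :=
      DCN.repWith_diag_of_comp hZ hY hO _ PB.qcqs_bc PB.qcqs_cp hsl b (FibCat.toSelf 𝒴) hfg hΔΔ
    have hΔπ : AlgSt.RepByAlgSpWith (IsQuasiCompactMor ⊓ IsQuasiSeparatedMor)
        (FibCat.diag (FibCat.fpFst a b)) :=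
      Groth.Agent.Lib.Helper38.DBCAlgSt.repByAlgSpWith_diag_fpFst hZ hY hX _ b a hΔb
    have h1 := DC.repWith_diag_comp hW hO _ PB.qcqs_bc PB.qcqs_cp hsl
      (FibCat.fpFst a b) (FibCat.toSelf 𝒳) hΔπ hXs
    have e : BasedFunctor.comp (FibCat.fpFst a b) (FibCat.toSelf 𝒳) =
        FibCat.toSelf (FibCat.fp a b) := SST.toSelfOver_eq _ _
    rw [e] at h1
    exact h1

end Groth.Agent.Lib.Helper17.QC4
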