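import Groth.Agent.Lib.Helper17.SpStack
import Groth.Agent.Lib.Helper17.AlgStQc4
import Groth.Agent.Lib.Helper23.AlgSpMor6

set_option autoImplicit false
set_option backward.isDefEq.respectTransparency false
set_option backward.isDefEq.respectTransparency.types false
universe u

namespace Groth.Agent.Lib.Helper17.SQC

open CategoryTheory CategoryTheory.Limits AlgebraicGeometry Opposite AlgSp FibCat Stk AlgSt
open Groth.Agent.Lib.Helper17 Groth.Agent.Lib.Helper17.FP Groth.Agent.Lib.Helper17.EO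
  Groth.Agent.Lib.Helper17.PD Groth.Agent.Lib.Helper17.AT Groth.Agent.Lib.Helper17.AB
  Groth.Agent.Lib.Helper17.AOS Groth.Agent.Lib.Helper17.ACP
open Groth.Agent.Lib.Helper46 Groth.Agent.Lib.Helper46.LocPChart

variable {S : Scheme.{u}}

/-- converse dictionary: a map of algebraic spaces whose functor is representable with `P` has `P`,
for `P` stable under base change and local on the base -/
theorem prop_of_repWith_ofSpMap (P : MorphismProperty (Sp S)) (hbc : BC P) (hl : ACov.SchLocal P)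
    (X Y : AlgSp.Space S) (a : X.obj ⟶ Y.obj) (h : AlgSt.RepByAlgSpWith P (ofSpMap a)) : P a := by
  have hrb : AlgSp.RepBySp a.hom := AR.repBySp_of_algSpaces X Y _
  have hRI : (restr P).RespectsIso := restr_respectsIso _ hbc
  have h1 : AlgSp.RepBySpWith (restr P) a.hom :=
    (Groth.Agent.S12778.result _ _ hrb).mpr ((repWith_restr_iff _ _).mpr h)
  apply hl X.property Y.property a
  rw [AlgSp.repBySpWith_hom_iff] at h1 ⊢
  intro U ξ F' fst snd sq
  obtain ⟨hF', -, -, hP⟩ := h1 ξ fst snd sq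
  exact ⟨hF', hP⟩

/-- the map of sheaves of a chart of the category of a sheaf -/
theorem exists_sheafMap_of_chart (X : Sp S) {U : Over S} (x : FibCat.overCat U ⥤ᵇ ofSp X) :
    ∃ ξ : (yon S).obj U ⟶ X, ∀ P : MorphismProperty (Sp S),
      AlgSt.RepByAlgSpWith P x → AlgSt.RepByAlgSpWith P (ofSpMap ξ) := by
  refine ⟨ObjectProperty.homMk (AD.xiOf x), fun P h => ?_⟩
  have h1 : AlgSt.RepByAlgSpWith P (AD.yOf (AD.xiOf x)) :=
    repWith_of_square_fwd P x (AD.yOf (AD.xiOf x)) (BasedFunctor.id _) (BasedFunctor.id _)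
      (isEquivOver_id _) (isEquivOver_id _) (fun w => AD.yIso x w) (fun α => AD.yIso_nat x α)
      (fun w => AD.yIso_lift x w) h
  exact FD.repWith_of_precomp_equiv P (ofOverCat U) (AD.ofOverCat_isEquivOver U) _ h1

/-- **the sheaf of a quasi-compact category of an algebraic space is quasi-compact** -/
theorem isQuasiCompactSp_of_isQuasiCompact_ofSp (X : AlgSp.Space S)
    (h : AlgSt.IsQuasiCompact (ofSp X.obj)) : IsQuasiCompactSp X.obj := by
  obtain ⟨U, x, haff, -, hxsurj⟩ := h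
  obtain ⟨ξ, hξ⟩ := exists_sheafMap_of_chart X.obj x
  have h1 : IsSurjectiveMor ξ :=
    prop_of_repWith_ofSpMap _ DL.surj_bc CT.surj_schLocal ⟨(yon S).obj U, IsAlgSpace.yon_obj U⟩ X ξ
      (hξ _ hxsurj)
  exact Groth.Agent.Lib.Helper23.AlgSpMor.isQuasiCompactSp_of_isSurjectiveMor ξ X.property h1
    (Groth.Agent.Lib.Helper23.AlgSpMor.isQuasiCompactSp_yon U)

/-- the category of a quasi-compact scheme is a quasi-compact algebraic stack -/
theorem isQuasiCompact_ofSch (Z : Over S) [CompactSpace ↥Z.left] :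
    AlgSt.IsQuasiCompact (ofSch Z) := by
  obtain ⟨h1, h2⟩ := SPD.ofOverCat_smooth_surj Z
  exact CT.isQuasiCompact_of_compact_chart (Stk.isFibGrpd_ofPsh _) Z (ofOverCat Z) h1 h2

theorem isQuasiCompactSp_of_iso {X Y : Sp S} (e : X ≅ Y) (hY : IsAlgSpace Y)
    (h : IsQuasiCompactSp X) : IsQuasiCompactSp Y := by
  refine Groth.Agent.Lib.Helper23.AlgSpMor.isQuasiCompactSp_of_isSurjectiveMor e.hom hY ?_ h
  intro p
  exact ⟨Points.map e.inv p, by rw [← Points.map_comp, e.inv_hom_id, Points.map_id]⟩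

/-- the property "quasi-compact target implies quasi-compact source" (between algebraic spaces) -/
def QcSrc : MorphismProperty (Sp S) := fun X Y _ =>
  IsAlgSpace X ∧ IsAlgSpace Y ∧ (IsQuasiCompactSp Y → IsQuasiCompactSp X)

theorem qcSrc_respectsIso : (QcSrc (S := S)).RespectsIso := by
  apply MorphismProperty.RespectsIso.mk
  · rintro X Y Z e f ⟨hY, hZ, hf⟩
    have hX : IsAlgSpace X := hY.of_iso e.symm
    exact ⟨hX, hZ, fun h => isQuasiCompactSp_of_iso e.symm hX (hf h)⟩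
  · rintro X Y Z e f ⟨hX, hY, hf⟩
    have hZ : IsAlgSpace Z := hY.of_iso e
    exact ⟨hX, hZ, fun h => hf (isQuasiCompactSp_of_iso e.symm hY h)⟩

/-- **(⇐) of the comparison of the two notions of quasi-compact morphisms** -/
theorem repWith_isQuasiCompactMor_of_isQuasiCompactMor {𝒳 𝒴 : AlgSt.Cat S}
    (f : 𝒳 ⥤ᵇ 𝒴) (hf : AlgSt.RepByAlgSp1 f)
    (hq : AlgSt.IsQuasiCompactMor Scheme.fppfPrecoverage f) :
    AlgSt.RepByAlgSpWith AlgSp.IsQuasiCompactMor f := by
  have hRI := qcSrc_respectsIso (S := S)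
  -- the key property
  have key : AlgSt.RepByAlgSpWith QcSrc f := by
    intro Z y'
    obtain ⟨F', e', he'⟩ := hf Z y'
    refine ⟨F', e', he', F'.property, IsAlgSpace.yon_obj Z, fun hZq => ?_⟩
    have : CompactSpace ↥Z.left :=
      Groth.Agent.Lib.Helper23.AlgSpMor.compactSpace_of_isQuasiCompactSp_yon Z hZq
    have h1 : AlgSt.IsQuasiCompact (FibCat.fp (BasedFunctor.comp (toOverCat Z) y') f) :=
      hq (ofSch Z) (SPS.isAlgStack_ofSp ⟨(yon S).obj Z, IsAlgSpace.yon_obj Z⟩)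
        (isQuasiCompact_ofSch Z) _
    have h2 : AlgSt.IsQuasiCompact (FibCat.fp y' f) :=
      QCM.isQuasiCompact_of_equiv (FI.fa (toOverCat Z) y' f)
        (FI.fa_isEquivOver (toOverCat Z) y' f (AD.toOverCat_isEquivOver Z)) h1
    have h3 : AlgSt.IsQuasiCompact (ofSp F'.obj) := QC3.isQuasiCompact_of_equiv' e' he' h2
    exact isQuasiCompactSp_of_isQuasiCompact_ofSp F' h3
  intro T y
  obtain ⟨F, e, he⟩ := hf T y
  refine ⟨F, e, he, ?_⟩
  -- the functor of the map of spaces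
  have k1 : AlgSt.RepByAlgSpWith QcSrc (FibCat.fpFst y f) := AB.repWith_fpFst _ f y key
  have k2 : AlgSt.RepByAlgSpWith QcSrc (BasedFunctor.comp e (FibCat.fpFst y f)) :=
    FD.repWith_precomp_equiv _ e he _ k1
  have k3 : AlgSt.RepByAlgSpWith QcSrc
      (BasedFunctor.comp (BasedFunctor.comp e (FibCat.fpFst y f)) (ofOverCat T)) :=
    CMP.repWith_comp_equiv _ _ (ofOverCat T) (AD.ofOverCat_isEquivOver T) k2
  set φ := spMapOfOver (BasedFunctor.comp e (FibCat.fpFst y f)) with hφ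
  have hrb : AlgSp.RepBySp φ.hom :=
    AR.repBySp_of_algSpaces F ⟨(yon S).obj T, IsAlgSpace.yon_obj T⟩ _
  have k4 : AlgSt.RepByAlgSpWith QcSrc (Stk.ofPshMap φ.hom) := by
    rw [hφ, ← AD.mapOf_comp_ofOverCat]
    set Ψ := BasedFunctor.comp (BasedFunctor.comp e (FibCat.fpFst y f)) (ofOverCat T)
    have hnat : ∀ {x x₁ : (ofSp F.obj).obj} (β : x ⟶ x₁),
        (Stk.ofPshMap (PD.mapOf Ψ)).map β ≫ (PD.compIso Ψ x₁).inv =
          (PD.compIso Ψ x).inv ≫ Ψ.map β := by
      intro x x₁ β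
      rw [Iso.comp_inv_eq, Category.assoc, Iso.eq_inv_comp]
      exact (PD.compIso_nat Ψ β).symm
    exact repWith_of_square_fwd QcSrc Ψ (Stk.ofPshMap (PD.mapOf Ψ)) (BasedFunctor.id _)
      (BasedFunctor.id _) (isEquivOver_id _) (isEquivOver_id _)
      (fun w => (PD.compIso Ψ w).symm) hnat
      (fun w => by
        have := PD.compIso_lift Ψ w
        exact IsHomLift.lift_id_inv (Stk.ofPsh _).p _ (PD.compIso Ψ w)) k3
  have k5 : AlgSp.RepBySpWith QcSrc φ.hom := (Groth.Agent.S12778.result _ _ hrb).mpr k4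
  rw [AlgSp.repBySpWith_hom_iff] at k5
  rw [Groth.Agent.Lib.Helper23.AlgSpMor.isQuasiCompactMor_iff_affine F.property
    (IsAlgSpace.yon_obj T)]
  intro Z hZ g P fst snd sq
  obtain ⟨-, -, -, h⟩ := k5 g fst snd sq
  exact h (Groth.Agent.Lib.Helper23.AlgSpMor.isQuasiCompactSp_yon Z)

end Groth.Agent.Lib.Helper17.SQC
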