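import Groth.Agent.Lib.Helper17.SpQc
import Groth.Agent.Lib.Helper17.PointsTop3

set_option autoImplicit false
set_option backward.isDefEq.respectTransparency false
set_option backward.isDefEq.respectTransparency.types false
universe u

namespace Groth.Agent.Lib.Helper17.PTS

open CategoryTheory CategoryTheory.Limits AlgebraicGeometry Opposite AlgSp FibCat Stk AlgSt
open Groth.Agent.Lib.Helper17 Groth.Agent.Lib.Helper17.FP Groth.Agent.Lib.Helper17.EO
  Groth.Agent.Lib.Helper17.PD Groth.Agent.Lib.Helper17.AT Groth.Agent.Lib.Helper17.AB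
  Groth.Agent.Lib.Helper17.AOS Groth.Agent.Lib.Helper17.ACP
open Groth.Agent.Lib.Helper46 Groth.Agent.Lib.Helper46.LocPChart

variable {S : Scheme.{u}}

/-- the bridge, with the 2-isomorphism and the properties of the first leg -/
theorem exists_bridge_iso {𝒳 : AlgSt.Cat S} (hX : FibCat.IsFibGrpd 𝒳.p)
    (hΔ : AlgSt.RepByAlgSp1 (FibCat.diag (FibCat.toSelf 𝒳))) {U U₀ : Over S}
    (x : FibCat.overCat U ⥤ᵇ 𝒳) (x₀ : FibCat.overCat U₀ ⥤ᵇ 𝒳) :
    ∃ (W : Over S) (a : W ⟶ U) (b : W ⟶ U₀),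
      (∀ P : MorphismProperty Scheme.{u}, (∀ ⦃X Y : Scheme.{u}⦄ (f : X ⟶ Y), Etale f → P f) →
        BC (LocP (S := S) P) → CP (LocP (S := S) P) →
        AlgSt.RepByAlgSpWith (AlgSp.LocP P) x₀ → P a.left) ∧
      (AlgSt.RepByAlgSpWith AlgSp.IsSurjectiveMor x₀ → Function.Surjective a.left) ∧
      Nonempty (BasedFunctor.comp (AlgSt.overMap a) x ≅ BasedFunctor.comp (AlgSt.overMap b) x₀) := by
  obtain ⟨W, a, b, R, e, c, he, hce, hcs, ha, hb, ⟨ia⟩, ⟨ib⟩⟩ := exists_bridge_q hX hΔ x x₀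
  have hcet := ACov.isEtaleMor_of_repWith c hce
  have hcsurj : IsSurjectiveMor c := ACov.points_map_surjective c hcs
  have hWsp : IsAlgSpace ((yon S).obj W) := IsAlgSpace.yon_obj W
  let q : FibCat.overCat W ⥤ᵇ FibCat.fp x x₀ :=
    BasedFunctor.comp (BasedFunctor.comp (ofOverCat W) (ofSpMap c)) e
  have hiso : BasedFunctor.comp (AlgSt.overMap a) x ≅ BasedFunctor.comp (AlgSt.overMap b) x₀ := by
    let Q : (FibCat.overCat W : AlgSt.Cat S) ⟶ FibCat.fp x x₀ := q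
    let X' : (FibCat.overCat U : AlgSt.Cat S) ⟶ 𝒳 := x
    let X₀' : (FibCat.overCat U₀ : AlgSt.Cat S) ⟶ 𝒳 := x₀
    have i1 : BasedFunctor.comp (FibCat.fpFst x x₀) x ≅ BasedFunctor.comp (FibCat.fpSnd x x₀) x₀ :=
      FibCat.fpIso x x₀
    have i2 := Bicategory.whiskerLeftIso Q i1
    have i5 := Bicategory.whiskerRightIso
      (f := (BasedFunctor.comp q (FibCat.fpFst x x₀) :
        (FibCat.overCat W : AlgSt.Cat S) ⟶ FibCat.overCat U)) ia X'
    have i6 := Bicategory.whiskerRightIso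
      (f := (BasedFunctor.comp q (FibCat.fpSnd x x₀) :
        (FibCat.overCat W : AlgSt.Cat S) ⟶ FibCat.overCat U₀)) ib X₀'
    exact i5.symm ≪≫ i2 ≪≫ i6
  refine ⟨W, a, b, ?_, ?_, ⟨hiso⟩⟩
  · intro P hP hbc hcp h
    have hcP : LocP P c := ACov.locP_of_isEtaleMor hP c hcet
    have h1 := DL2.transport _ hbc x₀ h U x R e he
    have h2 := hcp hWsp R.property (IsAlgSpace.yon_obj U) c _ hcP h1
    rw [← ha] at h2
    exact AlgSp.locP_yon_map h2
  · intro h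
    have h1 := DL2.transport _ DL.surj_bc x₀ h U x R e he
    have h2 := DL.surj_cp hWsp R.property (IsAlgSpace.yon_obj U) c _ hcsurj h1
    rw [← ha] at h2
    exact BRG.surjective_of_isSurjectiveMor a h2

/-- base change of a morphism surjective on points, second projection -/
theorem isSurjective_fpSnd {𝒳 𝒴 𝒵 : AlgSt.Cat S} (hX : FibCat.IsFibGrpd 𝒳.p)
    (hY : FibCat.IsFibGrpd 𝒴.p) (hZ : FibCat.IsFibGrpd 𝒵.p) (z : 𝒵 ⥤ᵇ 𝒴) (f : 𝒳 ⥤ᵇ 𝒴)
    (hz : AlgSt.IsSurjective z) : AlgSt.IsSurjective (FibCat.fpSnd z f) := by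
  have e' : BasedFunctor.comp (SW.swap z f) (FibCat.fpFst f z) = FibCat.fpSnd z f :=
    DR.basedFunctor_ext rfl
  rw [← e']
  exact isSurjective_comp _ _ (isSurjective_of_isEquivOver _ (SW.swap_isEquivOver z f))
    (isSurjective_fpFst hZ hY hX z f hz)

/-- quasi-compactness of a base change can be tested after a surjective change of the base -/
theorem isQuasiCompact_fp_of_surjective {𝒵₁ 𝒵 𝒳 𝒴 : AlgSt.Cat S}
    (h𝒵₁ : FibCat.IsFibGrpd 𝒵₁.p)
    (h𝒵 : AlgSt.IsAlgStack Scheme.fppfPrecoverage 𝒵)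
    (h𝒳 : AlgSt.IsAlgStack Scheme.fppfPrecoverage 𝒳)
    (h𝒴 : AlgSt.IsAlgStack Scheme.fppfPrecoverage 𝒴)
    (n : 𝒵₁ ⥤ᵇ 𝒵) (hn : AlgSt.IsSurjective n) (h : 𝒵 ⥤ᵇ 𝒴) (f : 𝒳 ⥤ᵇ 𝒴)
    (hq : AlgSt.IsQuasiCompact (FibCat.fp (BasedFunctor.comp n h) f)) :
    AlgSt.IsQuasiCompact (FibCat.fp h f) := by
  have hX := h𝒳.isStack.1
  have hY := h𝒴.isStack.1
  have hZ := h𝒵.isStack.1
  have hA : AlgSt.IsAlgStack Scheme.fppfPrecoverage (FibCat.fp h f) :=
    AFP.isAlgStack_fp h𝒴.isStack h𝒴.diag h𝒵 h𝒳 h f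
  have hfp : FibCat.IsFibGrpd (FibCat.fp h f).p := hA.isStack.1
  have h1 : AlgSt.IsQuasiCompact (FibCat.fp n (FibCat.fpFst h f)) :=
    QCM.isQuasiCompact_of_equiv (PS.paste n h f) (PS.paste_isEquivOver n h f) hq
  have hU : FibCat.IsFibGrpd (FibCat.fp n (FibCat.fpFst h f)).p :=
    SP.isFibGrpd_fp _ _ h𝒵₁ hfp hZ
  exact isQuasiCompact_of_isSurjective hU hA (FibCat.fpSnd n (FibCat.fpFst h f))
    (isSurjective_fpSnd hfp hZ h𝒵₁ n (FibCat.fpFst h f) hn) h1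

/-- **quasi-compactness of a morphism can be tested after a surjective flat lfp base change from
an algebraic space** -/
theorem isQuasiCompactMor_of_fpFst_cover {𝒳 𝒴 : AlgSt.Cat S}
    (h𝒳 : AlgSt.IsAlgStack Scheme.fppfPrecoverage 𝒳)
    (h𝒴 : AlgSt.IsAlgStack Scheme.fppfPrecoverage 𝒴) (f : 𝒳 ⥤ᵇ 𝒴)
    (W : AlgSp.Space S) (w : ofSp W.obj ⥤ᵇ 𝒴)
    (hw₁ : AlgSt.RepByAlgSpWith (LocP @Flat) w)
    (hw₂ : AlgSt.RepByAlgSpWith (LocP @LocallyOfFinitePresentation) w)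
    (hw₃ : AlgSt.RepByAlgSpWith IsSurjectiveMor w)
    (hq : AlgSt.IsQuasiCompactMor Scheme.fppfPrecoverage (FibCat.fpFst w f)) :
    AlgSt.IsQuasiCompactMor Scheme.fppfPrecoverage f := by
  intro 𝒵 h𝒵 hqc h
  have hY := h𝒴.isStack.1
  have hZ := h𝒵.isStack.1
  obtain ⟨U, u, hUaff, hus, husurj⟩ := hqc
  obtain ⟨W₀, q, -, hqs, hqsurj⟩ := SPS.exists_etale_chart W
  have hW₀f : FibCat.IsFibGrpd (FibCat.overCat W₀).p := FG.isFibGrpd_overForget W₀
  let x : FibCat.overCat U ⥤ᵇ 𝒴 := BasedFunctor.comp u h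
  let w₀ : FibCat.overCat W₀ ⥤ᵇ 𝒴 := BasedFunctor.comp q w
  have hw₀1 : AlgSt.RepByAlgSpWith (LocP @Flat) w₀ :=
    repWith_comp_of_schLocal' hW₀f hY _ DL.flat_bc DL.flat_cp flat_schLocal q w
      (flat_of_smooth q hqs) hw₁
  have hw₀2 : AlgSt.RepByAlgSpWith (LocP @LocallyOfFinitePresentation) w₀ :=
    repWith_comp_of_schLocal' hW₀f hY _ DL.lfp_bc DL.lfp_cp lfp_schLocal q w
      (lfp_of_smooth q hqs) hw₂
  have hw₀3 : AlgSt.RepByAlgSpWith IsSurjectiveMor w₀ :=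
    repWith_comp_of_schLocal' hW₀f hY _ DL.surj_bc DL.surj_cp CT.surj_schLocal q w hqsurj hw₃
  obtain ⟨V, a, b, ha, ha', ⟨iso₀⟩⟩ := exists_bridge_iso hY h𝒴.diag x w₀
  have : Flat a.left := ha @Flat (fun _ _ f hf => by have := hf; infer_instance)
    DL.flat_bc DL.flat_cp hw₀1
  have : LocallyOfFinitePresentation a.left :=
    ha @LocallyOfFinitePresentation (fun _ _ f hf => by have := hf; infer_instance)
      DL.lfp_bc DL.lfp_cp hw₀2
  have hasurj : Function.Surjective a.left := ha' hw₀3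
  have hopen : IsOpenMap a.left := a.left.isOpenMap
  obtain ⟨V', hV'c, hV'⟩ := QCT.exists_compact_open_image a.left (𝟙 V.left) hopen hasurj
  let V'' : Over S := Over.mk (V'.ι ≫ V.hom)
  let j : V'' ⟶ V := Over.homMk V'.ι rfl
  have hcomp : CompactSpace ↥V''.left := isCompact_iff_compactSpace.mp hV'c
  let A : FibCat.overCat V'' ⥤ᵇ FibCat.overCat U :=
    BasedFunctor.comp (AlgSt.overMap j) (AlgSt.overMap a)
  let B : FibCat.overCat V'' ⥤ᵇ FibCat.overCat W₀ :=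
    BasedFunctor.comp (AlgSt.overMap j) (AlgSt.overMap b)
  let T : ofSch V'' ⥤ᵇ FibCat.overCat V'' := toOverCat V''
  let n : ofSch V'' ⥤ᵇ 𝒵 := BasedFunctor.comp T (BasedFunctor.comp A u)
  let k' : ofSch V'' ⥤ᵇ ofSp W.obj := BasedFunctor.comp T (BasedFunctor.comp B q)
  -- the 2-isomorphism
  have iso₂ : BasedFunctor.comp n h ≅ BasedFunctor.comp k' w := by
    let J' : (FibCat.overCat V'' : AlgSt.Cat S) ⟶ FibCat.overCat V := AlgSt.overMap j
    let T' : (ofSch V'' : AlgSt.Cat S) ⟶ FibCat.overCat V'' := T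
    have i1 := Bicategory.whiskerLeftIso J' iso₀
    exact Bicategory.whiskerLeftIso T' i1
  -- `n` is surjective on points
  have hA : AlgSt.IsSurjective A := by
    intro ζ
    obtain ⟨u₀, rfl⟩ := exists_ofChart_id U ζ
    obtain ⟨v, hv, hvV'⟩ := hV' u₀
    let v'' : ↥V''.left := ⟨v, hvV'⟩
    have e1 : j.left v'' = v := rfl
    refine ⟨AlgSt.Points.ofChart (BasedFunctor.id _) v'', ?_⟩
    calc AlgSt.Points.map A (AlgSt.Points.ofChart (BasedFunctor.id _) v'')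
        = AlgSt.Points.ofChart (BasedFunctor.comp (AlgSt.overMap j) (AlgSt.overMap a)) v'' := rfl
      _ = AlgSt.Points.ofChart (AlgSt.overMap a) (j.left v'') :=
          ofChart_overMap j (AlgSt.overMap a) v''
      _ = AlgSt.Points.ofChart (BasedFunctor.id _) (a.left (j.left v'')) :=
          ofChart_overMap_id a _
      _ = AlgSt.Points.ofChart (BasedFunctor.id _) u₀ := by rw [e1, hv]
  have hn : AlgSt.IsSurjective n :=
    isSurjective_comp _ _ (isSurjective_of_isEquivOver T (AD.toOverCat_isEquivOver V''))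
      (isSurjective_comp _ _ hA (isSurjective_of_repWith hZ u husurj))
  -- the hypothesis
  have h1 : AlgSt.IsQuasiCompact (FibCat.fp k' (FibCat.fpFst w f)) :=
    hq (ofSch V'') (SPS.isAlgStack_ofSp ⟨(yon S).obj V'', IsAlgSpace.yon_obj V''⟩)
      (SQC.isQuasiCompact_ofSch V'') k'
  have h2 : AlgSt.IsQuasiCompact (FibCat.fp (BasedFunctor.comp k' w) f) :=
    QC3.isQuasiCompact_of_equiv' (PS.paste k' w f) (PS.paste_isEquivOver k' w f) h1
  have h3 : AlgSt.IsQuasiCompact (FibCat.fp (BasedFunctor.comp n h) f) :=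
    QCM.isQuasiCompact_of_equiv
      (FI.tw (BasedFunctor.comp k' w) (BasedFunctor.comp n h) f (fun v => compApp iso₂ v)
        (fun α => compApp_nat iso₂ α) (fun v => compApp_lift iso₂ v))
      (FI.tw_isEquivOver (BasedFunctor.comp k' w) (BasedFunctor.comp n h) f
        (fun v => compApp iso₂ v) (fun α => compApp_nat iso₂ α) (fun v => compApp_lift iso₂ v)) h2
  exact isQuasiCompact_fp_of_surjective (Stk.isFibGrpd_ofPsh _) h𝒵 h𝒳 h𝒴 n hn h f h3

end Groth.Agent.Lib.Helper17.PTS
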