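import Groth.Agent.Lib.Helper17.AlgStOverSpace
import Groth.Agent.Lib.Helper17.PastingR
import Groth.Agent.Lib.Helper17.FibGrpd

set_option autoImplicit false
set_option backward.isDefEq.respectTransparency false
set_option backward.isDefEq.respectTransparency.types false
universe u

namespace Groth.Agent.Lib.Helper17.ACP

open CategoryTheory CategoryTheory.Limits AlgebraicGeometry Opposite FibCat Stk AlgSt
open Groth.Agent.Lib.Helper17 Groth.Agent.Lib.Helper17.PD Groth.Agent.Lib.Helper17.EO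
  Groth.Agent.Lib.Helper17.AT Groth.Agent.Lib.Helper17.AB Groth.Agent.Lib.Helper17.TH
  Groth.Agent.Lib.Helper17.FP Groth.Agent.Lib.Helper17.AOS

variable {S : Scheme.{u}}

/-- the functor `(Sch/U) ×_𝒵 𝒳 ⟶ (Sch/U) ×_𝒵 𝒴` induced by `f` is a base change of `f`, hence has
every property `RepByAlgSpWith P` that `f` has -/
theorem repWith_toInner {𝒲 𝒳 𝒴 𝒵 : AlgSt.Cat S} (P : MorphismProperty (AlgSp.Sp S))
    (y : 𝒲 ⥤ᵇ 𝒵) (f : 𝒳 ⥤ᵇ 𝒴) (g : 𝒴 ⥤ᵇ 𝒵) (hf : AlgSt.RepByAlgSpWith P f) :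
    AlgSt.RepByAlgSpWith P (PSR.toInner y f g) := by
  have h1 : AlgSt.RepByAlgSpWith P (FibCat.fpFst (FibCat.fpSnd y g) f) :=
    repWith_fpFst P f (FibCat.fpSnd y g) hf
  refine repWith_of_square_fwd P (FibCat.fpFst (FibCat.fpSnd y g) f) (PSR.toInner y f g)
    (PSR.paste y f g) (BasedFunctor.id _) (PSR.paste_isEquivOver y f g) (isEquivOver_id _)
    (fun x' => Iso.refl _) ?_ ?_ h1
  · intro x x₁ β
    change (PSR.toInner y f g).map β ≫ 𝟙 _ = 𝟙 _ ≫ (PSR.toInner y f g).map β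
    rw [Category.comp_id, Category.id_comp]
  · intro x'
    exact IsHomLift.id ((PSR.toInner y f g).w_obj x')

/-- **Composition.**  `RepByAlgSpWith P` is stable under composition, for `P` respecting
isomorphisms, stable under composition of morphisms of algebraic spaces and fppf local on the
base. -/
theorem repWith_comp_of_schLocal {𝒳 𝒴 𝒵 : AlgSt.Cat S}
    (h𝒳 : FibCat.IsFibGrpd 𝒳.p) (h𝒵 : FibCat.IsFibGrpd 𝒵.p)
    (P : MorphismProperty (AlgSp.Sp S)) [P.RespectsIso]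
    (hPc : ∀ ⦃X Y Z : AlgSp.Sp S⦄, AlgSp.IsAlgSpace X → AlgSp.IsAlgSpace Y → AlgSp.IsAlgSpace Z →
      ∀ (a : X ⟶ Y) (b : Y ⟶ Z), P a → P b → P (a ≫ b))
    (hP : ACov.SchLocal P)
    (f : 𝒳 ⥤ᵇ 𝒴) (g : 𝒴 ⥤ᵇ 𝒵) (hf : AlgSt.RepByAlgSpWith P f) (hg : AlgSt.RepByAlgSpWith P g) :
    AlgSt.RepByAlgSpWith P (BasedFunctor.comp f g) := by
  intro U y
  obtain ⟨G, eG, heG, hPG⟩ := hg U y
  obtain ⟨gG, ⟨z₁⟩, ⟨z₂⟩⟩ := id heG
  have hr : AlgSt.RepByAlgSpWith P (PSR.toInner y f g) := repWith_toInner P y f g hf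
  -- the functor to `ofSp G`
  let w : FibCat.fp y (BasedFunctor.comp f g) ⥤ᵇ ofSp G.obj :=
    BasedFunctor.comp (PSR.toInner y f g) gG
  have hw : AlgSt.RepByAlgSpWith P w := by
    refine repWith_of_square_fwd P (PSR.toInner y f g) w (BasedFunctor.id _) eG
      (isEquivOver_id _) heG (fun x' => compApp z₂ ((PSR.toInner y f g).obj x')) ?_ ?_ hr
    · intro x x₁ β
      exact compApp_nat z₂ ((PSR.toInner y f g).map β)
    · intro x'
      have h := compApp_lift z₂ ((PSR.toInner y f g).obj x')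
      rw [(PSR.toInner y f g).w_obj x'] at h
      exact h
  have h𝒲 : FibCat.IsFibGrpd (FibCat.fp y (BasedFunctor.comp f g)).p :=
    SP.isFibGrpd_fp y (BasedFunctor.comp f g) (FG.isFibGrpd_overForget U) h𝒳 h𝒵
  obtain ⟨H, eH, heH, hPa⟩ := exists_space_of_repWith_of_schLocal P hP h𝒲 G w hw
  refine ⟨H, eH, heH, ?_⟩
  have key : spMapOfOver (BasedFunctor.comp eH (FibCat.fpFst y (BasedFunctor.comp f g))) =
      (ObjectProperty.homMk (mapOf (BasedFunctor.comp eH w)) : H.obj ⟶ G.obj) ≫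
        spMapOfOver (BasedFunctor.comp eG (FibCat.fpFst y g)) := by
    apply ObjectProperty.hom_ext
    change (spMapOfOver (BasedFunctor.comp eH (FibCat.fpFst y (BasedFunctor.comp f g)))).hom =
      mapOf (BasedFunctor.comp eH w) ≫ (spMapOfOver (BasedFunctor.comp eG (FibCat.fpFst y g))).hom
    rw [← AD.mapOf_comp_ofOverCat, ← AD.mapOf_comp_ofOverCat, ← mapOf_comp]
    refine mapOf_congr _ _ (fun a => ?_) (fun a => ?_)
    · exact ((BasedFunctor.comp (FibCat.fpFst y g) (ofOverCat U)).toFunctor.mapIso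
        (compApp z₂ ((PSR.toInner y f g).obj (eH.obj a)))).symm
    · have h := compApp_lift z₂ ((PSR.toInner y f g).obj (eH.obj a))
      rw [(PSR.toInner y f g).w_obj, eH.w_obj] at h
      have h0 : (FibCat.fp y g).p.IsHomLift (𝟙 a.base)
          (compApp z₂ ((PSR.toInner y f g).obj (eH.obj a))).hom := h
      have h' : (FibCat.fp y g).p.IsHomLift (𝟙 a.base)
          (compApp z₂ ((PSR.toInner y f g).obj (eH.obj a))).inv :=
        IsHomLift.lift_id_inv (FibCat.fp y g).p a.base _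
      exact map_lift'' (BasedFunctor.comp (FibCat.fpFst y g) (ofOverCat U)) h'
  rw [key]
  exact hPc H.property G.property (AlgSp.IsAlgSpace.yon_obj U) _ _ hPa hPG

theorem repWith_comp {𝒳 𝒴 𝒵 : AlgSt.Cat S}
    (h𝒳 : FibCat.IsFibGrpd 𝒳.p) (h𝒵 : FibCat.IsFibGrpd 𝒵.p)
    (P : MorphismProperty (AlgSp.Sp S)) [P.RespectsIso]
    (hPc : ∀ ⦃X Y Z : AlgSp.Sp S⦄, AlgSp.IsAlgSpace X → AlgSp.IsAlgSpace Y → AlgSp.IsAlgSpace Z →
      ∀ (a : X ⟶ Y) (b : Y ⟶ Z), P a → P b → P (a ≫ b))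
    (hP : AlgSp.IsLocalOnBase (AlgSp.IsFppfCover (S := S)) P)
    (f : 𝒳 ⥤ᵇ 𝒴) (g : 𝒴 ⥤ᵇ 𝒵) (hf : AlgSt.RepByAlgSpWith P f) (hg : AlgSt.RepByAlgSpWith P g) :
    AlgSt.RepByAlgSpWith P (BasedFunctor.comp f g) :=
  repWith_comp_of_schLocal h𝒳 h𝒵 P hPc (ACov.schLocal_of_isLocalOnBase P hP) f g hf hg

end Groth.Agent.Lib.Helper17.ACP

namespace Groth.Agent.Lib.Helper17.ACP

open CategoryTheory CategoryTheory.Limits AlgebraicGeometry Opposite FibCat Stk AlgSt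
open Groth.Agent.Lib.Helper17

variable {S : Scheme.{u}}

/-- restriction of a property of morphisms of sheaves to morphisms between algebraic spaces -/
def restr (P : MorphismProperty (AlgSp.Sp S)) : MorphismProperty (AlgSp.Sp S) :=
  fun X Y a => AlgSp.IsAlgSpace X ∧ AlgSp.IsAlgSpace Y ∧ P a

/-- the form of "stable under base change" used in the statements -/
def BC (P : MorphismProperty (AlgSp.Sp S)) : Prop :=
  ∀ ⦃X₁ Y₁ X₂ Y₂ : AlgSp.Sp S⦄, AlgSp.IsAlgSpace X₁ → AlgSp.IsAlgSpace Y₁ → AlgSp.IsAlgSpace X₂ →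
    AlgSp.IsAlgSpace Y₂ → ∀ (a : X₁ ⟶ Y₁) (b : Y₂ ⟶ Y₁) (a' : X₂ ⟶ Y₂) (b' : X₂ ⟶ X₁),
    IsPullback b' a' a b → P a → P a'

/-- the form of "stable under composition" used in the statements -/
def CP (P : MorphismProperty (AlgSp.Sp S)) : Prop :=
  ∀ ⦃X Y Z : AlgSp.Sp S⦄, AlgSp.IsAlgSpace X → AlgSp.IsAlgSpace Y → AlgSp.IsAlgSpace Z →
    ∀ (a : X ⟶ Y) (b : Y ⟶ Z), P a → P b → P (a ≫ b)

theorem restr_respectsIso (P : MorphismProperty (AlgSp.Sp S)) (hPb : BC P) :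
    (restr P).RespectsIso := by
  apply MorphismProperty.RespectsIso.mk
  · rintro X Y Z e f ⟨hY, hZ, hf⟩
    have hX : AlgSp.IsAlgSpace X := hY.of_iso e.symm
    refine ⟨hX, hZ, ?_⟩
    have sq : IsPullback e.hom (e.hom ≫ f) f (𝟙 Z) := IsPullback.of_horiz_isIso ⟨by simp⟩
    exact hPb hY hZ hX hZ f (𝟙 Z) (e.hom ≫ f) e.hom sq hf
  · rintro X Y Z e f ⟨hX, hY, hf⟩
    have hZ : AlgSp.IsAlgSpace Z := hY.of_iso e
    refine ⟨hX, hZ, ?_⟩
    have sq : IsPullback (𝟙 X) (f ≫ e.hom) f e.inv := IsPullback.of_horiz_isIso ⟨by simp⟩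
    exact hPb hX hY hX hZ f e.inv (f ≫ e.hom) (𝟙 X) sq hf

theorem repWith_restr_iff (P : MorphismProperty (AlgSp.Sp S)) {𝒳 𝒴 : AlgSt.Cat S} (f : 𝒳 ⥤ᵇ 𝒴) :
    AlgSt.RepByAlgSpWith (restr P) f ↔ AlgSt.RepByAlgSpWith P f := by
  constructor
  · intro h U y
    obtain ⟨F, e, he, -, -, hP⟩ := h U y
    exact ⟨F, e, he, hP⟩
  · intro h U y
    obtain ⟨F, e, he, hP⟩ := h U y
    exact ⟨F, e, he, F.property, AlgSp.IsAlgSpace.yon_obj U, hP⟩

theorem restr_isLocalOnBase (τ : AlgSp.CovNotion S) (P : MorphismProperty (AlgSp.Sp S))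
    (hP : AlgSp.IsLocalOnBase τ P) : AlgSp.IsLocalOnBase τ (restr P) := by
  intro ι Y Yi g hY hYi hcov X f hX Xi p q hXi hsq
  have h := hP Yi g hY hYi hcov f hX Xi p q hXi hsq
  constructor
  · rintro ⟨-, -, hf⟩ i
    exact ⟨hXi i, hYi i, h.mp hf i⟩
  · intro hi
    exact ⟨hX, hY, h.mpr (fun i => (hi i).2.2)⟩

theorem restr_cp (P : MorphismProperty (AlgSp.Sp S)) (hPc : CP P) : CP (restr P) := by
  rintro X Y Z hX hY hZ a b ⟨-, -, ha⟩ ⟨-, -, hb⟩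
  exact ⟨hX, hZ, hPc hX hY hZ a b ha hb⟩

theorem restr_schLocal (P : MorphismProperty (AlgSp.Sp S)) (hP : ACov.SchLocal P) :
    ACov.SchLocal (restr P) := by
  intro H G hH hG a ha
  refine ⟨hH, hG, hP hH hG a ?_⟩
  intro U ξ F' fst snd sq
  obtain ⟨h, hA, -, -, hQ⟩ := ha ξ fst snd sq
  exact ⟨h, hA, hQ⟩

/-- **Composition**, for properties that can be checked after base change to schemes. -/
theorem repWith_comp_of_schLocal' {𝒳 𝒴 𝒵 : AlgSt.Cat S}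
    (h𝒳 : FibCat.IsFibGrpd 𝒳.p) (h𝒵 : FibCat.IsFibGrpd 𝒵.p)
    (P : MorphismProperty (AlgSp.Sp S)) (hPb : BC P) (hPc : CP P) (hP : ACov.SchLocal P)
    (f : 𝒳 ⥤ᵇ 𝒴) (g : 𝒴 ⥤ᵇ 𝒵) (hf : AlgSt.RepByAlgSpWith P f) (hg : AlgSt.RepByAlgSpWith P g) :
    AlgSt.RepByAlgSpWith P (BasedFunctor.comp f g) := by
  have := restr_respectsIso P hPb
  rw [← repWith_restr_iff] at hf hg ⊢
  exact repWith_comp_of_schLocal h𝒳 h𝒵 (restr P) (restr_cp P hPc) (restr_schLocal P hP) f g hf hg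

/-- **Composition**, in the form of the statements. -/
theorem repWith_comp' {𝒳 𝒴 𝒵 : AlgSt.Cat S}
    (h𝒳 : FibCat.IsFibGrpd 𝒳.p) (h𝒵 : FibCat.IsFibGrpd 𝒵.p)
    (P : MorphismProperty (AlgSp.Sp S)) (hPb : BC P) (hPc : CP P)
    (hP : AlgSp.IsLocalOnBase (AlgSp.IsFppfCover (S := S)) P)
    (f : 𝒳 ⥤ᵇ 𝒴) (g : 𝒴 ⥤ᵇ 𝒵) (hf : AlgSt.RepByAlgSpWith P f) (hg : AlgSt.RepByAlgSpWith P g) :
    AlgSt.RepByAlgSpWith P (BasedFunctor.comp f g) := by
  have := restr_respectsIso P hPb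
  rw [← repWith_restr_iff] at hf hg ⊢
  exact repWith_comp h𝒳 h𝒵 (restr P) (restr_cp P hPc) (restr_isLocalOnBase _ P hP) f g hf hg

end Groth.Agent.Lib.Helper17.ACP
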