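import Groth.Agent.Lib.Helper17.AlgStConj
import Groth.Agent.Lib.Helper17.ClsPsh
import Groth.Agent.Lib.Helper17.FaithfulThin
import Groth.Agent.Lib.Helper17.SelfProd
import Groth.Agent.S12777
import Groth.Agent.S10091

set_option autoImplicit false
set_option backward.isDefEq.respectTransparency false
set_option backward.isDefEq.respectTransparency.types false
universe u

namespace Groth.Agent.Lib.Helper17.AFR

open CategoryTheory CategoryTheory.Limits AlgebraicGeometry Opposite FibCat Stk AlgSt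
open Groth.Agent.Lib.Helper17 Groth.Agent.Lib.Helper17.PD Groth.Agent.Lib.Helper17.EO
  Groth.Agent.Lib.Helper17.AT Groth.Agent.Lib.Helper17.AB Groth.Agent.Lib.Helper17.TH
  Groth.Agent.Lib.Helper17.FP

variable {S : Scheme.{u}}

/-- the 2-fibre product of a category with thin fibres with a faithful functor has thin fibres -/
theorem thinOver_fp {𝒳 𝒴 𝒵 : AlgSt.Cat S} (f : 𝒳 ⥤ᵇ 𝒴) (g : 𝒵 ⥤ᵇ 𝒴) (hZ : ThinOver 𝒵)
    (hf : f.toFunctor.Faithful) : ThinOver (FibCat.fp g f) := by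
  intro U q q' k k' hk hk'
  have h1 : k.hom.fst = k'.hom.fst :=
    hZ U _ _ ((isHomLift_iff_fst k _).mp hk) ((isHomLift_iff_fst k' _).mp hk')
  have e1 := k.hom.w
  have e2 := k'.hom.w
  have h2 : k.hom.snd = k'.hom.snd := by
    apply f.toFunctor.map_injective
    rw [h1] at e1
    exact (cancel_epi q.obj.iso.hom).mp (e1.symm.trans e2)
  exact hom_ext h1 h2

theorem rep_fp_of_rep1 {𝒳 𝒴 𝒵 : AlgSt.Cat S}
    (h𝒳 : FibCat.IsFibGrpd 𝒳.p) (h𝒴 : FibCat.IsFibGrpd 𝒴.p) (h𝒵 : FibCat.IsFibGrpd 𝒵.p)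
    (f : 𝒳 ⥤ᵇ 𝒴) (g : 𝒵 ⥤ᵇ 𝒴) (hf : AlgSt.RepByAlgSp1 f) (hZ : AlgSt.RepByAlgSp 𝒵) :
    AlgSt.RepByAlgSp (FibCat.fp g f) := by
  obtain ⟨Z, eZ, heZ⟩ := hZ
  obtain ⟨gZ, ⟨z₁⟩, ⟨z₂⟩⟩ := id heZ
  -- `f` is faithful
  have hfaith : f.toFunctor.Faithful := by
    apply FT.faithful_of_thin h𝒳 h𝒴 f
    intro U y
    obtain ⟨F, e, he⟩ := hf U y
    exact thinOver_of_equiv e he (thinOver_ofPsh _)
  -- the fibre product is fibred in setoids
  have hZthin : ThinOver 𝒵 := thinOver_of_equiv eZ heZ (thinOver_ofPsh _)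
  have hW : FibCat.IsFibSetoid (FibCat.fp g f).p := by
    refine ⟨SP.isFibGrpd_fp g f h𝒵 h𝒳 h𝒴, ?_⟩
    rw [← thinOver_iff]
    exact thinOver_fp f g hZthin hfaith
  -- its presheaf of classes
  have hc := CP.cls_isEquivOver hW
  obtain ⟨c', ⟨c₁⟩, ⟨c₂⟩⟩ := id hc
  have hc' : FibCat.IsEquivOver c' := isEquivOver_symm _ c' c₁ c₂
  -- the map of presheaves to `Z` is representable by algebraic spaces
  have h1 : AlgSt.RepByAlgSp1 (FibCat.fpFst g f) := by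
    rw [rep1_iff_top] at hf ⊢
    exact repWith_fpFst ⊤ f g hf
  rw [rep1_iff_top] at h1
  have h2 := AC.repWith_ofPshMap_of_conj ⊤ (FibCat.fpFst g f) c' eZ hc' heZ gZ z₂ h1
  rw [← rep1_iff_top, ← Groth.Agent.S12777.result] at h2
  have h3 : AlgSp.IsAlgSpaceP (CP.clsPsh hW.1) :=
    Groth.Agent.S10091.result S _ _ _ h2 ((AlgSp.isAlgSpaceP_obj_iff Z.obj).mpr Z.property)
  obtain ⟨hsh, hA⟩ := h3
  exact ⟨⟨⟨CP.clsPsh hW.1, hsh⟩, hA⟩, c', hc'⟩

end Groth.Agent.Lib.Helper17.AFR
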