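import Groth.Prelude.Def_AlgSpCov
import Groth.Prelude.Def_AlgSpRep
import Groth.Agent.Lib.Helper36.AlgSpCharts
import Groth.Agent.Lib.Helper37.AlgSpPoints

set_option autoImplicit false
universe u

namespace Groth.Agent.Lib.Helper17.ACov

open CategoryTheory CategoryTheory.Limits AlgebraicGeometry Opposite AlgSp

variable {S : Scheme.{u}}

/-- a representable etale map from a scheme is etale as a morphism of sheaves -/
theorem isEtaleMor_of_repWith {G : Sp S} {V : Over S} (φ : (yon S).obj V ⟶ G)
    (he : RepWith @Etale φ) : IsEtaleMor φ := by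
  intro U a ha
  have : (RepWith (S := S) @Etale).IsMultiplicative := repWith_isMultiplicative _
  exact (RepWith (S := S) @Etale).comp_mem _ _ ha he

/-- an etale morphism of sheaves has every property of morphisms of schemes shared by all etale
morphisms, etale locally on source and target -/
theorem locP_of_isEtaleMor {P : MorphismProperty Scheme.{u}}
    (hP : ∀ ⦃X Y : Scheme.{u}⦄ (f : X ⟶ Y), Etale f → P f)
    {F G : Sp S} (f : F ⟶ G) (hf : IsEtaleMor f) : LocP P f := by
  intro U V a b h ha hb w
  have h1 : RepWith @Etale (a ≫ f) := hf a ha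
  exact hP _ (Groth.Agent.Lib.Helper36.AlgSpCharts.etale_of_comp_eq (a ≫ f) b h h1 hb w.symm)

theorem points_map_surjective {G : Sp S} {V : Over S} (φ : (yon S).obj V ⟶ G)
    (hs : RepWith @Surjective φ) : Function.Surjective (Points.map φ) := by
  intro x
  obtain ⟨v, hv⟩ := Groth.Agent.Lib.Helper37.AlgSpPoints.ofPt_surjective φ hs x
  refine ⟨Points.ofScheme V v, ?_⟩
  rw [Points.map_ofPt, Category.id_comp]
  exact hv

/-- an etale atlas is an fppf covering -/
theorem isFppfCover_of_atlas {G : Sp S} {V : Over S} (φ : (yon S).obj V ⟶ G)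
    (he : RepWith @Etale φ) (hs : RepWith @Surjective φ) :
    IsFppfCover (fun _ : PUnit.{u + 1} => (yon S).obj V) (fun _ => φ) := by
  refine ⟨fun _ => ⟨?_, ?_⟩, fun x => ⟨PUnit.unit, points_map_surjective φ hs x⟩⟩
  · exact locP_of_isEtaleMor (P := @Flat) (fun X Y f hf => by have := hf; infer_instance) φ
      (isEtaleMor_of_repWith φ he)
  · exact locP_of_isEtaleMor (P := @LocallyOfFinitePresentation)
      (fun X Y f hf => by have := hf; infer_instance) φ (isEtaleMor_of_repWith φ he)

/-- for `P` fppf local on the base: a morphism of algebraic spaces all of whose base changes to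
schemes have `P` has `P` -/
theorem prop_of_repBySpWith (P : MorphismProperty (Sp S))
    (hP : IsLocalOnBase (IsFppfCover (S := S)) P)
    {H G : Sp S} (hH : IsAlgSpace H) (hG : IsAlgSpace G) (a : H ⟶ G)
    (ha : RepBySpWith P a.hom) : P a := by
  obtain ⟨V, φ, he, hs⟩ := hG.atlas
  have hcov := isFppfCover_of_atlas φ he hs
  have sq : IsPullback (pullback.fst a φ) (pullback.snd a φ) a φ := IsPullback.of_hasPullback a φ
  have sq' : IsPullback (pullback.fst a φ).hom (pullback.snd a φ).hom a.hom φ.hom :=
    sq.map (sheafToPresheaf _ _)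
  obtain ⟨h, hA, hQ⟩ := ha φ.hom _ _ sq'
  exact (hP (fun _ : PUnit.{u + 1} => (yon S).obj V) (fun _ => φ) hG
    (fun _ => IsAlgSpace.yon_obj V) hcov a hH (fun _ => pullback a φ)
    (fun _ => pullback.snd a φ) (fun _ => pullback.fst a φ) (fun _ => hA) (fun _ => sq)).mpr
    (fun _ => hQ)

/-- `P` can be checked after base change to schemes: a morphism of algebraic spaces all of whose
base changes to schemes have `P` has `P` -/
def SchLocal (P : MorphismProperty (Sp S)) : Prop :=
  ∀ ⦃H G : Sp S⦄, IsAlgSpace H → IsAlgSpace G → ∀ a : H ⟶ G, RepBySpWith P a.hom → P a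

theorem schLocal_of_isLocalOnBase (P : MorphismProperty (Sp S))
    (hP : IsLocalOnBase (IsFppfCover (S := S)) P) : SchLocal P :=
  fun _ _ hH hG a ha => prop_of_repBySpWith P hP hH hG a ha

/-- a pullback square of sheaves, seen in presheaves -/
theorem isPullback_hom {A B D E : Sp S} {t : A ⟶ B} {l : A ⟶ D} {r : B ⟶ E} {b : D ⟶ E}
    (sq : IsPullback t l r b) : IsPullback t.hom l.hom r.hom b.hom :=
  sq.map (sheafToPresheaf _ _)

/-- the base change of `a` along `g : h_U ⟶ G`, with the property given by `RepBySpWith` -/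
theorem exists_baseChange {P : MorphismProperty (Sp S)} {H G : Sp S} (a : H ⟶ G)
    (ha : RepBySpWith P a.hom) {U : Over S} (g : (yon S).obj U ⟶ G) :
    ∃ (F' : Sp S) (fst : F' ⟶ H) (snd : F' ⟶ (yon S).obj U),
      IsPullback fst snd a g ∧ IsAlgSpace F' ∧ P snd := by
  have sq : IsPullback (pullback.fst a g) (pullback.snd a g) a g := IsPullback.of_hasPullback a g
  obtain ⟨h, hA, hQ⟩ := ha g.hom _ _ (isPullback_hom sq)
  exact ⟨pullback a g, pullback.fst a g, pullback.snd a g, sq, hA, hQ⟩

end Groth.Agent.Lib.Helper17.ACov
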