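import Groth.Agent.Lib.Helper17.AlgStFpRep
import Groth.Agent.Lib.Helper17.AtlasCover
import Groth.Agent.Lib.Helper17.EquivGen
import Groth.Agent.S12778

set_option autoImplicit false
set_option backward.isDefEq.respectTransparency false
set_option backward.isDefEq.respectTransparency.types false
universe u

namespace Groth.Agent.Lib.Helper17.AOS

open CategoryTheory CategoryTheory.Limits AlgebraicGeometry Opposite FibCat Stk AlgSt
open Groth.Agent.Lib.Helper17 Groth.Agent.Lib.Helper17.PD Groth.Agent.Lib.Helper17.EO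
  Groth.Agent.Lib.Helper17.AT Groth.Agent.Lib.Helper17.AB Groth.Agent.Lib.Helper17.TH
  Groth.Agent.Lib.Helper17.FP

variable {S : Scheme.{u}}

theorem isEquivOver_id (𝒜 : AlgSt.Cat S) : FibCat.IsEquivOver (BasedFunctor.id 𝒜) :=
  ⟨BasedFunctor.id 𝒜, ⟨Iso.refl _⟩, ⟨Iso.refl _⟩⟩

/-- **Representability over an algebraic-space base.**  If `w : 𝒲 ⟶ ofSp G` (with `G` an algebraic
space and `𝒲` fibred in groupoids) is representable by algebraic spaces with `P`, and `P` respects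
isomorphisms and is fppf local on the base, then `𝒲` is equivalent to `ofSp H` for an algebraic
space `H` in such a way that the induced map of spaces `H ⟶ G` has `P`. -/
theorem exists_space_of_repWith_of_schLocal (P : MorphismProperty (AlgSp.Sp S)) [P.RespectsIso]
    (hP : ACov.SchLocal P)
    {𝒲 : AlgSt.Cat S} (h𝒲 : FibCat.IsFibGrpd 𝒲.p) (G : AlgSp.Space S) (w : 𝒲 ⥤ᵇ ofSp G.obj)
    (hw : AlgSt.RepByAlgSpWith P w) :
    ∃ (H : AlgSp.Space S) (e : ofSp H.obj ⥤ᵇ 𝒲), FibCat.IsEquivOver e ∧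
      P (ObjectProperty.homMk (mapOf (BasedFunctor.comp e w)) : H.obj ⟶ G.obj) := by
  have hG : FibCat.IsFibGrpd (ofSp G.obj).p := Stk.isFibGrpd_ofPsh _
  have hfaith : w.toFunctor.Faithful := by
    apply FT.faithful_of_thin h𝒲 hG w
    intro U y
    obtain ⟨F, e, he, -⟩ := hw U y
    exact thinOver_of_equiv e he (thinOver_ofPsh _)
  have hWthin : ThinOver 𝒲 := EG.thinOver_of_faithful w (thinOver_ofPsh _)
  have hW : FibCat.IsFibSetoid 𝒲.p := by
    refine ⟨h𝒲, ?_⟩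
    rw [← thinOver_iff]
    exact hWthin
  have hc := CP.cls_isEquivOver hW
  obtain ⟨c', ⟨c₁⟩, ⟨c₂⟩⟩ := id hc
  have hc' : FibCat.IsEquivOver c' := isEquivOver_symm _ c' c₁ c₂
  have h2 := AC.repWith_ofPshMap_of_conj P w c' (BasedFunctor.id _) hc' (isEquivOver_id _)
    (BasedFunctor.id _) (Iso.refl _) hw
  have h2' : AlgSt.RepByAlgSpWith P (Stk.ofPshMap (mapOf (BasedFunctor.comp c' w))) := h2
  have h1 : AlgSt.RepByAlgSp1 (Stk.ofPshMap (mapOf (BasedFunctor.comp c' w))) := by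
    rw [rep1_iff_top]
    intro U y
    obtain ⟨F, e, he, -⟩ := h2' U y
    exact ⟨F, e, he, trivial⟩
  have h3 : AlgSp.RepBySp (mapOf (BasedFunctor.comp c' w)) :=
    (Groth.Agent.S12777.result _).mpr h1
  have hA : AlgSp.IsAlgSpaceP (CP.clsPsh hW.1) :=
    Groth.Agent.S10091.result S _ _ _ h3 ((AlgSp.isAlgSpaceP_obj_iff G.obj).mpr G.property)
  obtain ⟨hsh, hA⟩ := hA
  have h4 : AlgSp.RepBySpWith P (mapOf (BasedFunctor.comp c' w)) :=
    (Groth.Agent.S12778.result P _ h3).mpr h2'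
  refine ⟨⟨⟨CP.clsPsh hW.1, hsh⟩, hA⟩, c', hc', ?_⟩
  exact hP hA G.property
    (ObjectProperty.homMk (mapOf (BasedFunctor.comp c' w))) h4

theorem exists_space_of_repWith (P : MorphismProperty (AlgSp.Sp S)) [P.RespectsIso]
    (hP : AlgSp.IsLocalOnBase (AlgSp.IsFppfCover (S := S)) P)
    {𝒲 : AlgSt.Cat S} (h𝒲 : FibCat.IsFibGrpd 𝒲.p) (G : AlgSp.Space S) (w : 𝒲 ⥤ᵇ ofSp G.obj)
    (hw : AlgSt.RepByAlgSpWith P w) :
    ∃ (H : AlgSp.Space S) (e : ofSp H.obj ⥤ᵇ 𝒲), FibCat.IsEquivOver e ∧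
      P (ObjectProperty.homMk (mapOf (BasedFunctor.comp e w)) : H.obj ⟶ G.obj) :=
  exists_space_of_repWith_of_schLocal P (ACov.schLocal_of_isLocalOnBase P hP) h𝒲 G w hw

end Groth.Agent.Lib.Helper17.AOS
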