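import Groth.Agent.Lib.Helper17.SpaceDiag
import Groth.Agent.Lib.Helper17.Pasting
import Groth.Agent.Lib.Helper23.AlgSpMor7

set_option autoImplicit false
set_option backward.isDefEq.respectTransparency false
set_option backward.isDefEq.respectTransparency.types false
universe u

namespace Groth.Agent.Lib.Helper17.QC2

open CategoryTheory CategoryTheory.Limits AlgebraicGeometry Opposite AlgSp FibCat Stk AlgSt
open Groth.Agent.Lib.Helper17 Groth.Agent.Lib.Helper17.FP Groth.Agent.Lib.Helper17.EO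
  Groth.Agent.Lib.Helper17.PD Groth.Agent.Lib.Helper17.AT Groth.Agent.Lib.Helper17.AB
  Groth.Agent.Lib.Helper17.AOS Groth.Agent.Lib.Helper17.ACP
open Groth.Agent.Lib.Helper46 Groth.Agent.Lib.Helper46.LocPChart

variable {S : Scheme.{u}}

/-- **a morphism representable by algebraic spaces and quasi-compact is quasi-compact** in the
sense of base change to quasi-compact stacks -/
theorem isQuasiCompact_fp_of_repWith {𝒳 𝒴 𝒵 : AlgSt.Cat S} (hX : FibCat.IsFibGrpd 𝒳.p)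
    (hY : FibCat.IsFibGrpd 𝒴.p) (hZ : FibCat.IsFibGrpd 𝒵.p) (f : 𝒳 ⥤ᵇ 𝒴)
    (hf : AlgSt.RepByAlgSpWith AlgSp.IsQuasiCompactMor f) (hq : AlgSt.IsQuasiCompact 𝒵)
    (g : 𝒵 ⥤ᵇ 𝒴) : AlgSt.IsQuasiCompact (FibCat.fp g f) := by
  obtain ⟨U, x, haff, hxs, hxsurj⟩ := hq
  have hW : FibCat.IsFibGrpd (FibCat.fp g f).p := SP.isFibGrpd_fp g f hZ hX hY
  obtain ⟨F, e, he, ha⟩ := hf U (BasedFunctor.comp x g)
  -- `F` is quasi-compact
  have hUq : IsQuasiCompactSp ((yon S).obj U) :=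
    ⟨U, 𝟙 _, repWith_id _ U, repWith_id _ U, inferInstance⟩
  have hFq : IsQuasiCompactSp F.obj :=
    ha (IsAlgSpace.yon_obj U) hUq (𝟙 _) (𝟙 _)
      (spMapOfOver (BasedFunctor.comp e (FibCat.fpFst (BasedFunctor.comp x g) f)))
      (IsPullback.of_horiz_isIso ⟨by simp⟩)
  obtain ⟨U', p, hpe, hps, hcomp⟩ := hFq
  have : CompactSpace ↥U'.left := hcomp
  -- the smooth surjective functor from `F` to the fibre product
  let m : FibCat.fp (BasedFunctor.comp x g) f ⥤ᵇ FibCat.fp g f :=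
    BasedFunctor.comp (PS.paste x g f) (FibCat.fpSnd x (FibCat.fpFst g f))
  have hm₁ : AlgSt.RepByAlgSpWith (LocP @Smooth) m :=
    FD.repWith_precomp_equiv _ _ (PS.paste_isEquivOver x g f) _
      (AB.repWith_fpSnd _ x (FibCat.fpFst g f) hxs)
  have hm₂ : AlgSt.RepByAlgSpWith IsSurjectiveMor m :=
    FD.repWith_precomp_equiv _ _ (PS.paste_isEquivOver x g f) _
      (AB.repWith_fpSnd _ x (FibCat.fpFst g f) hxsurj)
  obtain ⟨h1, h2⟩ := CT.smooth_surj_chart_of_space hW F (BasedFunctor.comp e m) p hpe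
  exact CT.isQuasiCompact_of_compact_chart hW U' _
    (h1 (FD.repWith_precomp_equiv _ e he m hm₁))
    (h2 hps (FD.repWith_precomp_equiv _ e he m hm₂))

theorem isQuasiCompactMor_of_repWith {𝒳 𝒴 : AlgSt.Cat S} (hX : FibCat.IsFibGrpd 𝒳.p)
    (hY : FibCat.IsFibGrpd 𝒴.p) (f : 𝒳 ⥤ᵇ 𝒴)
    (hf : AlgSt.RepByAlgSpWith AlgSp.IsQuasiCompactMor f) :
    AlgSt.IsQuasiCompactMor Scheme.fppfPrecoverage f :=
  fun _ h𝒵 hq g => isQuasiCompact_fp_of_repWith hX hY h𝒵.isStack.1 f hf hq g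

/-- a closed immersion of algebraic stacks is quasi-compact -/
theorem isQuasiCompactMor_of_isClosedImm {𝒳 𝒴 : AlgSt.Cat S} (hX : FibCat.IsFibGrpd 𝒳.p)
    (hY : FibCat.IsFibGrpd 𝒴.p) (f : 𝒳 ⥤ᵇ 𝒴) (hf : AlgSt.IsClosedImm f) :
    AlgSt.IsQuasiCompactMor Scheme.fppfPrecoverage f := by
  apply isQuasiCompactMor_of_repWith hX hY f
  refine DDC.repWith_mono (fun _ _ a _ _ ha => ?_) f hf
  apply Groth.Agent.Lib.Helper23.AlgSpMor.isQuasiCompactMor_of_repWith
  exact MorphismProperty.relative_monotone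
    (fun X Y g hg => by
      have : IsClosedImmersion ((Over.forget S).map g) := hg
      exact (inferInstance : QuasiCompact ((Over.forget S).map g))) _ ha

end Groth.Agent.Lib.Helper17.QC2
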