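import Groth.Agent.Lib.Helper17.DiagDict
import Groth.Agent.Lib.Helper38.DiagBaseChangeAlgSt
import Groth.Agent.Lib.Helper23.AlgSpMor4
import Groth.Agent.Lib.Helper23.AlgSpClosed3
import Groth.Agent.S10521

set_option autoImplicit false
set_option backward.isDefEq.respectTransparency false
set_option backward.isDefEq.respectTransparency.types false
universe u

namespace Groth.Agent.Lib.Helper17.DDC

open CategoryTheory CategoryTheory.Limits AlgebraicGeometry Opposite AlgSp FibCat Stk AlgSt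
open Groth.Agent.Lib.Helper17 Groth.Agent.Lib.Helper17.FP Groth.Agent.Lib.Helper17.EO
  Groth.Agent.Lib.Helper17.PD Groth.Agent.Lib.Helper17.AT Groth.Agent.Lib.Helper17.AB
  Groth.Agent.Lib.Helper17.AOS

variable {S : Scheme.{u}}

/-- the functor of the diagonal of a map of sheaves has the properties of the diagonal of the functor
of the map -/
theorem repWith_ofSpMap_diagonal (P : MorphismProperty (Sp S)) {F G : Sp S} (a : F ⟶ G)
    (h : AlgSt.RepByAlgSpWith P (FibCat.diag (ofSpMap a))) :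
    AlgSt.RepByAlgSpWith P (ofSpMap (pullback.diagonal a)) := by
  have sq1 : IsPullback (pullback.fst a a) (pullback.snd a a) a a := IsPullback.of_hasPullback a a
  have sq2 : IsPullback (pullback.fst a a).hom (pullback.snd a a).hom a.hom a.hom :=
    sq1.map (sheafToPresheaf (AlgSp.J S) (Type (u + 1)))
  have comm := PP.comm_of_isPullback sq2
  have hE := PF.E_isEquivOver _ _ _ _ comm (PP.inj_of_isPullback sq2) (PP.surj_of_isPullback sq2)
  have h1 : ∀ x' : (ofSp F).obj, (pullback.fst a a).hom.app (op x'.base)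
      ((pullback.diagonal a).hom.app (op x'.base) x'.sec) = x'.sec := fun x' =>
    congrArg (fun m : F ⟶ F => m.hom.app (op x'.base) x'.sec) (pullback.diagonal_fst a)
  have h2 : ∀ x' : (ofSp F).obj, (pullback.snd a a).hom.app (op x'.base)
      ((pullback.diagonal a).hom.app (op x'.base) x'.sec) = x'.sec := fun x' =>
    congrArg (fun m : F ⟶ F => m.hom.app (op x'.base) x'.sec) (pullback.diagonal_snd a)
  refine repWith_of_square_fwd P (FibCat.diag (ofSpMap a)) (ofSpMap (pullback.diagonal a))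
    (BasedFunctor.id _) (PF.E _ _ _ _ comm) (isEquivOver_id _) hE
    (fun x' => mkIso (z := (PF.E _ _ _ _ comm).obj ((ofSpMap (pullback.diagonal a)).obj x'))
      (z' := (FibCat.diag (ofSpMap a)).obj x')
      (isoOfEq x'.base _ _ (h2 x')) (isoOfEq x'.base _ _ (h1 x')) ?_) ?_ ?_ h
  · apply EltObj.hom_ext
    exact (Category.comp_id _).trans (Category.id_comp _).symm
  · intro x x₁ β
    apply hom_ext
    · apply EltObj.hom_ext
      exact (Category.comp_id _).trans (Category.id_comp _).symm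
    · apply EltObj.hom_ext
      exact (Category.comp_id _).trans (Category.id_comp _).symm
  · intro x'
    rw [isHomLift_iff_fst]
    exact isoOfEq_lift x'.base _ _ (h2 x')

/-- transport of the diagonal along an equivalence with the category of a sheaf -/
theorem repWith_diag_ofSpMap (P : MorphismProperty (Sp S)) {𝒜 : AlgSt.Cat S} {U : Over S}
    (π : 𝒜 ⥤ᵇ FibCat.overCat U) {F : Sp S} (e : ofSp F ⥤ᵇ 𝒜) (he : FibCat.IsEquivOver e)
    (h : AlgSt.RepByAlgSpWith P (FibCat.diag π)) :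
    AlgSt.RepByAlgSpWith P (FibCat.diag (ofSpMap (spMapOfOver (BasedFunctor.comp e π)))) := by
  refine repWith_of_square_fwd P (FibCat.diag π)
    (FibCat.diag (ofSpMap (spMapOfOver (BasedFunctor.comp e π)))) e (FD.KK π π e e) he
    (FD.KK_isEquivOver π π e e he he)
    (fun x' => mkIso (z := (FD.KK π π e e).obj
        ((FibCat.diag (ofSpMap (spMapOfOver (BasedFunctor.comp e π)))).obj x'))
      (z' := (FibCat.diag π).obj (e.obj x')) (Iso.refl _) (Iso.refl _) ?_) ?_ ?_ h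
  · change π.map (𝟙 _) ≫ 𝟙 _ = ((FD.slIso (BasedFunctor.comp e π) x').symm ≪≫
      ((toOverCat U).toFunctor.mapIso (Iso.refl _) ≪≫ FD.slIso (BasedFunctor.comp e π) x')).hom ≫
        π.map (𝟙 _)
    simp
  · intro x x₁ β
    apply hom_ext
    · change e.map β ≫ 𝟙 _ = 𝟙 _ ≫ e.map β
      rw [Category.comp_id, Category.id_comp]
    · change e.map β ≫ 𝟙 _ = 𝟙 _ ≫ e.map β
      rw [Category.comp_id, Category.id_comp]
  · intro x'
    rw [isHomLift_iff_fst]
    exact IsHomLift.id (e.w_obj x')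

/-- **from the diagonal to the diagonals of the base changes**: if the diagonal of `f` has `P`
(stable under base change, checkable on base changes to schemes), then for every base change of `f`
to a scheme, the diagonal of the structure map of a representing space has `P` -/
theorem diagonal_of_repWith_diag (P : MorphismProperty (Sp S)) (hPb : ACP.BC P)
    (hsl : ACov.SchLocal P) {𝒳 𝒴 : AlgSt.Cat S} (h𝒳 : FibCat.IsFibGrpd 𝒳.p)
    (h𝒴 : FibCat.IsFibGrpd 𝒴.p) (f : 𝒳 ⥤ᵇ 𝒴)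
    (hΔ : AlgSt.RepByAlgSpWith P (FibCat.diag f)) (T : Over S) (y : FibCat.overCat T ⥤ᵇ 𝒴)
    (F : AlgSp.Space S) (e : ofSp F.obj ⥤ᵇ FibCat.fp y f) (he : FibCat.IsEquivOver e) :
    P (pullback.diagonal (spMapOfOver (BasedFunctor.comp e (FibCat.fpFst y f)))) := by
  have h1 : AlgSt.RepByAlgSpWith P (FibCat.diag (FibCat.fpFst y f)) :=
    Groth.Agent.Lib.Helper38.DBCAlgSt.repByAlgSpWith_diag_fpFst h𝒳 h𝒴
      (FG.isFibGrpd_overForget T) P f y hΔ
  have h2 := repWith_diag_ofSpMap P (FibCat.fpFst y f) e he h1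
  have h3 := repWith_ofSpMap_diagonal P _ h2
  have hFF : IsAlgSpace (pullback (spMapOfOver (BasedFunctor.comp e (FibCat.fpFst y f)))
      (spMapOfOver (BasedFunctor.comp e (FibCat.fpFst y f)))) :=
    Groth.Agent.Lib.Helper23.AlgSpMor.isAlgSpace_of_isPullback F.property F.property
      (IsAlgSpace.yon_obj T).diag (IsPullback.of_hasPullback _ _)
  have hrb : AlgSp.RepBySp
      (pullback.diagonal (spMapOfOver (BasedFunctor.comp e (FibCat.fpFst y f)))).hom :=
    AR.repBySp_of_algSpaces F ⟨_, hFF⟩ _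
  have hRI : (ACP.restr P).RespectsIso := ACP.restr_respectsIso _ hPb
  have h4 : AlgSp.RepBySpWith (ACP.restr P)
      (pullback.diagonal (spMapOfOver (BasedFunctor.comp e (FibCat.fpFst y f)))).hom :=
    (Groth.Agent.S12778.result (ACP.restr P) _ hrb).mpr ((ACP.repWith_restr_iff P _).mpr h3)
  apply hsl F.property hFF
  intro T' ξ F' fst snd sq
  obtain ⟨hh, hA, -, -, hq⟩ := h4 ξ fst snd sq
  exact ⟨hh, hA, hq⟩

/-- monotonicity of `RepByAlgSpWith` on algebraic spaces -/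
theorem repWith_mono {P P' : MorphismProperty (Sp S)}
    (h : ∀ ⦃X Y : Sp S⦄ (a : X ⟶ Y), IsAlgSpace X → IsAlgSpace Y → P a → P' a)
    {𝒳 𝒴 : AlgSt.Cat S} (f : 𝒳 ⥤ᵇ 𝒴) (hf : AlgSt.RepByAlgSpWith P f) :
    AlgSt.RepByAlgSpWith P' f := by
  intro U y
  obtain ⟨F, e, he, hP⟩ := hf U y
  exact ⟨F, e, he, h _ F.property (IsAlgSpace.yon_obj U) hP⟩

theorem uc_bc : ACP.BC (IsUnivClosedMor (S := S)) :=
  fun _ _ _ _ _ _ _ _ _ _ _ _ sq h =>
    Groth.Agent.Lib.Helper23.AlgSpMor.isUnivClosedMor_of_isPullback sq h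

theorem uc_local : IsLocalOnBase (IsFppfCover (S := S)) IsUnivClosedMor :=
  PB.fppf_of_fpqc _ (Groth.Agent.S10521.result S)

theorem qc_bc : ACP.BC (IsQuasiCompactMor (S := S)) :=
  fun _ _ _ _ _ _ _ _ _ _ _ _ sq h =>
    Groth.Agent.Lib.Helper23.AlgSpMor.isQuasiCompactMor_of_isPullback sq h

theorem qc_local : IsLocalOnBase (IsFppfCover (S := S)) IsQuasiCompactMor :=
  PB.fppf_of_fpqc _ (Groth.Agent.S10519.result S)

/-- a universally closed diagonal gives separated base changes -/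
theorem repWith_isSeparatedMor_of_univClosed_diag {𝒳 𝒴 : AlgSt.Cat S}
    (h𝒳 : FibCat.IsFibGrpd 𝒳.p) (h𝒴 : FibCat.IsFibGrpd 𝒴.p) (f : 𝒳 ⥤ᵇ 𝒴)
    (hf : AlgSt.RepByAlgSp1 f)
    (h : AlgSt.RepByAlgSpWith AlgSp.IsUnivClosedMor (FibCat.diag f)) :
    AlgSt.RepByAlgSpWith AlgSp.IsSeparatedMor f := by
  intro T y
  obtain ⟨F, e, he⟩ := hf T y
  refine ⟨F, e, he, ?_⟩
  exact Groth.Agent.Lib.Helper23.AlgSpMor.isSeparatedMor_of_isUnivClosedMor_diagonal F.property _
    (diagonal_of_repWith_diag _ uc_bc (ACov.schLocal_of_isLocalOnBase _ uc_local) h𝒳 h𝒴 f h T y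
      F e he)

/-- a quasi-compact diagonal gives quasi-separated base changes -/
theorem repWith_isQuasiSeparatedMor_of_qc_diag {𝒳 𝒴 : AlgSt.Cat S}
    (h𝒳 : FibCat.IsFibGrpd 𝒳.p) (h𝒴 : FibCat.IsFibGrpd 𝒴.p) (f : 𝒳 ⥤ᵇ 𝒴)
    (hf : AlgSt.RepByAlgSp1 f)
    (h : AlgSt.RepByAlgSpWith AlgSp.IsQuasiCompactMor (FibCat.diag f)) :
    AlgSt.RepByAlgSpWith AlgSp.IsQuasiSeparatedMor f := by
  intro T y
  obtain ⟨F, e, he⟩ := hf T y
  refine ⟨F, e, he, ?_⟩
  exact Groth.Agent.Lib.Helper23.AlgSpMor.repWith_quasiCompact_of_isQuasiCompactMor _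
    (Groth.Agent.Lib.Helper23.AlgSpMor.diagonal_hom_properties F.property _).1
    (diagonal_of_repWith_diag _ qc_bc (ACov.schLocal_of_isLocalOnBase _ qc_local) h𝒳 h𝒴 f h T y
      F e he)

/-- quasi-separated base changes give a quasi-compact diagonal -/
theorem qc_diag_of_repWith_isQuasiSeparatedMor {𝒳 𝒴 : AlgSt.Cat S} (f : 𝒳 ⥤ᵇ 𝒴)
    (hf : AlgSt.RepByAlgSpWith AlgSp.IsQuasiSeparatedMor f) :
    AlgSt.RepByAlgSpWith AlgSp.IsQuasiCompactMor (FibCat.diag f) :=
  repWith_mono (fun _ _ _ _ _ h => h.1) _ (DD.qcqs_diag_of_repWith_isQuasiSeparatedMor f hf)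

/-- separated base changes give a diagonal that is a closed immersion -/
theorem closedImm_diag_of_repWith_isSeparatedMor {𝒳 𝒴 : AlgSt.Cat S} (f : 𝒳 ⥤ᵇ 𝒴)
    (hf : AlgSt.RepByAlgSpWith AlgSp.IsSeparatedMor f) :
    AlgSt.RepByAlgSpWith (AlgSp.RepWith @IsClosedImmersion) (FibCat.diag f) := by
  refine DD.repWith_diag_of_sections _
    (fun _ _ _ _ _ _ _ _ _ _ _ _ sq h => MorphismProperty.of_isPullback sq h) f (fun T y => ?_)
  obtain ⟨F, e, he, hsep⟩ := hf T y
  exact ⟨F, e, he, fun σ hσ =>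
    (Groth.Agent.Lib.Helper23.AlgSpMor.section_properties F.property _ σ hσ).2.2.2.2.2.1 hsep⟩

end Groth.Agent.Lib.Helper17.DDC
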