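import Groth.Prelude.Def_FibCat2
import Groth.Agent.Lib.Helper17.HomLift
import Groth.Agent.Lib.Helper17.FibProd
import Groth.Agent.Lib.Helper17.EquivOver
import Groth.Agent.S5139

set_option autoImplicit false
universe v u

/-! The "graph" square: for `f : 𝒳 ⟶ 𝒴`, `g : 𝒴 ⟶ 𝒵`, `y : 𝒲 ⟶ 𝒴`,
`𝒲 ×_𝒴 𝒳 ≃ (𝒲 ×_𝒵 𝒳) ×_{𝒴 ×_𝒵 𝒴} 𝒴`. -/

namespace Groth.Agent.Lib.Helper17.MS

open CategoryTheory CategoryTheory.Functor FibCat
open Groth.Agent.Lib.Helper17 Groth.Agent.Lib.Helper17.FP Groth.Agent.Lib.Helper17.EO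

variable {C : Type u} [Category.{v} C] {𝒲 𝒳 𝒴 𝒵 : BasedCategory.{v, max u v} C}
  (f : 𝒳 ⥤ᵇ 𝒴) (g : 𝒴 ⥤ᵇ 𝒵) (y : 𝒲 ⥤ᵇ 𝒴)

/-- `𝒲 ×_𝒵 𝒳` -/
abbrev B : BasedCategory.{v, max u v} C := fp (BasedFunctor.comp y g) (BasedFunctor.comp f g)

theorem B_lift (b : (B f g y).obj) :
    𝒵.p.IsHomLift (𝟙 (𝒴.p.obj (y.obj b.obj.fst))) b.obj.iso.hom := by
  have h := iso_isHomLift b
  have e : 𝒴.p.obj (y.obj b.obj.fst) = 𝒲.p.obj b.obj.fst := y.w_obj _
  rw [e]
  exact h

/-- the isomorphism of an object of `𝒲 ×_𝒵 𝒳`, with its type unfolded -/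
def th (b : (B f g y).obj) : g.obj (y.obj b.obj.fst) ≅ g.obj (f.obj b.obj.snd) := b.obj.iso

def mObj (b : (B f g y).obj) : (fp g g).obj :=
  mkObj (F := g) (G := g) (y.obj b.obj.fst) (f.obj b.obj.snd) b.obj.iso (B_lift f g y b)

/-- `𝒲 ×_𝒵 𝒳 ⟶ 𝒴 ×_𝒵 𝒴` -/
def m : B f g y ⥤ᵇ fp g g where
  toFunctor :=
    { obj := mObj f g y
      map := fun {b b'} k => mkHom (z := mObj f g y b) (z' := mObj f g y b') (y.map k.hom.fst)
        (f.map k.hom.snd) k.hom.w
      map_id := fun b => by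
        apply hom_ext
        · exact y.toFunctor.map_id _
        · exact f.toFunctor.map_id _
      map_comp := fun k k' => by
        apply hom_ext
        · exact y.toFunctor.map_comp _ _
        · exact f.toFunctor.map_comp _ _ }
  w := Functor.ext (fun b => y.w_obj _) (fun b b' k => by
    have h := Functor.congr_hom y.w k.hom.fst
    exact h)

theorem m_fst : BasedFunctor.comp (m f g y) (fpFst g g) =
    BasedFunctor.comp (fpFst (BasedFunctor.comp y g) (BasedFunctor.comp f g)) y := rfl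

theorem m_snd : BasedFunctor.comp (m f g y) (fpSnd g g) =
    BasedFunctor.comp (fpSnd (BasedFunctor.comp y g) (BasedFunctor.comp f g)) f := rfl

/-! ### components of objects of `(𝒲 ×_𝒵 𝒳) ×_{𝒴 ×_𝒵 𝒴} 𝒴` -/

def c1 (η : (fp (m f g y) (diag g)).obj) : y.obj η.obj.fst.obj.fst ≅ η.obj.snd where
  hom := η.obj.iso.hom.hom.fst
  inv := η.obj.iso.inv.hom.fst
  hom_inv_id := congrArg (fun t => t.hom.fst) η.obj.iso.hom_inv_id
  inv_hom_id := congrArg (fun t => t.hom.fst) η.obj.iso.inv_hom_id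

def c2 (η : (fp (m f g y) (diag g)).obj) : f.obj η.obj.fst.obj.snd ≅ η.obj.snd where
  hom := η.obj.iso.hom.hom.snd
  inv := η.obj.iso.inv.hom.snd
  hom_inv_id := congrArg (fun t => t.hom.snd) η.obj.iso.hom_inv_id
  inv_hom_id := congrArg (fun t => t.hom.snd) η.obj.iso.inv_hom_id

theorem c1_lift (η : (fp (m f g y) (diag g)).obj) :
    𝒴.p.IsHomLift (𝟙 (𝒲.p.obj η.obj.fst.obj.fst)) (c1 f g y η).hom := by
  have h := iso_isHomLift η
  exact (isHomLift_iff_fst η.obj.iso.hom _).mp h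

theorem c2_lift (η : (fp (m f g y) (diag g)).obj) :
    𝒴.p.IsHomLift (𝟙 (𝒲.p.obj η.obj.fst.obj.fst)) (c2 f g y η).hom := by
  have h := iso_isHomLift η
  exact isHomLift_snd η.obj.iso.hom _ h

theorem c_compat (η : (fp (m f g y) (diag g)).obj) :
    g.map (c1 f g y η).hom = (th f g y η.obj.fst).hom ≫ g.map (c2 f g y η).hom := by
  have h := η.obj.iso.hom.hom.w
  change g.map (c1 f g y η).hom ≫ 𝟙 _ = (th f g y η.obj.fst).hom ≫ g.map (c2 f g y η).hom at h
  rw [Category.comp_id] at h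
  exact h

theorem cw1 {η η' : (fp (m f g y) (diag g)).obj} (k : η ⟶ η') :
    y.map k.hom.fst.hom.fst ≫ (c1 f g y η').hom = (c1 f g y η).hom ≫ k.hom.snd :=
  congrArg (fun t => t.hom.fst) k.hom.w

theorem cw2 {η η' : (fp (m f g y) (diag g)).obj} (k : η ⟶ η') :
    f.map k.hom.fst.hom.snd ≫ (c2 f g y η').hom = (c2 f g y η).hom ≫ k.hom.snd :=
  congrArg (fun t => t.hom.snd) k.hom.w

/-! ### the comparison functor -/

def MB (z : (fp y f).obj) : (B f g y).obj :=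
  mkObj (F := BasedFunctor.comp y g) (G := BasedFunctor.comp f g) z.obj.fst z.obj.snd
    (g.toFunctor.mapIso z.obj.iso) (map_lift'' g (iso_isHomLift z))

def MBMap {z z' : (fp y f).obj} (k : z ⟶ z') : MB f g y z ⟶ MB f g y z' :=
  mkHom (z := MB f g y z) (z' := MB f g y z') k.hom.fst k.hom.snd (by
    change g.map (y.map k.hom.fst) ≫ g.map z'.obj.iso.hom =
      g.map z.obj.iso.hom ≫ g.map (f.map k.hom.snd)
    rw [← g.map_comp, ← g.map_comp, k.hom.w])

def MIso (z : (fp y f).obj) : (m f g y).obj (MB f g y z) ≅ (diag g).obj (f.obj z.obj.snd) :=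
  mkIso (z := mObj f g y (MB f g y z)) (z' := (diag g).obj (f.obj z.obj.snd)) z.obj.iso
    (Iso.refl _) (by
      change g.map z.obj.iso.hom ≫ 𝟙 _ = g.map z.obj.iso.hom ≫ g.map (𝟙 _)
      rw [g.map_id])

def MObj (z : (fp y f).obj) : (fp (m f g y) (diag g)).obj :=
  mkObj (F := m f g y) (G := diag g) (MB f g y z) (f.obj z.obj.snd) (MIso f g y z) (by
    rw [isHomLift_iff_fst]
    exact iso_isHomLift z)

def MMap {z z' : (fp y f).obj} (k : z ⟶ z') : MObj f g y z ⟶ MObj f g y z' :=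
  mkHom (z := MObj f g y z) (z' := MObj f g y z') (MBMap f g y k) (f.map k.hom.snd) (by
    apply hom_ext
    · exact k.hom.w
    · change f.map k.hom.snd ≫ 𝟙 _ = 𝟙 _ ≫ f.map k.hom.snd
      rw [Category.comp_id, Category.id_comp])

/-- the comparison `𝒲 ×_𝒴 𝒳 ⟶ (𝒲 ×_𝒵 𝒳) ×_{𝒴 ×_𝒵 𝒴} 𝒴` -/
def M : fp y f ⥤ᵇ fp (m f g y) (diag g) where
  toFunctor :=
    { obj := MObj f g y
      map := MMap f g y
      map_id := fun z => by
        apply hom_ext
        · apply hom_ext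
          · rfl
          · rfl
        · exact f.toFunctor.map_id _
      map_comp := fun k k' => by
        apply hom_ext
        · apply hom_ext
          · rfl
          · rfl
        · exact f.toFunctor.map_comp _ _ }
  w := rfl

theorem M_fst : BasedFunctor.comp (M f g y) (BasedFunctor.comp (fpFst (m f g y) (diag g))
    (fpFst (BasedFunctor.comp y g) (BasedFunctor.comp f g))) = fpFst y f := rfl

theorem M_snd : BasedFunctor.comp (M f g y) (BasedFunctor.comp (fpFst (m f g y) (diag g))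
    (fpSnd (BasedFunctor.comp y g) (BasedFunctor.comp f g))) = fpSnd y f := rfl

theorem M_faithful : (M f g y).toFunctor.Faithful := by
  constructor
  intro z z' k k' h
  have h1 : k.hom.fst = k'.hom.fst := congrArg (fun t => t.hom.fst.hom.fst) h
  have h2 : k.hom.snd = k'.hom.snd := congrArg (fun t => t.hom.fst.hom.snd) h
  exact hom_ext h1 h2

theorem M_full : (M f g y).toFunctor.Full := by
  constructor
  intro z z' n
  obtain ⟨k₁, k₂, t, h1, h2, h3, hw1, hw2⟩ : ∃ (k₁ : z.obj.fst ⟶ z'.obj.fst)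
      (k₂ : z.obj.snd ⟶ z'.obj.snd) (t : f.obj z.obj.snd ⟶ f.obj z'.obj.snd),
      n.hom.fst.hom.fst = k₁ ∧ n.hom.fst.hom.snd = k₂ ∧ n.hom.snd = t ∧
      y.map k₁ ≫ z'.obj.iso.hom = z.obj.iso.hom ≫ t ∧ f.map k₂ ≫ 𝟙 _ = 𝟙 _ ≫ t :=
    ⟨n.hom.fst.hom.fst, n.hom.fst.hom.snd, n.hom.snd, rfl, rfl, rfl,
      congrArg (fun t => t.hom.fst) n.hom.w, congrArg (fun t => t.hom.snd) n.hom.w⟩
  rw [Category.comp_id, Category.id_comp] at hw2
  subst hw2
  refine ⟨mkHom (F := y) (G := f) k₁ k₂ hw1, ?_⟩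
  apply hom_ext
  · apply hom_ext
    · exact h1.symm
    · exact h2.symm
  · exact h3.symm

theorem M_essSurj (η : (fp (m f g y) (diag g)).obj) :
    ∃ (ξ : (fp y f).obj) (e : (M f g y).toFunctor.obj ξ ≅ η),
      (fp (m f g y) (diag g)).p.IsHomLift (𝟙 ((fp (m f g y) (diag g)).p.obj η)) e.hom := by
  let φ : y.obj η.obj.fst.obj.fst ≅ f.obj η.obj.fst.obj.snd := c1 f g y η ≪≫ (c2 f g y η).symm
  have hφ : 𝒴.p.IsHomLift (𝟙 (𝒲.p.obj η.obj.fst.obj.fst)) φ.hom := by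
    have h1 := c1_lift f g y η
    have h1' := c2_lift f g y η
    have h2 : 𝒴.p.IsHomLift (𝟙 (𝒲.p.obj η.obj.fst.obj.fst)) (c2 f g y η).inv :=
      IsHomLift.lift_id_inv 𝒴.p _ (c2 f g y η)
    exact IsHomLift.comp_of_lift_id 𝒴.p (𝒲.p.obj η.obj.fst.obj.fst) (c1 f g y η).hom
      (c2 f g y η).inv
  have hgφ : g.map φ.hom = (th f g y η.obj.fst).hom := by
    change g.map ((c1 f g y η).hom ≫ (c2 f g y η).inv) = _
    rw [g.map_comp, c_compat, Category.assoc, ← g.map_comp, Iso.hom_inv_id, g.map_id,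
      Category.comp_id]
  let ξ : (fp y f).obj := mkObj (F := y) (G := f) η.obj.fst.obj.fst η.obj.fst.obj.snd φ hφ
  -- the isomorphism of the `𝒲 ×_𝒵 𝒳`-components
  let ib : MB f g y ξ ≅ η.obj.fst :=
    mkIso (z := MB f g y ξ) (z' := η.obj.fst) (Iso.refl _) (Iso.refl _) (by
      change g.map (y.map (𝟙 _)) ≫ (th f g y η.obj.fst).hom = g.map φ.hom ≫ g.map (f.map (𝟙 _))
      rw [y.map_id, g.map_id, f.map_id, g.map_id, Category.id_comp, Category.comp_id, hgφ])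
  refine ⟨ξ, mkIso (z := MObj f g y ξ) (z' := η) ib (c2 f g y η) ?_, ?_⟩
  · apply hom_ext
    · change y.map (𝟙 _) ≫ (c1 f g y η).hom = φ.hom ≫ (c2 f g y η).hom
      rw [y.map_id, Category.id_comp]
      change _ = ((c1 f g y η).hom ≫ (c2 f g y η).inv) ≫ (c2 f g y η).hom
      rw [Category.assoc, Iso.inv_hom_id, Category.comp_id]
    · change f.map (𝟙 _) ≫ (c2 f g y η).hom = 𝟙 _ ≫ (c2 f g y η).hom
      rw [f.map_id]
  · rw [isHomLift_iff_fst, isHomLift_iff_fst]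
    exact IsHomLift.id rfl

theorem M_isEquivOver : FibCat.IsEquivOver (M f g y) := by
  rw [Groth.Agent.S5139.result]
  exact ⟨⟨M_full f g y, M_faithful f g y⟩, M_essSurj f g y⟩

end Groth.Agent.Lib.Helper17.MS
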