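import Groth.Agent.Lib.Helper17.AlgStQc2
import Groth.Agent.Lib.Helper17.MagicSq
import Groth.Agent.Lib.Helper17.DiagDictConv
import Groth.Agent.Lib.Helper23.AlgSpQc2

set_option autoImplicit false
set_option backward.isDefEq.respectTransparency false
set_option backward.isDefEq.respectTransparency.types false
universe u

namespace Groth.Agent.Lib.Helper17.QC3

open CategoryTheory CategoryTheory.Limits AlgebraicGeometry Opposite AlgSp FibCat Stk AlgSt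
open Groth.Agent.Lib.Helper17 Groth.Agent.Lib.Helper17.FP Groth.Agent.Lib.Helper17.EO
  Groth.Agent.Lib.Helper17.PD Groth.Agent.Lib.Helper17.AT Groth.Agent.Lib.Helper17.AB
  Groth.Agent.Lib.Helper17.AOS Groth.Agent.Lib.Helper17.ACP

variable {S : Scheme.{u}}

theorem isQuasiCompact_of_equiv' {𝒜 ℬ : AlgSt.Cat S} (E : 𝒜 ⥤ᵇ ℬ) (hE : FibCat.IsEquivOver E)
    (h : AlgSt.IsQuasiCompact ℬ) : AlgSt.IsQuasiCompact 𝒜 := by
  obtain ⟨G, hG⟩ := isEquivOver_inv E hE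
  exact QCM.isQuasiCompact_of_equiv G hG h

/-- base change of a stack along a morphism with quasi-compact diagonal: the "graph" form.
If `𝒲 ×_𝒵 𝒳` is quasi-compact and the diagonal of `g : 𝒴 ⟶ 𝒵` is quasi-compact then `𝒲 ×_𝒴 𝒳` is
quasi-compact -/
theorem isQuasiCompact_fp_of_diag {𝒲 𝒳 𝒴 𝒵 : AlgSt.Cat S} (hW : FibCat.IsFibGrpd 𝒲.p)
    (hX : FibCat.IsFibGrpd 𝒳.p) (hY : FibCat.IsFibGrpd 𝒴.p) (hZ : FibCat.IsFibGrpd 𝒵.p)
    (f : 𝒳 ⥤ᵇ 𝒴) (g : 𝒴 ⥤ᵇ 𝒵) (h : 𝒲 ⥤ᵇ 𝒴)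
    (hΔ : AlgSt.RepByAlgSpWith AlgSp.IsQuasiCompactMor (FibCat.diag g))
    (hB : AlgSt.IsQuasiCompact (FibCat.fp (BasedFunctor.comp h g) (BasedFunctor.comp f g))) :
    AlgSt.IsQuasiCompact (FibCat.fp h f) := by
  have hBf : FibCat.IsFibGrpd (FibCat.fp (BasedFunctor.comp h g) (BasedFunctor.comp f g)).p :=
    SP.isFibGrpd_fp _ _ hW hX hZ
  have hYY : FibCat.IsFibGrpd (FibCat.fp g g).p := SP.isFibGrpd_fp g g hY hY hZ
  have h1 : AlgSt.IsQuasiCompact (FibCat.fp (MS.m f g h) (FibCat.diag g)) :=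
    QC2.isQuasiCompact_fp_of_repWith hY hYY hBf (FibCat.diag g) hΔ hB (MS.m f g h)
  exact isQuasiCompact_of_equiv' (MS.M f g h) (MS.M_isEquivOver f g h) h1

theorem isQuasiCompactMor_of_comp {𝒳 𝒴 𝒵 : AlgSt.Cat S}
    (hX : FibCat.IsFibGrpd 𝒳.p) (hY : FibCat.IsFibGrpd 𝒴.p) (hZ : FibCat.IsFibGrpd 𝒵.p)
    (f : 𝒳 ⥤ᵇ 𝒴) (g : 𝒴 ⥤ᵇ 𝒵)
    (hfg : AlgSt.IsQuasiCompactMor Scheme.fppfPrecoverage (BasedFunctor.comp f g))
    (hg : AlgSt.IsQuasiSeparatedMor g) : AlgSt.IsQuasiCompactMor Scheme.fppfPrecoverage f := by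
  intro 𝒲 h𝒲 hq h
  have hΔ : AlgSt.RepByAlgSpWith AlgSp.IsQuasiCompactMor (FibCat.diag g) :=
    DDC.repWith_mono (fun _ _ _ _ _ h => h.1) _ hg
  exact isQuasiCompact_fp_of_diag h𝒲.isStack.1 hX hY hZ f g h hΔ
    (hfg 𝒲 h𝒲 hq (BasedFunctor.comp h g))

open Groth.Agent.Lib.Helper17.DR Groth.Agent.Lib.Helper17.DRB in
/-- the product of two slices over the base is the slice of the product -/
theorem exists_equiv_prod (T U : Over S) (y : FibCat.overCat T ⥤ᵇ FibCat.selfOver (Over S))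
    (y' : FibCat.overCat U ⥤ᵇ FibCat.selfOver (Over S)) :
    ∃ E : FibCat.overCat (T ⨯ U) ⥤ᵇ FibCat.fp y y', FibCat.IsEquivOver E := by
  obtain rfl := SST.toSelfOver_eq y' (FibCat.toSelf (FibCat.overCat U))
  have h1 := PsiB_isEquivOver y (FibCat.toSelf (FibCat.overCat U))
  have h2 : FibCat.IsEquivOver (fpFst (HF y (FibCat.toSelf (FibCat.overCat U)))
      (Dg (FibCat.selfOver (Over S)))) :=
    SR.fpFst_isEquivOver _ _ SR.dg_selfOver_isEquivOver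
  obtain ⟨k, ⟨u₁⟩, ⟨c₁⟩⟩ := id h2
  have hk : FibCat.IsEquivOver k := isEquivOver_symm _ k u₁ c₁
  exact ⟨BasedFunctor.comp k (PsiB y (FibCat.toSelf (FibCat.overCat U))),
    isEquivOver_comp _ _ hk h1⟩

/-- over a quasi-separated base, the product of two quasi-compact stacks is quasi-compact -/
theorem isQuasiCompact_prod [QuasiSeparatedSpace ↥S] {𝒲 𝒳 : AlgSt.Cat S}
    (hW : FibCat.IsFibGrpd 𝒲.p) (hX : FibCat.IsFibGrpd 𝒳.p)
    (hWq : AlgSt.IsQuasiCompact 𝒲) (hXq : AlgSt.IsQuasiCompact 𝒳) :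
    AlgSt.IsQuasiCompact (FibCat.fp (FibCat.toSelf 𝒲) (FibCat.toSelf 𝒳)) := by
  obtain ⟨W, w, hWaff, hws, hwsurj⟩ := hWq
  obtain ⟨X, x, hXaff, hxs, hxsurj⟩ := hXq
  have hO : FibCat.IsFibGrpd (FibCat.selfOver (Over S)).p := SP.isFibGrpd_selfOver
  have hWf : FibCat.IsFibGrpd (FibCat.overCat W).p := FG.isFibGrpd_overForget W
  have hXf : FibCat.IsFibGrpd (FibCat.overCat X).p := FG.isFibGrpd_overForget X
  have hP : FibCat.IsFibGrpd (FibCat.fp (FibCat.toSelf 𝒲) (FibCat.toSelf 𝒳)).p :=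
    SP.isFibGrpd_fp _ _ hW hX hO
  have hm₁ := AFP.repWith_prod _ AFP.sm_bc AFP.sm_cp CT.sm_schLocal
    hWf hXf hW hX hO (FibCat.toSelf 𝒲) (FibCat.toSelf 𝒳) w x hws hxs
  have hm₂ := AFP.repWith_prod _ DL.surj_bc DL.surj_cp CT.surj_schLocal
    hWf hXf hW hX hO (FibCat.toSelf 𝒲) (FibCat.toSelf 𝒳) w x hwsurj hxsurj
  obtain ⟨E, hE⟩ := exists_equiv_prod W X (BasedFunctor.comp w (FibCat.toSelf 𝒲))
    (BasedFunctor.comp x (FibCat.toSelf 𝒳))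
  have := Groth.Agent.Lib.Helper23.AlgSpMor.compactSpace_prod_left W X
  exact CT.isQuasiCompact_of_compact_chart hP (W ⨯ X) _
    (FD.repWith_precomp_equiv _ E hE _ hm₁) (FD.repWith_precomp_equiv _ E hE _ hm₂)

/-- over a quasi-separated base, the structure functor of a quasi-compact stack is quasi-compact -/
theorem isQuasiCompactMor_toSelf [QuasiSeparatedSpace ↥S] {𝒳 : AlgSt.Cat S}
    (hX : FibCat.IsFibGrpd 𝒳.p) (hXq : AlgSt.IsQuasiCompact 𝒳) :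
    AlgSt.IsQuasiCompactMor Scheme.fppfPrecoverage (FibCat.toSelf 𝒳) := by
  intro 𝒲 h𝒲 hq h
  obtain rfl := SST.toSelfOver_eq h (FibCat.toSelf 𝒲)
  exact isQuasiCompact_prod h𝒲.isStack.1 hX hq hXq

/-- over a quasi-separated base, a morphism from a quasi-compact stack to a stack quasi-separated
over the base is quasi-compact -/
theorem isQuasiCompactMor_of_isQuasiCompact [QuasiSeparatedSpace ↥S] {𝒳 𝒴 : AlgSt.Cat S}
    (hX : FibCat.IsFibGrpd 𝒳.p) (hY : FibCat.IsFibGrpd 𝒴.p) (f : 𝒳 ⥤ᵇ 𝒴)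
    (hXq : AlgSt.IsQuasiCompact 𝒳) (hYs : AlgSt.IsQuasiSeparatedOver 𝒴) :
    AlgSt.IsQuasiCompactMor Scheme.fppfPrecoverage f := by
  apply isQuasiCompactMor_of_comp hX hY SP.isFibGrpd_selfOver f (FibCat.toSelf 𝒴) _ hYs
  have e : BasedFunctor.comp f (FibCat.toSelf 𝒴) = FibCat.toSelf 𝒳 := SST.toSelfOver_eq _ _
  rw [e]
  exact isQuasiCompactMor_toSelf hX hXq

end Groth.Agent.Lib.Helper17.QC3
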