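import Groth.Agent.Lib.Helper17.DiagLft
import Groth.Prelude.Def_AlgSt3

set_option autoImplicit false
set_option backward.isDefEq.respectTransparency false
set_option backward.isDefEq.respectTransparency.types false
universe u

namespace Groth.Agent.Lib.Helper17.DL2

open CategoryTheory CategoryTheory.Limits AlgebraicGeometry Opposite AlgSp FibCat Stk AlgSt
open Groth.Agent.Lib.Helper17 Groth.Agent.Lib.Helper17.ACP

variable {S : Scheme.{u}}

/-- transport of a base-change-stable property to another representing space -/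
theorem transport (Q : MorphismProperty (Sp S)) (hQb : BC Q) {𝒳 𝒴 : AlgSt.Cat S} (f : 𝒳 ⥤ᵇ 𝒴)
    (hQ : AlgSt.RepByAlgSpWith Q f) (U : Over S) (y : FibCat.overCat U ⥤ᵇ 𝒴)
    (F : AlgSp.Space S) (e : ofSp F.obj ⥤ᵇ FibCat.fp y f) (he : FibCat.IsEquivOver e) :
    Q (spMapOfOver (BasedFunctor.comp e (FibCat.fpFst y f))) := by
  have hRI : (restr Q).RespectsIso := restr_respectsIso _ hQb
  obtain ⟨F', e', he', h2⟩ := hQ U y
  exact (FD.rep_unique (restr Q) (FibCat.fpFst y f) e' e he' he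
    ⟨F'.property, AlgSp.IsAlgSpace.yon_obj U, h2⟩).2.2

/-- conjunction of two properties, the second stable under base change -/
theorem repWith_inf' (P Q : MorphismProperty (Sp S)) (hQb : BC Q) {𝒳 𝒴 : AlgSt.Cat S}
    (f : 𝒳 ⥤ᵇ 𝒴) (hP : AlgSt.RepByAlgSpWith P f) (hQ : AlgSt.RepByAlgSpWith Q f) :
    AlgSt.RepByAlgSpWith (P ⊓ Q) f := by
  intro U y
  obtain ⟨F, e, he, h1⟩ := hP U y
  exact ⟨F, e, he, h1, transport Q hQb f hQ U y F e he⟩

theorem qs_bc : BC (IsQuasiSeparatedMor (S := S)) :=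
  fun _ _ _ _ _ _ _ _ _ _ _ _ sq h =>
    MorphismProperty.of_isPullback (P := (RepWith (S := S) @QuasiCompact).diagonal) sq h

theorem sep_bc : BC (IsSeparatedMor (S := S)) :=
  fun _ _ _ _ _ _ _ _ _ _ _ _ sq h =>
    Groth.Agent.Lib.Helper23.AlgSpMor.isSeparatedMor_of_isPullback sq h

/-- quasi-separated iff both diagonals are quasi-compact -/
theorem isQuasiSeparatedMor_iff {𝒳 𝒴 : AlgSt.Cat S}
    (h𝒳 : AlgSt.IsAlgStack Scheme.fppfPrecoverage 𝒳)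
    (h𝒴 : AlgSt.IsAlgStack Scheme.fppfPrecoverage 𝒴) (f : 𝒳 ⥤ᵇ 𝒴) :
    AlgSt.IsQuasiSeparatedMor f ↔
      AlgSt.RepByAlgSpWith AlgSp.IsQuasiCompactMor (FibCat.diag f) ∧
        AlgSt.RepByAlgSpWith AlgSp.IsQuasiCompactMor (FibCat.diag (FibCat.diag f)) := by
  have hff : FibCat.IsFibGrpd (FibCat.fp f f).p :=
    SP.isFibGrpd_fp f f h𝒳.isStack.1 h𝒳.isStack.1 h𝒴.isStack.1
  have hrep := DCN.rep1_diag h𝒳.isStack.1 h𝒴.isStack.1 h𝒳.diag h𝒴.diag f
  constructor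
  · intro h
    refine ⟨DDC.repWith_mono (fun _ _ _ _ _ ha => ha.1) _ h, ?_⟩
    exact DDC.qc_diag_of_repWith_isQuasiSeparatedMor (FibCat.diag f)
      (DDC.repWith_mono (fun _ _ _ _ _ ha => ha.2) _ h)
  · rintro ⟨h1, h2⟩
    exact repWith_inf' _ _ qs_bc _ h1
      (DDC.repWith_isQuasiSeparatedMor_of_qc_diag h𝒳.isStack.1 hff (FibCat.diag f) hrep h2)

/-- both diagonals universally closed implies separated -/
theorem isSeparatedMor_of_univClosed {𝒳 𝒴 : AlgSt.Cat S}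
    (h𝒳 : AlgSt.IsAlgStack Scheme.fppfPrecoverage 𝒳)
    (h𝒴 : AlgSt.IsAlgStack Scheme.fppfPrecoverage 𝒴) (f : 𝒳 ⥤ᵇ 𝒴)
    (h1 : AlgSt.RepByAlgSpWith AlgSp.IsUnivClosedMor (FibCat.diag f))
    (h2 : AlgSt.RepByAlgSpWith AlgSp.IsUnivClosedMor (FibCat.diag (FibCat.diag f))) :
    AlgSt.IsSeparatedMor f := by
  have hff : FibCat.IsFibGrpd (FibCat.fp f f).p :=
    SP.isFibGrpd_fp f f h𝒳.isStack.1 h𝒳.isStack.1 h𝒴.isStack.1
  have hrep := DCN.rep1_diag h𝒳.isStack.1 h𝒴.isStack.1 h𝒳.diag h𝒴.diag f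
  have hsep := DDC.repWith_isSeparatedMor_of_univClosed_diag h𝒳.isStack.1 hff (FibCat.diag f)
    hrep h2
  have hlft := DL.lft_diag h𝒳 h𝒴 f
  intro U y
  obtain ⟨F, e, he, huc⟩ := h1 U y
  refine ⟨F, e, he, transport _ sep_bc _ hsep U y F e he,
    ⟨transport _ DL.lft_bc _ hlft U y F e he, ?_⟩, huc⟩
  exact Groth.Agent.Lib.Helper23.AlgSpMor.isQuasiCompactMor_of_isUnivClosedMor F.property
    (AlgSp.IsAlgSpace.yon_obj U) _ huc

end Groth.Agent.Lib.Helper17.DL2
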