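import Groth.Agent.Lib.Helper17.ChartOver
import Groth.Agent.Lib.Helper17.DiagLft2
import Groth.Agent.Lib.Helper17.Swap

set_option autoImplicit false
set_option backward.isDefEq.respectTransparency false
set_option backward.isDefEq.respectTransparency.types false
universe u

namespace Groth.Agent.Lib.Helper17.BRG

open CategoryTheory CategoryTheory.Limits AlgebraicGeometry Opposite AlgSp FibCat Stk AlgSt
open Groth.Agent.Lib.Helper17 Groth.Agent.Lib.Helper17.FP Groth.Agent.Lib.Helper17.EO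
  Groth.Agent.Lib.Helper17.PD Groth.Agent.Lib.Helper17.AT Groth.Agent.Lib.Helper17.AB
  Groth.Agent.Lib.Helper17.AOS Groth.Agent.Lib.Helper17.ACP
open Groth.Agent.Lib.Helper46 Groth.Agent.Lib.Helper46.LocPChart

variable {S : Scheme.{u}}

/-- Yoneda: the map of sheaves of the functor of a morphism of schemes -/
theorem spMapOfOver_overMap {W U : Over S} (a : W ⟶ U) :
    spMapOfOver (BasedFunctor.comp (toOverCat W) (AlgSt.overMap a)) = (yon S).map a := by
  apply ObjectProperty.hom_ext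
  ext T s
  change (⟨AlgSt.secHom (BasedFunctor.comp (toOverCat W) (AlgSt.overMap a)) ⟨T.unop, s⟩⟩ : ULift _) = _
  apply ULift.ext
  change eqToHom _ ≫ (s.down ≫ a) = s.down ≫ a
  simp

/-- functoriality of `spMapOfOver` in the sheaf -/
theorem spMapOfOver_ofSpMap {F G : Sp S} {U : Over S} (c : F ⟶ G) (Ψ : ofSp G ⥤ᵇ FibCat.overCat U) :
    spMapOfOver (BasedFunctor.comp (ofSpMap c) Ψ) = c ≫ spMapOfOver Ψ := by
  apply ObjectProperty.hom_ext
  ext T s
  rfl

/-- Yoneda for an arbitrary functor between slices -/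
theorem spMapOfOver_toOverCat {W U : Over S} (Φ : FibCat.overCat W ⥤ᵇ FibCat.overCat U) :
    spMapOfOver (BasedFunctor.comp (toOverCat W) Φ) = (yon S).map (Groth.Agent.S6443.fOf Φ) := by
  rw [← spMapOfOver_overMap]
  apply spMap_congr _ _ (fun a => compApp (Groth.Agent.S6443.isoOverMap Φ) ((toOverCat W).obj a))
  intro a
  exact compApp_lift (Groth.Agent.S6443.isoOverMap Φ) ((toOverCat W).obj a)

/-- **the bridge between two charts** of a category fibred in groupoids with representable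
diagonal: `(Sch/U) ×_𝒳 (Sch/U₀) ≃ R`, with an etale atlas `W ⟶ R`, and the two morphisms of schemes
`a : W ⟶ U`, `b : W ⟶ U₀` -/
theorem exists_bridge {𝒳 : AlgSt.Cat S} (hX : FibCat.IsFibGrpd 𝒳.p)
    (hΔ : AlgSt.RepByAlgSp1 (FibCat.diag (FibCat.toSelf 𝒳))) {U U₀ : Over S}
    (x : FibCat.overCat U ⥤ᵇ 𝒳) (x₀ : FibCat.overCat U₀ ⥤ᵇ 𝒳) :
    ∃ (W : Over S) (a : W ⟶ U) (b : W ⟶ U₀) (R : AlgSp.Space S)
      (e : ofSp R.obj ⥤ᵇ FibCat.fp x x₀) (c : (yon S).obj W ⟶ R.obj),
      FibCat.IsEquivOver e ∧ RepWith @Etale c ∧ RepWith @Surjective c ∧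
      (yon S).map a = c ≫ spMapOfOver (BasedFunctor.comp e (FibCat.fpFst x x₀)) ∧
      (yon S).map b = c ≫ spMapOfOver (BasedFunctor.comp e (FibCat.fpSnd x x₀)) ∧
      Nonempty (BasedFunctor.comp (AlgSt.overMap a) x ≅ BasedFunctor.comp (AlgSt.overMap b) x₀) := by
  have hrep : AlgSt.RepByAlgSp (FibCat.fp x x₀) :=
    (Groth.Agent.S12765.result hX).mp hΔ U₀ x₀ U x
  obtain ⟨R, e, he⟩ := hrep
  obtain ⟨W, c, hce, hcs⟩ := R.property.atlas
  let q : FibCat.overCat W ⥤ᵇ FibCat.fp x x₀ :=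
    BasedFunctor.comp (BasedFunctor.comp (ofOverCat W) (ofSpMap c)) e
  let Φa : FibCat.overCat W ⥤ᵇ FibCat.overCat U := BasedFunctor.comp q (FibCat.fpFst x x₀)
  let Φb : FibCat.overCat W ⥤ᵇ FibCat.overCat U₀ := BasedFunctor.comp q (FibCat.fpSnd x x₀)
  refine ⟨W, Groth.Agent.S6443.fOf Φa, Groth.Agent.S6443.fOf Φb, R, e, c, he, hce, hcs, ?_, ?_, ⟨?_⟩⟩
  · rw [← spMapOfOver_toOverCat, ← spMapOfOver_ofSpMap]
    congr 1
  · rw [← spMapOfOver_toOverCat, ← spMapOfOver_ofSpMap]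
    congr 1
  · let Q : (FibCat.overCat W : AlgSt.Cat S) ⟶ FibCat.fp x x₀ := q
    let X' : (FibCat.overCat U : AlgSt.Cat S) ⟶ 𝒳 := x
    let X₀' : (FibCat.overCat U₀ : AlgSt.Cat S) ⟶ 𝒳 := x₀
    have i1 : BasedFunctor.comp (FibCat.fpFst x x₀) x ≅ BasedFunctor.comp (FibCat.fpSnd x x₀) x₀ :=
      FibCat.fpIso x x₀
    have i2 := Bicategory.whiskerLeftIso Q i1
    have i3 : Φa ≅ AlgSt.overMap (Groth.Agent.S6443.fOf Φa) := Groth.Agent.S6443.isoOverMap Φa
    have i4 : Φb ≅ AlgSt.overMap (Groth.Agent.S6443.fOf Φb) := Groth.Agent.S6443.isoOverMap Φb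
    have i5 := Bicategory.whiskerRightIso
      (f := (Φa : (FibCat.overCat W : AlgSt.Cat S) ⟶ FibCat.overCat U)) i3 X'
    have i6 := Bicategory.whiskerRightIso
      (f := (Φb : (FibCat.overCat W : AlgSt.Cat S) ⟶ FibCat.overCat U₀)) i4 X₀'
    exact i5.symm ≪≫ i2 ≪≫ i6

/-- a morphism of schemes whose map of sheaves is surjective on points is surjective -/
theorem surjective_of_isSurjectiveMor {W U : Over S} (a : W ⟶ U)
    (h : IsSurjectiveMor ((yon S).map a)) : Function.Surjective a.left := by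
  intro u
  obtain ⟨p, hp⟩ := h (Points.ofScheme U u)
  refine ⟨Points.toScheme W p, ?_⟩
  have h1 : p = Points.ofScheme W (Points.toScheme W p) := (Points.ofScheme_toScheme W p).symm
  rw [h1, Points.map_ofPt, Category.id_comp] at hp
  have h2 := congrArg (Points.toScheme U) hp
  rw [Points.toScheme_ofPt, Points.toScheme_ofScheme] at h2
  exact h2

/-- the bridge, with the properties of the two legs -/
theorem exists_bridge_props {𝒳 : AlgSt.Cat S} (hX : FibCat.IsFibGrpd 𝒳.p)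
    (hΔ : AlgSt.RepByAlgSp1 (FibCat.diag (FibCat.toSelf 𝒳))) {U U₀ : Over S}
    (x : FibCat.overCat U ⥤ᵇ 𝒳) (x₀ : FibCat.overCat U₀ ⥤ᵇ 𝒳) :
    ∃ (W : Over S) (a : W ⟶ U) (b : W ⟶ U₀),
      (AlgSt.RepByAlgSpWith (AlgSp.LocP @Smooth) x₀ → Smooth a.left) ∧
      (AlgSt.RepByAlgSpWith AlgSp.IsSurjectiveMor x₀ → Function.Surjective a.left) ∧
      (AlgSt.RepByAlgSpWith (AlgSp.LocP @Smooth) x → Smooth b.left) ∧
      (AlgSt.RepByAlgSpWith AlgSp.IsSurjectiveMor x → Function.Surjective b.left) ∧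
      Nonempty (BasedFunctor.comp (AlgSt.overMap a) x ≅ BasedFunctor.comp (AlgSt.overMap b) x₀) := by
  obtain ⟨W, a, b, R, e, c, he, hce, hcs, ha, hb, hiso⟩ := exists_bridge hX hΔ x x₀
  have hcet := ACov.isEtaleMor_of_repWith c hce
  have hcsm : LocP @Smooth c := ACov.locP_of_isEtaleMor (P := @Smooth)
    (fun X Y f hf => by have := hf; infer_instance) c hcet
  have hcsurj : IsSurjectiveMor c := ACov.points_map_surjective c hcs
  have hWsp : IsAlgSpace ((yon S).obj W) := IsAlgSpace.yon_obj W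
  have e' : BasedFunctor.comp (BasedFunctor.comp e (SW.swap x x₀)) (FibCat.fpFst x₀ x) =
      BasedFunctor.comp e (FibCat.fpSnd x x₀) := DR.basedFunctor_ext rfl
  have he' : FibCat.IsEquivOver (BasedFunctor.comp e (SW.swap x x₀)) :=
    isEquivOver_comp _ _ he (SW.swap_isEquivOver x x₀)
  refine ⟨W, a, b, ?_, ?_, ?_, ?_, hiso⟩
  · intro h
    have h1 := DL2.transport _ AFP.sm_bc x₀ h U x R e he
    have h2 := AFP.sm_cp hWsp R.property (IsAlgSpace.yon_obj U) c _ hcsm h1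
    rw [← ha] at h2
    exact AlgSp.locP_yon_map h2
  · intro h
    have h1 := DL2.transport _ DL.surj_bc x₀ h U x R e he
    have h2 := DL.surj_cp hWsp R.property (IsAlgSpace.yon_obj U) c _ hcsurj h1
    rw [← ha] at h2
    exact surjective_of_isSurjectiveMor a h2
  · intro h
    have h1 := DL2.transport _ AFP.sm_bc x h U₀ x₀ R _ he'
    rw [e'] at h1
    have h2 := AFP.sm_cp hWsp R.property (IsAlgSpace.yon_obj U₀) c _ hcsm h1
    rw [← hb] at h2
    exact AlgSp.locP_yon_map h2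
  · intro h
    have h1 := DL2.transport _ DL.surj_bc x h U₀ x₀ R _ he'
    rw [e'] at h1
    have h2 := DL.surj_cp hWsp R.property (IsAlgSpace.yon_obj U₀) c _ hcsurj h1
    rw [← hb] at h2
    exact surjective_of_isSurjectiveMor b h2

end Groth.Agent.Lib.Helper17.BRG
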