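import Groth.Agent.Lib.Helper17.AlgStFp
import Groth.Agent.S6443

set_option autoImplicit false
set_option backward.isDefEq.respectTransparency false
set_option backward.isDefEq.respectTransparency.types false
universe u

namespace Groth.Agent.Lib.Helper17.CHT

open CategoryTheory CategoryTheory.Limits AlgebraicGeometry Opposite AlgSp FibCat Stk AlgSt
open Groth.Agent.Lib.Helper17 Groth.Agent.Lib.Helper17.FP Groth.Agent.Lib.Helper17.EO
  Groth.Agent.Lib.Helper17.PD Groth.Agent.Lib.Helper17.AT Groth.Agent.Lib.Helper17.AB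
  Groth.Agent.Lib.Helper17.AOS Groth.Agent.Lib.Helper17.ACP
open Groth.Agent.Lib.Helper46 Groth.Agent.Lib.Helper46.LocPChart

variable {S : Scheme.{u}}

/-- a "lifted chart": for `P ∈ {smooth, surjective}`-type properties, given an atlas-like `y : (Sch/V) ⟶ 𝒴`
with `P` and `f : 𝒳 ⟶ 𝒴`, and an atlas-like `x₀ : (Sch/U₀) ⟶ 𝒳`, there is a chart `x : (Sch/W) ⟶ 𝒳`
through `x₀` and `a : W ⟶ V` with `f ∘ x ≅ y ∘ a`. -/
theorem exists_chart_over {𝒳 𝒴 : AlgSt.Cat S}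
    (h𝒳 : AlgSt.IsAlgStack Scheme.fppfPrecoverage 𝒳) (h𝒴 : AlgSt.IsAlgStack Scheme.fppfPrecoverage 𝒴)
    (f : 𝒳 ⥤ᵇ 𝒴) (V : Over S) (y : FibCat.overCat V ⥤ᵇ 𝒴)
    (hy : AlgSt.RepByAlgSpWith (AlgSp.LocP @Smooth) y)
    (hy' : AlgSt.RepByAlgSpWith AlgSp.IsSurjectiveMor y) :
    ∃ (U : Over S) (a : U ⟶ V) (x : FibCat.overCat U ⥤ᵇ 𝒳),
      AlgSt.RepByAlgSpWith (AlgSp.LocP @Smooth) x ∧ AlgSt.RepByAlgSpWith AlgSp.IsSurjectiveMor x ∧
        Nonempty (BasedFunctor.comp x f ≅ BasedFunctor.comp (AlgSt.overMap a) y) := by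
  have hX := h𝒳.isStack.1
  have hY := h𝒴.isStack.1
  obtain ⟨U₀, x₀, hxs, hxsurj⟩ := h𝒳.atlas
  have hU₀ : FibCat.IsFibGrpd (FibCat.overCat U₀).p := FG.isFibGrpd_overForget U₀
  have hV : FibCat.IsFibGrpd (FibCat.overCat V).p := FG.isFibGrpd_overForget V
  have hR : FibCat.IsFibGrpd (FibCat.fp (BasedFunctor.comp x₀ f) y).p :=
    SP.isFibGrpd_fp _ _ hU₀ hV hY
  have hrep : AlgSt.RepByAlgSp (FibCat.fp (BasedFunctor.comp x₀ f) y) :=
    (Groth.Agent.S12765.result hY).mp h𝒴.diag V y U₀ (BasedFunctor.comp x₀ f)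
  obtain ⟨R, e, he⟩ := hrep
  obtain ⟨W, c, hce, hcs⟩ := R.property.atlas
  have hcet := ACov.isEtaleMor_of_repWith c hce
  have hWf : FibCat.IsFibGrpd (FibCat.overCat W).p := FG.isFibGrpd_overForget W
  let WW : AlgSp.Space S := ⟨(yon S).obj W, IsAlgSpace.yon_obj W⟩
  let x₁ : FibCat.overCat W ⥤ᵇ ofSp R.obj := BasedFunctor.comp (ofOverCat W) (ofSpMap c)
  have hx₁ : ∀ (C : MorphismProperty (Sp S)), BC C → C c → AlgSt.RepByAlgSpWith C x₁ :=
    fun C hCb hc => FD.repWith_precomp_equiv C (ofOverCat W) (AD.ofOverCat_isEquivOver W) _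
      (DCV.repWith_ofSpMap C hCb WW R c hc)
  let q : FibCat.overCat W ⥤ᵇ FibCat.fp (BasedFunctor.comp x₀ f) y := BasedFunctor.comp x₁ e
  let π₁ : FibCat.fp (BasedFunctor.comp x₀ f) y ⥤ᵇ 𝒳 :=
    BasedFunctor.comp (FibCat.fpFst (BasedFunctor.comp x₀ f) y) x₀
  let Φ : FibCat.overCat W ⥤ᵇ FibCat.overCat V :=
    BasedFunctor.comp q (FibCat.fpSnd (BasedFunctor.comp x₀ f) y)
  refine ⟨W, Groth.Agent.S6443.fOf Φ, BasedFunctor.comp q π₁, ?_, ?_, ⟨?_⟩⟩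
  · have h1 : AlgSt.RepByAlgSpWith (AlgSp.LocP @Smooth) q :=
      CMP.repWith_comp_equiv _ x₁ e he
        (hx₁ _ AFP.sm_bc (ACov.locP_of_isEtaleMor (P := @Smooth)
          (fun X Y f hf => by have := hf; infer_instance) c hcet))
    have h2 : AlgSt.RepByAlgSpWith (AlgSp.LocP @Smooth) π₁ :=
      repWith_comp_of_schLocal' hR hX _ AFP.sm_bc AFP.sm_cp
        (ACov.schLocal_of_isLocalOnBase _ AFP.sm_local) _ _
        (AB.repWith_fpFst _ y (BasedFunctor.comp x₀ f) hy) hxs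
    exact repWith_comp_of_schLocal' hWf hX _ AFP.sm_bc AFP.sm_cp
      (ACov.schLocal_of_isLocalOnBase _ AFP.sm_local) _ _ h1 h2
  · have h1 : AlgSt.RepByAlgSpWith AlgSp.IsSurjectiveMor q :=
      CMP.repWith_comp_equiv _ x₁ e he (hx₁ _ DL.surj_bc (ACov.points_map_surjective c hcs))
    have h2 : AlgSt.RepByAlgSpWith AlgSp.IsSurjectiveMor π₁ :=
      repWith_comp_of_schLocal' hR hX _ DL.surj_bc DL.surj_cp
        (ACov.schLocal_of_isLocalOnBase _ SD.isLocalOnBase_isSurjectiveMor) _ _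
        (AB.repWith_fpFst _ y (BasedFunctor.comp x₀ f) hy') hxsurj
    exact repWith_comp_of_schLocal' hWf hX _ DL.surj_bc DL.surj_cp
      (ACov.schLocal_of_isLocalOnBase _ SD.isLocalOnBase_isSurjectiveMor) _ _ h1 h2
  · let Q : (FibCat.overCat W : AlgSt.Cat S) ⟶ FibCat.fp (BasedFunctor.comp x₀ f) y := q
    have i1 : BasedFunctor.comp (FibCat.fpFst (BasedFunctor.comp x₀ f) y) (BasedFunctor.comp x₀ f) ≅
        BasedFunctor.comp (FibCat.fpSnd (BasedFunctor.comp x₀ f) y) y :=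
      FibCat.fpIso (BasedFunctor.comp x₀ f) y
    have i2 := Bicategory.whiskerLeftIso Q i1
    have i3 : Φ ≅ AlgSt.overMap (Groth.Agent.S6443.fOf Φ) := Groth.Agent.S6443.isoOverMap Φ
    let Y' : (FibCat.overCat V : AlgSt.Cat S) ⟶ 𝒴 := y
    have i4 := Bicategory.whiskerRightIso (f := (Φ : (FibCat.overCat W : AlgSt.Cat S) ⟶ FibCat.overCat V))
      i3 Y'
    exact i2 ≪≫ i4

end Groth.Agent.Lib.Helper17.CHT
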