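import Groth.Agent.Lib.Helper17.SmoothLoc
import Groth.Agent.Lib.Helper17.AlgStQc
import Groth.Agent.Lib.Helper17.SelfStack
import Groth.Agent.Lib.Helper23.AlgSpNoeth2

set_option autoImplicit false
set_option backward.isDefEq.respectTransparency false
set_option backward.isDefEq.respectTransparency.types false
universe u

namespace Groth.Agent.Lib.Helper17.CT

open CategoryTheory CategoryTheory.Limits AlgebraicGeometry Opposite AlgSp FibCat Stk AlgSt
open Groth.Agent.Lib.Helper17 Groth.Agent.Lib.Helper17.FP Groth.Agent.Lib.Helper17.EO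
  Groth.Agent.Lib.Helper17.PD Groth.Agent.Lib.Helper17.AT Groth.Agent.Lib.Helper17.AB
  Groth.Agent.Lib.Helper17.AOS Groth.Agent.Lib.Helper17.ACP
open Groth.Agent.Lib.Helper46 Groth.Agent.Lib.Helper46.LocPChart

variable {S : Scheme.{u}}

/-- a quasi-compact scheme has an etale surjection from an affine scheme -/
theorem exists_affine_etale_cover (U : Scheme.{u}) [CompactSpace U] :
    ∃ (U' : Scheme.{u}) (j : U' ⟶ U), IsAffine U' ∧ Etale j ∧ Function.Surjective j := by
  let 𝒰 := U.affineCover.finiteSubcover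
  have hfin : Finite 𝒰.I₀ := Finite.of_fintype _
  have haff : ∀ i, IsAffine (𝒰.X i) := fun i => by
    change IsAffine (U.affineCover.X _)
    infer_instance
  refine ⟨∐ 𝒰.X, Sigma.desc 𝒰.f, inferInstance, ?_, ?_⟩
  · exact IsZariskiLocalAtSource.sigmaDesc (P := @Etale) (fun i => inferInstance)
  · intro s
    obtain ⟨i, y, rfl⟩ := 𝒰.exists_eq s
    exact ⟨Sigma.ι 𝒰.X i y, by simp [← Scheme.Hom.comp_apply]⟩

theorem overMap_comp_ofOverCat {W U : Over S} (a : W ⟶ U) :
    BasedFunctor.comp (AlgSt.overMap a) (ofOverCat U) =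
      BasedFunctor.comp (ofOverCat W) (ofSpMap ((yon S).map a)) :=
  DR.basedFunctor_ext rfl

/-- the functor of a morphism of schemes whose map of sheaves has `P` is representable with `P` -/
theorem repWith_overMap (P : MorphismProperty (Sp S)) (hbc : BC P) {W U : Over S} (a : W ⟶ U)
    (h : P ((yon S).map a)) : AlgSt.RepByAlgSpWith P (AlgSt.overMap a) := by
  have h1 := DCV.repWith_ofSpMap P hbc ⟨(yon S).obj W, IsAlgSpace.yon_obj W⟩
    ⟨(yon S).obj U, IsAlgSpace.yon_obj U⟩ ((yon S).map a) h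
  have h2 := FD.repWith_precomp_equiv P (ofOverCat W) (AD.ofOverCat_isEquivOver W) _ h1
  rw [← overMap_comp_ofOverCat] at h2
  exact DCN.repWith_of_comp_equiv P (AlgSt.overMap a) (ofOverCat U) (AD.ofOverCat_isEquivOver U) h2

theorem isSurjectiveMor_yon_map {W U : Over S} (a : W ⟶ U) (h : Function.Surjective a.left) :
    IsSurjectiveMor ((yon S).map a) := by
  intro p
  obtain ⟨w, hw⟩ := h (Points.toScheme U p)
  refine ⟨Points.ofScheme W w, ?_⟩
  rw [Points.map_ofPt, Category.id_comp]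
  apply (Points.schemeEquiv U).symm.injective
  change Points.toScheme U (Points.ofPt ((yon S).map a) w) = Points.toScheme U p
  rw [Points.toScheme_ofPt, hw]

/-- the chart of a stack obtained from a chart of an algebraic space over it -/
theorem repWith_chart_of_space (C : MorphismProperty (Sp S)) (hCb : BC C) (hCc : CP C)
    (hCl : ACov.SchLocal C) {𝒳 : AlgSt.Cat S} (hX : FibCat.IsFibGrpd 𝒳.p) (R : AlgSp.Space S)
    (x : ofSp R.obj ⥤ᵇ 𝒳) (hx : AlgSt.RepByAlgSpWith C x) {W : Over S}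
    (c : (yon S).obj W ⟶ R.obj) (hc : C c) :
    AlgSt.RepByAlgSpWith C
      (BasedFunctor.comp (BasedFunctor.comp (ofOverCat W) (ofSpMap c)) x) := by
  have hWf : FibCat.IsFibGrpd (FibCat.overCat W).p := FG.isFibGrpd_overForget W
  have h1 : AlgSt.RepByAlgSpWith C (BasedFunctor.comp (ofOverCat W) (ofSpMap c)) :=
    FD.repWith_precomp_equiv C (ofOverCat W) (AD.ofOverCat_isEquivOver W) _
      (DCV.repWith_ofSpMap C hCb ⟨(yon S).obj W, IsAlgSpace.yon_obj W⟩ R c hc)
  exact repWith_comp_of_schLocal' hWf hX C hCb hCc hCl _ x h1 hx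

theorem sm_schLocal : ACov.SchLocal (LocP (S := S) @Smooth) :=
  ACov.schLocal_of_isLocalOnBase _ AFP.sm_local

theorem surj_schLocal : ACov.SchLocal (IsSurjectiveMor (S := S)) :=
  ACov.schLocal_of_isLocalOnBase _ SD.isLocalOnBase_isSurjectiveMor

/-- smooth surjective chart of a stack from an etale surjective chart of a space over it -/
theorem smooth_surj_chart_of_space {𝒳 : AlgSt.Cat S} (hX : FibCat.IsFibGrpd 𝒳.p)
    (R : AlgSp.Space S) (x : ofSp R.obj ⥤ᵇ 𝒳) {W : Over S}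
    (c : (yon S).obj W ⟶ R.obj) (hce : RepWith @Etale c) :
    (AlgSt.RepByAlgSpWith (LocP @Smooth) x → AlgSt.RepByAlgSpWith (LocP @Smooth)
      (BasedFunctor.comp (BasedFunctor.comp (ofOverCat W) (ofSpMap c)) x)) ∧
    (RepWith @Surjective c → AlgSt.RepByAlgSpWith IsSurjectiveMor x →
      AlgSt.RepByAlgSpWith IsSurjectiveMor
        (BasedFunctor.comp (BasedFunctor.comp (ofOverCat W) (ofSpMap c)) x)) := by
  have hcet := ACov.isEtaleMor_of_repWith c hce
  refine ⟨fun hx => ?_, fun hcs hx => ?_⟩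
  · exact repWith_chart_of_space _ AFP.sm_bc AFP.sm_cp sm_schLocal hX R x hx c
      (ACov.locP_of_isEtaleMor (P := @Smooth) (fun X Y f hf => by have := hf; infer_instance) c hcet)
  · exact repWith_chart_of_space _ DL.surj_bc DL.surj_cp surj_schLocal hX R x hx c
      (ACov.points_map_surjective c hcs)

/-- a quasi-compact stack in the sense of a chart from a quasi-compact scheme -/
theorem isQuasiCompact_of_compact_chart {𝒳 : AlgSt.Cat S} (hX : FibCat.IsFibGrpd 𝒳.p)
    (U : Over S) [CompactSpace ↥U.left] (x : FibCat.overCat U ⥤ᵇ 𝒳)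
    (hx : AlgSt.RepByAlgSpWith (LocP @Smooth) x) (hx' : AlgSt.RepByAlgSpWith IsSurjectiveMor x) :
    AlgSt.IsQuasiCompact 𝒳 := by
  obtain ⟨U', j, haff, het, hsurj⟩ := exists_affine_etale_cover U.left
  let W : Over S := Over.mk (j ≫ U.hom)
  let a : W ⟶ U := Over.homMk j rfl
  have hWf : FibCat.IsFibGrpd (FibCat.overCat W).p := FG.isFibGrpd_overForget W
  have hsm : Smooth a.left := by change Smooth j; infer_instance
  have h1 : AlgSt.RepByAlgSpWith (LocP @Smooth) (AlgSt.overMap a) :=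
    repWith_overMap _ AFP.sm_bc a
      (Groth.Agent.Lib.Helper23.AlgSpMor.locP_yon_map_of
        Groth.Agent.Lib.Helper30.EtLocalInst.etLocal_smooth a hsm)
  have h2 : AlgSt.RepByAlgSpWith IsSurjectiveMor (AlgSt.overMap a) :=
    repWith_overMap _ DL.surj_bc a (isSurjectiveMor_yon_map a hsurj)
  refine ⟨W, BasedFunctor.comp (AlgSt.overMap a) x, haff, ?_, ?_⟩
  · exact repWith_comp_of_schLocal' hWf hX _ AFP.sm_bc AFP.sm_cp sm_schLocal _ x h1 hx
  · exact repWith_comp_of_schLocal' hWf hX _ DL.surj_bc DL.surj_cp surj_schLocal _ x h2 hx'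

theorem isQuasiCompact_iff_compact_chart {𝒳 : AlgSt.Cat S} (hX : FibCat.IsFibGrpd 𝒳.p) :
    AlgSt.IsQuasiCompact 𝒳 ↔
      ∃ (U : Over S) (x : FibCat.overCat U ⥤ᵇ 𝒳), CompactSpace ↥U.left ∧
        AlgSt.RepByAlgSpWith (AlgSp.LocP @Smooth) x ∧ AlgSt.RepByAlgSpWith AlgSp.IsSurjectiveMor x := by
  constructor
  · rintro ⟨U, x, haff, hs, hsurj⟩
    exact ⟨U, x, inferInstance, hs, hsurj⟩
  · rintro ⟨U, x, hc, hs, hsurj⟩
    exact isQuasiCompact_of_compact_chart hX U x hs hsurj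

theorem isQuasiCompact_iff_space_chart {𝒳 : AlgSt.Cat S} (hX : FibCat.IsFibGrpd 𝒳.p) :
    AlgSt.IsQuasiCompact 𝒳 ↔
      ∃ (U : AlgSp.Space S) (x : AlgSt.ofSp U.obj ⥤ᵇ 𝒳), AlgSp.IsQuasiCompactSp U.obj ∧
        AlgSt.RepByAlgSpWith (AlgSp.LocP @Smooth) x ∧ AlgSt.RepByAlgSpWith AlgSp.IsSurjectiveMor x := by
  constructor
  · rintro ⟨U, x, haff, hs, hsurj⟩
    refine ⟨⟨(yon S).obj U, IsAlgSpace.yon_obj U⟩, BasedFunctor.comp (toOverCat U) x, ?_, ?_, ?_⟩
    · exact ⟨U, 𝟙 _, repWith_id _ U, repWith_id _ U, inferInstance⟩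
    · exact FD.repWith_precomp_equiv _ (toOverCat U) (AD.toOverCat_isEquivOver U) x hs
    · exact FD.repWith_precomp_equiv _ (toOverCat U) (AD.toOverCat_isEquivOver U) x hsurj
  · rintro ⟨U, x, ⟨U', p, hpe, hps, hcomp⟩, hs, hsurj⟩
    obtain ⟨h1, h2⟩ := smooth_surj_chart_of_space hX U x p hpe
    have : CompactSpace ↥U'.left := hcomp
    exact isQuasiCompact_of_compact_chart hX U' _ (h1 hs) (h2 hps hsurj)

end Groth.Agent.Lib.Helper17.CT
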