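import Groth.Prelude.Def_FibCat2
import Groth.Agent.Lib.Helper17.HomLift
import Groth.Agent.Lib.Helper17.FibProd
import Groth.Agent.Lib.Helper17.EquivOver
import Groth.Agent.S5139

set_option autoImplicit false
universe v u

/-! For a fully faithful `i : 𝒳 ⟶ 𝒳'` and `g : 𝒳' ⟶ 𝒴`, the square of diagonals
`𝒳 ⟶ 𝒳 ×_𝒴 𝒳`, `𝒳' ⟶ 𝒳' ×_𝒴 𝒳'` is 2-cartesian. -/

namespace Groth.Agent.Lib.Helper17.DCT

open CategoryTheory CategoryTheory.Functor FibCat
open Groth.Agent.Lib.Helper17 Groth.Agent.Lib.Helper17.FP Groth.Agent.Lib.Helper17.EO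

variable {C : Type u} [Category.{v} C] {𝒳 𝒳' 𝒴 : BasedCategory.{v, max u v} C}
  (i : 𝒳 ⥤ᵇ 𝒳') (g : 𝒳' ⥤ᵇ 𝒴)

/-- `i × i : 𝒳 ×_𝒴 𝒳 ⟶ 𝒳' ×_𝒴 𝒳'` -/
abbrev ii : fp (BasedFunctor.comp i g) (BasedFunctor.comp i g) ⥤ᵇ fp g g :=
  fpLift (BasedFunctor.comp (fpFst (BasedFunctor.comp i g) (BasedFunctor.comp i g)) i)
    (BasedFunctor.comp (fpSnd (BasedFunctor.comp i g) (BasedFunctor.comp i g)) i)
    (fpIso (BasedFunctor.comp i g) (BasedFunctor.comp i g))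

/-- the comparison functor -/
abbrev Φ : 𝒳 ⥤ᵇ fp (ii i g) (diag g) :=
  fpLift (F := ii i g) (G := diag g) (diag (BasedFunctor.comp i g)) i (Iso.refl _)

/-! components -/

def c1 (η : (fp (ii i g) (diag g)).obj) : i.obj η.obj.fst.obj.fst ≅ η.obj.snd where
  hom := η.obj.iso.hom.hom.fst
  inv := η.obj.iso.inv.hom.fst
  hom_inv_id := congrArg (fun t => t.hom.fst) η.obj.iso.hom_inv_id
  inv_hom_id := congrArg (fun t => t.hom.fst) η.obj.iso.inv_hom_id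

def c2 (η : (fp (ii i g) (diag g)).obj) : i.obj η.obj.fst.obj.snd ≅ η.obj.snd where
  hom := η.obj.iso.hom.hom.snd
  inv := η.obj.iso.inv.hom.snd
  hom_inv_id := congrArg (fun t => t.hom.snd) η.obj.iso.hom_inv_id
  inv_hom_id := congrArg (fun t => t.hom.snd) η.obj.iso.inv_hom_id

/-- the isomorphism of an object of `𝒳 ×_𝒴 𝒳`, with its type unfolded -/
def th (z : (fp (BasedFunctor.comp i g) (BasedFunctor.comp i g)).obj) :
    g.obj (i.obj z.obj.fst) ≅ g.obj (i.obj z.obj.snd) := z.obj.iso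

theorem c1_lift (η : (fp (ii i g) (diag g)).obj) :
    𝒳'.p.IsHomLift (𝟙 (𝒳.p.obj η.obj.fst.obj.fst)) (c1 i g η).hom := by
  have h := iso_isHomLift η
  exact (isHomLift_iff_fst η.obj.iso.hom _).mp h

theorem c2_lift (η : (fp (ii i g) (diag g)).obj) :
    𝒳'.p.IsHomLift (𝟙 (𝒳.p.obj η.obj.fst.obj.fst)) (c2 i g η).hom := by
  have h := iso_isHomLift η
  exact isHomLift_snd η.obj.iso.hom _ h

theorem c_compat (η : (fp (ii i g) (diag g)).obj) :
    g.map (c1 i g η).hom = (th i g η.obj.fst).hom ≫ g.map (c2 i g η).hom := by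
  have h := η.obj.iso.hom.hom.w
  change g.map (c1 i g η).hom ≫ 𝟙 _ = (th i g η.obj.fst).hom ≫ g.map (c2 i g η).hom at h
  rw [Category.comp_id] at h
  exact h

theorem Φ_faithful : (Φ i g).toFunctor.Faithful := by
  constructor
  intro x x₀ k k' h
  exact congrArg (fun t => t.hom.fst.hom.fst) h

theorem Φ_full [i.toFunctor.Faithful] : (Φ i g).toFunctor.Full := by
  constructor
  intro x x₀ n
  obtain ⟨k₁, k₂, t, h1, h2, h3, hw1, hw2⟩ : ∃ (k₁ k₂ : x ⟶ x₀) (t : i.obj x ⟶ i.obj x₀),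
      n.hom.fst.hom.fst = k₁ ∧ n.hom.fst.hom.snd = k₂ ∧ n.hom.snd = t ∧
      i.map k₁ ≫ 𝟙 _ = 𝟙 _ ≫ t ∧ i.map k₂ ≫ 𝟙 _ = 𝟙 _ ≫ t :=
    ⟨n.hom.fst.hom.fst, n.hom.fst.hom.snd, n.hom.snd, rfl, rfl, rfl,
      congrArg (fun t => t.hom.fst) n.hom.w, congrArg (fun t => t.hom.snd) n.hom.w⟩
  rw [Category.comp_id, Category.id_comp] at hw1 hw2
  have hk : k₁ = k₂ := i.toFunctor.map_injective (hw1.trans hw2.symm)
  subst hk
  refine ⟨k₁, ?_⟩
  apply hom_ext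
  · apply hom_ext
    · exact h1.symm
    · exact h2.symm
  · exact hw1.trans h3.symm

theorem Φ_essSurj [i.toFunctor.Full] [i.toFunctor.Faithful] (η : (fp (ii i g) (diag g)).obj) :
    ∃ (ξ : 𝒳.obj) (e : (Φ i g).toFunctor.obj ξ ≅ η),
      (fp (ii i g) (diag g)).p.IsHomLift (𝟙 ((fp (ii i g) (diag g)).p.obj η)) e.hom := by
  let φ : η.obj.fst.obj.fst ≅ η.obj.fst.obj.snd :=
    i.toFunctor.preimageIso (c1 i g η ≪≫ (c2 i g η).symm)
  have hiφ : i.map φ.hom = (c1 i g η).hom ≫ (c2 i g η).inv := by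
    change i.toFunctor.map (i.toFunctor.preimage _) = _
    rw [i.toFunctor.map_preimage]
    rfl
  have hgφ : g.map (i.map φ.hom) = (th i g η.obj.fst).hom := by
    rw [hiφ, g.map_comp, c_compat, Category.assoc, ← g.map_comp, Iso.hom_inv_id, g.map_id,
      Category.comp_id]
  -- the isomorphism of the `𝒳 ×_𝒴 𝒳`-components
  let iz : (diag (BasedFunctor.comp i g)).obj η.obj.fst.obj.fst ≅ η.obj.fst :=
    mkIso (z := (diag (BasedFunctor.comp i g)).obj η.obj.fst.obj.fst) (z' := η.obj.fst)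
      (Iso.refl _) φ (by
        change g.map (i.map (𝟙 _)) ≫ (th i g η.obj.fst).hom = 𝟙 _ ≫ g.map (i.map φ.hom)
        rw [i.map_id, g.map_id, Category.id_comp, Category.id_comp, hgφ])
  refine ⟨η.obj.fst.obj.fst, mkIso (z := (Φ i g).obj η.obj.fst.obj.fst) (z' := η) iz (c1 i g η) ?_,
    ?_⟩
  · apply hom_ext
    · change i.map (𝟙 _) ≫ (c1 i g η).hom = 𝟙 _ ≫ (c1 i g η).hom
      rw [i.map_id]
    · change i.map φ.hom ≫ (c2 i g η).hom = 𝟙 _ ≫ (c1 i g η).hom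
      rw [hiφ, Category.assoc, Iso.inv_hom_id, Category.comp_id, Category.id_comp]
  · rw [isHomLift_iff_fst, isHomLift_iff_fst]
    exact IsHomLift.id rfl

theorem Φ_isEquivOver [i.toFunctor.Full] [i.toFunctor.Faithful] :
    FibCat.IsEquivOver (Φ i g) := by
  rw [Groth.Agent.S5139.result]
  exact ⟨⟨Φ_full i g, Φ_faithful i g⟩, Φ_essSurj i g⟩

end Groth.Agent.Lib.Helper17.DCT
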