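import Groth.Agent.Lib.Helper17.Inertia

set_option autoImplicit false
set_option backward.isDefEq.respectTransparency false
set_option backward.isDefEq.respectTransparency.types false
universe u

namespace Groth.Agent.Lib.Helper17.DCV

open CategoryTheory CategoryTheory.Limits AlgebraicGeometry Opposite AlgSp FibCat Stk AlgSt
open Groth.Agent.Lib.Helper17 Groth.Agent.Lib.Helper17.FP Groth.Agent.Lib.Helper17.EO
  Groth.Agent.Lib.Helper17.PD Groth.Agent.Lib.Helper17.AT Groth.Agent.Lib.Helper17.AB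
  Groth.Agent.Lib.Helper17.AOS Groth.Agent.Lib.Helper17.ACP
open Groth.Agent.Lib.Helper46 Groth.Agent.Lib.Helper46.LocPChart

variable {S : Scheme.{u}}

/-- the functor of a map of algebraic spaces with `P` (stable under base change) is representable
by algebraic spaces with `P` -/
theorem repWith_ofSpMap (P : MorphismProperty (Sp S)) (hbc : BC P) (X Y : AlgSp.Space S)
    (a : X.obj ⟶ Y.obj) (ha : P a) : AlgSt.RepByAlgSpWith P (ofSpMap a) := by
  have hrb : AlgSp.RepBySp a.hom := AR.repBySp_of_algSpaces X Y _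
  have hRI : (restr P).RespectsIso := restr_respectsIso _ hbc
  have h0 : AlgSp.RepBySpWith (restr P) a.hom := by
    rw [AlgSp.repBySpWith_hom_iff]
    intro T ξ F' fst snd sq
    have hF' : AlgSp.IsAlgSpace F' := (AlgSp.repBySp_hom_iff a).mp hrb ξ fst snd sq
    exact ⟨hF', hF', IsAlgSpace.yon_obj T,
      hbc X.property Y.property hF' (IsAlgSpace.yon_obj T) a ξ snd fst sq ha⟩
  exact (repWith_restr_iff _ _).mp ((Groth.Agent.S12778.result _ _ hrb).mp h0)

/-- **properties of the diagonal over the base from a covering by a scheme** -/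
theorem diag_toSelf_of_scheme_cover (P : MorphismProperty (Sp S)) (hPb : BC P) (hPc : CP P)
    (hP : IsLocalOnBase (IsFppfCover (S := S)) P)
    (hmono : ∀ {𝒜 ℬ : AlgSt.Cat S} (g : 𝒜 ⥤ᵇ ℬ), AlgSt.RepByAlgSp1 g →
      AlgSt.RepByAlgSpWith P (FibCat.diag g))
    {𝒳 : AlgSt.Cat S} (h𝒳 : AlgSt.IsAlgStack Scheme.fppfPrecoverage 𝒳)
    (U : Over S) (x : FibCat.overCat U ⥤ᵇ 𝒳)
    (hflat : AlgSt.RepByAlgSpWith (LocP @Flat) x)
    (hlfp : AlgSt.RepByAlgSpWith (LocP @LocallyOfFinitePresentation) x)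
    (hsurj : AlgSt.RepByAlgSpWith IsSurjectiveMor x)
    (hx : AlgSt.RepByAlgSpWith P x) :
    AlgSt.RepByAlgSpWith P (FibCat.diag (FibCat.toSelf 𝒳)) := by
  have hfg := h𝒳.isStack.1
  have hU : FibCat.IsFibGrpd (FibCat.overCat U).p := FG.isFibGrpd_overForget U
  have hO : FibCat.IsFibGrpd (FibCat.selfOver (Over S)).p := SP.isFibGrpd_selfOver
  have hm₁ := SR.repWith_m _ DL.flat_bc DL.flat_cp (ACov.schLocal_of_isLocalOnBase _ DL.flat_local)
    hU hU hfg hO x (FibCat.toSelf 𝒳) x hflat hflat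
  have hm₂ := SR.repWith_m _ DL.lfp_bc DL.lfp_cp (ACov.schLocal_of_isLocalOnBase _ DL.lfp_local)
    hU hU hfg hO x (FibCat.toSelf 𝒳) x hlfp hlfp
  have hm₃ := SR.repWith_m _ DL.surj_bc DL.surj_cp
    (ACov.schLocal_of_isLocalOnBase _ SD.isLocalOnBase_isSurjectiveMor)
    hU hU hfg hO x (FibCat.toSelf 𝒳) x hsurj hsurj
  refine FD.repWith_of_fpFst_cover _ hPb hP _ h𝒳.diag
    (MS.m x (FibCat.toSelf 𝒳) x) hm₁ hm₂ hm₃ ?_
  refine FD.repWith_of_precomp_equiv _ (MS.M x (FibCat.toSelf 𝒳) x)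
    (MS.M_isEquivOver x (FibCat.toSelf 𝒳) x) _ ?_
  have hB : FibCat.IsFibGrpd (MS.B x (FibCat.toSelf 𝒳) x).p :=
    SP.isFibGrpd_fp _ _ hU hU hO
  have hR : FibCat.IsFibGrpd (FibCat.fp x x).p := SP.isFibGrpd_fp x x hU hU hfg
  refine TC.repWith_cancel hR hB hU _ hPb hPc (ACov.schLocal_of_isLocalOnBase _ hP)
    _ (FibCat.fpFst (BasedFunctor.comp x (FibCat.toSelf 𝒳)) (BasedFunctor.comp x (FibCat.toSelf 𝒳)))
    ?_ ?_
  · change AlgSt.RepByAlgSpWith _ (FibCat.fpFst x x)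
    exact repWith_fpFst _ x x hx
  · have e : BasedFunctor.comp x (FibCat.toSelf 𝒳) = FibCat.toSelf (FibCat.overCat U) :=
      DR.basedFunctor_ext x.w
    refine Groth.Agent.Lib.Helper38.DBCAlgSt.repByAlgSpWith_diag_fpFst hU hO hU _
      (BasedFunctor.comp x (FibCat.toSelf 𝒳)) (BasedFunctor.comp x (FibCat.toSelf 𝒳)) ?_
    rw [e]
    exact hmono _ (SR.rep1_toSelf_overCat U)

/-- the same from a covering by an algebraic space, for properties of `LocP` type satisfied by etale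
morphisms -/
theorem diag_toSelf_of_space_cover (Q : MorphismProperty Scheme.{u}) (hQ : EtLocal Q)
    (hQet : ∀ ⦃A B : Scheme.{u}⦄ (k : A ⟶ B), Etale k → Q k)
    (hPc : CP (LocP (S := S) Q))
    (hP : IsLocalOnBase (IsFppfCover (S := S)) (LocP Q))
    (hmono : ∀ ⦃A B : Scheme.{u}⦄ (k : A ⟶ B), Mono k → LocallyOfFiniteType k → Q k)
    {𝒳 : AlgSt.Cat S} (h𝒳 : AlgSt.IsAlgStack Scheme.fppfPrecoverage 𝒳)
    (W : AlgSp.Space S) (w : ofSp W.obj ⥤ᵇ 𝒳)
    (hflat : AlgSt.RepByAlgSpWith (LocP @Flat) w)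
    (hlfp : AlgSt.RepByAlgSpWith (LocP @LocallyOfFinitePresentation) w)
    (hsurj : AlgSt.RepByAlgSpWith IsSurjectiveMor w)
    (hw : AlgSt.RepByAlgSpWith (LocP Q) w) :
    AlgSt.RepByAlgSpWith (LocP Q) (FibCat.diag (FibCat.toSelf 𝒳)) := by
  have hPb : BC (LocP (S := S) Q) := fun _ _ _ _ h1 h2 h3 h4 _ _ _ _ sq h =>
    locP_of_isPullback hQ h1 h2 h3 h4 sq h
  obtain ⟨U, c, hce, hcs⟩ := W.property.atlas
  have hcet := ACov.isEtaleMor_of_repWith c hce
  have hfg := h𝒳.isStack.1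
  have hU : FibCat.IsFibGrpd (FibCat.overCat U).p := FG.isFibGrpd_overForget U
  let UU : AlgSp.Space S := ⟨(yon S).obj U, IsAlgSpace.yon_obj U⟩
  -- the chart as a functor
  let x₀ : FibCat.overCat U ⥤ᵇ ofSp W.obj := BasedFunctor.comp (ofOverCat U) (ofSpMap c)
  have hx₀ : ∀ (C : MorphismProperty (Sp S)), BC C → C c → AlgSt.RepByAlgSpWith C x₀ :=
    fun C hCb hc => FD.repWith_precomp_equiv C (ofOverCat U) (AD.ofOverCat_isEquivOver U) _
      (repWith_ofSpMap C hCb UU W c hc)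
  have k₁ : AlgSt.RepByAlgSpWith (LocP @Flat) (BasedFunctor.comp x₀ w) :=
    repWith_comp_of_schLocal' hU hfg _ DL.flat_bc DL.flat_cp
      (ACov.schLocal_of_isLocalOnBase _ DL.flat_local) x₀ w
      (hx₀ _ DL.flat_bc (ACov.locP_of_isEtaleMor (P := @Flat)
        (fun X Y f hf => by have := hf; infer_instance) c hcet)) hflat
  have k₂ : AlgSt.RepByAlgSpWith (LocP @LocallyOfFinitePresentation) (BasedFunctor.comp x₀ w) :=
    repWith_comp_of_schLocal' hU hfg _ DL.lfp_bc DL.lfp_cp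
      (ACov.schLocal_of_isLocalOnBase _ DL.lfp_local) x₀ w
      (hx₀ _ DL.lfp_bc (ACov.locP_of_isEtaleMor (P := @LocallyOfFinitePresentation)
        (fun X Y f hf => by have := hf; infer_instance) c hcet)) hlfp
  have k₃ : AlgSt.RepByAlgSpWith IsSurjectiveMor (BasedFunctor.comp x₀ w) :=
    repWith_comp_of_schLocal' hU hfg _ DL.surj_bc DL.surj_cp
      (ACov.schLocal_of_isLocalOnBase _ SD.isLocalOnBase_isSurjectiveMor) x₀ w
      (hx₀ _ DL.surj_bc (ACov.points_map_surjective c hcs)) hsurj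
  have k₄ : AlgSt.RepByAlgSpWith (LocP Q) (BasedFunctor.comp x₀ w) :=
    repWith_comp_of_schLocal' hU hfg _ hPb hPc
      (ACov.schLocal_of_isLocalOnBase _ hP) x₀ w
      (hx₀ _ hPb (ACov.locP_of_isEtaleMor (P := Q) hQet c hcet)) hw
  exact diag_toSelf_of_scheme_cover _ hPb hPc hP
    (fun g hg => SEC.repWith_diag_of_rep1 Q hQ hmono g hg) h𝒳 U _ k₁ k₂ k₃ k₄

end Groth.Agent.Lib.Helper17.DCV
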