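import Groth.Agent.Lib.Helper17.FppfDescent
import Groth.Agent.Lib.Helper17.PropsBC
import Groth.Agent.Lib.Helper23.AlgSpMor
import Groth.Agent.S10527
import Groth.Agent.S10530
import Groth.Agent.S10542
import Groth.Agent.S10544

set_option autoImplicit false
set_option backward.isDefEq.respectTransparency false
set_option backward.isDefEq.respectTransparency.types false
universe u

/-!
# Descent of `RepByAlgSpWith P` along a covering of the source (helper17)
-/

namespace Groth.Agent.Lib.Helper17.SD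

open CategoryTheory CategoryTheory.Limits AlgebraicGeometry Opposite FibCat Stk AlgSt
open Groth.Agent.Lib.Helper17 Groth.Agent.Lib.Helper17.PD Groth.Agent.Lib.Helper17.EO
  Groth.Agent.Lib.Helper17.AT Groth.Agent.Lib.Helper17.AB Groth.Agent.Lib.Helper17.TH
  Groth.Agent.Lib.Helper17.FP Groth.Agent.Lib.Helper17.AOS

variable {S : Scheme.{u}}

/-- **Factorisation.**  For `f : 𝒳 ⟶ 𝒴` representable by algebraic spaces with `C`, `g : 𝒴 ⟶ 𝒵` and a
space `G` representing `(Sch/U) ×_𝒵 𝒴`, there is a space `H` representing `(Sch/U) ×_𝒵 𝒳` whose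
structure map factors through a map `m : H ⟶ G` with `C`. -/
theorem exists_factor {𝒳 𝒴 𝒵 : AlgSt.Cat S}
    (h𝒳 : FibCat.IsFibGrpd 𝒳.p) (h𝒵 : FibCat.IsFibGrpd 𝒵.p)
    (C : MorphismProperty (AlgSp.Sp S)) [C.RespectsIso] (hC : ACov.SchLocal C)
    (f : 𝒳 ⥤ᵇ 𝒴) (g : 𝒴 ⥤ᵇ 𝒵) (hf : AlgSt.RepByAlgSpWith C f) (U : Over S)
    (y : FibCat.overCat U ⥤ᵇ 𝒵) (G : AlgSp.Space S) (eG : ofSp G.obj ⥤ᵇ FibCat.fp y g)
    (heG : FibCat.IsEquivOver eG) :
    ∃ (H : AlgSp.Space S) (eH : ofSp H.obj ⥤ᵇ FibCat.fp y (BasedFunctor.comp f g))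
      (m : H.obj ⟶ G.obj), FibCat.IsEquivOver eH ∧ C m ∧
        spMapOfOver (BasedFunctor.comp eH (FibCat.fpFst y (BasedFunctor.comp f g))) =
          m ≫ spMapOfOver (BasedFunctor.comp eG (FibCat.fpFst y g)) := by
  obtain ⟨gG, ⟨z₁⟩, ⟨z₂⟩⟩ := id heG
  have hr : AlgSt.RepByAlgSpWith C (PSR.toInner y f g) := ACP.repWith_toInner C y f g hf
  let w : FibCat.fp y (BasedFunctor.comp f g) ⥤ᵇ ofSp G.obj :=
    BasedFunctor.comp (PSR.toInner y f g) gG
  have hw : AlgSt.RepByAlgSpWith C w := by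
    refine repWith_of_square_fwd C (PSR.toInner y f g) w (BasedFunctor.id _) eG
      (isEquivOver_id _) heG (fun x' => compApp z₂ ((PSR.toInner y f g).obj x')) ?_ ?_ hr
    · intro x x₁ β
      exact compApp_nat z₂ ((PSR.toInner y f g).map β)
    · intro x'
      have h := compApp_lift z₂ ((PSR.toInner y f g).obj x')
      rw [(PSR.toInner y f g).w_obj x'] at h
      exact h
  have h𝒲 : FibCat.IsFibGrpd (FibCat.fp y (BasedFunctor.comp f g)).p :=
    SP.isFibGrpd_fp y (BasedFunctor.comp f g) (FG.isFibGrpd_overForget U) h𝒳 h𝒵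
  obtain ⟨H, eH, heH, hPa⟩ := exists_space_of_repWith_of_schLocal C hC h𝒲 G w hw
  refine ⟨H, eH, ObjectProperty.homMk (mapOf (BasedFunctor.comp eH w)), heH, hPa, ?_⟩
  apply ObjectProperty.hom_ext
  change (spMapOfOver (BasedFunctor.comp eH (FibCat.fpFst y (BasedFunctor.comp f g)))).hom =
    mapOf (BasedFunctor.comp eH w) ≫ (spMapOfOver (BasedFunctor.comp eG (FibCat.fpFst y g))).hom
  rw [← AD.mapOf_comp_ofOverCat, ← AD.mapOf_comp_ofOverCat, ← mapOf_comp]
  refine mapOf_congr _ _ (fun a => ?_) (fun a => ?_)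
  · exact ((BasedFunctor.comp (FibCat.fpFst y g) (ofOverCat U)).toFunctor.mapIso
      (compApp z₂ ((PSR.toInner y f g).obj (eH.obj a)))).symm
  · have h := compApp_lift z₂ ((PSR.toInner y f g).obj (eH.obj a))
    rw [(PSR.toInner y f g).w_obj, eH.w_obj] at h
    have h0 : (FibCat.fp y g).p.IsHomLift (𝟙 a.base)
        (compApp z₂ ((PSR.toInner y f g).obj (eH.obj a))).hom := h
    have h' : (FibCat.fp y g).p.IsHomLift (𝟙 a.base)
        (compApp z₂ ((PSR.toInner y f g).obj (eH.obj a))).inv :=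
      IsHomLift.lift_id_inv (FibCat.fp y g).p a.base _
    exact map_lift'' (BasedFunctor.comp (FibCat.fpFst y g) (ofOverCat U)) h'

/-- conjunction of two properties respecting isomorphisms -/
theorem repWith_inf (P Q : MorphismProperty (AlgSp.Sp S)) [Q.RespectsIso] {𝒳 𝒴 : AlgSt.Cat S}
    (f : 𝒳 ⥤ᵇ 𝒴) (hP : AlgSt.RepByAlgSpWith P f) (hQ : AlgSt.RepByAlgSpWith Q f) :
    AlgSt.RepByAlgSpWith (P ⊓ Q) f := by
  intro U y
  obtain ⟨F, e, he, h1⟩ := hP U y
  obtain ⟨F', e', he', h2⟩ := hQ U y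
  exact ⟨F, e, he, h1, FD.rep_unique Q (FibCat.fpFst y f) e' e he' he h2⟩

/-- **Descent along a covering of the source.**  If `y ∘ x` has `P`, `x` is representable by
algebraic spaces with `C`, and `P` descends along morphisms with `C` on the source, then `y` has
`P`. -/
theorem repWith_of_comp_cover {𝒳 𝒴 𝒵 : AlgSt.Cat S}
    (h𝒳 : FibCat.IsFibGrpd 𝒳.p) (h𝒵 : FibCat.IsFibGrpd 𝒵.p)
    (P : MorphismProperty (AlgSp.Sp S)) (hPb : ACP.BC P)
    (C : MorphismProperty (AlgSp.Sp S)) [C.RespectsIso] (hC : ACov.SchLocal C)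
    (hsrc : ∀ ⦃H G Y : AlgSp.Sp S⦄, AlgSp.IsAlgSpace H → AlgSp.IsAlgSpace G → AlgSp.IsAlgSpace Y →
      ∀ (m : H ⟶ G) (a : G ⟶ Y), C m → P (m ≫ a) → P a)
    (x : 𝒳 ⥤ᵇ 𝒴) (y : 𝒴 ⥤ᵇ 𝒵) (hy : AlgSt.RepByAlgSp1 y) (hx : AlgSt.RepByAlgSpWith C x)
    (h : AlgSt.RepByAlgSpWith P (BasedFunctor.comp x y)) : AlgSt.RepByAlgSpWith P y := by
  intro U t
  obtain ⟨G, eG, heG⟩ := hy U t
  obtain ⟨H, eH, m, heH, hm, hfac⟩ := exists_factor h𝒳 h𝒵 C hC x y hx U t G eG heG
  refine ⟨G, eG, heG, ?_⟩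
  have hQ : (ACP.restr P).RespectsIso := ACP.restr_respectsIso P hPb
  obtain ⟨F, e, he, hPF⟩ := (ACP.repWith_restr_iff P _).mpr h U t
  have h2 := FD.rep_unique (ACP.restr P) (FibCat.fpFst t (BasedFunctor.comp x y)) e eH he heH hPF
  have h3 : P (m ≫ spMapOfOver (BasedFunctor.comp eG (FibCat.fpFst t y))) := by
    rw [← hfac]
    exact h2.2.2
  exact hsrc H.property G.property (AlgSp.IsAlgSpace.yon_obj U) m _ hm h3

/-! ### covering properties -/

/-- surjectivity on points is fppf local on the base -/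
theorem isLocalOnBase_isSurjectiveMor :
    AlgSp.IsLocalOnBase (AlgSp.IsFppfCover (S := S)) AlgSp.IsSurjectiveMor := by
  intro ι Y Yi g hY hYi hcov X f hX Xi p q hXi hsq
  constructor
  · intro hf i
    exact Groth.Agent.Lib.Helper23.AlgSpMor.isSurjectiveMor_of_isPullback (hsq i) hf
  · intro hp y
    obtain ⟨i, yi, hyi⟩ := hcov.2 y
    obtain ⟨xi, hxi⟩ := hp i yi
    refine ⟨AlgSp.Points.map (q i) xi, ?_⟩
    rw [← AlgSp.Points.map_comp, (hsq i).w, AlgSp.Points.map_comp, hxi, hyi]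

theorem isEtaleMor_respectsIso : (AlgSp.IsEtaleMor (S := S)).RespectsIso := by
  have : (AlgSp.RepWith (S := S) @Etale).IsMultiplicative := AlgSp.repWith_isMultiplicative _
  apply MorphismProperty.RespectsIso.mk
  · intro X Y Z e f hf U φ hφ
    rw [← Category.assoc]
    exact hf (φ ≫ e.hom) ((AlgSp.RepWith (S := S) @Etale).comp_mem _ _ hφ
      (Groth.Agent.Lib.Helper46.RepIso.repWith_of_isIso @Etale e.hom))
  · intro X Y Z e f hf U φ hφ
    rw [← Category.assoc]
    exact (AlgSp.RepWith (S := S) @Etale).comp_mem _ _ (hf φ hφ)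
      (Groth.Agent.Lib.Helper46.RepIso.repWith_of_isIso @Etale e.hom)

/-- the fppf covering property -/
def CFppf : MorphismProperty (AlgSp.Sp S) :=
  (AlgSp.LocP @Flat ⊓ AlgSp.LocP @LocallyOfFinitePresentation) ⊓ AlgSp.IsSurjectiveMor

/-- the smooth covering property -/
def CSm : MorphismProperty (AlgSp.Sp S) := AlgSp.LocP @Smooth ⊓ AlgSp.IsSurjectiveMor

/-- the etale covering property -/
def CEt : MorphismProperty (AlgSp.Sp S) := AlgSp.IsEtaleMor ⊓ AlgSp.IsSurjectiveMor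

theorem inf_respectsIso (P Q : MorphismProperty (AlgSp.Sp S)) [P.RespectsIso] [Q.RespectsIso] :
    (P ⊓ Q).RespectsIso := by
  apply MorphismProperty.RespectsIso.mk
  · intro X Y Z e f hf
    exact ⟨(P.cancel_left_of_respectsIso e.hom f).mpr hf.1,
      (Q.cancel_left_of_respectsIso e.hom f).mpr hf.2⟩
  · intro X Y Z e f hf
    exact ⟨(P.cancel_right_of_respectsIso f e.hom).mpr hf.1,
      (Q.cancel_right_of_respectsIso f e.hom).mpr hf.2⟩

theorem cFppf_respectsIso : (CFppf (S := S)).RespectsIso := by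
  have := FD.locP_respectsIso (S := S) @Flat
  have := FD.locP_respectsIso (S := S) @LocallyOfFinitePresentation
  have := FD.isSurjectiveMor_respectsIso (S := S)
  have := inf_respectsIso (AlgSp.LocP (S := S) @Flat) (AlgSp.LocP @LocallyOfFinitePresentation)
  exact inf_respectsIso _ _

theorem cSm_respectsIso : (CSm (S := S)).RespectsIso := by
  have := FD.locP_respectsIso (S := S) @Smooth
  have := FD.isSurjectiveMor_respectsIso (S := S)
  exact inf_respectsIso _ _

theorem cEt_respectsIso : (CEt (S := S)).RespectsIso := by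
  have := isEtaleMor_respectsIso (S := S)
  have := FD.isSurjectiveMor_respectsIso (S := S)
  exact inf_respectsIso _ _

theorem cFppf_schLocal : ACov.SchLocal (CFppf (S := S)) :=
  ACov.schLocal_of_isLocalOnBase _ (PB.inf_isLocalOnBase _ _ _
    (PB.inf_isLocalOnBase _ _ _ (PB.fppf_of_fpqc _ (Groth.Agent.S10530.result S))
      (PB.fppf_of_fpqc _ (Groth.Agent.S10527.result S))) isLocalOnBase_isSurjectiveMor)

theorem cSm_schLocal : ACov.SchLocal (CSm (S := S)) :=
  ACov.schLocal_of_isLocalOnBase _ (PB.inf_isLocalOnBase _ _ _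
    (PB.fppf_of_fpqc _ (Groth.Agent.S10542.result S)) isLocalOnBase_isSurjectiveMor)

theorem cEt_schLocal : ACov.SchLocal (CEt (S := S)) :=
  ACov.schLocal_of_isLocalOnBase _ (PB.inf_isLocalOnBase _ _ _
    (PB.fppf_of_fpqc _ (Groth.Agent.S10544.result S)) isLocalOnBase_isSurjectiveMor)

end Groth.Agent.Lib.Helper17.SD
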