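import Groth.Agent.Lib.Helper17.SelfRep
import Groth.Agent.Lib.Helper17.DiagDictConv
import Groth.Agent.Lib.Helper23.AlgSpQc2
import Groth.Agent.Lib.Helper17.SourceDescent
import Groth.Agent.S10526
import Groth.Agent.S10527
import Groth.Agent.S10530

set_option autoImplicit false
set_option backward.isDefEq.respectTransparency false
set_option backward.isDefEq.respectTransparency.types false
universe u

namespace Groth.Agent.Lib.Helper17.DL

open CategoryTheory CategoryTheory.Limits AlgebraicGeometry Opposite AlgSp FibCat Stk AlgSt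
open Groth.Agent.Lib.Helper17 Groth.Agent.Lib.Helper17.FP Groth.Agent.Lib.Helper17.EO
  Groth.Agent.Lib.Helper17.PD Groth.Agent.Lib.Helper17.AT Groth.Agent.Lib.Helper17.AB
  Groth.Agent.Lib.Helper17.AOS Groth.Agent.Lib.Helper17.ACP
open Groth.Agent.Lib.Helper46 Groth.Agent.Lib.Helper46.LocPChart

variable {S : Scheme.{u}}

/-! ### packages -/

theorem lft_bc : BC (LocP (S := S) @LocallyOfFiniteType) :=
  fun _ _ _ _ h1 h2 h3 h4 _ _ _ _ sq h =>
    locP_of_isPullback Groth.Agent.Lib.Helper30.EtLocalInst.etLocal_lft h1 h2 h3 h4 sq h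

theorem lft_cp : CP (LocP (S := S) @LocallyOfFiniteType) :=
  fun X Y Z hX hY hZ a b ha hb =>
    Groth.Agent.S9985.result @LocallyOfFiniteType (Or.inl rfl)
      (X := ⟨X, hX⟩) (Y := ⟨Y, hY⟩) (Z := ⟨Z, hZ⟩) (ObjectProperty.homMk a) (ObjectProperty.homMk b)
      ha hb

theorem lft_local : IsLocalOnBase (IsFppfCover (S := S)) (LocP @LocallyOfFiniteType) :=
  PB.fppf_of_fpqc _ (Groth.Agent.S10526.result S)

theorem flat_bc : BC (LocP (S := S) @Flat) :=
  fun _ _ _ _ h1 h2 h3 h4 _ _ _ _ sq h =>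
    locP_of_isPullback etLocal_flat h1 h2 h3 h4 sq h

theorem flat_cp : CP (LocP (S := S) @Flat) :=
  fun X Y Z hX hY hZ a b ha hb =>
    Groth.Agent.S9985.result @Flat (Or.inr (Or.inr (Or.inl rfl)))
      (X := ⟨X, hX⟩) (Y := ⟨Y, hY⟩) (Z := ⟨Z, hZ⟩) (ObjectProperty.homMk a) (ObjectProperty.homMk b)
      ha hb

theorem flat_local : IsLocalOnBase (IsFppfCover (S := S)) (LocP @Flat) :=
  PB.fppf_of_fpqc _ (Groth.Agent.S10530.result S)

theorem lfp_bc : BC (LocP (S := S) @LocallyOfFinitePresentation) :=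
  fun _ _ _ _ h1 h2 h3 h4 _ _ _ _ sq h =>
    locP_of_isPullback Groth.Agent.Lib.Helper30.EtLocalInst.etLocal_lfp h1 h2 h3 h4 sq h

theorem lfp_cp : CP (LocP (S := S) @LocallyOfFinitePresentation) :=
  fun X Y Z hX hY hZ a b ha hb =>
    Groth.Agent.S9985.result @LocallyOfFinitePresentation (Or.inr (Or.inl rfl))
      (X := ⟨X, hX⟩) (Y := ⟨Y, hY⟩) (Z := ⟨Z, hZ⟩) (ObjectProperty.homMk a) (ObjectProperty.homMk b)
      ha hb

theorem lfp_local : IsLocalOnBase (IsFppfCover (S := S)) (LocP @LocallyOfFinitePresentation) :=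
  PB.fppf_of_fpqc _ (Groth.Agent.S10527.result S)

theorem surj_bc : BC (IsSurjectiveMor (S := S)) :=
  fun _ _ _ _ _ _ _ _ _ _ _ _ sq h =>
    Groth.Agent.Lib.Helper23.AlgSpMor.isSurjectiveMor_of_isPullback sq h

theorem surj_cp : CP (IsSurjectiveMor (S := S)) :=
  fun _ _ _ _ _ _ a b ha hb => Groth.Agent.Lib.Helper23.AlgSpMor.isSurjectiveMor_comp a b ha hb

/-- monotonicity of `LocP` -/
theorem locP_mono {Q Q' : MorphismProperty Scheme.{u}} (h : ∀ ⦃A B : Scheme.{u}⦄ (k : A ⟶ B), Q k → Q' k)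
    {X Y : Sp S} (a : X ⟶ Y) (ha : LocP Q a) : LocP Q' a :=
  fun _ _ c d k hc hd hk => h _ (ha c d k hc hd hk)

/-- **the diagonal of an algebraic stack over the base is locally of finite type** -/
theorem lft_diag_toSelf {𝒳 : AlgSt.Cat S} (h𝒳 : AlgSt.IsAlgStack Scheme.fppfPrecoverage 𝒳) :
    AlgSt.RepByAlgSpWith (LocP @LocallyOfFiniteType) (FibCat.diag (FibCat.toSelf 𝒳)) := by
  obtain ⟨U, x, hsm, hsurj⟩ := h𝒳.atlas
  have hfg := h𝒳.isStack.1
  have hU : FibCat.IsFibGrpd (FibCat.overCat U).p := FG.isFibGrpd_overForget U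
  have hO : FibCat.IsFibGrpd (FibCat.selfOver (Over S)).p := SP.isFibGrpd_selfOver
  have hflat : AlgSt.RepByAlgSpWith (LocP @Flat) x :=
    DDC.repWith_mono (fun _ _ a _ _ ha => locP_mono (fun _ _ k hk => by
      have : Smooth k := hk
      exact (inferInstance : Flat k)) a ha) x hsm
  have hlfp : AlgSt.RepByAlgSpWith (LocP @LocallyOfFinitePresentation) x :=
    DDC.repWith_mono (fun _ _ a _ _ ha => locP_mono (fun _ _ k hk => by
      have : Smooth k := hk
      exact (inferInstance : LocallyOfFinitePresentation k)) a ha) x hsm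
  have hlft : AlgSt.RepByAlgSpWith (LocP @LocallyOfFiniteType) x :=
    DDC.repWith_mono (fun _ _ a _ _ ha => locP_mono (fun _ _ k hk => by
      have : Smooth k := hk
      exact (inferInstance : LocallyOfFiniteType k)) a ha) x hsm
  -- the cover `x × x`
  have hm₁ := SR.repWith_m _ flat_bc flat_cp (ACov.schLocal_of_isLocalOnBase _ flat_local)
    hU hU hfg hO x (FibCat.toSelf 𝒳) x hflat hflat
  have hm₂ := SR.repWith_m _ lfp_bc lfp_cp (ACov.schLocal_of_isLocalOnBase _ lfp_local)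
    hU hU hfg hO x (FibCat.toSelf 𝒳) x hlfp hlfp
  have hm₃ := SR.repWith_m _ surj_bc surj_cp
    (ACov.schLocal_of_isLocalOnBase _ SD.isLocalOnBase_isSurjectiveMor)
    hU hU hfg hO x (FibCat.toSelf 𝒳) x hsurj hsurj
  refine FD.repWith_of_fpFst_cover _ lft_bc lft_local _ h𝒳.diag
    (MS.m x (FibCat.toSelf 𝒳) x) hm₁ hm₂ hm₃ ?_
  -- the base change of the diagonal along the cover is `U ×_𝒳 U ⟶ U ×_S U`
  refine FD.repWith_of_precomp_equiv _ (MS.M x (FibCat.toSelf 𝒳) x)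
    (MS.M_isEquivOver x (FibCat.toSelf 𝒳) x) _ ?_
  have hB : FibCat.IsFibGrpd (MS.B x (FibCat.toSelf 𝒳) x).p :=
    SP.isFibGrpd_fp _ _ hU hU hO
  have hR : FibCat.IsFibGrpd (FibCat.fp x x).p := SP.isFibGrpd_fp x x hU hU hfg
  refine TC.repWith_cancel hR hB hU _ lft_bc lft_cp (ACov.schLocal_of_isLocalOnBase _ lft_local)
    _ (FibCat.fpFst (BasedFunctor.comp x (FibCat.toSelf 𝒳)) (BasedFunctor.comp x (FibCat.toSelf 𝒳)))
    ?_ ?_
  · -- the composite is the first projection `U ×_𝒳 U ⟶ U`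
    change AlgSt.RepByAlgSpWith _ (FibCat.fpFst x x)
    exact repWith_fpFst _ x x hlft
  · -- the diagonal of `U ×_S U ⟶ U`
    have e : BasedFunctor.comp x (FibCat.toSelf 𝒳) = FibCat.toSelf (FibCat.overCat U) :=
      DR.basedFunctor_ext x.w
    refine Groth.Agent.Lib.Helper38.DBCAlgSt.repByAlgSpWith_diag_fpFst hU hO hU _
      (BasedFunctor.comp x (FibCat.toSelf 𝒳)) (BasedFunctor.comp x (FibCat.toSelf 𝒳)) ?_
    rw [e]
    exact SEC.repWith_diag_of_rep1 _ Groth.Agent.Lib.Helper30.EtLocalInst.etLocal_lft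
      (fun _ _ _ _ hl => hl) _ (SR.rep1_toSelf_overCat U)

/-- **the diagonal of a morphism of algebraic stacks is locally of finite type** -/
theorem lft_diag {𝒳 𝒴 : AlgSt.Cat S} (h𝒳 : AlgSt.IsAlgStack Scheme.fppfPrecoverage 𝒳)
    (h𝒴 : AlgSt.IsAlgStack Scheme.fppfPrecoverage 𝒴) (f : 𝒳 ⥤ᵇ 𝒴) :
    AlgSt.RepByAlgSpWith (LocP @LocallyOfFiniteType) (FibCat.diag f) := by
  refine DCN.repWith_diag_of_comp h𝒳.isStack.1 h𝒴.isStack.1 SP.isFibGrpd_selfOver _ lft_bc lft_cp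
    (ACov.schLocal_of_isLocalOnBase _ lft_local) f (FibCat.toSelf 𝒴) ?_ ?_
  · have e : BasedFunctor.comp f (FibCat.toSelf 𝒴) = FibCat.toSelf 𝒳 := DR.basedFunctor_ext f.w
    rw [e]
    exact lft_diag_toSelf h𝒳
  · exact SEC.repWith_diag_of_rep1 _ Groth.Agent.Lib.Helper30.EtLocalInst.etLocal_lft
      (fun _ _ _ _ hl => hl) _ h𝒴.diag

end Groth.Agent.Lib.Helper17.DL
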