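import Groth.Agent.Lib.Helper17.DiagMono
import Groth.Agent.Lib.Helper17.AtlasCover

set_option autoImplicit false
set_option backward.isDefEq.respectTransparency false
set_option backward.isDefEq.respectTransparency.types false
universe u

namespace Groth.Agent.Lib.Helper17.DGS

open CategoryTheory CategoryTheory.Functor CategoryTheory.Limits AlgebraicGeometry Opposite FibCat Stk
  AlgSt
open Groth.Agent.Lib.Helper17 Groth.Agent.Lib.Helper17.FP Groth.Agent.Lib.Helper17.EO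
  Groth.Agent.Lib.Helper17.PD Groth.Agent.Lib.Helper17.PF Groth.Agent.Lib.Helper17.PP
  Groth.Agent.Lib.Helper17.FI Groth.Agent.Lib.Helper17.AD

variable {S : Scheme.{u}}

/-- the 2-fibre product of two functors from slices to the category of an algebraic space is
representable (by a scheme) -/
theorem rep_fp_to_space (F : AlgSp.Space S) {U V : Over S}
    (σ₁ : FibCat.overCat U ⥤ᵇ ofSp F.obj) (ξ₂ : (AlgSp.pyon S).obj V ⟶ F.obj.obj) :
    FibCat.IsRepresentable (FibCat.fp σ₁ (Stk.ofPshMap ξ₂)) := by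
  -- the two maps of sheaves
  let g₁ : (AlgSp.yon S).obj U ⟶ F.obj := ObjectProperty.homMk (xiOf σ₁)
  let g₂ : (AlgSp.yon S).obj V ⟶ F.obj := ObjectProperty.homMk ξ₂
  have hrep : AlgSp.Representable g₂ := F.property.representable_from_yon g₂
  obtain ⟨W, snd, fst, sq⟩ := hrep g₁
  have sqP : IsPullback fst.hom ((AlgSp.yon S).map snd).hom ξ₂ (xiOf σ₁) := ACov.isPullback_hom sq
  have comm := comm_of_isPullback sqP
  -- the chain of equivalences
  have r0 : FibCat.IsRepresentable (ofSch W) := ⟨W, toOverCat W, toOverCat_isEquivOver W⟩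
  have r1 : FibCat.IsRepresentable (FibCat.fp (Stk.ofPshMap (xiOf σ₁)) (Stk.ofPshMap ξ₂)) :=
    rep_of_equiv (E ξ₂ (xiOf σ₁) fst.hom ((AlgSp.yon S).map snd).hom comm)
      (E_isEquivOver ξ₂ (xiOf σ₁) fst.hom ((AlgSp.yon S).map snd).hom comm
        (inj_of_isPullback sqP) (surj_of_isPullback sqP)) r0
  have r2 : FibCat.IsRepresentable (FibCat.fp (yOf (xiOf σ₁)) (Stk.ofPshMap ξ₂)) :=
    rep_of_equiv' (fa (ofOverCat U) (Stk.ofPshMap (xiOf σ₁)) (Stk.ofPshMap ξ₂))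
      (fa_isEquivOver (ofOverCat U) (Stk.ofPshMap (xiOf σ₁)) (Stk.ofPshMap ξ₂)
        (ofOverCat_isEquivOver U)) r1
  exact rep_of_equiv' (tw σ₁ (yOf (xiOf σ₁)) (Stk.ofPshMap ξ₂) (yIso σ₁) (yIso_nat σ₁) (yIso_lift σ₁))
    (tw_isEquivOver σ₁ (yOf (xiOf σ₁)) (Stk.ofPshMap ξ₂) (yIso σ₁) (yIso_nat σ₁) (yIso_lift σ₁)) r2

/-- the 2-fibre product of two functors from slices to a category representable by an algebraic
space is representable (by a scheme) -/
theorem rep_fp_of_rep {𝒜 : AlgSt.Cat S} (hA : AlgSt.RepByAlgSp 𝒜) {U V : Over S}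
    (t₁ : FibCat.overCat U ⥤ᵇ 𝒜) (t₂ : FibCat.overCat V ⥤ᵇ 𝒜) :
    FibCat.IsRepresentable (FibCat.fp t₁ t₂) := by
  obtain ⟨F, e, he⟩ := hA
  obtain ⟨e', ⟨η₁⟩, ⟨η₂⟩⟩ := id he
  have he' : FibCat.IsEquivOver e' := isEquivOver_symm e e' η₁ η₂
  let σ₂ : FibCat.overCat V ⥤ᵇ ofSp F.obj := BasedFunctor.comp t₂ e'
  have hnat : ∀ {x x₁ : (FibCat.overCat V).obj} (β : x ⟶ x₁),
      e'.map (t₂.map β) ≫ ((yIso σ₂ x₁).symm).hom =
        ((yIso σ₂ x).symm).hom ≫ (Stk.ofPshMap (xiOf σ₂)).map ((ofOverCat V).map β) := by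
    intro x x₁ β
    change σ₂.map β ≫ (yIso σ₂ x₁).inv = (yIso σ₂ x).inv ≫ (yOf (xiOf σ₂)).map β
    rw [Iso.comp_inv_eq, Category.assoc, Iso.eq_inv_comp]
    exact (yIso_nat σ₂ β).symm
  have hlift : ∀ x' : (FibCat.overCat V).obj,
      (ofSp F.obj).p.IsHomLift (𝟙 ((FibCat.overCat V).p.obj x')) ((yIso σ₂ x').symm).hom := by
    intro x'
    have h := yIso_lift σ₂ x'
    exact IsHomLift.lift_id_inv (ofSp F.obj).p ((FibCat.overCat V).p.obj x') (yIso σ₂ x')
  have r := rep_fp_to_space F (BasedFunctor.comp t₁ e') (xiOf σ₂)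
  exact rep_of_equiv'
    (sq (ofOverCat V) e' (Stk.ofPshMap (xiOf σ₂)) t₂ t₁ (fun x' => (yIso σ₂ x').symm) hnat hlift)
    (sq_isEquivOver (ofOverCat V) e' (Stk.ofPshMap (xiOf σ₂)) t₂ t₁ (fun x' => (yIso σ₂ x').symm)
      hnat hlift (ofOverCat_isEquivOver V) he') r

/-- the base change of the diagonal of a functor representable by algebraic spaces to a scheme is
representable by a scheme -/
theorem isRepresentable_fp_diag {𝒳 𝒴 : AlgSt.Cat S} (f : 𝒳 ⥤ᵇ 𝒴) (hf : AlgSt.RepByAlgSp1 f)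
    (U : Over S) (y : FibCat.overCat U ⥤ᵇ FibCat.fp f f) :
    FibCat.IsRepresentable (FibCat.fp y (FibCat.diag f)) := by
  have hA : AlgSt.RepByAlgSp (DS.A f y) := hf U _
  exact rep_of_equiv' (DS.K f y) (DS.K_isEquivOver f y) (rep_fp_of_rep hA (DS.s1 f y) (DS.s2 f y))

end Groth.Agent.Lib.Helper17.DGS
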