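import Groth.Prelude.Def_FibCat2
import Groth.Agent.Lib.Helper17.HomLift
import Groth.Agent.Lib.Helper17.FibProd
import Groth.Agent.Lib.Helper17.EquivOver
import Groth.Agent.S5139

set_option autoImplicit false
universe v u

namespace Groth.Agent.Lib.Helper17.DS

open CategoryTheory CategoryTheory.Functor FibCat
open Groth.Agent.Lib.Helper17 Groth.Agent.Lib.Helper17.FP Groth.Agent.Lib.Helper17.EO

variable {C : Type u} [Category.{v} C] {𝒲 𝒳 𝒴 : BasedCategory.{v, max u v} C}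
  (f : 𝒳 ⥤ᵇ 𝒴) (y : 𝒲 ⥤ᵇ fp f f)

/-- first component of a `𝒲`-point of `𝒳 ×_𝒴 𝒳` -/
def x1 : 𝒲 ⥤ᵇ 𝒳 := BasedFunctor.comp y (fpFst f f)

/-- second component -/
def x2 : 𝒲 ⥤ᵇ 𝒳 := BasedFunctor.comp y (fpSnd f f)

/-- the 2-isomorphism, componentwise -/
def al (w : 𝒲.obj) : f.obj ((x1 f y).obj w) ≅ f.obj ((x2 f y).obj w) := (y.obj w).obj.iso

theorem al_lift (w : 𝒲.obj) : 𝒴.p.IsHomLift (𝟙 (𝒲.p.obj w)) (al f y w).hom := by
  have h := iso_isHomLift (y.obj w)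
  have e : 𝒳.p.obj (y.obj w).obj.fst = 𝒲.p.obj w := y.w_obj w
  rw [e] at h
  exact h

theorem al_nat {w w' : 𝒲.obj} (k : w ⟶ w') :
    f.map ((x1 f y).map k) ≫ (al f y w').hom = (al f y w).hom ≫ f.map ((x2 f y).map k) :=
  (y.map k).hom.w

/-- the base change `𝒲 ×_𝒴 𝒳` along the first component -/
abbrev A : BasedCategory.{v, max u v} C := fp (BasedFunctor.comp (x1 f y) f) f

def s1Obj (w : 𝒲.obj) : (A f y).obj :=
  mkObj (F := BasedFunctor.comp (x1 f y) f) (G := f) w ((x1 f y).obj w) (Iso.refl _)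
    (IsHomLift.id ((BasedFunctor.comp (x1 f y) f).w_obj w))

def s2Obj (w : 𝒲.obj) : (A f y).obj :=
  mkObj (F := BasedFunctor.comp (x1 f y) f) (G := f) w ((x2 f y).obj w) (al f y w) (al_lift f y w)

/-- the section of `𝒲 ×_𝒴 𝒳 ⟶ 𝒲` given by the first component -/
def s1 : 𝒲 ⥤ᵇ A f y where
  toFunctor :=
    { obj := s1Obj f y
      map := fun {w w'} k => mkHom (z := s1Obj f y w) (z' := s1Obj f y w') k ((x1 f y).map k) (by
        change f.map ((x1 f y).map k) ≫ 𝟙 _ = 𝟙 _ ≫ f.map ((x1 f y).map k)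
        rw [Category.comp_id, Category.id_comp])
      map_id := fun w => by
        apply hom_ext
        · rfl
        · exact (x1 f y).toFunctor.map_id w
      map_comp := fun k k' => by
        apply hom_ext
        · rfl
        · exact (x1 f y).toFunctor.map_comp k k' }
  w := rfl

/-- the section of `𝒲 ×_𝒴 𝒳 ⟶ 𝒲` given by the second component and the 2-isomorphism -/
def s2 : 𝒲 ⥤ᵇ A f y where
  toFunctor :=
    { obj := s2Obj f y
      map := fun {w w'} k => mkHom (z := s2Obj f y w) (z' := s2Obj f y w') k ((x2 f y).map k)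
        (al_nat f y k)
      map_id := fun w => by
        apply hom_ext
        · rfl
        · exact (x2 f y).toFunctor.map_id w
      map_comp := fun k k' => by
        apply hom_ext
        · rfl
        · exact (x2 f y).toFunctor.map_comp k k' }
  w := rfl

/-! ### components of objects of `𝒲 ×_{𝒳 ×_𝒴 𝒳} 𝒳` -/

def b1 (z : (fp y (diag f)).obj) : (x1 f y).obj z.obj.fst ≅ z.obj.snd where
  hom := z.obj.iso.hom.hom.fst
  inv := z.obj.iso.inv.hom.fst
  hom_inv_id := congrArg (fun m => m.hom.fst) z.obj.iso.hom_inv_id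
  inv_hom_id := congrArg (fun m => m.hom.fst) z.obj.iso.inv_hom_id

def b2 (z : (fp y (diag f)).obj) : (x2 f y).obj z.obj.fst ≅ z.obj.snd where
  hom := z.obj.iso.hom.hom.snd
  inv := z.obj.iso.inv.hom.snd
  hom_inv_id := congrArg (fun m => m.hom.snd) z.obj.iso.hom_inv_id
  inv_hom_id := congrArg (fun m => m.hom.snd) z.obj.iso.inv_hom_id

theorem b1_lift (z : (fp y (diag f)).obj) :
    𝒳.p.IsHomLift (𝟙 (𝒲.p.obj z.obj.fst)) (b1 f y z).hom := by
  have h := iso_isHomLift z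
  exact (isHomLift_iff_fst z.obj.iso.hom _).mp h

theorem b2_lift (z : (fp y (diag f)).obj) :
    𝒳.p.IsHomLift (𝟙 (𝒲.p.obj z.obj.fst)) (b2 f y z).hom := by
  have h := iso_isHomLift z
  exact isHomLift_snd z.obj.iso.hom _ h

theorem b_compat (z : (fp y (diag f)).obj) :
    f.map (b1 f y z).hom = (al f y z.obj.fst).hom ≫ f.map (b2 f y z).hom := by
  have h := z.obj.iso.hom.hom.w
  change f.map (b1 f y z).hom ≫ 𝟙 _ = (al f y z.obj.fst).hom ≫ f.map (b2 f y z).hom at h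
  rw [Category.comp_id] at h
  exact h

theorem bw1 {z z' : (fp y (diag f)).obj} (k : z ⟶ z') :
    (x1 f y).map k.hom.fst ≫ (b1 f y z').hom = (b1 f y z).hom ≫ k.hom.snd :=
  congrArg (fun m => m.hom.fst) k.hom.w

theorem bw2 {z z' : (fp y (diag f)).obj} (k : z ⟶ z') :
    (x2 f y).map k.hom.fst ≫ (b2 f y z').hom = (b2 f y z).hom ≫ k.hom.snd :=
  congrArg (fun m => m.hom.snd) k.hom.w

/-- the isomorphism `x₁ w ≅ x₂ w` attached to an object -/
def io (z : (fp y (diag f)).obj) : (x1 f y).obj z.obj.fst ≅ (x2 f y).obj z.obj.fst :=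
  b1 f y z ≪≫ (b2 f y z).symm

theorem io_compat (z : (fp y (diag f)).obj) :
    f.map (io f y z).hom = (al f y z.obj.fst).hom := by
  change f.map ((b1 f y z).hom ≫ (b2 f y z).inv) = _
  rw [f.map_comp, b_compat, Category.assoc, ← f.map_comp, Iso.hom_inv_id, f.map_id,
    Category.comp_id]

theorem io_nat {z z' : (fp y (diag f)).obj} (k : z ⟶ z') :
    (x1 f y).map k.hom.fst ≫ (io f y z').hom = (io f y z).hom ≫ (x2 f y).map k.hom.fst := by
  have h1 := bw1 f y k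
  have h2 := bw2 f y k
  have h3 : (b2 f y z).inv ≫ (x2 f y).map k.hom.fst = k.hom.snd ≫ (b2 f y z').inv := by
    rw [Iso.inv_comp_eq, ← Category.assoc, Iso.eq_comp_inv]
    exact h2
  change (x1 f y).map k.hom.fst ≫ (b1 f y z').hom ≫ (b2 f y z').inv =
    ((b1 f y z).hom ≫ (b2 f y z).inv) ≫ (x2 f y).map k.hom.fst
  rw [← Category.assoc, h1, Category.assoc, Category.assoc, h3]

def KIso (z : (fp y (diag f)).obj) : (s1 f y).obj z.obj.fst ≅ (s2 f y).obj z.obj.fst :=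
  mkIso (z := s1Obj f y z.obj.fst) (z' := s2Obj f y z.obj.fst) (Iso.refl _) (io f y z) (by
    change f.map ((x1 f y).map (𝟙 _)) ≫ (al f y z.obj.fst).hom = 𝟙 _ ≫ f.map (io f y z).hom
    rw [(x1 f y).map_id, f.map_id, Category.id_comp, Category.id_comp, io_compat])

def KObj (z : (fp y (diag f)).obj) : (fp (s1 f y) (s2 f y)).obj :=
  mkObj (F := s1 f y) (G := s2 f y) z.obj.fst z.obj.fst (KIso f y z) (by
    rw [isHomLift_iff_fst]
    exact IsHomLift.id rfl)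

def KMap {z z' : (fp y (diag f)).obj} (k : z ⟶ z') : KObj f y z ⟶ KObj f y z' :=
  mkHom (z := KObj f y z) (z' := KObj f y z') k.hom.fst k.hom.fst (by
    apply hom_ext
    · change k.hom.fst ≫ 𝟙 _ = 𝟙 _ ≫ k.hom.fst
      rw [Category.comp_id, Category.id_comp]
    · exact io_nat f y k)

/-- the comparison `𝒲 ×_{𝒳 ×_𝒴 𝒳} 𝒳 ⟶ 𝒲 ×_{s₁, 𝒲 ×_𝒴 𝒳, s₂} 𝒲` -/
def K : fp y (diag f) ⥤ᵇ fp (s1 f y) (s2 f y) where
  toFunctor :=
    { obj := KObj f y
      map := KMap f y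
      map_id := fun z => by
        apply hom_ext
        · rfl
        · rfl
      map_comp := fun k k' => by
        apply hom_ext
        · rfl
        · rfl }
  w := rfl

theorem K_fst : BasedFunctor.comp (K f y) (fpFst (s1 f y) (s2 f y)) = fpFst y (diag f) := rfl

theorem K_faithful : (K f y).toFunctor.Faithful := by
  constructor
  intro z z' k k' h
  have h1 : k.hom.fst = k'.hom.fst := congrArg (fun m => m.hom.fst) h
  apply hom_ext h1
  have e1 := bw1 f y k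
  have e2 := bw1 f y k'
  rw [h1] at e1
  exact (cancel_epi (b1 f y z).hom).mp (e1.symm.trans e2)

theorem K_full : (K f y).toFunctor.Full := by
  constructor
  intro z z' m
  obtain ⟨k₁, k₁', hk, hm1, hm2, hw⟩ : ∃ (k₁ k₁' : z.obj.fst ⟶ z'.obj.fst), k₁ = k₁' ∧
      m.hom.fst = k₁ ∧ m.hom.snd = k₁' ∧
      (x1 f y).map k₁ ≫ (io f y z').hom = (io f y z).hom ≫ (x2 f y).map k₁' := by
    refine ⟨m.hom.fst, m.hom.snd, ?_, rfl, rfl, ?_⟩
    · have h := congrArg (fun t => t.hom.fst) m.hom.w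
      change m.hom.fst ≫ 𝟙 _ = 𝟙 _ ≫ m.hom.snd at h
      rw [Category.comp_id, Category.id_comp] at h
      exact h
    · exact congrArg (fun t => t.hom.snd) m.hom.w
  subst hk
  let k₂ : z.obj.snd ⟶ z'.obj.snd := (b1 f y z).inv ≫ (x1 f y).map k₁ ≫ (b1 f y z').hom
  have hw' : (x1 f y).map k₁ ≫ (b1 f y z').hom ≫ (b2 f y z').inv =
      ((b1 f y z).hom ≫ (b2 f y z).inv) ≫ (x2 f y).map k₁ := hw
  have c2 : (x2 f y).map k₁ ≫ (b2 f y z').hom = (b2 f y z).hom ≫ k₂ := by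
    have : (x2 f y).map k₁ = (b2 f y z).hom ≫ (b1 f y z).inv ≫
        (x1 f y).map k₁ ≫ (b1 f y z').hom ≫ (b2 f y z').inv := by
      rw [hw']
      simp
    rw [this]
    simp [k₂]
  have c1 : (x1 f y).map k₁ ≫ (b1 f y z').hom = (b1 f y z).hom ≫ k₂ := by
    simp [k₂]
  have hkw : y.map k₁ ≫ z'.obj.iso.hom = z.obj.iso.hom ≫ (diag f).map k₂ := hom_ext c1 c2
  refine ⟨mkHom (F := y) (G := diag f) k₁ k₂ hkw, ?_⟩
  apply hom_ext
  · exact hm1.symm
  · exact hm2.symm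

theorem K_essSurj (η : (fp (s1 f y) (s2 f y)).obj) :
    ∃ (ξ : (fp y (diag f)).obj) (e : (K f y).toFunctor.obj ξ ≅ η),
      (fp (s1 f y) (s2 f y)).p.IsHomLift (𝟙 ((fp (s1 f y) (s2 f y)).p.obj η)) e.hom := by
  obtain ⟨w, w', ι, hι, rfl⟩ : ∃ (w w' : 𝒲.obj) (ι : (s1 f y).obj w ≅ (s2 f y).obj w')
      (hι : (A f y).p.IsHomLift (𝟙 (𝒲.p.obj w)) ι.hom), η = mkObj w w' ι hι :=
    ⟨η.obj.fst, η.obj.snd, η.obj.iso, iso_isHomLift η, rfl⟩
  -- components of `ι`
  let i1 : w ≅ w' :=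
    { hom := ι.hom.hom.fst
      inv := ι.inv.hom.fst
      hom_inv_id := congrArg (fun m => m.hom.fst) ι.hom_inv_id
      inv_hom_id := congrArg (fun m => m.hom.fst) ι.inv_hom_id }
  let i2 : (x1 f y).obj w ≅ (x2 f y).obj w' :=
    { hom := ι.hom.hom.snd
      inv := ι.inv.hom.snd
      hom_inv_id := congrArg (fun m => m.hom.snd) ι.hom_inv_id
      inv_hom_id := congrArg (fun m => m.hom.snd) ι.inv_hom_id }
  have hi1 : 𝒲.p.IsHomLift (𝟙 (𝒲.p.obj w)) i1.hom := (isHomLift_iff_fst ι.hom _).mp hι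
  have hi2 : 𝒳.p.IsHomLift (𝟙 (𝒲.p.obj w)) i2.hom := isHomLift_snd ι.hom _ hι
  have hcompat : f.map ((x1 f y).map i1.hom) ≫ (al f y w').hom = f.map i2.hom := by
    have h := ι.hom.hom.w
    change f.map ((x1 f y).map i1.hom) ≫ (al f y w').hom = 𝟙 _ ≫ f.map i2.hom at h
    rw [Category.id_comp] at h
    exact h
  have hnat := al_nat f y i1.hom
  -- the object
  let β₂ : (x2 f y).obj w ≅ (x1 f y).obj w := (x2 f y).toFunctor.mapIso i1 ≪≫ i2.symm
  have hβ₂ : 𝒳.p.IsHomLift (𝟙 (𝒲.p.obj w)) β₂.hom := by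
    have h1 : 𝒳.p.IsHomLift (𝟙 (𝒲.p.obj w)) ((x2 f y).map i1.hom) := map_lift'' (x2 f y) hi1
    have h2 : 𝒳.p.IsHomLift (𝟙 (𝒲.p.obj w)) i2.inv := IsHomLift.lift_id_inv 𝒳.p _ i2
    exact IsHomLift.comp_of_lift_id 𝒳.p (𝒲.p.obj w) ((x2 f y).map i1.hom) i2.inv
  have hrefl : 𝒳.p.IsHomLift (𝟙 (𝒲.p.obj w)) (Iso.refl ((x1 f y).obj w)).hom :=
    IsHomLift.id ((x1 f y).w_obj w)
  let β : y.obj w ≅ (diag f).obj ((x1 f y).obj w) :=
    mkIso (z := y.obj w) (z' := (diag f).obj ((x1 f y).obj w)) (Iso.refl _) β₂ (by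
      change f.map (𝟙 _) ≫ 𝟙 _ = (al f y w).hom ≫ f.map ((x2 f y).map i1.hom ≫ i2.inv)
      rw [f.map_id, Category.id_comp, f.map_comp, ← Category.assoc, ← hnat, hcompat,
        ← f.map_comp]
      have : i2.hom ≫ i2.inv = 𝟙 _ := i2.hom_inv_id
      rw [this, f.map_id])
  have hβ : (fp f f).p.IsHomLift (𝟙 (𝒲.p.obj w)) β.hom := (isHomLift_iff_fst β.hom _).mpr hrefl
  let ξ : (fp y (diag f)).obj := mkObj (F := y) (G := diag f) w ((x1 f y).obj w) β hβ
  have hio : (io f y ξ).hom = i2.hom ≫ (x2 f y).map i1.inv := by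
    change 𝟙 _ ≫ β₂.inv = _
    rw [Category.id_comp]
    rfl
  refine ⟨ξ, mkIso (z := KObj f y ξ) (z' := mkObj w w' ι hι) (Iso.refl w) i1 ?_, ?_⟩
  · apply hom_ext
    · change 𝟙 w ≫ i1.hom = 𝟙 w ≫ i1.hom
      rfl
    · have key : i2.hom = (i2.hom ≫ (x2 f y).map i1.inv) ≫ (x2 f y).map i1.hom := by
        have h2 : (x2 f y).map i1.inv ≫ (x2 f y).map i1.hom = 𝟙 _ := by
          rw [← (x2 f y).map_comp, i1.inv_hom_id, (x2 f y).map_id]
        rw [Category.assoc, h2, Category.comp_id]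
      have h1 : (x1 f y).map (𝟙 w) ≫ i2.hom = i2.hom := by
        rw [(x1 f y).map_id, Category.id_comp]
      exact h1.trans (key.trans (congrArg (fun t => t ≫ (x2 f y).map i1.hom) hio.symm))
  · rw [isHomLift_iff_fst]
    exact IsHomLift.id rfl

theorem K_isEquivOver : FibCat.IsEquivOver (K f y) := by
  rw [Groth.Agent.S5139.result]
  exact ⟨⟨K_full f y, K_faithful f y⟩, K_essSurj f y⟩

end Groth.Agent.Lib.Helper17.DS
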