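import Groth.Agent.Lib.Helper17.FlatBC1
import Groth.Agent.S17273

set_option autoImplicit false
set_option backward.isDefEq.respectTransparency false
set_option backward.isDefEq.respectTransparency.types false
universe u

namespace Groth.Agent.Lib.Helper17.EFP

open CategoryTheory CategoryTheory.Limits AlgebraicGeometry Opposite AlgSp FibCat Stk AlgSt
open Groth.Agent.Lib.Helper17 Groth.Agent.Lib.Helper17.FP Groth.Agent.Lib.Helper17.EO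
  Groth.Agent.Lib.Helper17.PD Groth.Agent.Lib.Helper17.AT Groth.Agent.Lib.Helper17.AB
  Groth.Agent.Lib.Helper17.AOS Groth.Agent.Lib.Helper17.ACP Groth.Agent.Lib.Helper17.PTS
  Groth.Agent.Lib.Helper17.LQT
open Groth.Agent.Lib.Helper46 Groth.Agent.Lib.Helper46.LocPChart

variable {S : Scheme.{u}}

/-- an atlas of `𝒳` from an atlas of `𝒴` and atlases of the base changes `U ×_𝒴 𝒳` -/
theorem hasAtlas_of_fp (P : MorphismProperty (AlgSp.Sp S)) (hPb : ACP.BC P) (hPc : ACP.CP P)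
    (hPl : ACov.SchLocal P) {𝒳 𝒴 : AlgSt.Cat S} (hX : FibCat.IsFibGrpd 𝒳.p)
    (f : 𝒳 ⥤ᵇ 𝒴) (h𝒴 : AlgSt.HasAtlas P 𝒴)
    (hf : ∀ (U : Over S) (g : FibCat.overCat U ⥤ᵇ 𝒴), AlgSt.HasAtlas P (FibCat.fp g f)) :
    AlgSt.HasAtlas P 𝒳 := by
  obtain ⟨V, v, hvs, hvj⟩ := h𝒴
  obtain ⟨T, t, hts, htj⟩ := hf V v
  have hTf : FibCat.IsFibGrpd (FibCat.overCat T).p := FG.isFibGrpd_overForget T
  refine ⟨T, BasedFunctor.comp t (FibCat.fpSnd v f), ?_, ?_⟩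
  · exact repWith_comp_of_schLocal' hTf hX _ hPb hPc hPl t (FibCat.fpSnd v f) hts
      (AB.repWith_fpSnd _ v f hvs)
  · exact repWith_comp_of_schLocal' hTf hX _ DL.surj_bc DL.surj_cp CT.surj_schLocal t
      (FibCat.fpSnd v f) htj (AB.repWith_fpSnd _ v f hvj)

/-- the diagonal of `𝒳` is representable as soon as those of `𝒴` and of all `U ×_𝒴 𝒳` are -/
theorem rep1_diag_of_fp {𝒳 𝒴 : AlgSt.Cat S} (hX : FibCat.IsFibGrpd 𝒳.p)
    (hY : FibCat.IsFibGrpd 𝒴.p)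
    (hΔY : AlgSt.RepByAlgSp1 (FibCat.diag (FibCat.toSelf 𝒴))) (f : 𝒳 ⥤ᵇ 𝒴)
    (hf : ∀ (U : Over S) (g : FibCat.overCat U ⥤ᵇ 𝒴),
      AlgSt.RepByAlgSp1 (FibCat.diag (FibCat.toSelf (FibCat.fp g f)))) :
    AlgSt.RepByAlgSp1 (FibCat.diag (FibCat.toSelf 𝒳)) := by
  rw [Groth.Agent.S12765.result hX]
  intro W x U y
  have hU : FibCat.IsFibGrpd (FibCat.overCat U).p := FG.isFibGrpd_overForget U
  have hW : FibCat.IsFibGrpd (FibCat.overCat W).p := FG.isFibGrpd_overForget W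
  have hXU : FibCat.IsFibGrpd (FibCat.fp (BasedFunctor.comp y f) f).p :=
    SP.isFibGrpd_fp _ f hU hX hY
  have e0 : BasedFunctor.comp (BasedFunctor.id (FibCat.overCat U)) (BasedFunctor.comp y f) =
      BasedFunctor.comp y f := DR.basedFunctor_ext rfl
  let σ : FibCat.overCat U ⥤ᵇ FibCat.fp (BasedFunctor.comp y f) f :=
    FibCat.fpLift (BasedFunctor.id _) y (eqToIso e0)
  have e1 : BasedFunctor.comp σ (FibCat.fpSnd (BasedFunctor.comp y f) f) = y :=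
    DR.basedFunctor_ext rfl
  have hJ : AlgSt.RepByAlgSp (FibCat.fp (FibCat.fpSnd (BasedFunctor.comp y f) f) x) :=
    Groth.Agent.S12765.rep_of_equiv (PSR.paste (BasedFunctor.comp y f) x f)
      (PSR.paste_isEquivOver (BasedFunctor.comp y f) x f)
      ((Groth.Agent.S12765.result hY).mp hΔY W (BasedFunctor.comp x f) U (BasedFunctor.comp y f))
  have hJfib : FibCat.IsFibGrpd (FibCat.fp (FibCat.fpSnd (BasedFunctor.comp y f) f) x).p :=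
    SP.isFibGrpd_fp _ x hXU hW hX
  obtain ⟨I, eI, heI⟩ := hJ
  obtain ⟨eI', ⟨u1⟩, ⟨c1⟩⟩ := id heI
  have heI' : FibCat.IsEquivOver eI' := isEquivOver_symm eI eI' u1 c1
  have hσ : AlgSt.RepByAlgSp1 σ :=
    (Groth.Agent.S12765.result hXU).mp (hf U (BasedFunctor.comp y f)) U σ
  have h2 : AlgSt.RepByAlgSpWith ⊤
      (FibCat.fpSnd σ (FibCat.fpFst (FibCat.fpSnd (BasedFunctor.comp y f) f) x)) :=
    AB.repWith_fpSnd ⊤ σ _ ((rep1_iff_top σ).mp hσ)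
  have h3 := repWith_postcomp_equiv ⊤ _ eI' heI' h2
  have hfib : FibCat.IsFibGrpd
      (FibCat.fp σ (FibCat.fpFst (FibCat.fpSnd (BasedFunctor.comp y f) f) x)).p :=
    SP.isFibGrpd_fp σ _ hU hJfib hXU
  obtain ⟨H, e, he, -⟩ := AOS.exists_space_of_repWith_of_schLocal ⊤ DCN.top_schLocal hfib I _ h3
  have h4 : AlgSt.RepByAlgSp
      (FibCat.fp (BasedFunctor.comp σ (FibCat.fpSnd (BasedFunctor.comp y f) f)) x) :=
    Groth.Agent.S12765.rep_of_equiv' (PS.paste σ (FibCat.fpSnd (BasedFunctor.comp y f) f) x)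
      (PS.paste_isEquivOver σ (FibCat.fpSnd (BasedFunctor.comp y f) f) x) ⟨H, e, he⟩
  rw [e1] at h4
  exact h4

/-- **S15250** (any precoverage `K`) -/
theorem main_alg (K : Precoverage Scheme.{u}) {𝒳 𝒴 : AlgSt.Cat S}
    (h𝒳 : Stk.IsStack (QuotSh.J K S) 𝒳)
    (h𝒴 : AlgSt.IsAlgStack K 𝒴) (f : 𝒳 ⥤ᵇ 𝒴)
    (hf : ∀ (U : Over S) (g : FibCat.overCat U ⥤ᵇ 𝒴), AlgSt.IsAlgStack K (FibCat.fp g f)) :
    AlgSt.IsAlgStack K 𝒳 :=
  ⟨h𝒳, rep1_diag_of_fp h𝒳.1 h𝒴.isStack.1 h𝒴.diag f (fun U g => (hf U g).diag),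
    hasAtlas_of_fp (AlgSp.LocP @Smooth) AFP.sm_bc AFP.sm_cp CT.sm_schLocal h𝒳.1 f h𝒴.atlas
      (fun U g => (hf U g).atlas)⟩

/-- **S15251** (any precoverage `K`) -/
theorem main_dm (K : Precoverage Scheme.{u}) {𝒳 𝒴 : AlgSt.Cat S}
    (h𝒳 : Stk.IsStack (QuotSh.J K S) 𝒳)
    (h𝒴 : AlgSt.IsDM K 𝒴) (f : 𝒳 ⥤ᵇ 𝒴)
    (hf : ∀ (U : Over S) (g : FibCat.overCat U ⥤ᵇ 𝒴), AlgSt.IsDM K (FibCat.fp g f)) :
    AlgSt.IsDM K 𝒳 :=
  ⟨main_alg K h𝒳 h𝒴.1 f (fun U g => (hf U g).1),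
    hasAtlas_of_fp AlgSp.IsEtaleMor Groth.Agent.S17273.et_bc Groth.Agent.S17273.et_cp
      (ACov.schLocal_of_isLocalOnBase _ Groth.Agent.S17273.et_local) h𝒳.1 f h𝒴.2
      (fun U g => (hf U g).2)⟩

end Groth.Agent.Lib.Helper17.EFP
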