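import Groth.Agent.Lib.Helper17.LargestOpen7

set_option autoImplicit false
set_option backward.isDefEq.respectTransparency false
set_option backward.isDefEq.respectTransparency.types false
universe u

namespace Groth.Agent.Lib.Helper17.FBC

open CategoryTheory CategoryTheory.Limits AlgebraicGeometry Opposite AlgSp FibCat Stk AlgSt
open Groth.Agent.Lib.Helper17 Groth.Agent.Lib.Helper17.FP Groth.Agent.Lib.Helper17.EO
  Groth.Agent.Lib.Helper17.PD Groth.Agent.Lib.Helper17.AT Groth.Agent.Lib.Helper17.AB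
  Groth.Agent.Lib.Helper17.AOS Groth.Agent.Lib.Helper17.ACP Groth.Agent.Lib.Helper17.PTS
  Groth.Agent.Lib.Helper17.LQT Groth.Agent.Lib.Helper17.MSm
open Groth.Agent.Lib.Helper46 Groth.Agent.Lib.Helper46.LocPChart
open Groth.Agent.Lib.Helper10

variable {S : Scheme.{u}}

/-- **a chart on which the chart map is smooth lands in the largest open substack on which `f` is
smooth** -/
theorem mem_of_chart_smooth {𝒳 𝒴 : AlgSt.Cat S}
    (h𝒳 : AlgSt.IsAlgStack Scheme.fppfPrecoverage 𝒳)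
    (h𝒴 : AlgSt.IsAlgStack Scheme.fppfPrecoverage 𝒴) (f : 𝒳 ⥤ᵇ 𝒴)
    (Q : 𝒳.obj → Prop)
    (hQ₃ : ∀ Q' : 𝒳.obj → Prop, AlgSt.IsOpenSubstack 𝒳 Q' Scheme.fppfPrecoverage →
      AlgSt.LocQ (AlgSp.LocP @Smooth) (BasedFunctor.comp (AlgSt.subIncl 𝒳 Q') f) →
      ∀ a, Q' a → Q a)
    {U V : Over S} (x : FibCat.overCat U ⥤ᵇ 𝒳)
    (hxs : AlgSt.RepByAlgSpWith (LocP @Smooth) x)
    (v : FibCat.overCat V ⥤ᵇ 𝒴) (hvs : AlgSt.RepByAlgSpWith (LocP @Smooth) v) (h : U ⟶ V)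
    (α : BasedFunctor.comp x f ≅ BasedFunctor.comp (AlgSt.overMap h) v)
    (W : U.left.Opens) (hW : Smooth (W.ι ≫ h.left)) (u : ↥U.left) (hu : u ∈ W) :
    AlgSt.Points.ofChart x u ∈ Set.range (AlgSt.Points.map (AlgSt.subIncl 𝒳 Q)) := by
  have hX := h𝒳.isStack.1
  let W' : Over S := Over.mk (W.ι ≫ U.hom)
  let ιW : W' ⟶ U := Over.homMk W.ι rfl
  have hW'f : FibCat.IsFibGrpd (FibCat.overCat W').p := FG.isFibGrpd_overForget W'
  have hW'alg := SPS.isAlgStack_overCat W'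
  have hιsm : LocP @Smooth ((yon S).map ιW) := by
    apply Groth.Agent.Lib.Helper23.AlgSpMor.locP_yon_map_of
      Groth.Agent.Lib.Helper30.EtLocalInst.etLocal_smooth
    change Smooth W.ι
    infer_instance
  obtain ⟨k₀, hk₀def⟩ : ∃ k₀ : FibCat.overCat W' ⥤ᵇ 𝒳,
    k₀ = BasedFunctor.comp (AlgSt.overMap ιW) x := ⟨_, rfl⟩
  have hk₀ : AlgSt.RepByAlgSpWith (LocP @Smooth) k₀ := by
    rw [hk₀def]
    exact repWith_comp_of_schLocal' hW'f hX _ AFP.sm_bc AFP.sm_cp CT.sm_schLocal _ x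
      (CT.repWith_overMap _ AFP.sm_bc ιW hιsm) hxs
  have hk₀L : AlgSt.LocQ (LocP @Smooth) k₀ := locQ_smooth_of_repWith hW'alg h𝒳 k₀ hk₀
  have hT₁ : IsOpen (Set.range (AlgSt.Points.map k₀)) :=
    (isOpenMap_map_of_locQ_smooth hW'alg h𝒳 k₀ hk₀L).isOpen_range
  have hQ₁ := OST.isOpenSubstack_QT h𝒳 _ hT₁
  have hkQ : ∀ b, OST.QT (Set.range (AlgSt.Points.map k₀)) (k₀.obj b) :=
    fun b => OST.QT_range_obj hW'f hX k₀ b
  have e2 : BasedFunctor.comp (OST.liftSub _ k₀ hkQ)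
      (AlgSt.subIncl 𝒳 (OST.QT (Set.range (AlgSt.Points.map k₀)))) = k₀ :=
    DR.basedFunctor_ext rfl
  have hsm : AlgSt.LocQ (LocP @Smooth)
      (BasedFunctor.comp (AlgSt.subIncl 𝒳 (OST.QT (Set.range (AlgSt.Points.map k₀)))) f) := by
    have e3 : BasedFunctor.comp (OST.liftSub _ k₀ hkQ)
        (BasedFunctor.comp (AlgSt.subIncl 𝒳 (OST.QT (Set.range (AlgSt.Points.map k₀)))) f) =
        BasedFunctor.comp (AlgSt.overMap ιW) (BasedFunctor.comp x f) := by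
      subst hk₀def
      exact DR.basedFunctor_ext rfl
    have e4 : BasedFunctor.comp (AlgSt.overMap ιW) (BasedFunctor.comp (AlgSt.overMap h) v) =
        BasedFunctor.comp (AlgSt.overMap (ιW ≫ h)) v := by
      rw [overMap_comp]
      exact DR.basedFunctor_ext rfl
    let A' : (FibCat.overCat W' : AlgSt.Cat S) ⟶ FibCat.overCat U := AlgSt.overMap ιW
    have i1 : BasedFunctor.comp (AlgSt.overMap ιW) (BasedFunctor.comp x f) ≅
        BasedFunctor.comp (AlgSt.overMap ιW) (BasedFunctor.comp (AlgSt.overMap h) v) :=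
      Bicategory.whiskerLeftIso A' α
    refine ⟨W', V, OST.liftSub _ k₀ hkQ, v, ιW ≫ h, eqToIso e3 ≪≫ i1 ≪≫ eqToIso e4, ?_, ?_, hvs, ?_⟩
    · apply OST.repWith_of_comp_ff _ _
        (AlgSt.subIncl 𝒳 (OST.QT (Set.range (AlgSt.Points.map k₀))))
      rw [e2]
      exact hk₀
    · apply repWith_surj_of_isSurjective hW'alg hQ₁.2.1 _ (rep1_chart hQ₁.2.1 _)
      intro ξ
      have h1 : AlgSt.Points.map (AlgSt.subIncl 𝒳 (OST.QT (Set.range (AlgSt.Points.map k₀)))) ξ ∈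
          Set.range (AlgSt.Points.map
            (AlgSt.subIncl 𝒳 (OST.QT (Set.range (AlgSt.Points.map k₀))))) := ⟨ξ, rfl⟩
      rw [OST.range_QT] at h1
      obtain ⟨ω, hω⟩ := h1
      refine ⟨ω, ?_⟩
      apply OST.map_subIncl_injective hX _ (fun φ h => OST.QT_of_hom φ h)
      rw [← hω, ← map_comp, e2]
    · apply Groth.Agent.Lib.Helper23.AlgSpMor.locP_yon_map_of
        Groth.Agent.Lib.Helper30.EtLocalInst.etLocal_smooth
      exact hW
  have hsub := hQ₃ _ hQ₁ hsm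
  have hpt : AlgSt.Points.ofChart x u ∈ Set.range (AlgSt.Points.map k₀) := by
    have h0 : AlgSt.Points.ofChart k₀ (⟨u, hu⟩ : ↥W'.left) = AlgSt.Points.ofChart x u := by
      rw [hk₀def]
      exact ofChart_overMap ιW x ⟨u, hu⟩
    rw [← h0]
    exact ⟨_, (ofChart_eq_map k₀ _).symm⟩
  rw [← OST.range_QT (Set.range (AlgSt.Points.map k₀)), OST.mem_range_subIncl_iff] at hpt
  obtain ⟨p, hp, hpe⟩ := hpt
  rw [OST.mem_range_subIncl_iff]
  exact ⟨p, hsub _ hp, hpe⟩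

end Groth.Agent.Lib.Helper17.FBC
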