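import Mathlib
import Groth.Agent.Lib.Helper19.Sm.SmoothDescent
import Groth.Agent.Lib.Helper46.FppfSourceSch

set_option autoImplicit false
universe u

namespace Groth.Agent.Lib.Helper17.FBC

open CategoryTheory CategoryTheory.Limits AlgebraicGeometry

/-- **pointwise flat descent of smoothness, neighbourhood form**: in a cartesian square with `g` flat
and either `g` or `f` locally of finite presentation, if the base change `f'` is smooth on an open
neighbourhood of `z`, then `f` is smooth on an open neighbourhood of `g' z`. -/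
theorem exists_smooth_nhd {X Sb X' S' : Scheme.{u}} (f : X ⟶ Sb) (g : S' ⟶ Sb)
    (f' : X' ⟶ S') (g' : X' ⟶ X) (H : IsPullback g' f' f g) [Flat g]
    (hfp : LocallyOfFinitePresentation g ∨ LocallyOfFinitePresentation f)
    (z : X') (Z₀ : X'.Opens) (hz : z ∈ Z₀) (hsm : Smooth (Z₀.ι ≫ f')) :
    ∃ W : X.Opens, g' z ∈ W ∧ Smooth (W.ι ≫ f) := by
  rcases hfp with hg | hf
  · -- `g` is flat and locally of finite presentation
    have hg'fl : Flat g' := MorphismProperty.of_isPullback (P := @Flat) H.flip inferInstance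
    have hg'fp : LocallyOfFinitePresentation g' :=
      MorphismProperty.of_isPullback (P := @LocallyOfFinitePresentation) H.flip inferInstance
    have hopen : IsOpenMap g' := g'.isOpenMap
    let X₀ : X.Opens := ⟨g' '' (Z₀ : Set X'), hopen _ Z₀.2⟩
    have hle : Z₀ ≤ g' ⁻¹ᵁ X₀ := fun a ha => ⟨a, ha, rfl⟩
    -- the restriction `Z₀ ⟶ X₀` of `g'`
    let j := X'.homOfLE hle
    let e : (Z₀ : Scheme.{u}) ⟶ X₀ := j ≫ (g' ∣_ X₀)
    have he : e ≫ X₀.ι = Z₀.ι ≫ g' := by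
      change (j ≫ (g' ∣_ X₀)) ≫ X₀.ι = _
      rw [Category.assoc, morphismRestrict_ι, ← Category.assoc, Scheme.homOfLE_ι]
    have hefl : Flat e := by
      have : Flat (g' ∣_ X₀) := MorphismProperty.of_isPullback (P := @Flat)
        (isPullback_morphismRestrict g' X₀).flip inferInstance
      infer_instance
    have hefp : LocallyOfFinitePresentation e := by
      have : LocallyOfFinitePresentation (g' ∣_ X₀) :=
        MorphismProperty.of_isPullback (P := @LocallyOfFinitePresentation)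
          (isPullback_morphismRestrict g' X₀).flip inferInstance
      infer_instance
    have hesurj : Surjective e := by
      refine ⟨fun x₀ => ?_⟩
      obtain ⟨a, ha, hax⟩ := x₀.2
      refine ⟨(⟨a, ha⟩ : ↥(Z₀ : Scheme.{u})), ?_⟩
      apply X₀.ι.isOpenEmbedding.injective
      change (e ≫ X₀.ι) (⟨a, ha⟩ : ↥(Z₀ : Scheme.{u})) = _
      rw [he]
      exact hax
    have hcomp : LocallyOfFinitePresentation (e ≫ (X₀.ι ≫ f)) := by
      have e1 : e ≫ (X₀.ι ≫ f) = (Z₀.ι ≫ f') ≫ g := by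
        rw [← Category.assoc, he, Category.assoc, H.w, Category.assoc]
      rw [e1]
      infer_instance
    have hf₀ : LocallyOfFinitePresentation (X₀.ι ≫ f) :=
      Groth.Agent.Lib.Helper46.FppfSourceSch.locallyOfFinitePresentation_of_fppf_surjective_comp e _
    have H' : IsPullback (g' ∣_ X₀) ((g' ⁻¹ᵁ X₀).ι ≫ f') (X₀.ι ≫ f) g :=
      (isPullback_morphismRestrict g' X₀).paste_vert H
    have hf₀' : LocallyOfFinitePresentation ((g' ⁻¹ᵁ X₀).ι ≫ f') :=
      MorphismProperty.of_isPullback (P := @LocallyOfFinitePresentation) H' hf₀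
    have hj : j ≫ ((g' ⁻¹ᵁ X₀).ι ≫ f') = Z₀.ι ≫ f' := by
      rw [← Category.assoc, Scheme.homOfLE_ι]
    have hsm' : Smooth (j ≫ ((g' ⁻¹ᵁ X₀).ι ≫ f')) := by rw [hj]; exact hsm
    have hz' : j ⟨z, hz⟩ ∈ ((g' ⁻¹ᵁ X₀).ι ≫ f').smoothLocus := by
      have h2 := Scheme.Hom.preimage_smoothLocus_eq j ((g' ⁻¹ᵁ X₀).ι ≫ f')
      have h3 : (j ≫ ((g' ⁻¹ᵁ X₀).ι ≫ f')).smoothLocus = ⊤ := Scheme.Hom.smoothLocus_eq_top _
      rw [h3] at h2
      have h4 : (⟨z, hz⟩ : (Z₀ : Scheme.{u})) ∈ j ⁻¹ᵁ ((g' ⁻¹ᵁ X₀).ι ≫ f').smoothLocus := by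
        rw [h2]; trivial
      exact h4
    have hx := Groth.Agent.Lib.Helper19.mem_smoothLocus_of_isPullback_of_flat (X₀.ι ≫ f) g
      ((g' ⁻¹ᵁ X₀).ι ≫ f') (g' ∣_ X₀) H' (j ⟨z, hz⟩) hz'
    have hxe : X₀.ι ((g' ∣_ X₀) (j ⟨z, hz⟩)) = g' z := by
      change (e ≫ X₀.ι) (⟨z, hz⟩ : ↥(Z₀ : Scheme.{u})) = _
      rw [he]
      rfl
    refine ⟨X₀.ι ''ᵁ (X₀.ι ≫ f).smoothLocus, ⟨_, hx, hxe⟩, ?_⟩
    have hs0 : Smooth ((X₀.ι ≫ f).smoothLocus.ι ≫ (X₀.ι ≫ f)) :=
      Groth.Agent.Lib.Helper19.smooth_ι_smoothLocus _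
    have hiso := X₀.ι.isoImage_hom_ι (X₀.ι ≫ f).smoothLocus
    have e2 : (X₀.ι ''ᵁ (X₀.ι ≫ f).smoothLocus).ι ≫ f =
        (X₀.ι.isoImage (X₀.ι ≫ f).smoothLocus).inv ≫
          ((X₀.ι ≫ f).smoothLocus.ι ≫ (X₀.ι ≫ f)) := by
      rw [← Category.assoc (X₀.ι ≫ f).smoothLocus.ι, ← hiso, Category.assoc,
        Iso.inv_hom_id_assoc]
    rw [e2]
    infer_instance
  · -- `f` is locally of finite presentation
    have hf' : LocallyOfFinitePresentation f' :=
      MorphismProperty.of_isPullback (P := @LocallyOfFinitePresentation) H hf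
    have hz' : z ∈ f'.smoothLocus :=
      (Groth.Agent.Lib.Helper19.mem_smoothLocus_iff_exists_nhd f' z).mpr ⟨Z₀, hz, hsm⟩
    exact ⟨f.smoothLocus,
      Groth.Agent.Lib.Helper19.mem_smoothLocus_of_isPullback_of_flat f g f' g' H z hz',
      Groth.Agent.Lib.Helper19.smooth_ι_smoothLocus f⟩

end Groth.Agent.Lib.Helper17.FBC
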