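import Groth.Agent.Lib.Helper17.FlatBC1

set_option autoImplicit false
set_option backward.isDefEq.respectTransparency false
set_option backward.isDefEq.respectTransparency.types false
universe u

namespace Groth.Agent.Lib.Helper17.FBC

open CategoryTheory CategoryTheory.Limits AlgebraicGeometry Opposite AlgSp FibCat Stk AlgSt
open Groth.Agent.Lib.Helper17 Groth.Agent.Lib.Helper17.FP Groth.Agent.Lib.Helper17.EO
  Groth.Agent.Lib.Helper17.PD Groth.Agent.Lib.Helper17.AT Groth.Agent.Lib.Helper17.AB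
  Groth.Agent.Lib.Helper17.AOS Groth.Agent.Lib.Helper17.ACP Groth.Agent.Lib.Helper17.PTS
  Groth.Agent.Lib.Helper17.LQT Groth.Agent.Lib.Helper17.MSm
open Groth.Agent.Lib.Helper46 Groth.Agent.Lib.Helper46.LocPChart
open Groth.Agent.Lib.Helper10

variable {S : Scheme.{u}}

/-- cancelling a one-sided inverse of an equivalence in a composite -/
theorem comp_inv_iso {𝒜 ℬ 𝒞 𝒟 ℰ : AlgSt.Cat S} (R : 𝒟 ⥤ᵇ ℬ) (P₂ : 𝒜 ⥤ᵇ ℬ) (P₂' : ℬ ⥤ᵇ 𝒜)
    (cu : BasedFunctor.comp P₂' P₂ ≅ BasedFunctor.id ℬ) (T : 𝒜 ⥤ᵇ ℰ) (G : ℰ ⥤ᵇ 𝒞)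
    (G' : ℬ ⥤ᵇ 𝒞) (hG : BasedFunctor.comp T G = BasedFunctor.comp P₂ G') :
    Nonempty (BasedFunctor.comp (BasedFunctor.comp (BasedFunctor.comp R P₂') T) G ≅
      BasedFunctor.comp R G') := by
  have e1 : BasedFunctor.comp (BasedFunctor.comp (BasedFunctor.comp R P₂') T) G =
      BasedFunctor.comp R (BasedFunctor.comp (BasedFunctor.comp P₂' P₂) G') := by
    change BasedFunctor.comp R (BasedFunctor.comp P₂' (BasedFunctor.comp T G)) = _
    rw [hG]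
    exact DR.basedFunctor_ext rfl
  have e2 : BasedFunctor.comp R (BasedFunctor.comp (BasedFunctor.id ℬ) G') =
      BasedFunctor.comp R G' := DR.basedFunctor_ext rfl
  let R' : (𝒟 : AlgSt.Cat S) ⟶ ℬ := R
  let G'' : (ℬ : AlgSt.Cat S) ⟶ 𝒞 := G'
  have i1 : BasedFunctor.comp (BasedFunctor.comp P₂' P₂) G' ≅
      BasedFunctor.comp (BasedFunctor.id ℬ) G' :=
    Bicategory.whiskerRightIso
      (f := (BasedFunctor.comp P₂' P₂ : (ℬ : AlgSt.Cat S) ⟶ ℬ))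
      (g := (BasedFunctor.id ℬ : (ℬ : AlgSt.Cat S) ⟶ ℬ)) cu G''
  have i2 : BasedFunctor.comp R (BasedFunctor.comp (BasedFunctor.comp P₂' P₂) G') ≅
      BasedFunctor.comp R (BasedFunctor.comp (BasedFunctor.id ℬ) G') :=
    Bicategory.whiskerLeftIso R' i1
  exact ⟨eqToIso e1 ≪≫ i2 ≪≫ eqToIso e2⟩

section TW

variable {𝒜 𝒴 𝒴' : AlgSt.Cat S} {V : Over S} (v : FibCat.overCat V ⥤ᵇ 𝒴) (y : 𝒴' ⥤ᵇ 𝒴)
  (ψ' : 𝒜 ⥤ᵇ FibCat.fp v y)

theorem tw1_nat {c c' : 𝒜.obj} (α : c ⟶ c') :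
    (BasedFunctor.comp (BasedFunctor.comp ψ' (FibCat.fpSnd v y)) y).map α ≫
        (ψ'.obj c').obj.iso.symm.hom =
      (ψ'.obj c).obj.iso.symm.hom ≫
        (BasedFunctor.comp (BasedFunctor.comp ψ' (FibCat.fpFst v y)) v).map α := by
  have hw := (ψ'.map α).hom.w
  change y.map (ψ'.map α).hom.snd ≫ (ψ'.obj c').obj.iso.inv =
    (ψ'.obj c).obj.iso.inv ≫ v.map (ψ'.map α).hom.fst
  rw [Iso.comp_inv_eq, Category.assoc, Iso.eq_inv_comp]
  exact hw.symm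

theorem tw1_lift (c : 𝒜.obj) :
    𝒴.p.IsHomLift (𝟙 (𝒜.p.obj c)) (ψ'.obj c).obj.iso.symm.hom := by
  have h1 := iso_isHomLift (ψ'.obj c)
  have h2 : (FibCat.overCat V).p.obj (ψ'.obj c).obj.fst = 𝒜.p.obj c := ψ'.w_obj c
  rw [h2] at h1
  exact IsHomLift.lift_id_inv 𝒴.p _ (ψ'.obj c).obj.iso

end TW

/-- **the chart `V' ×_V U₁` of `𝒴' ×_𝒴 𝒳`** built from a chart `V'` of `V ×_𝒴 𝒴'` and a chart
`U₁` of `V ×_𝒴 𝒳` -/
theorem exists_fp_chart {𝒳 𝒴 𝒴' : AlgSt.Cat S}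
    (f : 𝒳 ⥤ᵇ 𝒴) (y : 𝒴' ⥤ᵇ 𝒴)
    {V V' U₁ : Over S} (v : FibCat.overCat V ⥤ᵇ 𝒴)
    (ψ' : FibCat.overCat V' ⥤ᵇ FibCat.fp v y)
    (ψ : FibCat.overCat U₁ ⥤ᵇ FibCat.fp v f)
    (hψs : AlgSt.RepByAlgSpWith (LocP @Smooth) ψ)
    (hψj : AlgSt.RepByAlgSpWith IsSurjectiveMor ψ) :
    ∃ ζ' : FibCat.overCat (pullback
        (Groth.Agent.S6443.fOf (BasedFunctor.comp ψ' (FibCat.fpFst v y)))
        (Groth.Agent.S6443.fOf (BasedFunctor.comp ψ (FibCat.fpFst v f)))) ⥤ᵇ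
        FibCat.fp (BasedFunctor.comp ψ' (FibCat.fpSnd v y)) (FibCat.fpFst y f),
      AlgSt.RepByAlgSpWith (LocP @Smooth) ζ' ∧ AlgSt.RepByAlgSpWith IsSurjectiveMor ζ' ∧
      Nonempty (BasedFunctor.comp ζ'
          (FibCat.fpFst (BasedFunctor.comp ψ' (FibCat.fpSnd v y)) (FibCat.fpFst y f)) ≅
        AlgSt.overMap (pullback.fst
          (Groth.Agent.S6443.fOf (BasedFunctor.comp ψ' (FibCat.fpFst v y)))
          (Groth.Agent.S6443.fOf (BasedFunctor.comp ψ (FibCat.fpFst v f))))) ∧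
      Nonempty (BasedFunctor.comp ζ'
          (BasedFunctor.comp
            (FibCat.fpSnd (BasedFunctor.comp ψ' (FibCat.fpSnd v y)) (FibCat.fpFst y f))
            (FibCat.fpSnd y f)) ≅
        BasedFunctor.comp (AlgSt.overMap (pullback.snd
          (Groth.Agent.S6443.fOf (BasedFunctor.comp ψ' (FibCat.fpFst v y)))
          (Groth.Agent.S6443.fOf (BasedFunctor.comp ψ (FibCat.fpFst v f)))))
          (BasedFunctor.comp ψ (FibCat.fpSnd v f))) := by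
  obtain ⟨cK, hcK⟩ : ∃ cK, cK = BasedFunctor.comp ψ' (FibCat.fpFst v y) := ⟨_, rfl⟩
  obtain ⟨cH, hcH⟩ : ∃ cH, cH = BasedFunctor.comp ψ (FibCat.fpFst v f) := ⟨_, rfl⟩
  obtain ⟨cv', hcv'⟩ : ∃ cv', cv' = BasedFunctor.comp ψ' (FibCat.fpSnd v y) := ⟨_, rfl⟩
  rw [← hcK, ← hcH, ← hcv']
  obtain ⟨k, hk⟩ : ∃ k, k = Groth.Agent.S6443.fOf cK := ⟨_, rfl⟩
  obtain ⟨h, hh⟩ : ∃ h, h = Groth.Agent.S6443.fOf cH := ⟨_, rfl⟩
  rw [← hk, ← hh]
  -- the square of sheaves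
  have sq0 : IsPullback (pullback.snd k h) (pullback.fst k h) h k :=
    (IsPullback.of_hasPullback k h).flip
  have sq1 : IsPullback ((yon S).map (pullback.snd k h)) ((yon S).map (pullback.fst k h))
      ((yon S).map h) ((yon S).map k) := sq0.map (yon S)
  rw [hh, hk, ← BRG.spMapOfOver_toOverCat, ← BRG.spMapOfOver_toOverCat, ← hh, ← hk] at sq1
  have sq2 := sq1.map (sheafToPresheaf (AlgSp.J S) (Type (u + 1)))
  have comm := PP.comm_of_isPullback sq2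
  have hE := PF.E_isEquivOver _ _ _ _ comm (PP.inj_of_isPullback sq2) (PP.surj_of_isPullback sq2)
  have hKK := FD.KK_isEquivOver cH cK (toOverCat U₁) (toOverCat V')
    (AD.toOverCat_isEquivOver U₁) (AD.toOverCat_isEquivOver V')
  obtain ⟨Ξ₀, hΞ₀def⟩ : ∃ Ξ₀ : FibCat.overCat (pullback k h) ⥤ᵇ FibCat.fp cK cH,
      Ξ₀ = BasedFunctor.comp (BasedFunctor.comp (ofOverCat (pullback k h))
        (PF.E _ _ _ _ comm)) (FD.KK cH cK (toOverCat U₁) (toOverCat V')) := ⟨_, rfl⟩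
  have hΞ₀ : FibCat.IsEquivOver Ξ₀ := by
    rw [hΞ₀def]
    exact isEquivOver_comp _ _ (isEquivOver_comp _ _ (AD.ofOverCat_isEquivOver _) hE) hKK
  have hΞ₀fst : BasedFunctor.comp Ξ₀ (FibCat.fpFst cK cH) = AlgSt.overMap (pullback.fst k h) := by
    have e0 : BasedFunctor.comp Ξ₀ (FibCat.fpFst cK cH) =
        BasedFunctor.comp (ofOverCat (pullback k h))
          (BasedFunctor.comp (ofSpMap ((yon S).map (pullback.fst k h))) (toOverCat V')) := by
      rw [hΞ₀def]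
      exact DR.basedFunctor_ext rfl
    rw [e0, ← toOverCat_overMap]
    change BasedFunctor.comp (BasedFunctor.comp (ofOverCat (pullback k h))
      (toOverCat (pullback k h))) (AlgSt.overMap (pullback.fst k h)) = _
    rw [AD.ofOverCat_toOverCat]
    exact DR.basedFunctor_ext rfl
  have hΞ₀snd : BasedFunctor.comp Ξ₀ (FibCat.fpSnd cK cH) = AlgSt.overMap (pullback.snd k h) := by
    have e0 : BasedFunctor.comp Ξ₀ (FibCat.fpSnd cK cH) =
        BasedFunctor.comp (ofOverCat (pullback k h))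
          (BasedFunctor.comp (ofSpMap ((yon S).map (pullback.snd k h))) (toOverCat U₁)) := by
      rw [hΞ₀def]
      exact DR.basedFunctor_ext rfl
    rw [e0, ← toOverCat_overMap]
    change BasedFunctor.comp (BasedFunctor.comp (ofOverCat (pullback k h))
      (toOverCat (pullback k h))) (AlgSt.overMap (pullback.snd k h)) = _
    rw [AD.ofOverCat_toOverCat]
    exact DR.basedFunctor_ext rfl
  clear hΞ₀def hE hKK comm sq2 sq1 sq0
  subst hcK hcH hcv'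
  obtain ⟨P₂', ⟨un⟩, ⟨cu⟩⟩ :=
    id (PS.paste_isEquivOver (BasedFunctor.comp ψ' (FibCat.fpFst v y)) v f)
  have hP₂' : FibCat.IsEquivOver P₂' := isEquivOver_symm _ P₂' un cu
  have hT : FibCat.IsEquivOver (BasedFunctor.comp
      (FI.tw (BasedFunctor.comp (BasedFunctor.comp ψ' (FibCat.fpFst v y)) v)
        (BasedFunctor.comp (BasedFunctor.comp ψ' (FibCat.fpSnd v y)) y) f
        (fun c => (ψ'.obj c).obj.iso.symm) (fun α => tw1_nat v y ψ' α) (fun c => tw1_lift v y ψ' c))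
      (PS.paste (BasedFunctor.comp ψ' (FibCat.fpSnd v y)) y f)) :=
    isEquivOver_comp _ _ (FI.tw_isEquivOver _ _ f _ _ _) (PS.paste_isEquivOver _ y f)
  have hR : ∀ (P' : MorphismProperty (AlgSp.Sp S)), AlgSt.RepByAlgSpWith P' ψ →
      AlgSt.RepByAlgSpWith P' (BasedFunctor.comp Ξ₀
        (PSR.toInner (BasedFunctor.comp ψ' (FibCat.fpFst v y)) ψ (FibCat.fpFst v f))) :=
    fun P' h' => FD.repWith_precomp_equiv P' Ξ₀ hΞ₀ _ (repWith_toInner P' _ ψ (FibCat.fpFst v f) h')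
  have hζ : ∀ (P' : MorphismProperty (AlgSp.Sp S)), AlgSt.RepByAlgSpWith P' ψ →
      AlgSt.RepByAlgSpWith P' (BasedFunctor.comp (BasedFunctor.comp (BasedFunctor.comp Ξ₀
        (PSR.toInner (BasedFunctor.comp ψ' (FibCat.fpFst v y)) ψ (FibCat.fpFst v f))) P₂')
        (BasedFunctor.comp
          (FI.tw (BasedFunctor.comp (BasedFunctor.comp ψ' (FibCat.fpFst v y)) v)
            (BasedFunctor.comp (BasedFunctor.comp ψ' (FibCat.fpSnd v y)) y) f
            (fun c => (ψ'.obj c).obj.iso.symm) (fun α => tw1_nat v y ψ' α)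
            (fun c => tw1_lift v y ψ' c))
          (PS.paste (BasedFunctor.comp ψ' (FibCat.fpSnd v y)) y f))) :=
    fun P' h' => repWith_postcomp_equiv P' _ _ hT
      (repWith_postcomp_equiv P' _ _ hP₂' (hR P' h'))
  refine ⟨_, hζ _ hψs, hζ _ hψj, ?_, ?_⟩
  · obtain ⟨i⟩ := comp_inv_iso (BasedFunctor.comp Ξ₀
        (PSR.toInner (BasedFunctor.comp ψ' (FibCat.fpFst v y)) ψ (FibCat.fpFst v f)))
      (PS.paste (BasedFunctor.comp ψ' (FibCat.fpFst v y)) v f) P₂' cu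
      (BasedFunctor.comp
          (FI.tw (BasedFunctor.comp (BasedFunctor.comp ψ' (FibCat.fpFst v y)) v)
            (BasedFunctor.comp (BasedFunctor.comp ψ' (FibCat.fpSnd v y)) y) f
            (fun c => (ψ'.obj c).obj.iso.symm) (fun α => tw1_nat v y ψ' α)
            (fun c => tw1_lift v y ψ' c))
          (PS.paste (BasedFunctor.comp ψ' (FibCat.fpSnd v y)) y f))
      (FibCat.fpFst (BasedFunctor.comp ψ' (FibCat.fpSnd v y)) (FibCat.fpFst y f))
      (FibCat.fpFst (BasedFunctor.comp ψ' (FibCat.fpFst v y)) (FibCat.fpFst v f))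
      (DR.basedFunctor_ext rfl)
    refine ⟨i ≪≫ eqToIso ?_⟩
    rw [← hΞ₀fst]
    exact DR.basedFunctor_ext rfl
  · obtain ⟨i⟩ := comp_inv_iso (BasedFunctor.comp Ξ₀
        (PSR.toInner (BasedFunctor.comp ψ' (FibCat.fpFst v y)) ψ (FibCat.fpFst v f)))
      (PS.paste (BasedFunctor.comp ψ' (FibCat.fpFst v y)) v f) P₂' cu
      (BasedFunctor.comp
          (FI.tw (BasedFunctor.comp (BasedFunctor.comp ψ' (FibCat.fpFst v y)) v)
            (BasedFunctor.comp (BasedFunctor.comp ψ' (FibCat.fpSnd v y)) y) f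
            (fun c => (ψ'.obj c).obj.iso.symm) (fun α => tw1_nat v y ψ' α)
            (fun c => tw1_lift v y ψ' c))
          (PS.paste (BasedFunctor.comp ψ' (FibCat.fpSnd v y)) y f))
      (BasedFunctor.comp
        (FibCat.fpSnd (BasedFunctor.comp ψ' (FibCat.fpSnd v y)) (FibCat.fpFst y f))
        (FibCat.fpSnd y f))
      (BasedFunctor.comp
        (FibCat.fpSnd (BasedFunctor.comp ψ' (FibCat.fpFst v y)) (FibCat.fpFst v f))
        (FibCat.fpSnd v f))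
      (DR.basedFunctor_ext rfl)
    refine ⟨i ≪≫ eqToIso ?_⟩
    rw [← hΞ₀snd]
    exact DR.basedFunctor_ext rfl

end Groth.Agent.Lib.Helper17.FBC
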