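import Groth.Agent.Lib.Helper17.FlatBC3

set_option autoImplicit false
set_option backward.isDefEq.respectTransparency false
set_option backward.isDefEq.respectTransparency.types false
universe u

namespace Groth.Agent.Lib.Helper17.FBC

open CategoryTheory CategoryTheory.Limits AlgebraicGeometry Opposite AlgSp FibCat Stk AlgSt
open Groth.Agent.Lib.Helper17 Groth.Agent.Lib.Helper17.FP Groth.Agent.Lib.Helper17.EO
  Groth.Agent.Lib.Helper17.PD Groth.Agent.Lib.Helper17.AT Groth.Agent.Lib.Helper17.AB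
  Groth.Agent.Lib.Helper17.AOS Groth.Agent.Lib.Helper17.ACP Groth.Agent.Lib.Helper17.PTS
  Groth.Agent.Lib.Helper17.LQT Groth.Agent.Lib.Helper17.MSm
open Groth.Agent.Lib.Helper46 Groth.Agent.Lib.Helper46.LocPChart
open Groth.Agent.Lib.Helper10

variable {S : Scheme.{u}}

/-- **a chart of `V ×_𝒴 𝒜` over a given `v : V ⟶ 𝒴`** on which the projection to `V` has `P`,
from a chart `q` of `𝒜` with `q ⋙ g` having `P` -/
theorem exists_chart_over (P : MorphismProperty (Sp S))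
    (hPet : ∀ ⦃X Y Z : Sp S⦄, IsAlgSpace X → IsAlgSpace Y → IsAlgSpace Z →
      ∀ (c : X ⟶ Y) (g : Y ⟶ Z), IsEtaleMor c → P g → P (c ≫ g))
    {𝒜 𝒴 : AlgSt.Cat S} (hA : FibCat.IsFibGrpd 𝒜.p) (hY : FibCat.IsFibGrpd 𝒴.p)
    (g : 𝒜 ⥤ᵇ 𝒴) {W : Over S} (q : FibCat.overCat W ⥤ᵇ 𝒜)
    (hqs : AlgSt.RepByAlgSpWith (LocP @Smooth) q) (hqj : AlgSt.RepByAlgSpWith IsSurjectiveMor q)
    (hq : AlgSt.RepByAlgSpWith P (BasedFunctor.comp q g))
    {V : Over S} (v : FibCat.overCat V ⥤ᵇ 𝒴) :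
    ∃ (T : Over S) (ψ : FibCat.overCat T ⥤ᵇ FibCat.fp v g),
      AlgSt.RepByAlgSpWith (LocP @Smooth) ψ ∧ AlgSt.RepByAlgSpWith IsSurjectiveMor ψ ∧
      P ((yon S).map (Groth.Agent.S6443.fOf (BasedFunctor.comp ψ (FibCat.fpFst v g)))) := by
  obtain ⟨F, e, he, hb⟩ := hq V v
  let Ψ : ofSp F.obj ⥤ᵇ FibCat.fp v g := BasedFunctor.comp e (PSR.toInner v q g)
  have hΨ : ∀ (P' : MorphismProperty (AlgSp.Sp S)), AlgSt.RepByAlgSpWith P' q →
      AlgSt.RepByAlgSpWith P' Ψ := fun P' h' =>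
    FD.repWith_precomp_equiv P' e he _ (repWith_toInner P' v q g h')
  have hΨfst : BasedFunctor.comp Ψ (FibCat.fpFst v g) =
      BasedFunctor.comp e (FibCat.fpFst v (BasedFunctor.comp q g)) := DR.basedFunctor_ext rfl
  obtain ⟨T, c, hce, hcs⟩ := F.property.atlas
  have hcet := ACov.isEtaleMor_of_repWith c hce
  have hcsm : LocP @Smooth c :=
    ACov.locP_of_isEtaleMor (fun _ _ f hf => by have := hf; infer_instance) c hcet
  have hcsurj : IsSurjectiveMor c := ACov.points_map_surjective c hcs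
  have hTf : FibCat.IsFibGrpd (FibCat.overCat T).p := FG.isFibGrpd_overForget T
  have hfpf : FibCat.IsFibGrpd (FibCat.fp v g).p :=
    SP.isFibGrpd_fp v g (FG.isFibGrpd_overForget V) hA hY
  refine ⟨T, BasedFunctor.comp (chartOf F.obj c) Ψ, ?_, ?_, ?_⟩
  · exact repWith_comp_of_schLocal' hTf hfpf _ AFP.sm_bc AFP.sm_cp CT.sm_schLocal _ Ψ
      (repWith_chartOf _ AFP.sm_bc F c hcsm) (hΨ _ hqs)
  · exact repWith_comp_of_schLocal' hTf hfpf _ DL.surj_bc DL.surj_cp CT.surj_schLocal _ Ψ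
      (repWith_chartOf _ DL.surj_bc F c hcsurj) (hΨ _ hqj)
  · rw [← BRG.spMapOfOver_toOverCat]
    have e1 : BasedFunctor.comp (toOverCat T)
        (BasedFunctor.comp (BasedFunctor.comp (chartOf F.obj c) Ψ) (FibCat.fpFst v g)) =
        BasedFunctor.comp (ofSpMap c)
          (BasedFunctor.comp e (FibCat.fpFst v (BasedFunctor.comp q g))) := by
      change BasedFunctor.comp (BasedFunctor.comp (BasedFunctor.comp (toOverCat T) (ofOverCat T))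
        (ofSpMap c)) (BasedFunctor.comp Ψ (FibCat.fpFst v g)) = _
      rw [AD.toOverCat_ofOverCat, hΨfst]
      rfl
    rw [e1, BRG.spMapOfOver_ofSpMap]
    exact hPet (IsAlgSpace.yon_obj T) F.property (IsAlgSpace.yon_obj V) c _ hcet hb

/-- the local statement `MSm.smooth_restr` with the chart square given up to isomorphism -/
theorem smooth_restr' {𝒳 𝒴 : AlgSt.Cat S} (h𝒳 : AlgSt.IsAlgStack Scheme.fppfPrecoverage 𝒳)
    (h𝒴 : AlgSt.IsAlgStack Scheme.fppfPrecoverage 𝒴) (f : 𝒳 ⥤ᵇ 𝒴)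
    (Q' : 𝒳.obj → Prop) (hQ' : AlgSt.IsOpenSubstack 𝒳 Q' Scheme.fppfPrecoverage)
    (hLQ' : AlgSt.LocQ (AlgSp.LocP @Smooth) (BasedFunctor.comp (AlgSt.subIncl 𝒳 Q') f))
    {U V : Over S} (y : FibCat.overCat V ⥤ᵇ 𝒴)
    (hys : AlgSt.RepByAlgSpWith (AlgSp.LocP @Smooth) y)
    (φ : FibCat.overCat U ⥤ᵇ FibCat.fp y f)
    (hφ : AlgSt.RepByAlgSpWith (AlgSp.LocP @Smooth) φ) (h : U ⟶ V)
    (eφ : BasedFunctor.comp φ (FibCat.fpFst y f) ≅ AlgSt.overMap h) :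
    Smooth ((OST.UT h𝒳 (Set.range (AlgSt.Points.map (AlgSt.subIncl 𝒳 Q')))
      (isOpen_range_subIncl h𝒳 Q' hQ') (BasedFunctor.comp φ (FibCat.fpSnd y f))).ι ≫ h.left) := by
  have hT' := isOpen_range_subIncl h𝒳 Q' hQ'
  let x₀ := BasedFunctor.comp φ (FibCat.fpSnd y f)
  have hVf : FibCat.IsFibGrpd (FibCat.overCat V).p := FG.isFibGrpd_overForget V
  have hfpf : FibCat.IsFibGrpd (FibCat.fp y f).p :=
    SP.isFibGrpd_fp _ _ hVf h𝒳.isStack.1 h𝒴.isStack.1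
  have hU'f : FibCat.IsFibGrpd (FibCat.overCat (OST.U' h𝒳 _ hT' x₀)).p :=
    FG.isFibGrpd_overForget _
  have hι'sm : LocP @Smooth ((yon S).map (OST.ι' h𝒳 _ hT' x₀)) := by
    apply Groth.Agent.Lib.Helper23.AlgSpMor.locP_yon_map_of
      Groth.Agent.Lib.Helper30.EtLocalInst.etLocal_smooth
    change Smooth (OST.UT h𝒳 _ hT' x₀).ι
    infer_instance
  let ψ : FibCat.overCat (OST.U' h𝒳 _ hT' x₀) ⥤ᵇ FibCat.fp y f :=
    BasedFunctor.comp (AlgSt.overMap (OST.ι' h𝒳 _ hT' x₀)) φ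
  have hψ : AlgSt.RepByAlgSpWith (LocP @Smooth) ψ :=
    repWith_comp_of_schLocal' hU'f hfpf _ AFP.sm_bc AFP.sm_cp CT.sm_schLocal _ _
      (CT.repWith_overMap _ AFP.sm_bc _ hι'sm) hφ
  have hψQ : ∀ B, Q' (ψ.obj B).obj.snd := by
    intro B
    rw [OST.Q_iff_QT_range h𝒳 Q' hQ']
    exact OST.QT_restr h𝒳 _ hT' x₀ B
  have hφ' := repWith_liftFp y f _ Q' ψ hψQ hψ
  have e1 : BasedFunctor.comp (liftFp y f Q' ψ hψQ)
      (FibCat.fpFst y (BasedFunctor.comp (AlgSt.subIncl 𝒳 Q') f)) =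
      BasedFunctor.comp (AlgSt.overMap (OST.ι' h𝒳 _ hT' x₀))
        (BasedFunctor.comp φ (FibCat.fpFst y f)) := by
    rw [liftFp_fst]
    exact DR.basedFunctor_ext rfl
  have e2 : BasedFunctor.comp (AlgSt.overMap (OST.ι' h𝒳 _ hT' x₀)) (AlgSt.overMap h) =
      AlgSt.overMap (OST.ι' h𝒳 _ hT' x₀ ≫ h) := (overMap_comp _ _).symm
  let A' : (FibCat.overCat (OST.U' h𝒳 _ hT' x₀) : AlgSt.Cat S) ⟶ FibCat.overCat U :=
    AlgSt.overMap (OST.ι' h𝒳 _ hT' x₀)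
  have i1 : BasedFunctor.comp (AlgSt.overMap (OST.ι' h𝒳 _ hT' x₀))
        (BasedFunctor.comp φ (FibCat.fpFst y f)) ≅
      BasedFunctor.comp (AlgSt.overMap (OST.ι' h𝒳 _ hT' x₀)) (AlgSt.overMap h) :=
    Bicategory.whiskerLeftIso A' eφ
  have := prop_of_locQ_of_smooth_chart' isSmoothLocalST_smooth hQ'.2.1 h𝒴
    (BasedFunctor.comp (AlgSt.subIncl 𝒳 Q') f) hLQ' y hys _ hφ' (OST.ι' h𝒳 _ hT' x₀ ≫ h)
    (eqToIso e1 ≪≫ i1 ≪≫ eqToIso e2)
  exact AlgSp.locP_yon_map this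

end Groth.Agent.Lib.Helper17.FBC
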