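import Groth.Agent.Lib.Helper17.FlatBC4
import Groth.Agent.Lib.Helper17.FlatBC2

set_option autoImplicit false
set_option backward.isDefEq.respectTransparency false
set_option backward.isDefEq.respectTransparency.types false
universe u

namespace Groth.Agent.Lib.Helper17.FBC

open CategoryTheory CategoryTheory.Limits AlgebraicGeometry Opposite AlgSp FibCat Stk AlgSt
open Groth.Agent.Lib.Helper17 Groth.Agent.Lib.Helper17.FP Groth.Agent.Lib.Helper17.EO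
  Groth.Agent.Lib.Helper17.PD Groth.Agent.Lib.Helper17.AT Groth.Agent.Lib.Helper17.AB
  Groth.Agent.Lib.Helper17.AOS Groth.Agent.Lib.Helper17.ACP Groth.Agent.Lib.Helper17.PTS
  Groth.Agent.Lib.Helper17.LQT Groth.Agent.Lib.Helper17.MSm
open Groth.Agent.Lib.Helper46 Groth.Agent.Lib.Helper46.LocPChart
open Groth.Agent.Lib.Helper10

variable {S : Scheme.{u}}

/-- the chart square of `f` given by a chart of `V ×_𝒴 𝒳` -/
theorem exists_alpha {𝒳 𝒴 : AlgSt.Cat S} (f : 𝒳 ⥤ᵇ 𝒴) {V U₁ : Over S}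
    (v : FibCat.overCat V ⥤ᵇ 𝒴) (ψ : FibCat.overCat U₁ ⥤ᵇ FibCat.fp v f) :
    Nonempty (BasedFunctor.comp (BasedFunctor.comp ψ (FibCat.fpSnd v f)) f ≅
      BasedFunctor.comp (AlgSt.overMap
        (Groth.Agent.S6443.fOf (BasedFunctor.comp ψ (FibCat.fpFst v f)))) v) := by
  let Ψ : (FibCat.overCat U₁ : AlgSt.Cat S) ⟶ FibCat.fp v f := ψ
  let v' : (FibCat.overCat V : AlgSt.Cat S) ⟶ 𝒴 := v
  have i1 : BasedFunctor.comp ψ (BasedFunctor.comp (FibCat.fpFst v f) v) ≅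
      BasedFunctor.comp ψ (BasedFunctor.comp (FibCat.fpSnd v f) f) :=
    Bicategory.whiskerLeftIso Ψ (FibCat.fpIso v f)
  have i2 : BasedFunctor.comp (BasedFunctor.comp ψ (FibCat.fpFst v f)) v ≅
      BasedFunctor.comp (AlgSt.overMap
        (Groth.Agent.S6443.fOf (BasedFunctor.comp ψ (FibCat.fpFst v f)))) v :=
    Bicategory.whiskerRightIso
      (f := (BasedFunctor.comp ψ (FibCat.fpFst v f) :
        (FibCat.overCat U₁ : AlgSt.Cat S) ⟶ FibCat.overCat V))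
      (g := (AlgSt.overMap (Groth.Agent.S6443.fOf (BasedFunctor.comp ψ (FibCat.fpFst v f))) :
        (FibCat.overCat U₁ : AlgSt.Cat S) ⟶ FibCat.overCat V))
      (Groth.Agent.S6443.isoOverMap (BasedFunctor.comp ψ (FibCat.fpFst v f))) v'
  have e1 : BasedFunctor.comp (BasedFunctor.comp ψ (FibCat.fpSnd v f)) f =
      BasedFunctor.comp ψ (BasedFunctor.comp (FibCat.fpSnd v f) f) := DR.basedFunctor_ext rfl
  have e2 : BasedFunctor.comp ψ (BasedFunctor.comp (FibCat.fpFst v f) v) =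
      BasedFunctor.comp (BasedFunctor.comp ψ (FibCat.fpFst v f)) v := DR.basedFunctor_ext rfl
  exact ⟨eqToIso e1 ≪≫ i1.symm ≪≫ eqToIso e2 ≪≫ i2⟩

/-- **maximality after base change, given the charts** -/
theorem maximal_of_charts {𝒳 𝒴 𝒴' : AlgSt.Cat S}
    (h𝒳 : AlgSt.IsAlgStack Scheme.fppfPrecoverage 𝒳)
    (h𝒴 : AlgSt.IsAlgStack Scheme.fppfPrecoverage 𝒴)
    (h𝒴' : AlgSt.IsAlgStack Scheme.fppfPrecoverage 𝒴')
    (f : 𝒳 ⥤ᵇ 𝒴) (y : 𝒴' ⥤ᵇ 𝒴)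
    (Q : 𝒳.obj → Prop) (hQ₁ : AlgSt.IsOpenSubstack 𝒳 Q Scheme.fppfPrecoverage)
    (hQ₃ : ∀ Q' : 𝒳.obj → Prop, AlgSt.IsOpenSubstack 𝒳 Q' Scheme.fppfPrecoverage →
      AlgSt.LocQ (AlgSp.LocP @Smooth) (BasedFunctor.comp (AlgSt.subIncl 𝒳 Q') f) →
      ∀ a, Q' a → Q a)
    {V V' U₁ : Over S} (v : FibCat.overCat V ⥤ᵇ 𝒴)
    (hvs : AlgSt.RepByAlgSpWith (LocP @Smooth) v)
    (hvj : AlgSt.RepByAlgSpWith IsSurjectiveMor v)
    (ψ' : FibCat.overCat V' ⥤ᵇ FibCat.fp v y)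
    (hψ's : AlgSt.RepByAlgSpWith (LocP @Smooth) ψ')
    (hψ'j : AlgSt.RepByAlgSpWith IsSurjectiveMor ψ')
    (ψ : FibCat.overCat U₁ ⥤ᵇ FibCat.fp v f)
    (hψs : AlgSt.RepByAlgSpWith (LocP @Smooth) ψ)
    (hψj : AlgSt.RepByAlgSpWith IsSurjectiveMor ψ)
    (hfl : Flat (Groth.Agent.S6443.fOf (BasedFunctor.comp ψ' (FibCat.fpFst v y))).left)
    (hfp : LocallyOfFinitePresentation
        (Groth.Agent.S6443.fOf (BasedFunctor.comp ψ' (FibCat.fpFst v y))).left ∨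
      LocallyOfFinitePresentation
        (Groth.Agent.S6443.fOf (BasedFunctor.comp ψ (FibCat.fpFst v f))).left)
    (Q' : (FibCat.fp y f).obj → Prop)
    (hQ'₁ : AlgSt.IsOpenSubstack (FibCat.fp y f) Q' Scheme.fppfPrecoverage)
    (hQ'₂ : AlgSt.LocQ (AlgSp.LocP @Smooth)
      (BasedFunctor.comp (AlgSt.subIncl (FibCat.fp y f) Q') (FibCat.fpFst y f))) :
    ∀ b, Q' b → Q b.obj.snd := by
  have hX := h𝒳.isStack.1
  have hY := h𝒴.isStack.1
  have hY' := h𝒴'.isStack.1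
  have h𝒲 : AlgSt.IsAlgStack Scheme.fppfPrecoverage (FibCat.fp y f) :=
    AFP.isAlgStack_fp h𝒴.isStack h𝒴.diag h𝒴' h𝒳 y f
  have hW := h𝒲.isStack.1
  have hV'f : FibCat.IsFibGrpd (FibCat.overCat V').p := FG.isFibGrpd_overForget V'
  have hU₁f : FibCat.IsFibGrpd (FibCat.overCat U₁).p := FG.isFibGrpd_overForget U₁
  obtain ⟨ζ', hζ's, hζ'j, ⟨i1⟩, ⟨i2⟩⟩ := exists_fp_chart f y v ψ' ψ hψs hψj
  obtain ⟨α⟩ := exists_alpha f v ψ
  have hcv's : AlgSt.RepByAlgSpWith (LocP @Smooth) (BasedFunctor.comp ψ' (FibCat.fpSnd v y)) :=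
    repWith_comp_of_schLocal' hV'f hY' _ AFP.sm_bc AFP.sm_cp CT.sm_schLocal ψ' (FibCat.fpSnd v y)
      hψ's (AB.repWith_fpSnd _ v y hvs)
  have hcv'j : AlgSt.RepByAlgSpWith IsSurjectiveMor (BasedFunctor.comp ψ' (FibCat.fpSnd v y)) :=
    repWith_comp_of_schLocal' hV'f hY' _ DL.surj_bc DL.surj_cp CT.surj_schLocal ψ'
      (FibCat.fpSnd v y) hψ'j (AB.repWith_fpSnd _ v y hvj)
  have hcx₁s : AlgSt.RepByAlgSpWith (LocP @Smooth) (BasedFunctor.comp ψ (FibCat.fpSnd v f)) :=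
    repWith_comp_of_schLocal' hU₁f hX _ AFP.sm_bc AFP.sm_cp CT.sm_schLocal ψ (FibCat.fpSnd v f)
      hψs (AB.repWith_fpSnd _ v f hvs)
  have hfp'f : FibCat.IsFibGrpd (FibCat.fp (BasedFunctor.comp ψ' (FibCat.fpSnd v y))
      (FibCat.fpFst y f)).p := SP.isFibGrpd_fp _ _ hV'f hW hY'
  have hζsurj : AlgSt.IsSurjective (BasedFunctor.comp ζ'
      (FibCat.fpSnd (BasedFunctor.comp ψ' (FibCat.fpSnd v y)) (FibCat.fpFst y f))) :=
    isSurjective_comp _ _ (isSurjective_of_repWith hfp'f ζ' hζ'j)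
      (isSurjective_of_repWith hW _ (AB.repWith_fpSnd _ _ (FibCat.fpFst y f) hcv'j))
  have hT' := isOpen_range_subIncl h𝒲 Q' hQ'₁
  have hsm := smooth_restr' h𝒲 h𝒴' (FibCat.fpFst y f) Q' hQ'₁ hQ'₂
    (BasedFunctor.comp ψ' (FibCat.fpSnd v y)) hcv's ζ' hζ's _ i1
  have H : IsPullback
      (pullback.snd (Groth.Agent.S6443.fOf (BasedFunctor.comp ψ' (FibCat.fpFst v y)))
        (Groth.Agent.S6443.fOf (BasedFunctor.comp ψ (FibCat.fpFst v f)))).left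
      (pullback.fst (Groth.Agent.S6443.fOf (BasedFunctor.comp ψ' (FibCat.fpFst v y)))
        (Groth.Agent.S6443.fOf (BasedFunctor.comp ψ (FibCat.fpFst v f)))).left
      (Groth.Agent.S6443.fOf (BasedFunctor.comp ψ (FibCat.fpFst v f))).left
      (Groth.Agent.S6443.fOf (BasedFunctor.comp ψ' (FibCat.fpFst v y))).left :=
    ((IsPullback.of_hasPullback
      (Groth.Agent.S6443.fOf (BasedFunctor.comp ψ' (FibCat.fpFst v y)))
      (Groth.Agent.S6443.fOf (BasedFunctor.comp ψ (FibCat.fpFst v f)))).flip).map (Over.forget S)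
  intro b hb
  rw [OST.Q_iff_QT_range h𝒳 Q hQ₁]
  have hb' := (OST.Q_iff_QT_range h𝒲 Q' hQ'₁ b).mp hb
  change OST.QT _ ((FibCat.fpSnd y f).obj b)
  rw [QT_comp_iff hW hX (FibCat.fpSnd y f)]
  refine OST.QT_mono ?_ hb'
  intro w hw
  change AlgSt.Points.map (FibCat.fpSnd y f) w ∈
    Set.range (AlgSt.Points.map (AlgSt.subIncl 𝒳 Q))
  obtain ⟨z, rfl⟩ := ofChart_surjective _ hζsurj w
  have := hfl
  obtain ⟨W, hzW, hWsm⟩ := exists_smooth_nhd _ _ _ _ H hfp z _ hw hsm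
  have hmem := mem_of_chart_smooth h𝒳 h𝒴 f Q hQ₃ _ hcx₁s v hvs _ α W hWsm _ hzW
  have e : AlgSt.Points.map (FibCat.fpSnd y f) (AlgSt.Points.ofChart (BasedFunctor.comp ζ'
      (FibCat.fpSnd (BasedFunctor.comp ψ' (FibCat.fpSnd v y)) (FibCat.fpFst y f))) z) =
      AlgSt.Points.ofChart (BasedFunctor.comp ψ (FibCat.fpSnd v f))
        ((pullback.snd
          (Groth.Agent.S6443.fOf (BasedFunctor.comp ψ' (FibCat.fpFst v y)))
          (Groth.Agent.S6443.fOf (BasedFunctor.comp ψ (FibCat.fpFst v f)))).left z) := by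
    rw [← ofChart_overMap, ← ofChart_congr i2 z]
    rfl
  rw [e]
  exact hmem

end Groth.Agent.Lib.Helper17.FBC
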