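import Groth.Agent.Lib.Helper17.FlatBC5
import Groth.Agent.Lib.Helper10.QcOpen

set_option autoImplicit false
set_option backward.isDefEq.respectTransparency false
set_option backward.isDefEq.respectTransparency.types false
universe u

namespace Groth.Agent.Lib.Helper17.FBC

open CategoryTheory CategoryTheory.Limits AlgebraicGeometry Opposite AlgSp FibCat Stk AlgSt
open Groth.Agent.Lib.Helper17 Groth.Agent.Lib.Helper17.FP Groth.Agent.Lib.Helper17.EO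
  Groth.Agent.Lib.Helper17.PD Groth.Agent.Lib.Helper17.AT Groth.Agent.Lib.Helper17.AB
  Groth.Agent.Lib.Helper17.AOS Groth.Agent.Lib.Helper17.ACP Groth.Agent.Lib.Helper17.PTS
  Groth.Agent.Lib.Helper17.LQT Groth.Agent.Lib.Helper17.MSm
open Groth.Agent.Lib.Helper46 Groth.Agent.Lib.Helper46.LocPChart
open Groth.Agent.Lib.Helper10

variable {S : Scheme.{u}}

/-- precomposition with etale maps for `LocP Q`, `Q` good -/
theorem good_precomp_et {Q : MorphismProperty Scheme.{u}} (hQ : Good Q) ⦃X Y Z : Sp S⦄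
    (hX : IsAlgSpace X) (hY : IsAlgSpace Y) (hZ : IsAlgSpace Z)
    (c : X ⟶ Y) (g : Y ⟶ Z) (hc : IsEtaleMor c) (hg : LocP Q g) : LocP Q (c ≫ g) :=
  (hQ.cp S) hX hY hZ c g (ACov.locP_of_isEtaleMor (fun _ _ f hf => hQ.of_etale f hf) c hc) hg

/-- **the projection of the inverse image of the smooth locus is smooth** -/
theorem locQ_smooth_preimage {𝒳 𝒴 𝒴' : AlgSt.Cat S}
    (h𝒳 : AlgSt.IsAlgStack Scheme.fppfPrecoverage 𝒳)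
    (h𝒴 : AlgSt.IsAlgStack Scheme.fppfPrecoverage 𝒴)
    (h𝒴' : AlgSt.IsAlgStack Scheme.fppfPrecoverage 𝒴')
    (f : 𝒳 ⥤ᵇ 𝒴) (y : 𝒴' ⥤ᵇ 𝒴)
    (Q : 𝒳.obj → Prop) (hQ₁ : AlgSt.IsOpenSubstack 𝒳 Q Scheme.fppfPrecoverage)
    (hQ₂ : AlgSt.LocQ (AlgSp.LocP @Smooth) (BasedFunctor.comp (AlgSt.subIncl 𝒳 Q) f)) :
    AlgSt.IsOpenSubstack (FibCat.fp y f) (fun b ↦ Q b.obj.snd) Scheme.fppfPrecoverage ∧
    AlgSt.LocQ (AlgSp.LocP @Smooth)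
      (BasedFunctor.comp (AlgSt.subIncl (FibCat.fp y f) fun b ↦ Q b.obj.snd)
        (FibCat.fpFst y f)) := by
  have h𝒲 : AlgSt.IsAlgStack Scheme.fppfPrecoverage (FibCat.fp y f) :=
    AFP.isAlgStack_fp h𝒴.isStack h𝒴.diag h𝒴' h𝒳 y f
  have hQg : AlgSt.IsOpenSubstack (FibCat.fp y f) (fun b ↦ Q b.obj.snd)
      Scheme.fppfPrecoverage := isOpenSubstack_comp h𝒲 h𝒳 (FibCat.fpSnd y f) Q hQ₁
  refine ⟨hQg, ?_⟩
  have hfull : (AlgSt.subIncl (FibCat.fp y f) fun b ↦ Q b.obj.snd).toFunctor.Full :=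
    OST.subIncl_full _
  have hfaith : (AlgSt.subIncl (FibCat.fp y f) fun b ↦ Q b.obj.snd).toFunctor.Faithful :=
    OST.subIncl_faithful _
  have hL := LG.liftFp_isEquivOver_gen f y (AlgSt.subIncl (FibCat.fp y f) fun b ↦ Q b.obj.snd)
    hfull hfaith Q (fun a => a.property)
    (fun ξ hξ => LG.essIm_obj (AlgSt.subIncl (FibCat.fp y f) fun b ↦ Q b.obj.snd) ⟨ξ, hξ⟩)
  have h1 : AlgSt.LocQ (LocP @Smooth)
      (FibCat.fpFst y (BasedFunctor.comp (AlgSt.subIncl 𝒳 Q) f)) :=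
    locQ_fpFst_abs isSmoothLocalST_smooth AFP.sm_bc hQ₁.2.1 h𝒴 h𝒴' _ y hQ₂
  have hfp2 : AlgSt.IsAlgStack Scheme.fppfPrecoverage
      (FibCat.fp y (BasedFunctor.comp (AlgSt.subIncl 𝒳 Q) f)) :=
    AFP.isAlgStack_fp h𝒴.isStack h𝒴.diag h𝒴' hQ₁.2.1 y _
  have hLs := locQ_smooth_of_repWith hQg.2.1 hfp2 _
    (QCO.repWith_of_isEquivOver (LocP @Smooth)
      (fun U => Groth.Agent.Lib.Helper46.STLocal.sm_id _) _ hL)
  have := locQ_smooth_comp hQg.2.1 hfp2 h𝒴' _ _ hLs h1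
  rw [liftFp_fst] at this
  exact this

/-- **S19909** -/
theorem main {𝒳 𝒴 𝒴' : AlgSt.Cat S}
    (h𝒳 : AlgSt.IsAlgStack Scheme.fppfPrecoverage 𝒳)
    (h𝒴 : AlgSt.IsAlgStack Scheme.fppfPrecoverage 𝒴)
    (h𝒴' : AlgSt.IsAlgStack Scheme.fppfPrecoverage 𝒴')
    (f : 𝒳 ⥤ᵇ 𝒴) (y : 𝒴' ⥤ᵇ 𝒴) (hy : AlgSt.LocQ (AlgSp.LocP @Flat) y)
    (hfp : AlgSt.LocQ (AlgSp.LocP @LocallyOfFinitePresentation) y ∨
      AlgSt.LocQ (AlgSp.LocP @LocallyOfFinitePresentation) f)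
    (Q : 𝒳.obj → Prop) (hQ₁ : AlgSt.IsOpenSubstack 𝒳 Q Scheme.fppfPrecoverage)
    (hQ₂ : AlgSt.LocQ (AlgSp.LocP @Smooth) (BasedFunctor.comp (AlgSt.subIncl 𝒳 Q) f))
    (hQ₃ : ∀ Q' : 𝒳.obj → Prop, AlgSt.IsOpenSubstack 𝒳 Q' Scheme.fppfPrecoverage →
      AlgSt.LocQ (AlgSp.LocP @Smooth) (BasedFunctor.comp (AlgSt.subIncl 𝒳 Q') f) → ∀ a, Q' a → Q a) :
    AlgSt.IsOpenSubstack (FibCat.fp y f) (fun b ↦ Q b.obj.snd) Scheme.fppfPrecoverage ∧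
      AlgSt.LocQ (AlgSp.LocP @Smooth)
        (BasedFunctor.comp (AlgSt.subIncl (FibCat.fp y f) fun b ↦ Q b.obj.snd) (FibCat.fpFst y f)) ∧
      ∀ Q' : (FibCat.fp y f).obj → Prop, AlgSt.IsOpenSubstack (FibCat.fp y f) Q' Scheme.fppfPrecoverage →
        AlgSt.LocQ (AlgSp.LocP @Smooth) (BasedFunctor.comp (AlgSt.subIncl (FibCat.fp y f) Q') (FibCat.fpFst y f)) →
        ∀ b, Q' b → Q b.obj.snd := by
  obtain ⟨h1, h2⟩ := locQ_smooth_preimage h𝒳 h𝒴 h𝒴' f y Q hQ₁ hQ₂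
  refine ⟨h1, h2, ?_⟩
  intro Q' hQ'₁ hQ'₂
  have hX := h𝒳.isStack.1
  have hY := h𝒴.isStack.1
  have hY' := h𝒴'.isStack.1
  obtain ⟨V, v, hvs, hvj⟩ := h𝒴.atlas
  rcases hfp with hy2 | hf2
  · obtain ⟨W', q', hq's, hq'j, hq'fl, hq'fp⟩ := exists_flat_lfp_chart h𝒴' h𝒴 y hy hy2
    have hq' := DL2.repWith_inf' (LocP @Flat) (LocP @LocallyOfFinitePresentation)
      (good_lfp.bc S) _ hq'fl hq'fp
    obtain ⟨V', ψ', hψ's, hψ'j, hk⟩ := exists_chart_over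
      (LocP @Flat ⊓ LocP @LocallyOfFinitePresentation)
      (fun X Y Z hX hY hZ c g hc hg => ⟨good_precomp_et good_flat hX hY hZ c g hc hg.1,
        good_precomp_et good_lfp hX hY hZ c g hc hg.2⟩) hY' hY y q' hq's hq'j hq' v
    obtain ⟨U, x, hxs, hxj⟩ := h𝒳.atlas
    obtain ⟨U₁, ψ, hψs, hψj, -⟩ := exists_chart_over ⊤
      (fun _ _ _ _ _ _ _ _ _ _ => trivial) hX hY f x hxs hxj
      ((rep1_iff_top _).mp (rep1_chart h𝒴 _)) v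
    exact maximal_of_charts h𝒳 h𝒴 h𝒴' f y Q hQ₁ hQ₃ v hvs hvj ψ' hψ's hψ'j ψ hψs hψj
      (AlgSp.locP_yon_map hk.1) (Or.inl (AlgSp.locP_yon_map hk.2)) Q' hQ'₁ hQ'₂
  · obtain ⟨W', q', hq's, hq'j, hq'⟩ := exists_chart_of_locQ good_flat hY y hy
    obtain ⟨V', ψ', hψ's, hψ'j, hk⟩ := exists_chart_over (LocP @Flat)
      (good_precomp_et good_flat) hY' hY y q' hq's hq'j hq' v
    obtain ⟨W, q, hqs, hqj, hq⟩ := exists_chart_of_locQ good_lfp hY f hf2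
    obtain ⟨U₁, ψ, hψs, hψj, hh⟩ := exists_chart_over (LocP @LocallyOfFinitePresentation)
      (good_precomp_et good_lfp) hX hY f q hqs hqj hq v
    exact maximal_of_charts h𝒳 h𝒴 h𝒴' f y Q hQ₁ hQ₃ v hvs hvj ψ' hψ's hψ'j ψ hψs hψj
      (AlgSp.locP_yon_map hk) (Or.inr (AlgSp.locP_yon_map hh)) Q' hQ'₁ hQ'₂

end Groth.Agent.Lib.Helper17.FBC
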