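import Groth.Agent.Lib.Helper17.FppfDescent
import Groth.Agent.Lib.Helper17.Bridge
import Groth.Agent.Lib.Helper23.AlgSpNoeth2
import Groth.Agent.Lib.Helper46.EtLocal

set_option autoImplicit false
set_option backward.isDefEq.respectTransparency false
set_option backward.isDefEq.respectTransparency.types false
universe u

namespace Groth.Agent.Lib.Helper17.FDF

open CategoryTheory CategoryTheory.Limits AlgebraicGeometry Opposite FibCat Stk AlgSt
open Groth.Agent.Lib.Helper17 Groth.Agent.Lib.Helper17.PD Groth.Agent.Lib.Helper17.EO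
  Groth.Agent.Lib.Helper17.AT Groth.Agent.Lib.Helper17.AB Groth.Agent.Lib.Helper17.FI
  Groth.Agent.Lib.Helper17.PS

variable {S : Scheme.{u}}

/-- an fppf covering sieve of `U` contains an fppf covering family indexed by the points of `U` -/
theorem exists_family_of_mem_J {U : Over S} (R : Sieve U)
    (hR : R ∈ (QuotSh.J Scheme.fppfPrecoverage S) U) :
    ∃ (V : ↥U.left → Over S) (h : ∀ t, V t ⟶ U),
      (∀ t, R.arrows (h t)) ∧ (∀ t, Flat (h t).left) ∧
      (∀ t, LocallyOfFinitePresentation (h t).left) ∧ ∀ t, t ∈ Set.range (h t).left := by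
  have hR' : Sieve.overEquiv U R ∈ Scheme.fppfPrecoverage.toGrothendieck U.left := hR
  have hci : (@Flat ⊓ @LocallyOfFinitePresentation : MorphismProperty Scheme.{u}).ContainsIdentities :=
    ⟨fun X => ⟨inferInstance, inferInstance⟩⟩
  have : Scheme.fppfPrecoverage.{u}.HasIsos := by
    unfold Scheme.fppfPrecoverage
    infer_instance
  rw [Precoverage.mem_toGrothendieck_iff_of_isStableUnderComposition] at hR'
  obtain ⟨T, hT, hle⟩ := hR'
  have hT1 : T ∈ Scheme.jointlySurjectivePrecoverage U.left := hT.1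
  have hT2 : T ∈ (@Flat ⊓ @LocallyOfFinitePresentation : MorphismProperty Scheme.{u}).precoverage U.left :=
    hT.2
  rw [Presieve.mem_comap_jointlySurjectivePrecoverage_iff] at hT1
  choose Y f hTf hx using hT1
  refine ⟨fun t => Over.mk (f t ≫ U.hom), fun t => Over.homMk (f t), ?_, ?_, ?_, ?_⟩
  · intro t
    have := hle _ _ (hTf t)
    exact (Sieve.overEquiv_iff R (f t)).mp this
  · intro t
    exact (hT2 (hTf t)).1
  · intro t
    exact (hT2 (hTf t)).2
  · intro t
    exact hx t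


/-- the base change of the structure map of a representing space along a represented cover has
`P`, if the corresponding base change of functors has `P` -/
theorem snd_of_repWith (P : MorphismProperty (AlgSp.Sp S)) (hPb : ACP.BC P)
    (hsl : ACov.SchLocal P) {𝒜 𝒱 : AlgSt.Cat S} {U : Over S}
    (g : 𝒜 ⥤ᵇ FibCat.overCat U) (c : 𝒱 ⥤ᵇ FibCat.overCat U)
    (F G : AlgSp.Space S) (e : ofSp F.obj ⥤ᵇ 𝒜) (he : FibCat.IsEquivOver e)
    (eG : ofSp G.obj ⥤ᵇ 𝒱) (heG : FibCat.IsEquivOver eG)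
    (h : AlgSt.RepByAlgSpWith P (FibCat.fpFst c g))
    {Q : AlgSp.Space S} (p1 : Q ⟶ F) (p2 : Q ⟶ G)
    (sq0 : IsPullback p1 p2
      (ObjectProperty.homMk (spMapOfOver (BasedFunctor.comp e g)) :
        F ⟶ (AlgSp.ofScheme S).obj U)
      (ObjectProperty.homMk (spMapOfOver (BasedFunctor.comp eG c)) :
        G ⟶ (AlgSp.ofScheme S).obj U)) :
    P p2.hom := by
  obtain ⟨hpb, hpres⟩ := Groth.Agent.S9875.result S
  have sq1 : IsPullback p1.hom p2.hom
      (spMapOfOver (BasedFunctor.comp e g)) (spMapOfOver (BasedFunctor.comp eG c)) :=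
    sq0.map (ObjectProperty.ι (AlgSp.IsAlgSpace (S := S)))
  have sq2 : IsPullback p1.hom.hom p2.hom.hom
      (spMapOfOver (BasedFunctor.comp e g)).hom (spMapOfOver (BasedFunctor.comp eG c)).hom :=
    sq1.map (sheafToPresheaf (AlgSp.J S) (Type (u + 1)))
  have hQ : (ACP.restr P).RespectsIso := ACP.restr_respectsIso P hPb
  apply hsl Q.property G.property
  have hrb : AlgSp.RepBySp p2.hom.hom := AR.repBySp_of_algSpaces Q G _
  have h1 : AlgSt.RepByAlgSpWith (ACP.restr P) (FibCat.fpFst c g) :=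
    (ACP.repWith_restr_iff P _).mpr h
  have h3 : AlgSt.RepByAlgSpWith (ACP.restr P)
      (FibCat.fpFst (ofSpMap (spMapOfOver (BasedFunctor.comp eG c)))
        (ofSpMap (spMapOfOver (BasedFunctor.comp e g)))) := by
    refine repWith_of_square_fwd (ACP.restr P) (FibCat.fpFst c g) _ (FD.KK g c e eG) eG
      (FD.KK_isEquivOver g c e eG he heG) heG (fun x' => Iso.refl _) ?_ ?_ h1
    · intro x x₁ β
      exact (Category.comp_id _).trans (Category.id_comp _).symm
    · intro x'
      exact IsHomLift.id ((BasedFunctor.comp (FibCat.fpFst _ _) eG).w_obj x')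
  have comm := PP.comm_of_isPullback sq2
  have hE := PF.E_isEquivOver _ _ _ _ comm (PP.inj_of_isPullback sq2) (PP.surj_of_isPullback sq2)
  have h4 : AlgSt.RepByAlgSpWith (ACP.restr P) (Stk.ofPshMap p2.hom.hom) := by
    rw [← PF.E_fst _ _ _ _ comm]
    refine repWith_of_square_fwd (ACP.restr P) _ _ (PF.E _ _ _ _ comm) (BasedFunctor.id _) hE
      (AOS.isEquivOver_id _) (fun x' => Iso.refl _) ?_ ?_ h3
    · intro x x₁ β
      exact (Category.comp_id _).trans (Category.id_comp _).symm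
    · intro x'
      exact IsHomLift.id ((BasedFunctor.comp (PF.E _ _ _ _ comm) (FibCat.fpFst _ _)).w_obj x')
  have h5 : AlgSp.RepBySpWith (ACP.restr P) p2.hom.hom :=
    (Groth.Agent.S12778.result (ACP.restr P) _ hrb).mpr h4
  intro T ξ F' fst snd sq
  obtain ⟨hh, hA, -, -, hq⟩ := h5 ξ fst snd sq
  exact ⟨hh, hA, hq⟩


/-- **fppf descent for the structure map of a representing space, family form** -/
theorem exists_of_cover_family (P : MorphismProperty (AlgSp.Sp S)) (hPb : ACP.BC P)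
    (hP : AlgSp.IsLocalOnBase (AlgSp.IsFppfCover (S := S)) P)
    {𝒜 : AlgSt.Cat S} {U : Over S}
    (g : 𝒜 ⥤ᵇ FibCat.overCat U) (hg : AlgSt.RepByAlgSp1 g)
    {ι : Type u} (V : ι → Over S) (h : ∀ i, V i ⟶ U)
    (hfl : ∀ i, Flat (h i).left) (hlfp : ∀ i, LocallyOfFinitePresentation (h i).left)
    (hsurj : ∀ t : ↥U.left, ∃ i, t ∈ Set.range (h i).left)
    (hh : ∀ i, AlgSt.RepByAlgSpWith P (FibCat.fpFst (AlgSt.overMap (h i)) g)) :
    ∃ (F : AlgSp.Space S) (e : ofSp F.obj ⥤ᵇ 𝒜),
      FibCat.IsEquivOver e ∧ P (spMapOfOver (BasedFunctor.comp e g)) := by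
  obtain ⟨F, e, he, -⟩ := TC.exists_of_repWith_to_slice ⊤ g ((rep1_iff_top g).mp hg)
  refine ⟨F, e, he, ?_⟩
  obtain ⟨hpb, hpres⟩ := Groth.Agent.S9875.result S
  have hsl : ACov.SchLocal P := ACov.schLocal_of_isLocalOnBase P hP
  let Y : AlgSp.Space S := (AlgSp.ofScheme S).obj U
  let a' : F ⟶ Y := ObjectProperty.homMk (spMapOfOver (BasedFunctor.comp e g))
  let G : ι → AlgSp.Space S := fun i => (AlgSp.ofScheme S).obj (V i)
  let c' : ∀ i, G i ⟶ Y := fun i =>
    ObjectProperty.homMk (spMapOfOver (BasedFunctor.comp (toOverCat (V i)) (AlgSt.overMap (h i))))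
  have hsnd : ∀ i, P (pullback.snd a' (c' i)).hom := fun i =>
    snd_of_repWith P hPb hsl g (AlgSt.overMap (h i)) F (G i) e he (toOverCat (V i))
      (AD.toOverCat_isEquivOver (V i)) (hh i) _ _ (IsPullback.of_hasPullback a' (c' i))
  have e1 : ∀ i, spMapOfOver (BasedFunctor.comp (toOverCat (V i)) (AlgSt.overMap (h i))) =
      (AlgSp.yon S).map (h i) := fun i => BRG.spMapOfOver_overMap (h i)
  have hcov : AlgSp.IsFppfCover (fun i => (G i).obj)
      (fun i => spMapOfOver (BasedFunctor.comp (toOverCat (V i)) (AlgSt.overMap (h i)))) := by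
    refine ⟨fun i => ?_, fun x => ?_⟩
    · dsimp only
      rw [e1 i]
      exact ⟨Groth.Agent.Lib.Helper23.AlgSpMor.locP_yon_map_of
          Groth.Agent.Lib.Helper46.etLocal_flat (h i) (hfl i),
        Groth.Agent.Lib.Helper23.AlgSpMor.locP_yon_map_of
          Groth.Agent.Lib.Helper30.EtLocalInst.etLocal_lfp (h i) (hlfp i)⟩
    · obtain ⟨t, rfl⟩ := (AlgSp.Points.schemeHomeo U).surjective x
      obtain ⟨i, v, hv⟩ := hsurj t
      refine ⟨i, AlgSp.Points.schemeHomeo (V i) v, ?_⟩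
      dsimp only
      rw [e1 i, AlgSp.Points.map_yon_map_apply, hv]
  have sq1 : ∀ i, IsPullback (pullback.fst a' (c' i)).hom (pullback.snd a' (c' i)).hom
      (spMapOfOver (BasedFunctor.comp e g))
      (spMapOfOver (BasedFunctor.comp (toOverCat (V i)) (AlgSt.overMap (h i)))) := fun i =>
    (IsPullback.of_hasPullback a' (c' i)).map (ObjectProperty.ι (AlgSp.IsAlgSpace (S := S)))
  exact (hP (fun i => (G i).obj)
    (fun i => spMapOfOver (BasedFunctor.comp (toOverCat (V i)) (AlgSt.overMap (h i))))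
    (AlgSp.IsAlgSpace.yon_obj U) (fun i => (G i).property) hcov
    (spMapOfOver (BasedFunctor.comp e g)) F.property (fun i => (pullback a' (c' i)).obj)
    (fun i => (pullback.snd a' (c' i)).hom) (fun i => (pullback.fst a' (c' i)).hom)
    (fun i => (pullback a' (c' i)).property) sq1).mpr hsnd


/-- **S12781**: `RepByAlgSpWith P` descends along a functor which is fppf-locally essentially
surjective on sections -/
theorem repWith_of_fpFst_of_locally_essSurj {𝒳 𝒴 𝒵 : AlgSt.Cat S}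
    (P : MorphismProperty (AlgSp.Sp S)) (hPb : ACP.BC P)
    (hP : AlgSp.IsLocalOnBase (AlgSp.IsFppfCover (S := S)) P)
    (f : 𝒳 ⥤ᵇ 𝒴) (hf : AlgSt.RepByAlgSp1 f) (g : 𝒵 ⥤ᵇ 𝒴)
    (hg : ∀ (U : Over S) (y : FibCat.overCat U ⥤ᵇ 𝒴),
      ∃ R ∈ (QuotSh.J Scheme.fppfPrecoverage S) U,
        ∀ ⦃V : Over S⦄ (h : V ⟶ U), R.arrows h →
          ∃ z : FibCat.overCat V ⥤ᵇ 𝒵,
            Nonempty (BasedFunctor.comp z g ≅ BasedFunctor.comp (AlgSt.overMap h) y))
    (h' : AlgSt.RepByAlgSpWith P (FibCat.fpFst g f)) : AlgSt.RepByAlgSpWith P f := by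
  intro U y
  have hgy : AlgSt.RepByAlgSp1 (FibCat.fpFst y f) := by
    rw [rep1_iff_top] at hf ⊢
    exact repWith_fpFst ⊤ f y hf
  obtain ⟨R, hR, hz⟩ := hg U y
  obtain ⟨V, h, hRh, hfl, hlfp, hsurj⟩ := exists_family_of_mem_J R hR
  refine exists_of_cover_family P hPb hP (FibCat.fpFst y f) hgy V h hfl hlfp
    (fun t => ⟨t, hsurj t⟩) (fun t => ?_)
  obtain ⟨z, ⟨α⟩⟩ := hz (h t) (hRh t)
  have h1 : AlgSt.RepByAlgSpWith P (FibCat.fpFst z (FibCat.fpFst g f)) :=
    repWith_fpFst P (FibCat.fpFst g f) z h'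
  have h2 : AlgSt.RepByAlgSpWith P (FibCat.fpFst (BasedFunctor.comp z g) f) :=
    FD.repWith_precomp_equiv P (paste z g f) (paste_isEquivOver _ _ _) _ h1
  have h3 : AlgSt.RepByAlgSpWith P
      (FibCat.fpFst (BasedFunctor.comp (AlgSt.overMap (h t)) y) f) :=
    FD.repWith_precomp_equiv P
      (tw (BasedFunctor.comp (AlgSt.overMap (h t)) y) (BasedFunctor.comp z g) f
        (fun w => compApp α w) (fun a => compApp_nat α a) (fun w => compApp_lift α w))
      (tw_isEquivOver _ _ _ _ _ _) _ h2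
  exact FD.repWith_of_precomp_equiv P (paste (AlgSt.overMap (h t)) y f)
    (paste_isEquivOver _ _ _) _ h3

end Groth.Agent.Lib.Helper17.FDF
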