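import Groth.Agent.S16864
import Groth.Agent.Lib.Helper17.FibProd

set_option autoImplicit false
set_option backward.isDefEq.respectTransparency false
set_option backward.isDefEq.respectTransparency.types false
universe v₄ u₄ v₃ u₃ v₂ u₂ v u

namespace Groth.Agent.Lib.Helper17.GDS

open CategoryTheory CategoryTheory.Functor Gerb FibCat
open Groth.Agent.Lib.Helper17 Groth.Agent.S16864

variable {C : Type u} [Category.{v} C] (J : GrothendieckTopology C)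
  {𝒳 : BasedCategory.{v₂, u₂} C} {𝒴 : BasedCategory.{v₃, u₃} C} {𝒴' : BasedCategory.{v₄, u₄} C}

theorem exists_lift_over {𝒜 : BasedCategory.{v₂, u₂} C} [FibCat.IsFibGrpd 𝒜.p] (x : 𝒜.obj) {U V : C}
    (hx : 𝒜.p.obj x = U) (k : V ⟶ U) : ∃ (x' : 𝒜.obj) (φ : x' ⟶ x), 𝒜.p.IsHomLift k φ := by
  subst hx
  exact FibCat.IsFibGrpd.exists_lift k

/-- the sieve of arrows over which `y` is in the essential image of `f` -/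
def objSieve [FibCat.IsFibGrpd 𝒳.p] (f : 𝒳 ⥤ᵇ 𝒴) (y : 𝒴.obj) {U : C} (hy : 𝒴.p.obj y = U) :
    Sieve U where
  arrows V h := ∃ (x : 𝒳.obj) (m : f.obj x ⟶ y), 𝒴.p.IsHomLift h m
  downward_closed := by
    rintro V W h ⟨x, m, hm⟩ k
    have hV : 𝒳.p.obj x = V := (f.w_obj x).symm.trans (IsHomLift.domain_eq 𝒴.p h m)
    obtain ⟨x', φ, hφ⟩ := exists_lift_over x hV k
    have h1 : 𝒴.p.IsHomLift k (f.map φ) := inferInstance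
    exact ⟨x', f.map φ ≫ m, inferInstance⟩

theorem locSurjObj_of_fpFst [FibCat.IsFibGrpd 𝒳.p] [FibCat.IsFibGrpd 𝒴.p] [FibCat.IsFibGrpd 𝒴'.p]
    (f : 𝒳 ⥤ᵇ 𝒴) (g : 𝒴' ⥤ᵇ 𝒴) (hg : Gerb.LocSurjObj J g)
    (h : Gerb.LocSurjObj J (FibCat.fpFst g f)) : Gerb.LocSurjObj J f := by
  intro y
  obtain ⟨R₀, hR₀, H₀⟩ := hg y
  refine ⟨objSieve f y rfl, ?_, fun V k hk => hk⟩
  refine J.transitive hR₀ _ ?_
  intro V k hk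
  obtain ⟨y', m, hm⟩ := H₀ k hk
  have hV' : 𝒴'.p.obj y' = V := (g.w_obj y').symm.trans (IsHomLift.domain_eq 𝒴.p k m)
  obtain ⟨R₁, hR₁, H₁⟩ := h y'
  have hR₁' : R₁.pullback (eqToHom hV'.symm) ∈ J V := J.pullback_stable _ hR₁
  refine J.superset_covering ?_ hR₁'
  intro W l hl
  obtain ⟨q, n, hn⟩ := H₁ (l ≫ eqToHom hV'.symm) hl
  have hn' : 𝒴'.p.IsHomLift l (n : q.obj.fst ⟶ y') :=
    (IsHomLift.lift_comp_eqToHom_iff 𝒴'.p l n hV'.symm).1 hn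
  have hW : 𝒴'.p.obj q.obj.fst = W := IsHomLift.domain_eq 𝒴'.p l n
  have hq : 𝒴.p.IsHomLift (𝟙 (𝒴'.p.obj q.obj.fst)) q.obj.iso.hom := q.property
  have hq' : 𝒴.p.IsHomLift (𝟙 W) q.obj.iso.hom := isHomLift_id_of_eq 𝒴.p hW _
  have hqi : 𝒴.p.IsHomLift (𝟙 W) q.obj.iso.inv := inferInstance
  have hgn : 𝒴.p.IsHomLift l (g.map n) := inferInstance
  have hgm : 𝒴.p.IsHomLift (l ≫ k) (g.map n ≫ m) := inferInstance
  have hall : 𝒴.p.IsHomLift (𝟙 W ≫ l ≫ k) (q.obj.iso.inv ≫ g.map n ≫ m) := inferInstance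
  rw [Category.id_comp] at hall
  exact ⟨q.obj.snd, q.obj.iso.inv ≫ g.map n ≫ m, hall⟩

/-- the sieve of arrows over which `b` lifts -/
def homSieve [FibCat.IsFibGrpd 𝒳.p] (f : 𝒳 ⥤ᵇ 𝒴) {x x' : 𝒳.obj} (b : f.obj x ⟶ f.obj x') :
    Sieve (𝒳.p.obj x) where
  arrows V h := ∃ (x₀ : 𝒳.obj) (φ : x₀ ⟶ x) (ψ : x₀ ⟶ x'),
    𝒳.p.IsHomLift h φ ∧ 𝒳.p.IsHomLift h ψ ∧ f.map φ ≫ b = f.map ψ
  downward_closed := by
    rintro V W h ⟨x₀, φ, ψ, hφ, hψ, hc⟩ k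
    have hV : 𝒳.p.obj x₀ = V := IsHomLift.domain_eq 𝒳.p h φ
    obtain ⟨x₁, χ, hχ⟩ := exists_lift_over x₀ hV k
    refine ⟨x₁, χ ≫ φ, χ ≫ ψ, inferInstance, inferInstance, ?_⟩
    rw [f.map_comp, f.map_comp, Category.assoc, hc]

theorem locSurjHom_of_fpFst [FibCat.IsFibGrpd 𝒳.p] [FibCat.IsFibGrpd 𝒴.p] [FibCat.IsFibGrpd 𝒴'.p]
    (f : 𝒳 ⥤ᵇ 𝒴) (g : 𝒴' ⥤ᵇ 𝒴) (hg : Gerb.LocSurjObj J g)
    (h : Gerb.LocSurjHom J (FibCat.fpFst g f)) : Gerb.LocSurjHom J f := by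
  intro x x' b hb
  have e : 𝒴.p.obj (f.obj x) = 𝒳.p.obj x := f.w_obj x
  have ex' : 𝒳.p.obj x' = 𝒳.p.obj x :=
    (f.w_obj x').symm.trans (IsHomLift.codomain_eq 𝒴.p (𝟙 (𝒳.p.obj x)) b)
  obtain ⟨R₀, hR₀, H₀⟩ := hg (f.obj x)
  refine ⟨homSieve f b, ?_, fun V k hk => hk⟩
  have hR₀' : R₀.pullback (eqToHom e.symm) ∈ J (𝒳.p.obj x) := J.pullback_stable _ hR₀
  refine J.transitive hR₀' _ ?_
  intro V k hk
  obtain ⟨y', m, hm⟩ := H₀ (k ≫ eqToHom e.symm) hk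
  have hm' : 𝒴.p.IsHomLift k m := (IsHomLift.lift_comp_eqToHom_iff 𝒴.p k m e.symm).1 hm
  have hV' : 𝒴'.p.obj y' = V := (g.w_obj y').symm.trans (IsHomLift.domain_eq 𝒴.p k m)
  -- the pullbacks of `x`, `x'`
  obtain ⟨xV, φV, hφV⟩ := exists_lift_over x rfl k
  obtain ⟨xV', ψV, hψV⟩ := exists_lift_over x' ex' k
  have h1 : 𝒴.p.IsHomLift k (f.map φV) := inferInstance
  have h2 : 𝒴.p.IsHomLift k (f.map ψV) := inferInstance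
  have h3 : 𝒴.p.IsHomLift (k ≫ 𝟙 (𝒳.p.obj x)) (f.map φV ≫ b) := inferInstance
  rw [Category.comp_id] at h3
  obtain ⟨χ, hχ, hχc⟩ := exists_factor 𝒴.p k (f.map ψV) (f.map φV ≫ b)
  obtain ⟨γ, hγ, hγc⟩ := exists_factor 𝒴.p k (f.map φV) m
  have hγ' : 𝒴.p.IsHomLift (𝟙 (𝒴'.p.obj y')) γ.hom := isHomLift_id_of_eq 𝒴.p hV'.symm _
  have hγχ : 𝒴.p.IsHomLift (𝟙 V) (γ ≪≫ χ).hom := by
    change 𝒴.p.IsHomLift (𝟙 V) (γ.hom ≫ χ.hom)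
    infer_instance
  have hγχ' : 𝒴.p.IsHomLift (𝟙 (𝒴'.p.obj y')) (γ ≪≫ χ).hom := isHomLift_id_of_eq 𝒴.p hV'.symm _
  let q : (FibCat.fp g f).obj := FP.mkObj y' xV γ hγ'
  let q' : (FibCat.fp g f).obj := FP.mkObj y' xV' (γ ≪≫ χ) hγχ'
  have hb' : 𝒴'.p.IsHomLift (𝟙 ((FibCat.fp g f).p.obj q)) (𝟙 y') := IsHomLift.id rfl
  obtain ⟨R₁, hR₁, H₁⟩ := h q q' (𝟙 y') hb'
  have hR₁' : R₁.pullback (eqToHom hV'.symm) ∈ J V := J.pullback_stable _ hR₁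
  refine J.superset_covering ?_ hR₁'
  intro W l hl
  obtain ⟨q₀, Φ, Ψ, hΦ, hΨ, hcomm⟩ := H₁ (l ≫ eqToHom hV'.symm) hl
  have hΦ' : (FibCat.fp g f).p.IsHomLift l Φ :=
    (IsHomLift.lift_comp_eqToHom_iff (FibCat.fp g f).p l Φ hV'.symm).1 hΦ
  have hΨ' : (FibCat.fp g f).p.IsHomLift l Ψ :=
    (IsHomLift.lift_comp_eqToHom_iff (FibCat.fp g f).p l Ψ hV'.symm).1 hΨ
  have hΦs : 𝒳.p.IsHomLift l Φ.hom.snd := FP.isHomLift_snd Φ l hΦ'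
  have hΨs : 𝒳.p.IsHomLift l Ψ.hom.snd := FP.isHomLift_snd Ψ l hΨ'
  have hfst : Φ.hom.fst = Ψ.hom.fst := by
    have : Φ.hom.fst ≫ 𝟙 y' = Ψ.hom.fst := hcomm
    exact (Category.comp_id _).symm.trans this
  have wΦ : g.map Φ.hom.fst ≫ γ.hom = q₀.obj.iso.hom ≫ f.map Φ.hom.snd := Φ.hom.w
  have wΨ : g.map Ψ.hom.fst ≫ (γ.hom ≫ χ.hom) = q₀.obj.iso.hom ≫ f.map Ψ.hom.snd := Ψ.hom.w
  have key : f.map Φ.hom.snd ≫ χ.hom = f.map Ψ.hom.snd := by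
    apply (cancel_epi q₀.obj.iso.hom).1
    rw [← wΨ, ← Category.assoc, ← wΦ, hfst, Category.assoc]
  refine ⟨q₀.obj.snd, Φ.hom.snd ≫ φV, Ψ.hom.snd ≫ ψV, inferInstance, inferInstance, ?_⟩
  rw [f.map_comp, f.map_comp, Category.assoc, ← hχc, ← Category.assoc, key]

end Groth.Agent.Lib.Helper17.GDS
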