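import Groth.Agent.Lib.Helper17.LocQTools7

set_option autoImplicit false
set_option backward.isDefEq.respectTransparency false
set_option backward.isDefEq.respectTransparency.types false
universe u

namespace Groth.Agent.Lib.Helper17.LQT

open CategoryTheory CategoryTheory.Limits AlgebraicGeometry Opposite AlgSp FibCat Stk AlgSt
open Groth.Agent.Lib.Helper17 Groth.Agent.Lib.Helper17.FP Groth.Agent.Lib.Helper17.EO
  Groth.Agent.Lib.Helper17.PD Groth.Agent.Lib.Helper17.AT Groth.Agent.Lib.Helper17.AB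
  Groth.Agent.Lib.Helper17.AOS Groth.Agent.Lib.Helper17.ACP Groth.Agent.Lib.Helper17.PTS
open Groth.Agent.Lib.Helper46 Groth.Agent.Lib.Helper46.LocPChart

variable {S : Scheme.{u}}

/-- **S13022**: objects lift fppf locally along a jointly surjective family of flat, locally
finitely presented morphisms -/
theorem exists_fppf_lift {𝒳 : AlgSt.Cat S}
    (h𝒳 : AlgSt.IsAlgStack Scheme.fppfPrecoverage 𝒳)
    (J : Type u) (𝒳' : J → AlgSt.Cat S) (h𝒳' : ∀ j, AlgSt.IsAlgStack Scheme.fppfPrecoverage (𝒳' j))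
    (f : ∀ j, 𝒳' j ⥤ᵇ 𝒳)
    (hf₁ : ∀ j, AlgSt.LocQ (AlgSp.LocP @Flat) (f j))
    (hf₂ : ∀ j, AlgSt.LocQ (AlgSp.LocP @LocallyOfFinitePresentation) (f j))
    (hf₃ : ∀ p : AlgSt.Points 𝒳, ∃ j, p ∈ Set.range (AlgSt.Points.map (f j)))
    (U : Over S) (x : FibCat.overCat U ⥤ᵇ 𝒳) :
    ∃ (ι : Type u) (V : ι → Over S) (g : ∀ i, V i ⟶ U) (c : ι → J),
      (Presieve.ofArrows (fun i ↦ (V i).left) fun i ↦ (g i).left) ∈
        Scheme.fppfPrecoverage U.left ∧
      ∀ i, ∃ x' : FibCat.overCat (V i) ⥤ᵇ 𝒳' (c i),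
        Nonempty (BasedFunctor.comp x' (f (c i)) ≅ BasedFunctor.comp (AlgSt.overMap (g i)) x) := by
  have hX := h𝒳.isStack.1
  have key : ∀ j, ∃ (T : Over S) (a : T ⟶ U) (x' : FibCat.overCat T ⥤ᵇ 𝒳' j),
      Flat a.left ∧ LocallyOfFinitePresentation a.left ∧
      Nonempty (BasedFunctor.comp x' (f j) ≅ BasedFunctor.comp (AlgSt.overMap a) x) ∧
      ∀ u : ↥U.left, AlgSt.Points.ofChart x u ∈ Set.range (AlgSt.Points.map (f j)) →
        u ∈ Set.range a.left := by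
    intro j
    obtain ⟨W, q, -, hqj, hq1, hq2⟩ := exists_flat_lfp_chart (h𝒳' j) h𝒳 (f j) (hf₁ j) (hf₂ j)
    obtain ⟨T, a, b, ha, -, -, -, ⟨i⟩, hpt⟩ :=
      exists_bridge_all hX h𝒳.diag x (BasedFunctor.comp q (f j))
    refine ⟨T, a, BasedFunctor.comp (AlgSt.overMap b) q, ?_, ?_, ⟨i.symm⟩, ?_⟩
    · exact ha @Flat (fun _ _ f hf => by have := hf; infer_instance) DL.flat_bc DL.flat_cp hq1
    · exact ha @LocallyOfFinitePresentation (fun _ _ f hf => by have := hf; infer_instance)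
        DL.lfp_bc DL.lfp_cp hq2
    · rintro u ⟨ξ, hξ⟩
      obtain ⟨w, rfl⟩ := ofChart_surjective q (isSurjective_of_repWith (h𝒳' j).isStack.1 q hqj) ξ
      obtain ⟨t, ht, -⟩ := hpt u w hξ.symm
      exact ⟨t, ht⟩
  choose T a x' hfl hfp hiso hsurj using key
  refine ⟨J, T, a, id, ?_, fun j => ⟨x' j, hiso j⟩⟩
  change Presieve.ofArrows _ _ ∈ Scheme.precoverage (@Flat ⊓ @LocallyOfFinitePresentation) U.left
  rw [Scheme.ofArrows_mem_precoverage_iff]
  refine ⟨fun u => ?_, fun j => ⟨hfl j, hfp j⟩⟩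
  obtain ⟨j, hj⟩ := hf₃ (AlgSt.Points.ofChart x u)
  exact ⟨j, hsurj j u hj⟩

end Groth.Agent.Lib.Helper17.LQT
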