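import Groth.Agent.Lib.Helper17.GerbeDescent
import Groth.Agent.Lib.Helper17.LocQTools8
import Groth.Agent.Lib.Helper17.FaithfulThin

set_option autoImplicit false
set_option backward.isDefEq.respectTransparency false
set_option backward.isDefEq.respectTransparency.types false
universe u

namespace Groth.Agent.Lib.Helper17.GDS

open CategoryTheory CategoryTheory.Limits AlgebraicGeometry Opposite AlgSp FibCat Stk AlgSt
open Groth.Agent.Lib.Helper17 Groth.Agent.Lib.Helper17.EO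

variable {S : Scheme.{u}}

/-- objects of the target of a flat, locally finitely presented, surjective morphism of algebraic
stacks lift fppf locally -/
theorem locSurjObj_of_fppf {𝒴 𝒴' : AlgSt.Cat S}
    (h𝒴 : AlgSt.IsAlgStack Scheme.fppfPrecoverage 𝒴)
    (h𝒴' : AlgSt.IsAlgStack Scheme.fppfPrecoverage 𝒴') (g : 𝒴' ⥤ᵇ 𝒴)
    (hg₁ : AlgSt.IsSurjective g) (hg₂ : AlgSt.LocQ (AlgSp.LocP @Flat) g)
    (hg₃ : AlgSt.LocQ (AlgSp.LocP @LocallyOfFinitePresentation) g) :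
    Gerb.LocSurjObj (QuotSh.J Scheme.fppfPrecoverage S) g := by
  intro y
  obtain ⟨ŷ, ι, hι⟩ := FT.exists_slice_functor h𝒴.isStack.1 y rfl
  obtain ⟨I, V, k, c, hcov, hl⟩ := LQT.exists_fppf_lift h𝒴 PUnit.{u + 1} (fun _ => 𝒴')
    (fun _ => h𝒴') (fun _ => g) (fun _ => hg₂) (fun _ => hg₃)
    (fun p => ⟨PUnit.unit, hg₁ p⟩) (𝒴.p.obj y) ŷ
  refine ⟨Sieve.ofArrows V k, ?_, ?_⟩
  · change Sieve.overEquiv (𝒴.p.obj y) (Sieve.ofArrows V k) ∈
      Scheme.fppfPrecoverage.toGrothendieck (𝒴.p.obj y).left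
    rw [Sieve.overEquiv_ofArrows]
    exact Precoverage.generate_mem_toGrothendieck hcov
  · intro W h hh
    obtain ⟨V', a, b, ⟨i⟩, rfl⟩ := hh
    obtain ⟨y'ᵢ, ⟨βi⟩⟩ := hl i
    let oa : (FibCat.overCat (V i)).obj := (Over.mk a : Over (V i))
    let ob : Over (𝒴.p.obj y) := (AlgSt.overMap (k i)).obj oa
    have h1 : 𝒴.p.IsHomLift (𝟙 W) (AT.compApp βi oa).hom := AT.compApp_lift βi oa
    have h2 : 𝒴.p.IsHomLift (a ≫ k i) (ŷ.map (Groth.Agent.Lib.Helper86.TwoYoneda.t ob)) :=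
      Groth.Agent.Lib.Helper86.TwoYoneda.G_lift ŷ (Groth.Agent.Lib.Helper86.TwoYoneda.t ob)
    have h3 : 𝒴.p.IsHomLift ((a ≫ k i) ≫ 𝟙 (𝒴.p.obj y))
        (ŷ.map (Groth.Agent.Lib.Helper86.TwoYoneda.t ob) ≫ ι.hom) := inferInstance
    have h4 : 𝒴.p.IsHomLift (𝟙 W ≫ (a ≫ k i) ≫ 𝟙 (𝒴.p.obj y))
        ((AT.compApp βi oa).hom ≫ ŷ.map (Groth.Agent.Lib.Helper86.TwoYoneda.t ob) ≫ ι.hom) :=
      inferInstance
    rw [Category.id_comp, Category.comp_id] at h4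
    exact ⟨y'ᵢ.obj oa, _, h4⟩

end Groth.Agent.Lib.Helper17.GDS
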