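import Groth.Prelude.Def_StGerb2
import Groth.Prelude.Def_AlgSt2

set_option autoImplicit false
set_option backward.isDefEq.respectTransparency false
set_option backward.isDefEq.respectTransparency.types false
universe v u v₂ u₂

namespace Groth.Agent.Lib.Helper17.GIC

open CategoryTheory Opposite Gerb

variable {C : Type u} [Category.{v} C] {𝒳 : BasedCategory.{v₂, u₂} C} {P : Cᵒᵖ ⥤ Type u₂}

theorem map_eqToHom_trans {A B D : C} (h : A = B) (h' : B = D) (s : P.obj (op D)) :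
    P.map (eqToHom h).op (P.map (eqToHom h').op s) = P.map (eqToHom (h.trans h')).op s := by
  subst h; subst h'
  simp

theorem map_eqToHom_refl {A : C} (h : A = A) (s : P.obj (op A)) :
    P.map (eqToHom h).op s = s := by
  simp

theorem map_aux {A B A' B' : C} (s : P.obj (op B')) (s' : P.obj (op A')) (m : A' ⟶ B')
    (hm : P.map m.op s = s') (eA : A = A') (eB : B = B') (g : A ⟶ B)
    (hg : m = eqToHom eA.symm ≫ g ≫ eqToHom eB) :
    P.map (eqToHom eA).op s' = P.map g.op (P.map (eqToHom eB).op s) := by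
  subst eA eB
  simp only [eqToHom_refl, Category.id_comp, Category.comp_id] at hg
  subst hg
  simpa using hm.symm

variable (π : 𝒳 ⥤ᵇ Stk.ofPsh P)

/-- the section of `P` over `U` of an object of `𝒳` over `U` -/
def secAt (x : 𝒳.obj) {U : C} (hU : 𝒳.p.obj x = U) : P.obj (op U) :=
  P.map (eqToHom (hU.symm.trans (π.w_obj x).symm)).op (π.obj x).sec

theorem secAt_of_hom {x' x : 𝒳.obj} (ψ : x' ⟶ x) :
    secAt π x' rfl = P.map (𝒳.p.map ψ).op (secAt π x rfl) := by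
  have h1 := (π.map ψ).map_sec
  have h2 : (π.map ψ).hom = eqToHom (π.w_obj x') ≫ 𝒳.p.map ψ ≫ eqToHom (π.w_obj x).symm :=
    Functor.congr_hom π.w ψ
  exact map_aux (π.obj x).sec (π.obj x').sec (π.map ψ).hom h1 _ _ (𝒳.p.map ψ) h2

theorem secAt_of_isHomLift {x' x : 𝒳.obj} {U V : C} (f : V ⟶ U) (ψ : x' ⟶ x)
    (hψ : 𝒳.p.IsHomLift f ψ) (hx' : 𝒳.p.obj x' = V) (hx : 𝒳.p.obj x = U) :
    secAt π x' hx' = P.map f.op (secAt π x hx) := by
  subst hx' hx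
  have := hψ
  have e : 𝒳.p.map ψ = f := by
    have := IsHomLift.fac' 𝒳.p f ψ
    simpa using this
  subst e
  exact secAt_of_hom π ψ

variable [FibCat.IsFibGrpd 𝒳.p]

theorem secAt_pullFib {U V : C} (f : V ⟶ U) (a : 𝒳.p.Fiber U) :
    secAt π (pullFib 𝒳 f a).1 (pullFib 𝒳 f a).2 = P.map f.op (secAt π a.1 a.2) := by
  obtain ⟨xa, ha⟩ := a
  subst ha
  have h := pullHom_isHomLift 𝒳 xa (f ≫ eqToHom (rfl : 𝒳.p.obj xa = 𝒳.p.obj xa).symm)
  have h' : 𝒳.p.IsHomLift f (pullHom 𝒳 xa (f ≫ eqToHom (rfl : 𝒳.p.obj xa = 𝒳.p.obj xa).symm)) := by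
    simpa using h
  exact secAt_of_isHomLift π f _ h' _ rfl

/-- the map from the presheaf of isomorphism classes -/
noncomputable def cMap : isoClPsh 𝒳 ⟶ P where
  app U := ↾(Quot.lift (fun a : 𝒳.p.Fiber U.unop => secAt π a.1 a.2) (fun a a' ⟨φ⟩ => by
      have := secAt_of_isHomLift π (𝟙 U.unop) φ.1 φ.2 a.2 a'.2
      simpa using this))
  naturality U V g := by
    ext a
    obtain ⟨a⟩ := a
    exact secAt_pullFib π g.unop a

theorem cMap_mk {U : C} (a : 𝒳.p.Fiber U) :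
    (cMap π).app (op U) (Quot.mk _ a) = secAt π a.1 a.2 := rfl

variable (J : GrothendieckTopology C)

theorem cMap_locSurj (h : Gerb.LocSurjObj J π) : Presheaf.IsLocallySurjective J (cMap π) := by
  constructor
  intro U s
  obtain ⟨R, hR, hx⟩ := h (⟨U, s⟩ : Stk.EltObj P)
  refine J.superset_covering ?_ hR
  intro V f hf
  obtain ⟨x, g, hg⟩ := hx f hf
  have hdom : (Stk.ofPsh P).p.obj (π.obj x) = V := IsHomLift.domain_eq (Stk.ofPsh P).p f g
  have hxV : 𝒳.p.obj x = V := (π.w_obj x).symm.trans hdom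
  refine ⟨Quot.mk _ (⟨x, hxV⟩ : 𝒳.p.Fiber V), ?_⟩
  rw [cMap_mk]
  have hfac : g.hom = eqToHom hdom ≫ f := by
    have := IsHomLift.fac' (Stk.ofPsh P).p f g
    simpa using this
  have h1 := g.map_sec
  have h2 := map_aux (A := V) (B := U) s (π.obj x).sec g.hom h1 hdom.symm rfl f
    (by simpa using hfac)
  rw [map_eqToHom_refl] at h2
  exact h2

theorem cMap_locInj_aux (h : Gerb.LocSurjHom J π) (x x' : 𝒳.obj) (hx' : 𝒳.p.obj x' = 𝒳.p.obj x)
    (hc : secAt π x rfl = secAt π x' hx') :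
    Presheaf.equalizerSieve (F := isoClPsh 𝒳) (X := op (𝒳.p.obj x))
      (Quot.mk _ (⟨x, rfl⟩ : 𝒳.p.Fiber (𝒳.p.obj x)))
      (Quot.mk _ (⟨x', hx'⟩ : 𝒳.p.Fiber (𝒳.p.obj x))) ∈ J (𝒳.p.obj x) := by
  have hb : (π.obj x).base = (π.obj x').base :=
    (π.w_obj x).trans (hx'.symm.trans (π.w_obj x').symm)
  have hsec : P.map (eqToHom hb).op (π.obj x').sec = (π.obj x).sec := by
    have := congrArg (P.map (eqToHom (π.w_obj x)).op) hc
    unfold secAt at this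
    rw [map_eqToHom_trans, map_eqToHom_trans, map_eqToHom_refl] at this
    exact this.symm
  let b : π.obj x ⟶ π.obj x' := ⟨eqToHom hb, hsec⟩
  have hbl : (Stk.ofPsh P).p.IsHomLift (𝟙 (𝒳.p.obj x)) b :=
    IsHomLift.of_fac' (Stk.ofPsh P).p _ _ (π.w_obj x) ((π.w_obj x').trans hx') (by
      change eqToHom hb = _
      simp)
  obtain ⟨R, hR, hf⟩ := h x x' b hbl
  refine J.superset_covering ?_ hR
  intro V f hfR
  obtain ⟨x₀, φ, ψ, hφ, hψ, -⟩ := hf f hfR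
  change Quot.mk (IsoRel 𝒳 V) (pullFib 𝒳 f ⟨x, rfl⟩) = Quot.mk (IsoRel 𝒳 V) (pullFib 𝒳 f ⟨x', hx'⟩)
  have hV : 𝒳.p.obj x₀ = V := IsHomLift.domain_eq 𝒳.p f φ
  obtain ⟨χ, hχ, -⟩ := exists_hom_pull 𝒳 x (f ≫ eqToHom (rfl : 𝒳.p.obj x = 𝒳.p.obj x).symm) φ
    (by simpa using hφ)
  have hψ' : 𝒳.p.IsHomLift (f ≫ eqToHom hx'.symm) ψ := by
    have := IsHomLift.fac' 𝒳.p f ψ
    exact IsHomLift.of_fac' 𝒳.p _ _ hV rfl (by rw [this]; simp)
  obtain ⟨χ', hχ', -⟩ := exists_hom_pull 𝒳 x' (f ≫ eqToHom hx'.symm) ψ hψ'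
  have e1 : Quot.mk (IsoRel 𝒳 V) (⟨x₀, hV⟩ : 𝒳.p.Fiber V) =
      Quot.mk (IsoRel 𝒳 V) (pullFib 𝒳 f ⟨x, rfl⟩) := Quot.sound ⟨⟨χ, hχ⟩⟩
  have e2 : Quot.mk (IsoRel 𝒳 V) (⟨x₀, hV⟩ : 𝒳.p.Fiber V) =
      Quot.mk (IsoRel 𝒳 V) (pullFib 𝒳 f ⟨x', hx'⟩) := Quot.sound ⟨⟨χ', hχ'⟩⟩
  exact e1.symm.trans e2

theorem cMap_locInj (h : Gerb.LocSurjHom J π) : Presheaf.IsLocallyInjective J (cMap π) := by
  constructor
  intro U
  induction U using Opposite.rec with | _ U => ?_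
  intro a a' hc
  obtain ⟨⟨x, hx⟩⟩ := a
  obtain ⟨⟨x', hx'⟩⟩ := a'
  change 𝒳.p.obj x = U at hx
  subst hx
  exact cMap_locInj_aux π J h x x' hx' hc

end Groth.Agent.Lib.Helper17.GIC
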