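import Groth.Agent.Lib.Helper17.DiagLft2
import Groth.Agent.S6402
import Groth.Agent.S10262

set_option autoImplicit false
set_option backward.isDefEq.respectTransparency false
set_option backward.isDefEq.respectTransparency.types false
universe u

namespace Groth.Agent.Lib.Helper17.IN

open CategoryTheory CategoryTheory.Limits AlgebraicGeometry Opposite AlgSp FibCat Stk AlgSt
open Groth.Agent.Lib.Helper17 Groth.Agent.Lib.Helper17.ACP

variable {S : Scheme.{u}}

section

variable {𝒳 𝒴 : AlgSt.Cat S} (f : 𝒳 ⥤ᵇ 𝒴)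

theorem E_isEquivOver : FibCat.IsEquivOver (Groth.Agent.S6402.E f) :=
  ⟨Groth.Agent.S6402.G f, ⟨Groth.Agent.S6402.ηb f⟩, ⟨Groth.Agent.S6402.εb f⟩⟩

theorem neutral_E : BasedFunctor.comp (FibCat.inertiaNeutral f) (Groth.Agent.S6402.E f) =
    FibCat.diag (FibCat.diag f) := DR.basedFunctor_ext rfl

theorem neutral_toBase : BasedFunctor.comp (FibCat.inertiaNeutral f) (FibCat.inertiaToBase f) =
    BasedFunctor.id 𝒳 := DR.basedFunctor_ext rfl

theorem repWith_neutral_iff (P : MorphismProperty (Sp S)) :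
    AlgSt.RepByAlgSpWith P (FibCat.inertiaNeutral f) ↔
      AlgSt.RepByAlgSpWith P (FibCat.diag (FibCat.diag f)) := by
  constructor
  · intro h
    rw [← neutral_E]
    exact CMP.repWith_comp_equiv P _ _ (E_isEquivOver f) h
  · intro h
    rw [← neutral_E] at h
    exact DCN.repWith_of_comp_equiv P _ _ (E_isEquivOver f) h

theorem repWith_toBase_of_diag (P : MorphismProperty (Sp S))
    (h : AlgSt.RepByAlgSpWith P (FibCat.diag f)) :
    AlgSt.RepByAlgSpWith P (FibCat.inertiaToBase f) := by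
  have h1 := AB.repWith_fpFst P (FibCat.diag f) (FibCat.diag f) h
  exact FD.repWith_precomp_equiv P (Groth.Agent.S6402.E f) (E_isEquivOver f) _ h1

theorem repWith_neutral_of_diag_toBase (P : MorphismProperty (Sp S))
    (h : AlgSt.RepByAlgSpWith P (FibCat.diag (FibCat.inertiaToBase f))) :
    AlgSt.RepByAlgSpWith P (FibCat.inertiaNeutral f) :=
  CMP.repWith_section P (FibCat.inertiaToBase f) (FibCat.inertiaNeutral f)
    (eqToIso (neutral_toBase f)) h

end

/-- representable morphisms with a property can be checked after base change to schemes -/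
theorem schLocal_repWith (P : MorphismProperty Scheme.{u}) [P.IsStableUnderBaseChange] :
    ACov.SchLocal (RepWith (S := S) P) := by
  intro H G hH hG a ha
  refine ⟨?_, ?_⟩
  · intro T ξ
    obtain ⟨F', fst, snd, sq, -, hsnd⟩ := ACov.exists_baseChange a ha ξ
    obtain ⟨b, snd', fst', sq'⟩ := hsnd.rep (𝟙 ((yon S).obj T))
    have sq'' := sq'.paste_horiz sq
    rw [Category.id_comp] at sq''
    exact ⟨b, snd', fst' ≫ fst, sq''⟩
  · intro T V ξ fst snd sq
    obtain ⟨h, hA, hQ⟩ := ha ξ.hom _ _ (ACov.isPullback_hom sq)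
    have hQ' : RepWith P ((yon S).map snd) := hQ
    exact (repWith_yon_map_iff P snd).mp hQ'

theorem oi_bc : BC (RepWith (S := S) @IsOpenImmersion) :=
  fun _ _ _ _ _ _ _ _ _ _ _ _ sq h => MorphismProperty.of_isPullback sq h

section

variable {𝒳 𝒴 : AlgSt.Cat S} (h𝒳 : AlgSt.IsAlgStack Scheme.fppfPrecoverage 𝒳)
  (h𝒴 : AlgSt.IsAlgStack Scheme.fppfPrecoverage 𝒴) (f : 𝒳 ⥤ᵇ 𝒴)

include h𝒳 h𝒴

theorem tfae_separated :
    [AlgSt.RepByAlgSpWith AlgSp.IsSeparatedMor (FibCat.inertiaToBase f),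
      AlgSt.RepByAlgSpWith AlgSp.IsSeparatedMor (FibCat.diag f),
      AlgSt.IsClosedImm (FibCat.inertiaNeutral f)].TFAE := by
  have hff : FibCat.IsFibGrpd (FibCat.fp f f).p :=
    SP.isFibGrpd_fp f f h𝒳.isStack.1 h𝒳.isStack.1 h𝒴.isStack.1
  have hrep := DCN.rep1_diag h𝒳.isStack.1 h𝒴.isStack.1 h𝒳.diag h𝒴.diag f
  tfae_have 1 → 3 := fun h =>
    repWith_neutral_of_diag_toBase f _ (DDC.closedImm_diag_of_repWith_isSeparatedMor _ h)
  tfae_have 3 → 2 := by
    intro h
    have h1 := (repWith_neutral_iff f _).mp h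
    have h2 : AlgSt.RepByAlgSpWith AlgSp.IsUnivClosedMor (FibCat.diag (FibCat.diag f)) :=
      DDC.repWith_mono (fun _ _ a _ _ ha =>
        Groth.Agent.Lib.Helper23.AlgSpMor.isUnivClosedMor_of_repWith a
          (Groth.Agent.Lib.Helper23.AlgSpMor.repWith_universallyClosed_of_isClosedImmersion a ha))
        _ h1
    exact DDC.repWith_isSeparatedMor_of_univClosed_diag h𝒳.isStack.1 hff _ hrep h2
  tfae_have 2 → 1 := fun h => repWith_toBase_of_diag f _ h
  tfae_finish

theorem tfae_quasiSeparated :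
    [AlgSt.RepByAlgSpWith AlgSp.IsQuasiSeparatedMor (FibCat.inertiaToBase f),
      AlgSt.RepByAlgSpWith AlgSp.IsQuasiSeparatedMor (FibCat.diag f),
      AlgSt.RepByAlgSpWith AlgSp.IsQuasiCompactMor (FibCat.inertiaNeutral f)].TFAE := by
  have hff : FibCat.IsFibGrpd (FibCat.fp f f).p :=
    SP.isFibGrpd_fp f f h𝒳.isStack.1 h𝒳.isStack.1 h𝒴.isStack.1
  have hrep := DCN.rep1_diag h𝒳.isStack.1 h𝒴.isStack.1 h𝒳.diag h𝒴.diag f
  tfae_have 1 → 3 := fun h =>
    repWith_neutral_of_diag_toBase f _ (DDC.qc_diag_of_repWith_isQuasiSeparatedMor _ h)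
  tfae_have 3 → 2 := fun h =>
    DDC.repWith_isQuasiSeparatedMor_of_qc_diag h𝒳.isStack.1 hff _ hrep
      ((repWith_neutral_iff f _).mp h)
  tfae_have 2 → 1 := fun h => repWith_toBase_of_diag f _ h
  tfae_finish

theorem unramified_toBase_iff :
    AlgSt.RepByAlgSpWith (AlgSp.LocP (@LocallyOfFiniteType ⊓ @FormallyUnramified))
        (FibCat.inertiaToBase f) ↔ AlgSt.IsDMMor f := by
  have hff : FibCat.IsFibGrpd (FibCat.fp f f).p :=
    SP.isFibGrpd_fp f f h𝒳.isStack.1 h𝒳.isStack.1 h𝒴.isStack.1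
  have hrep := DCN.rep1_diag h𝒳.isStack.1 h𝒴.isStack.1 h𝒳.diag h𝒴.diag f
  constructor
  · intro h
    have h1 : AlgSt.RepByAlgSpWith (RepWith @IsOpenImmersion)
        (FibCat.diag (FibCat.inertiaToBase f)) := by
      refine DD.repWith_diag_of_sections _ oi_bc _ (fun T y => ?_)
      obtain ⟨F, e, he, hunr⟩ := h T y
      refine ⟨F, e, he, fun σ hσ => ?_⟩
      exact Groth.Agent.Lib.Helper23.AlgSpMor.repWith_section_of_diagonal _ _ σ hσ
        ((Groth.Agent.S10262.result (X := F) (Y := ⟨(yon S).obj T, IsAlgSpace.yon_obj T⟩)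
          (ObjectProperty.homMk _)).1 hunr)
    have h2 := (repWith_neutral_iff f _).mp (repWith_neutral_of_diag_toBase f _ h1)
    have hlft := DL.lft_diag h𝒳 h𝒴 f
    intro T y
    obtain ⟨F, e, he⟩ := hrep T y
    refine ⟨F, e, he, ?_⟩
    have hΔ := DDC.diagonal_of_repWith_diag _ oi_bc (schLocal_repWith _) h𝒳.isStack.1 hff _ h2
      T y F e he
    exact (Groth.Agent.S10262.result (X := F) (Y := ⟨(yon S).obj T, IsAlgSpace.yon_obj T⟩)
      (ObjectProperty.homMk _)).2 (DL2.transport _ DL.lft_bc _ hlft T y F e he) hΔ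
  · intro h
    exact repWith_toBase_of_diag f _ h

end

end Groth.Agent.Lib.Helper17.IN
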