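import Groth.Agent.Lib.Helper17.Inertia

/-!
# Locally separated inertia and the identity section (helper17)
-/

set_option autoImplicit false
set_option backward.isDefEq.respectTransparency false
set_option backward.isDefEq.respectTransparency.types false
universe u

namespace Groth.Agent.Lib.Helper17.IN

open CategoryTheory CategoryTheory.Limits AlgebraicGeometry Opposite AlgSp FibCat Stk AlgSt
open Groth.Agent.Lib.Helper17 Groth.Agent.Lib.Helper17.ACP

variable {S : Scheme.{u}}

/-- locally separated base changes give a diagonal that is an immersion -/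
theorem imm_diag_of_locSep {𝒳 𝒴 : AlgSt.Cat S} (f : 𝒳 ⥤ᵇ 𝒴)
    (hf : AlgSt.RepByAlgSpWith AlgSp.IsLocallySeparatedMor f) :
    AlgSt.RepByAlgSpWith (AlgSp.RepWith @IsImmersion) (FibCat.diag f) := by
  refine DD.repWith_diag_of_sections _
    (fun _ _ _ _ _ _ _ _ _ _ _ _ sq h => MorphismProperty.of_isPullback sq h) f (fun T y => ?_)
  obtain ⟨F, e, he, hsep⟩ := hf T y
  exact ⟨F, e, he, fun σ hσ =>
    Groth.Agent.Lib.Helper23.AlgSpMor.repWith_section_of_diagonal _ _ σ hσ hsep⟩

/-- if the inertia (or the diagonal) is locally separated, the identity section of the inertia is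
an immersion -/
theorem isImm_neutral_of_locSep {𝒳 𝒴 : AlgSt.Cat S} (f : 𝒳 ⥤ᵇ 𝒴) :
    (AlgSt.RepByAlgSpWith AlgSp.IsLocallySeparatedMor (FibCat.inertiaToBase f) →
        AlgSt.IsImm (FibCat.inertiaNeutral f)) ∧
      (AlgSt.RepByAlgSpWith AlgSp.IsLocallySeparatedMor (FibCat.diag f) →
        AlgSt.IsImm (FibCat.inertiaNeutral f)) := by
  have h1 : AlgSt.RepByAlgSpWith AlgSp.IsLocallySeparatedMor (FibCat.inertiaToBase f) →
      AlgSt.IsImm (FibCat.inertiaNeutral f) := fun h =>
    repWith_neutral_of_diag_toBase f _ (imm_diag_of_locSep _ h)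
  exact ⟨h1, fun h => h1 (repWith_toBase_of_diag f _ h)⟩

end Groth.Agent.Lib.Helper17.IN
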