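import Groth.Agent.Lib.Helper17.Inertia
import Groth.Agent.Lib.Helper17.PropsBC
import Groth.Agent.Lib.Helper37.PseudoTorsor

set_option autoImplicit false
set_option backward.isDefEq.respectTransparency false
set_option backward.isDefEq.respectTransparency.types false
universe u

namespace Groth.Agent.Lib.Helper17.INQ

open CategoryTheory CategoryTheory.Limits AlgebraicGeometry Opposite AlgSp FibCat Stk AlgSt
open Groth.Agent.Lib.Helper17 Groth.Agent.Lib.Helper17.ACP Groth.Agent.Lib.Helper17.FP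
  Groth.Agent.Lib.Helper17.EO Groth.Agent.Lib.Helper17.AOS Groth.Agent.Lib.Helper17.AT
  Groth.Agent.Lib.Helper17.PD Groth.Agent.Lib.Helper17.AB

variable {S : Scheme.{u}}

/-- the self-product of a base change is a base change of the self-product -/
theorem repWith_self_fpFst (P : MorphismProperty (Sp S)) {𝒳 𝒵 𝒲 : AlgSt.Cat S} (g : 𝒳 ⥤ᵇ 𝒵)
    (y : 𝒲 ⥤ᵇ 𝒵) (h : AlgSt.RepByAlgSpWith P (FibCat.fpFst g g)) :
    AlgSt.RepByAlgSpWith P (FibCat.fpFst (FibCat.fpFst y g) (FibCat.fpFst y g)) := by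
  let s : FibCat.fp y g ⥤ᵇ 𝒳 := FibCat.fpSnd y g
  let g' : FibCat.fp y g ⥤ᵇ 𝒲 := FibCat.fpFst y g
  have h1 : AlgSt.RepByAlgSpWith P (FibCat.fpFst s (FibCat.fpFst g g)) :=
    AB.repWith_fpFst P (FibCat.fpFst g g) s h
  have h2 : AlgSt.RepByAlgSpWith P (FibCat.fpFst (BasedFunctor.comp s g) g) :=
    FD.repWith_precomp_equiv P (PS.paste s g g) (PS.paste_isEquivOver s g g) _ h1
  let tw' := FI.tw (BasedFunctor.comp s g) (BasedFunctor.comp g' y) g
    (fun ξ => compApp (FibCat.fpIso y g) ξ) (fun α => compApp_nat (FibCat.fpIso y g) α)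
    (fun ξ => compApp_lift (FibCat.fpIso y g) ξ)
  have htw' : FibCat.IsEquivOver tw' := FI.tw_isEquivOver _ _ _ _ _ _
  have h3 : AlgSt.RepByAlgSpWith P (FibCat.fpFst (BasedFunctor.comp g' y) g) :=
    FD.repWith_of_precomp_equiv P tw' htw' _ h2
  exact FD.repWith_of_precomp_equiv P (PS.paste g' y g) (PS.paste_isEquivOver g' y g) _ h3

/-- from `RepByAlgSpWith P` of the functor of a map of algebraic spaces to `P` of the map -/
theorem prop_of_repWith_ofSpMap (P : MorphismProperty (Sp S)) (hPb : ACP.BC P)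
    (hsl : ACov.SchLocal P) {H G : Sp S} (hH : IsAlgSpace H) (hG : IsAlgSpace G) (b : H ⟶ G)
    (h : AlgSt.RepByAlgSpWith P (ofSpMap b)) : P b := by
  have hrb : AlgSp.RepBySp b.hom := AR.repBySp_of_algSpaces ⟨H, hH⟩ ⟨G, hG⟩ b.hom
  have hRI : (ACP.restr P).RespectsIso := ACP.restr_respectsIso _ hPb
  have h4 : AlgSp.RepBySpWith (ACP.restr P) b.hom :=
    (Groth.Agent.S12778.result (ACP.restr P) _ hrb).mpr ((ACP.repWith_restr_iff P _).mpr h)
  apply hsl hH hG
  intro T' ξ F' fst snd sq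
  obtain ⟨hh, hA, -, -, hq⟩ := h4 ξ fst snd sq
  exact ⟨hh, hA, hq⟩

/-- **self-product criterion**: a functor `g` representable by algebraic spaces with `Q`, whose
self-product projection `𝒳 ×_𝒵 𝒳 ⟶ 𝒳` has `P`, has `P`, as soon as this holds for maps from algebraic
spaces to schemes -/
theorem repWith_of_self_fst (P Q : MorphismProperty (Sp S)) (hPb : ACP.BC P)
    (hsl : ACov.SchLocal P) (hQb : ACP.BC Q)
    (hK : ∀ (T : Over S) (F : Sp S) (_ : IsAlgSpace F) (p : F ⟶ (yon S).obj T),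
      Q p → P (pullback.snd p p) → P p)
    {𝒳 𝒵 : AlgSt.Cat S} (g : 𝒳 ⥤ᵇ 𝒵) (hrep : AlgSt.RepByAlgSp1 g)
    (hQ : AlgSt.RepByAlgSpWith Q g) (h : AlgSt.RepByAlgSpWith P (FibCat.fpFst g g)) :
    AlgSt.RepByAlgSpWith P g := by
  intro T y
  obtain ⟨F, e, he⟩ := hrep T y
  refine ⟨F, e, he, ?_⟩
  set g' := FibCat.fpFst y g with hg'
  set pF := spMapOfOver (BasedFunctor.comp e g') with hpF
  have hQF : Q pF := DL2.transport Q hQb g hQ T y F e he
  have h4 : AlgSt.RepByAlgSpWith P (FibCat.fpFst g' g') := repWith_self_fpFst P g y h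
  have h5 : AlgSt.RepByAlgSpWith P (BasedFunctor.comp (FD.KK g' g' e e) (FibCat.fpFst g' g')) :=
    FD.repWith_precomp_equiv P (FD.KK g' g' e e) (FD.KK_isEquivOver g' g' e e he he) _ h4
  rw [FD.KK_fst] at h5
  have h6 : AlgSt.RepByAlgSpWith P (FibCat.fpFst (ofSpMap pF) (ofSpMap pF)) :=
    DCN.repWith_of_comp_equiv P _ _ he h5
  have sq1 : IsPullback (pullback.fst pF pF) (pullback.snd pF pF) pF pF :=
    IsPullback.of_hasPullback pF pF
  have sq2 : IsPullback (pullback.fst pF pF).hom (pullback.snd pF pF).hom pF.hom pF.hom :=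
    sq1.map (sheafToPresheaf (AlgSp.J S) (Type (u + 1)))
  have comm := PP.comm_of_isPullback sq2
  have hE := PF.E_isEquivOver _ _ _ _ comm (PP.inj_of_isPullback sq2) (PP.surj_of_isPullback sq2)
  have h7 := FD.repWith_precomp_equiv P (PF.E _ _ _ _ comm) hE _ h6
  rw [PF.E_fst] at h7
  have hFF : IsAlgSpace (pullback pF pF) :=
    Groth.Agent.Lib.Helper23.AlgSpMor.isAlgSpace_of_isPullback F.property F.property
      (IsAlgSpace.yon_obj T).diag (IsPullback.of_hasPullback _ _)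
  have h8 : P (pullback.snd pF pF) :=
    prop_of_repWith_ofSpMap P hPb hsl hFF F.property _ h7
  exact hK T F.obj F.property pF hQF h8

/-- the relative inertia is locally quasi-finite over `𝒳` iff `f` is quasi-DM -/
theorem lqf_toBase_iff {𝒳 𝒴 : AlgSt.Cat S} (h𝒳 : AlgSt.IsAlgStack Scheme.fppfPrecoverage 𝒳)
    (h𝒴 : AlgSt.IsAlgStack Scheme.fppfPrecoverage 𝒴) (f : 𝒳 ⥤ᵇ 𝒴) :
    AlgSt.RepByAlgSpWith (AlgSp.LocP (@LocallyQuasiFinite ⊓ @LocallyOfFiniteType))
        (FibCat.inertiaToBase f) ↔ AlgSt.IsQuasiDMMor f := by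
  have hrep := DCN.rep1_diag h𝒳.isStack.1 h𝒴.isStack.1 h𝒳.diag h𝒴.diag f
  constructor
  · intro h
    have h1 : AlgSt.RepByAlgSpWith (AlgSp.LocP (@LocallyQuasiFinite ⊓ @LocallyOfFiniteType))
        (FibCat.fpFst (FibCat.diag f) (FibCat.diag f)) :=
      FD.repWith_of_precomp_equiv _ (Groth.Agent.S6402.E f) (IN.E_isEquivOver f) _ h
    exact repWith_of_self_fst _ (AlgSp.LocP @LocallyOfFiniteType) PB.lqf_bc
      (ACov.schLocal_of_isLocalOnBase _ PB.lqf_local) DL.lft_bc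
      (fun T F hF p hq hp =>
        Groth.Agent.Lib.Helper37.PseudoTorsor.locP_lqf_of_snd (IsAlgSpace.yon_obj T) hF p hq hp)
      (FibCat.diag f) hrep (DL.lft_diag h𝒳 h𝒴 f) h1
  · intro h
    exact IN.repWith_toBase_of_diag f _ h

end Groth.Agent.Lib.Helper17.INQ
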