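import Mathlib

set_option autoImplicit false
universe u
open CategoryTheory CategoryTheory.Limits AlgebraicGeometry Opposite TopologicalSpace

namespace Groth.Agent.Lib.Helper17.KosDivPB

variable {X : Scheme.{u}}

theorem app_injective_of_mono' {M N : X.Modules} (φ : M ⟶ N) [Mono φ] (U : X.Opens) :
    Function.Injective (φ.app U) := by
  have h1 : Mono ((Scheme.Modules.toPresheaf X).map φ) := inferInstance
  have h2 : Mono (((Scheme.Modules.toPresheaf X).map φ).app (op U)) :=
    (NatTrans.mono_iff_mono_app _).1 h1 (op U)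
  exact (AddCommGrpCat.mono_iff_injective _).1 h2

theorem pullback_sec_ext {A B C : X.Modules} (a : A ⟶ C) (b : B ⟶ C) (U : X.Opens) (p p' : Γ(pullback a b, U)) (h1 : (pullback.fst a b).app U p = (pullback.fst a b).app U p') (h2 : (pullback.snd a b).app U p = (pullback.snd a b).app U p') : p = p' := by
  let ψ : pullback a b ⟶ A ⊞ B := biprod.lift (pullback.fst a b) (pullback.snd a b)
  have hm : Mono ψ := by
    refine ⟨fun {Z} g h hgh => ?_⟩
    apply pullback.hom_ext
    · have := congrArg (· ≫ biprod.fst) hgh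
      simpa [ψ, Category.assoc] using this
    · have := congrArg (· ≫ biprod.snd) hgh
      simpa [ψ, Category.assoc] using this
  apply app_injective_of_mono' ψ U
  have key : ∀ y : Γ(A ⊞ B, U), y = (biprod.inl : A ⟶ A ⊞ B).app U ((biprod.fst : A ⊞ B ⟶ A).app U y) +
      (biprod.inr : B ⟶ A ⊞ B).app U ((biprod.snd : A ⊞ B ⟶ B).app U y) := by
    intro y
    have ht : (biprod.fst ≫ biprod.inl + biprod.snd ≫ biprod.inr : A ⊞ B ⟶ A ⊞ B) = 𝟙 _ :=
      biprod.total
    have := congrArg (fun φ : A ⊞ B ⟶ A ⊞ B => φ.app U y) ht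
    simp only [Scheme.Modules.Hom.add_app, Scheme.Modules.Hom.comp_app,
      Scheme.Modules.Hom.id_app] at this
    exact this.symm
  have hf : ∀ q : Γ(pullback a b, U), (biprod.fst : A ⊞ B ⟶ A).app U (ψ.app U q) =
      (pullback.fst a b).app U q := by
    intro q
    have : ψ ≫ biprod.fst = pullback.fst a b := biprod.lift_fst _ _
    rw [← this]; rfl
  have hs : ∀ q : Γ(pullback a b, U), (biprod.snd : A ⊞ B ⟶ B).app U (ψ.app U q) =
      (pullback.snd a b).app U q := by
    intro q
    have : ψ ≫ biprod.snd = pullback.snd a b := biprod.lift_snd _ _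
    rw [← this]; rfl
  rw [key (ψ.app U p), key (ψ.app U p'), hf, hf, hs, hs, h1, h2]

end Groth.Agent.Lib.Helper17.KosDivPB
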