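import Groth.Agent.Lib.Helper17.OpenSub

set_option autoImplicit false
set_option backward.isDefEq.respectTransparency false
set_option backward.isDefEq.respectTransparency.types false
universe u

namespace Groth.Agent.Lib.Helper17.PDX

open CategoryTheory CategoryTheory.Limits AlgebraicGeometry Opposite AlgSp FibCat Stk AlgSt
open Groth.Agent.Lib.Helper17 Groth.Agent.Lib.Helper17.FP Groth.Agent.Lib.Helper17.EO
  Groth.Agent.Lib.Helper17.PD Groth.Agent.Lib.Helper17.AT Groth.Agent.Lib.Helper17.AB
  Groth.Agent.Lib.Helper17.AOS Groth.Agent.Lib.Helper17.ACP Groth.Agent.Lib.Helper17.PTS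
open Groth.Agent.Lib.Helper46 Groth.Agent.Lib.Helper46.LocPChart

variable {S : Scheme.{u}}

noncomputable section

/-- a field-valued point of a sheaf as a field-valued point of its category -/
def toFPt {F : Sp S} (p : AlgSp.FieldPt F) : AlgSt.FPt (ofSp F) :=
  { K := p.K, str := p.str, obj := ⟨Over.mk p.str, p.val⟩, lies := rfl }

theorem rel_toFPt {F : Sp S} {p q : AlgSp.FieldPt F} (h : AlgSp.FieldPt.Rel p q) :
    AlgSt.FPt.Rel (toFPt p) (toFPt q) := by
  obtain ⟨Ω, _, w, a, b, h⟩ := h
  let r : AlgSt.FPt (ofSp F) :=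
    { K := Ω, str := w, obj := ⟨Over.mk w, F.obj.map a.op p.val⟩, lies := rfl }
  exact ⟨r, ⟨a, rfl⟩, ⟨b, h.symm⟩, trivial⟩

/-- the comparison map from the points of a sheaf to the points of its category -/
def theta (F : Sp S) : AlgSp.Points F → AlgSt.Points (ofSp F) :=
  Quotient.lift (fun p => AlgSt.Points.mk (toFPt p)) (fun _ _ h => AlgSt.Points.sound (rel_toFPt h))

theorem theta_mk {F : Sp S} (p : AlgSp.FieldPt F) :
    theta F (AlgSp.Points.mk p) = AlgSt.Points.mk (toFPt p) := rfl

theorem theta_injective (F : Sp S) : Function.Injective (theta F) := by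
  intro x y h
  obtain ⟨p, rfl⟩ := AlgSp.Points.mk_surjective x
  obtain ⟨q, rfl⟩ := AlgSp.Points.mk_surjective y
  rw [theta_mk, theta_mk, PTS.mk_eq_mk_iff (Stk.isFibGrpd_ofPsh _)] at h
  obtain ⟨r, α, β, -⟩ := h
  apply AlgSp.Points.sound
  have hr : r.obj.base = Over.mk r.str := r.lies
  refine ⟨r.K, r.field, r.str, eqToHom hr.symm ≫ α.hom, eqToHom hr.symm ≫ β.hom, ?_⟩
  have h1 : F.obj.map α.hom.op p.val = r.obj.sec := α.map_sec
  have h2 : F.obj.map β.hom.op q.val = r.obj.sec := β.map_sec
  rw [op_comp, op_comp, ← PSK.pmap_comp, ← PSK.pmap_comp]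
  change F.obj.map (eqToHom hr.symm).op (F.obj.map α.hom.op p.val) =
    F.obj.map (eqToHom hr.symm).op (F.obj.map β.hom.op q.val)
  rw [h1, h2]

theorem theta_surjective (F : Sp S) : Function.Surjective (theta F) := by
  intro η
  obtain ⟨P, rfl⟩ := AlgSt.Points.mk_surjective η
  have hP : P.obj.base = Over.mk P.str := P.lies
  let p : AlgSp.FieldPt F :=
    { K := P.K, str := P.str, val := F.obj.map (eqToHom hP.symm).op P.obj.sec }
  refine ⟨AlgSp.Points.mk p, ?_⟩
  rw [theta_mk]
  exact PTS.mk_eq_of_hom (toFPt p) P ⟨eqToHom hP.symm, rfl⟩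

/-- the bijection between the points of a sheaf and the points of its category -/
def thetaEquiv (F : Sp S) : AlgSp.Points F ≃ AlgSt.Points (ofSp F) :=
  Equiv.ofBijective (theta F) ⟨theta_injective F, theta_surjective F⟩

/-- naturality -/
theorem theta_map {F G : Sp S} (a : F ⟶ G) (x : AlgSp.Points F) :
    theta G (AlgSp.Points.map a x) = AlgSt.Points.map (ofSpMap a) (theta F x) := by
  obtain ⟨p, rfl⟩ := AlgSp.Points.mk_surjective x
  rfl

/-- charts -/
theorem theta_ofPt {F : Sp S} {T : Over S} (g : (yon S).obj T ⟶ F) (t : ↥T.left) :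
    theta F (AlgSp.Points.ofPt g t) =
      AlgSt.Points.ofChart (BasedFunctor.comp (ofOverCat T) (ofSpMap g)) t := rfl

/-- `theta` is continuous for an algebraic space -/
theorem continuous_theta (X : AlgSp.Space S) : Continuous (theta X.obj) := by
  rw [continuous_def]
  intro W' hW'
  rw [AlgSp.Points.isOpen_iff]
  intro T g
  have : AlgSp.Points.ofPt g ⁻¹' (theta X.obj ⁻¹' W') =
      AlgSt.Points.ofChart (BasedFunctor.comp (ofOverCat T) (ofSpMap g)) ⁻¹' W' := rfl
  rw [this]
  exact (continuous_ofChart (SPS.isAlgStack_ofSp X) _).isOpen_preimage _ hW'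

/-- `theta` is open -/
theorem isOpenMap_theta (F : Sp S) : IsOpenMap (theta F) := by
  intro W hW T x _
  let g : (yon S).obj T ⟶ F := ObjectProperty.homMk (AD.xiOf x)
  have hx' : ∀ t, AlgSt.Points.ofChart x t = theta F (AlgSp.Points.ofPt g t) := fun t => by
    rw [theta_ofPt]
    exact PTS.mk_eq_of_hom _ _ (AD.yIso x _).inv
  have e : AlgSt.Points.ofChart x ⁻¹' (theta F '' W) = AlgSp.Points.ofPt g ⁻¹' W := by
    ext t
    constructor
    · rintro ⟨w, hw, h⟩
      rw [hx' t] at h
      have := theta_injective F h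
      change AlgSp.Points.ofPt g t ∈ W
      rw [← this]
      exact hw
    · intro ht
      exact ⟨AlgSp.Points.ofPt g t, ht, (hx' t).symm⟩
  rw [e]
  exact AlgSp.Points.isOpen_iff.mp hW T g

/-- **the points of an algebraic space and of its category are homeomorphic** -/
theorem isHomeomorph_theta (X : AlgSp.Space S) : IsHomeomorph (theta X.obj) :=
  ⟨continuous_theta X, isOpenMap_theta X.obj, theta_injective X.obj, theta_surjective X.obj⟩

/-- an equivalence of algebraic stacks is a homeomorphism on points -/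
theorem isHomeomorph_map_of_isEquivOver {𝒜 ℬ : AlgSt.Cat S}
    (h𝒜 : AlgSt.IsAlgStack Scheme.fppfPrecoverage 𝒜)
    (hℬ : AlgSt.IsAlgStack Scheme.fppfPrecoverage ℬ) (E : 𝒜 ⥤ᵇ ℬ) (hE : FibCat.IsEquivOver E) :
    IsHomeomorph (AlgSt.Points.map E) := by
  obtain ⟨G, ⟨un⟩, ⟨cu⟩⟩ := hE
  have h1 : ∀ x, AlgSt.Points.map G (AlgSt.Points.map E x) = x := fun x => by
    rw [← PTS.map_comp, PTS.map_congr un, PTS.map_id]
  have h2 : ∀ y, AlgSt.Points.map E (AlgSt.Points.map G y) = y := fun y => by
    rw [← PTS.map_comp, PTS.map_congr cu, PTS.map_id]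
  refine ⟨continuous_map hℬ E, ?_, ?_, ?_⟩
  · intro O hO
    have : AlgSt.Points.map E '' O = AlgSt.Points.map G ⁻¹' O := by
      ext y
      constructor
      · rintro ⟨x, hx, rfl⟩
        change AlgSt.Points.map G (AlgSt.Points.map E x) ∈ O
        rw [h1]
        exact hx
      · intro hy
        exact ⟨AlgSt.Points.map G y, hy, h2 y⟩
    rw [this]
    exact (continuous_map h𝒜 G).isOpen_preimage _ hO
  · exact Function.LeftInverse.injective h1
  · exact Function.RightInverse.surjective h2

/-- the comparison for a functor from the category of a sheaf to a slice -/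
theorem map_toOverCat_theta {F : Sp S} {Z : Over S} (Φ : ofSp F ⥤ᵇ FibCat.overCat Z)
    (x : AlgSp.Points F) :
    AlgSt.Points.map (toOverCat Z)
      (theta ((yon S).obj Z) (AlgSp.Points.map (spMapOfOver Φ) x)) =
      AlgSt.Points.map Φ (theta F x) := by
  obtain ⟨p, rfl⟩ := AlgSp.Points.mk_surjective x
  refine PTS.mk_eq_of_hom _ _ ?_
  let a : (ofSp F).obj := ⟨Over.mk p.str, p.val⟩
  change Over.mk (AlgSt.secHom Φ a) ⟶ Φ.obj a
  exact Over.homMk (eqToHom (Φ.w_obj a).symm) (by
    change eqToHom _ ≫ (Φ.obj a).hom = eqToHom _ ≫ (Φ.obj a).hom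
    rfl)

/-- **the dictionary**: for a functor `Φ` from the category of an algebraic space to a slice, the
maps on points of `Φ` and of its map of sheaves are conjugate under homeomorphisms -/
theorem exists_homeos (X : AlgSp.Space S) {Z : Over S} (Φ : ofSp X.obj ⥤ᵇ FibCat.overCat Z) :
    ∃ (A : AlgSp.Points X.obj ≃ₜ AlgSt.Points (ofSp X.obj))
      (B : AlgSp.Points ((yon S).obj Z) ≃ₜ AlgSt.Points (FibCat.overCat Z)),
      ∀ x, B (AlgSp.Points.map (spMapOfOver Φ) x) = AlgSt.Points.map Φ (A x) := by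
  let Zs : AlgSp.Space S := ⟨(yon S).obj Z, IsAlgSpace.yon_obj Z⟩
  have hB : IsHomeomorph (AlgSt.Points.map (toOverCat Z) ∘ theta ((yon S).obj Z)) :=
    (isHomeomorph_map_of_isEquivOver (SPS.isAlgStack_ofSp Zs) (SPS.isAlgStack_overCat Z)
      (toOverCat Z) (AD.toOverCat_isEquivOver Z)).comp (isHomeomorph_theta Zs)
  exact ⟨(isHomeomorph_theta X).homeomorph, hB.homeomorph, fun x => map_toOverCat_theta Φ x⟩

section Conj

variable {X X' Y Y' : Type*} [TopologicalSpace X] [TopologicalSpace X'] [TopologicalSpace Y]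
  [TopologicalSpace Y'] (A : X ≃ₜ X') (B : Y ≃ₜ Y') (f : X → Y) (g : X' → Y')
  (h : ∀ x, B (f x) = g (A x))

include h

theorem conj_eq : g = B ∘ f ∘ A.symm := by
  funext y
  change g y = B (f (A.symm y))
  rw [h, A.apply_symm_apply]

theorem conj_eq' : f = B.symm ∘ g ∘ A := by
  funext x
  change f x = B.symm (g (A x))
  rw [← h, B.symm_apply_apply]

theorem isOpenMap_conj : IsOpenMap f ↔ IsOpenMap g := by
  constructor
  · intro hf
    rw [conj_eq A B f g h]
    exact B.isOpenMap.comp (hf.comp A.symm.isOpenMap)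
  · intro hg
    rw [conj_eq' A B f g h]
    exact B.symm.isOpenMap.comp (hg.comp A.isOpenMap)

theorem isClosedMap_conj : IsClosedMap f ↔ IsClosedMap g := by
  constructor
  · intro hf
    rw [conj_eq A B f g h]
    exact B.isClosedMap.comp (hf.comp A.symm.isClosedMap)
  · intro hg
    rw [conj_eq' A B f g h]
    exact B.symm.isClosedMap.comp (hg.comp A.isClosedMap)

theorem injective_conj : Function.Injective f ↔ Function.Injective g := by
  constructor
  · intro hf
    rw [conj_eq A B f g h]
    exact B.injective.comp (hf.comp A.symm.injective)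
  · intro hg
    rw [conj_eq' A B f g h]
    exact B.symm.injective.comp (hg.comp A.injective)

theorem isHomeomorph_conj : IsHomeomorph f ↔ IsHomeomorph g := by
  constructor
  · intro hf
    rw [conj_eq A B f g h]
    exact B.isHomeomorph.comp (hf.comp A.symm.isHomeomorph)
  · intro hg
    rw [conj_eq' A B f g h]
    exact B.symm.isHomeomorph.comp (hg.comp A.isHomeomorph)

theorem isQuotientMap_conj : Topology.IsQuotientMap f ↔ Topology.IsQuotientMap g := by
  constructor
  · intro hf
    rw [conj_eq A B f g h]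
    exact B.isQuotientMap.comp (hf.comp A.symm.isQuotientMap)
  · intro hg
    rw [conj_eq' A B f g h]
    exact B.symm.isQuotientMap.comp (hg.comp A.isQuotientMap)

end Conj

end

end Groth.Agent.Lib.Helper17.PDX
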