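import Groth.Agent.Lib.Helper17.MaxSmooth2
import Groth.Agent.Lib.Helper17.PointsSp
import Groth.Agent.Lib.Helper17.AlgStOverSpace
import Groth.Agent.Lib.Helper17.SchLocalProps
import Groth.Agent.Lib.Helper17.DiagCover
import Groth.Agent.Lib.Helper36.OpenImmIso

set_option autoImplicit false
set_option backward.isDefEq.respectTransparency false
set_option backward.isDefEq.respectTransparency.types false
universe u

namespace Groth.Agent.Lib.Helper17.LG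

open CategoryTheory CategoryTheory.Limits AlgebraicGeometry Opposite AlgSp FibCat Stk AlgSt
open Groth.Agent.Lib.Helper17 Groth.Agent.Lib.Helper17.FP Groth.Agent.Lib.Helper17.EO
  Groth.Agent.Lib.Helper17.PD Groth.Agent.Lib.Helper17.AT Groth.Agent.Lib.Helper17.AB
  Groth.Agent.Lib.Helper17.AOS Groth.Agent.Lib.Helper17.ACP Groth.Agent.Lib.Helper17.PTS
open Groth.Agent.Lib.Helper10

variable {S : Scheme.{u}}

/-- the essential image of a functor over the base, with isomorphisms over identities -/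
def EssIm {𝒜 ℬ : AlgSt.Cat S} (G : 𝒜 ⥤ᵇ ℬ) (b : ℬ.obj) : Prop :=
  ∃ (a : 𝒜.obj) (i : G.obj a ≅ b), ℬ.p.IsHomLift (𝟙 (𝒜.p.obj a)) i.hom

theorem essIm_obj {𝒜 ℬ : AlgSt.Cat S} (G : 𝒜 ⥤ᵇ ℬ) (a : 𝒜.obj) : EssIm G (G.obj a) :=
  ⟨a, Iso.refl _, IsHomLift.id (G.w_obj a)⟩

theorem essIm_of_iso {𝒜 ℬ : AlgSt.Cat S} (G : 𝒜 ⥤ᵇ ℬ) {b b' : ℬ.obj} (i : b ≅ b')
    (hi : ℬ.p.IsHomLift (𝟙 (ℬ.p.obj b)) i.hom) (h : EssIm G b) : EssIm G b' := by
  obtain ⟨a, j, hj⟩ := h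
  refine ⟨a, j ≪≫ i, ?_⟩
  have e : ℬ.p.obj b = 𝒜.p.obj a := hl_cod hj
  rw [e] at hi
  have := hj
  have := hi
  exact IsHomLift.comp_of_lift_id ℬ.p (𝒜.p.obj a) j.hom i.hom

/-- membership in the essential image of the functor of a map of sheaves -/
theorem essIm_ofSpMap_of_sec {W X : AlgSp.Sp S} (w : W ⟶ X) (z : (ofSp X).obj)
    (l : W.obj.obj (op z.base)) (hl : w.hom.app (op z.base) l = z.sec) : EssIm (ofSpMap w) z := by
  refine ⟨⟨z.base, l⟩, isoOfEq z.base _ _ hl, ?_⟩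
  exact isoOfEq_lift z.base _ _ hl

theorem sec_of_essIm_ofSpMap {W X : AlgSp.Sp S} (w : W ⟶ X) (z : (ofSp X).obj)
    (h : EssIm (ofSpMap w) z) : ∃ l : W.obj.obj (op z.base), w.hom.app (op z.base) l = z.sec := by
  obtain ⟨a, i, hi⟩ := h
  obtain ⟨T, l⟩ := a
  obtain ⟨T', s⟩ := z
  have hT : T' = T := hl_cod hi
  subst hT
  exact ⟨l, sec_eq_of_lift_id i.hom hi⟩

/-- points: an equivalence is injective on points -/
theorem points_map_injective_of_equiv {𝒜 ℬ : AlgSt.Cat S} (E : 𝒜 ⥤ᵇ ℬ)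
    (hE : FibCat.IsEquivOver E) : Function.Injective (AlgSt.Points.map E) := by
  obtain ⟨G, ⟨un⟩, ⟨cu⟩⟩ := hE
  have h1 : ∀ x, AlgSt.Points.map G (AlgSt.Points.map E x) = x := fun x => by
    rw [← PTS.map_comp, PTS.map_congr un, PTS.map_id]
  exact Function.LeftInverse.injective h1

/-- **objects all of whose points lie in an open subspace lie in the open subspace** -/
theorem essIm_of_QT {X W : AlgSp.Space S} (w : W ⟶ X) (hw : RepWith @IsOpenImmersion w.hom)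
    {𝒜 : AlgSt.Cat S} (e : ofSp X.obj ⥤ᵇ 𝒜) (he : FibCat.IsEquivOver e) (ξ : 𝒜.obj)
    (hξ : OST.QT (Set.range (AlgSt.Points.map (BasedFunctor.comp (ofSpMap w.hom) e))) ξ) :
    EssIm (BasedFunctor.comp (ofSpMap w.hom) e) ξ := by
  obtain ⟨z, i, hi⟩ := ((Groth.Agent.S5139.result e).mp he).2 ξ
  obtain ⟨T, s⟩ := z
  let g : (yon S).obj T ⟶ X.obj := (J S).uliftYonedaEquiv.symm s
  have hg : (J S).uliftYonedaEquiv g = s := Equiv.apply_symm_apply _ _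
  have hrange : Set.range (Points.map g) ⊆ Set.range (Points.map w.hom) := by
    rintro _ ⟨x, rfl⟩
    obtain ⟨t, rfl⟩ := (Points.schemeHomeo T).surjective x
    change Points.map g (Points.ofPt (𝟙 _) t) ∈ _
    rw [Points.map_ofPt, Category.id_comp]
    -- the chart
    let xg : FibCat.overCat T ⥤ᵇ ofSp X.obj := BasedFunctor.comp (ofOverCat T) (ofSpMap g)
    have hobj : (BasedFunctor.comp xg e).obj (Over.mk (𝟙 T)) = e.obj ⟨T, s⟩ := by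
      change e.obj ⟨T, g.hom.app (op T) ⟨𝟙 T⟩⟩ = e.obj ⟨T, s⟩
      congr 2
    have hQ : OST.QT (Set.range (AlgSt.Points.map (BasedFunctor.comp (ofSpMap w.hom) e)))
        ((BasedFunctor.comp xg e).obj (Over.mk (𝟙 T))) := by
      rw [hobj]
      exact OST.QT_of_hom i.hom hξ
    have h1 := OST.ofChart_mem_of_QT (BasedFunctor.comp xg e) (Over.mk (𝟙 T)) hQ t
    change AlgSt.Points.ofChart (BasedFunctor.comp xg e) t ∈ _ at h1
    rw [ofChart_comp] at h1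
    obtain ⟨η, hη⟩ := h1
    rw [PTS.map_comp] at hη
    have h2 := points_map_injective_of_equiv e he hη
    obtain ⟨η', rfl⟩ := PDX.theta_surjective W.obj η
    rw [← PDX.theta_map] at h2
    have h3 : AlgSt.Points.ofChart xg t = PDX.theta X.obj (Points.ofPt g t) :=
      (PDX.theta_ofPt g t).symm
    rw [h3] at h2
    exact ⟨η', PDX.theta_injective _ h2⟩
  obtain ⟨l, hl⟩ := Groth.Agent.Lib.Helper36.OpenSubspace.exists_lift_of_openImm w.hom hw g hrange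
  have hsec : w.hom.hom.app (op T) ((J S).uliftYonedaEquiv l) = s := by
    rw [← hg, ← hl]
    exact (GrothendieckTopology.uliftYonedaEquiv_comp (J S) l w.hom).symm
  have h4 : EssIm (ofSpMap w.hom) (⟨T, s⟩ : (ofSp X.obj).obj) :=
    essIm_ofSpMap_of_sec w.hom ⟨T, s⟩ _ hsec
  obtain ⟨a, j, hj⟩ := h4
  refine ⟨a, e.toFunctor.mapIso j ≪≫ i, ?_⟩
  have h5 : 𝒜.p.IsHomLift (𝟙 ((ofSp W.obj).p.obj a)) (e.map j.hom) := map_lift'' e hj
  have e1 : 𝒜.p.obj ξ = (ofSp W.obj).p.obj a := (hl_dom hi).symm.trans (hl_cod h5)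
  rw [e1] at hi
  have := hi
  exact IsHomLift.comp_of_lift_id 𝒜.p _ (e.map j.hom) i.hom

/-- a functor between the categories of two algebraic spaces which is representable with `P`
is the functor of a map with `P` -/
theorem prop_mapOf_of_repWith (P : MorphismProperty (AlgSp.Sp S)) (hPb : BC P)
    (hP : AlgSp.IsLocalOnBase (AlgSp.IsFppfCover (S := S)) P) (X₁ Y : AlgSp.Space S)
    (G : ofSp X₁.obj ⥤ᵇ ofSp Y.obj) (hG : AlgSt.RepByAlgSpWith P G) :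
    P (ObjectProperty.homMk (mapOf G) : X₁.obj ⟶ Y.obj) := by
  have := restr_respectsIso P hPb
  have h1 : AlgSt.RepByAlgSpWith (restr P) G := (repWith_restr_iff P G).mpr hG
  obtain ⟨H, eH, heH, -, -, hPa⟩ := exists_space_of_repWith (restr P)
    (restr_isLocalOnBase _ P hP) (Stk.isFibGrpd_ofPsh _) Y G h1
  have hiso : IsIso (mapOf eH) := isIso_mapOf eH heH
  have hiso' : IsIso (ObjectProperty.homMk (mapOf eH) : H.obj ⟶ X₁.obj) := by
    refine ⟨ObjectProperty.homMk (inv (mapOf eH)), ?_, ?_⟩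
    · apply ObjectProperty.hom_ext
      exact IsIso.hom_inv_id (mapOf eH)
    · apply ObjectProperty.hom_ext
      exact IsIso.inv_hom_id (mapOf eH)
  have e : (ObjectProperty.homMk (mapOf (BasedFunctor.comp eH G)) : H.obj ⟶ Y.obj) =
      (ObjectProperty.homMk (mapOf eH) : H.obj ⟶ X₁.obj) ≫
        (ObjectProperty.homMk (mapOf G) : X₁.obj ⟶ Y.obj) := by
    apply ObjectProperty.hom_ext
    exact mapOf_comp eH G
  rw [e] at hPa
  have h2 : restr P (ObjectProperty.homMk (mapOf G) : X₁.obj ⟶ Y.obj) :=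
    ((restr P).cancel_left_of_respectsIso _ _).mp ⟨H.property, Y.property, hPa⟩
  exact h2.2.2

/-- the conclusion of the hypothesis on largest open subspaces -/
def IsLg (P : MorphismProperty (AlgSp.Sp S)) {X Y : AlgSp.Space S} (f : X ⟶ Y)
    (W : AlgSp.Space S) (w : W ⟶ X) : Prop :=
  AlgSp.RepWith @IsOpenImmersion w.hom ∧ P (w ≫ f).hom ∧
    ∀ (W₁ : AlgSp.Space S) (w₁ : W₁ ⟶ X), AlgSp.RepWith @IsOpenImmersion w₁.hom → P (w₁ ≫ f).hom →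
      ∃ k : W₁ ⟶ W, k ≫ w = w₁

/-- **universality at the level of stacks** -/
theorem univ_gen (P : MorphismProperty (AlgSp.Sp S)) (hPb : BC P)
    (hP : AlgSp.IsLocalOnBase (AlgSp.IsFppfCover (S := S)) P)
    {X Y : AlgSp.Space S} {𝒜 𝒞 : AlgSt.Cat S} (h𝒞 : FibCat.IsFibGrpd 𝒞.p)
    (ε : ofSp X.obj ⥤ᵇ 𝒜) (hε : FibCat.IsEquivOver ε) (ψ : 𝒜 ⥤ᵇ ofSp Y.obj)
    (f : X ⟶ Y) (hf : f.hom.hom = mapOf (BasedFunctor.comp ε ψ))
    (W : AlgSp.Space S) (w : W ⟶ X) (hlg : IsLg P f W w)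
    (j : 𝒞 ⥤ᵇ 𝒜) (hjo : AlgSt.RepByAlgSpWith (AlgSp.RepWith @IsOpenImmersion) j)
    (hjP : AlgSt.RepByAlgSpWith P (BasedFunctor.comp j ψ)) (c : 𝒞.obj) :
    EssIm (BasedFunctor.comp (ofSpMap w.hom) ε) (j.obj c) := by
  obtain ⟨ε', ⟨un⟩, ⟨cu⟩⟩ := id hε
  have hε' : FibCat.IsEquivOver ε' := isEquivOver_symm ε ε' un cu
  let j₁ : 𝒞 ⥤ᵇ ofSp X.obj := BasedFunctor.comp j ε'
  have hj₁ : AlgSt.RepByAlgSpWith (AlgSp.RepWith @IsOpenImmersion) j₁ :=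
    LQT.repWith_postcomp_equiv _ j ε' hε' hjo
  have := restr_respectsIso (AlgSp.RepWith (S := S) @IsOpenImmersion) (SLP.repWith_bc _)
  have h1 : AlgSt.RepByAlgSpWith (restr (AlgSp.RepWith @IsOpenImmersion)) j₁ :=
    (repWith_restr_iff _ j₁).mpr hj₁
  obtain ⟨W₁, e₁, he₁, -, -, hw₁⟩ := exists_space_of_repWith_of_schLocal
    (restr (AlgSp.RepWith @IsOpenImmersion)) (restr_schLocal _ (SLP.repWith_schLocal _)) h𝒞 X j₁ h1
  let w₁ : W₁ ⟶ X := ObjectProperty.homMk (ObjectProperty.homMk (mapOf (BasedFunctor.comp e₁ j₁)))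
  -- the composite has `P`
  have hG : AlgSt.RepByAlgSpWith P (BasedFunctor.comp e₁ (BasedFunctor.comp j ψ)) :=
    FD.repWith_precomp_equiv P e₁ he₁ _ hjP
  have hP₁ := prop_mapOf_of_repWith P hPb hP W₁ Y _ hG
  have hcomp : (w₁ ≫ f).hom =
      (ObjectProperty.homMk (mapOf (BasedFunctor.comp e₁ (BasedFunctor.comp j ψ))) :
        W₁.obj ⟶ Y.obj) := by
    apply ObjectProperty.hom_ext
    change mapOf (BasedFunctor.comp e₁ j₁) ≫ f.hom.hom = _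
    rw [hf, ← mapOf_comp]
    refine mapOf_congr _ _ (fun a => ψ.toFunctor.mapIso (compApp cu (j.obj (e₁.obj a)))) ?_
    intro a
    have h := compApp_lift cu (j.obj (e₁.obj a))
    rw [j.w_obj, e₁.w_obj] at h
    exact map_lift'' ψ h
  have hP₂ : P (w₁ ≫ f).hom := by rw [hcomp]; exact hP₁
  obtain ⟨k, hk⟩ := hlg.2.2 W₁ w₁ hw₁ hP₂
  -- the object
  obtain ⟨ζ₁, i₁, hi₁⟩ := ((Groth.Agent.S5139.result e₁).mp he₁).2 c
  have hbase : (ofSp W₁.obj).p.obj ζ₁ = 𝒞.p.obj c := (e₁.w_obj ζ₁).symm.trans (hl_dom hi₁)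
  have hw₁k : (ofSpMap w₁.hom).obj ζ₁ = (ofSpMap w.hom).obj ((ofSpMap k.hom).obj ζ₁) := by
    rw [← hk]
    rfl
  let i₂ : (BasedFunctor.comp e₁ j₁).obj ζ₁ ≅ (ofSpMap w₁.hom).obj ζ₁ :=
    compIso (BasedFunctor.comp e₁ j₁) ζ₁
  have hi₂ : (ofSp X.obj).p.IsHomLift (𝟙 ((ofSp W₁.obj).p.obj ζ₁)) i₂.hom :=
    compIso_lift (BasedFunctor.comp e₁ j₁) ζ₁
  have hi₂' : (ofSp X.obj).p.IsHomLift (𝟙 ((ofSp W₁.obj).p.obj ζ₁)) i₂.inv :=
    IsHomLift.lift_id_inv (ofSp X.obj).p _ i₂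
  let i₃ : ε.obj (ε'.obj (j.obj (e₁.obj ζ₁))) ≅ j.obj (e₁.obj ζ₁) := compApp cu (j.obj (e₁.obj ζ₁))
  have hi₃ : 𝒜.p.IsHomLift (𝟙 ((ofSp W₁.obj).p.obj ζ₁)) i₃.hom := by
    have h := compApp_lift cu (j.obj (e₁.obj ζ₁))
    rw [j.w_obj, e₁.w_obj] at h
    exact h
  have hi₁' : 𝒜.p.IsHomLift (𝟙 ((ofSp W₁.obj).p.obj ζ₁)) (j.map i₁.hom) := by
    rw [hbase]
    exact map_lift'' j hi₁
  have h4 : 𝒜.p.IsHomLift (𝟙 ((ofSp W₁.obj).p.obj ζ₁)) (ε.map i₂.inv) := map_lift'' ε hi₂'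
  have h5 : EssIm (BasedFunctor.comp (ofSpMap w.hom) ε) (ε.obj ((ofSpMap w₁.hom).obj ζ₁)) := by
    rw [hw₁k]
    exact essIm_obj (BasedFunctor.comp (ofSpMap w.hom) ε) ((ofSpMap k.hom).obj ζ₁)
  have hb2 : 𝒜.p.obj (ε.obj ((ofSpMap w₁.hom).obj ζ₁)) = (ofSp W₁.obj).p.obj ζ₁ :=
    (ε.w_obj _).trans ((ofSpMap w₁.hom).w_obj ζ₁)
  refine essIm_of_iso _ (ε.toFunctor.mapIso i₂.symm ≪≫ i₃ ≪≫ j.toFunctor.mapIso i₁) ?_ h5
  rw [hb2]
  have := h4
  have := hi₃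
  have := hi₁'
  have h6 : 𝒜.p.IsHomLift (𝟙 ((ofSp W₁.obj).p.obj ζ₁)) (i₃.hom ≫ j.map i₁.hom) :=
    IsHomLift.comp_of_lift_id 𝒜.p _ i₃.hom (j.map i₁.hom)
  exact IsHomLift.comp_of_lift_id 𝒜.p _ (ε.map i₂.inv) (i₃.hom ≫ j.map i₁.hom)

end Groth.Agent.Lib.Helper17.LG
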