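import Groth.Agent.Lib.Helper17.LargestOpen1
import Groth.Agent.Lib.Helper17.PshFp
import Groth.Agent.Lib.Helper23.AlgSpMor4
import Groth.Agent.Lib.Helper37.AlgSpPoints

set_option autoImplicit false
set_option backward.isDefEq.respectTransparency false
set_option backward.isDefEq.respectTransparency.types false
universe u

namespace Groth.Agent.Lib.Helper17.LG

open CategoryTheory CategoryTheory.Limits AlgebraicGeometry Opposite AlgSp FibCat Stk AlgSt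
open Groth.Agent.Lib.Helper17 Groth.Agent.Lib.Helper17.FP Groth.Agent.Lib.Helper17.EO
  Groth.Agent.Lib.Helper17.PD Groth.Agent.Lib.Helper17.AT Groth.Agent.Lib.Helper17.AB
  Groth.Agent.Lib.Helper17.AOS Groth.Agent.Lib.Helper17.ACP Groth.Agent.Lib.Helper17.PTS
open Groth.Agent.Lib.Helper10

variable {S : Scheme.{u}}

/-- the hypothesis on base change of largest open subspaces -/
def H4 (P Q R : MorphismProperty (AlgSp.Sp S)) : Prop :=
  ∀ (X Y X' Y' : AlgSp.Space S) (f : X ⟶ Y) (g : Y' ⟶ Y) (f' : X' ⟶ Y') (g' : X' ⟶ X),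
    IsPullback g'.hom f'.hom f.hom g.hom → Q f.hom → R g.hom →
    ∀ (W : AlgSp.Space S) (w : W ⟶ X), IsLg P f W w →
      ∀ (W' : AlgSp.Space S) (w' : W' ⟶ X') (k : W' ⟶ W),
        IsPullback k.hom w'.hom w.hom g'.hom → IsLg P f' W' w'

/-- **base change of universality**, for a given pullback square, transported along an
equivalence -/
theorem bcu_aux (P : MorphismProperty (AlgSp.Sp S)) (hPb : BC P)
    (hP : AlgSp.IsLocalOnBase (AlgSp.IsFppfCover (S := S)) P)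
    {X Y Y' X'' W W'' : AlgSp.Space S} (f : X ⟶ Y) (g : Y' ⟶ Y) (f' : X'' ⟶ Y') (g' : X'' ⟶ X)
    (sq : IsPullback g'.hom f'.hom f.hom g.hom)
    (w : W ⟶ X) (w'' : W'' ⟶ X'') (k'' : W'' ⟶ W) (hk : k'' ≫ w = w'' ≫ g')
    (hlg'' : IsLg P f' W'' w'')
    {𝒜 𝒟 𝒞 : AlgSt.Cat S} (h𝒞 : FibCat.IsFibGrpd 𝒞.p)
    (Θ : FibCat.fp (ofSpMap g.hom) (ofSpMap f.hom) ⥤ᵇ 𝒜) (hΘ : FibCat.IsEquivOver Θ)
    (ψA : 𝒜 ⥤ᵇ ofSp Y'.obj) (DA : 𝒜 ⥤ᵇ 𝒟) (eD : ofSp X.obj ⥤ᵇ 𝒟)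
    (h1 : BasedFunctor.comp Θ ψA = FibCat.fpFst (ofSpMap g.hom) (ofSpMap f.hom))
    (h2 : BasedFunctor.comp Θ DA =
      BasedFunctor.comp (FibCat.fpSnd (ofSpMap g.hom) (ofSpMap f.hom)) eD)
    (j : 𝒞 ⥤ᵇ 𝒜)
    (hjo : AlgSt.RepByAlgSpWith (AlgSp.RepWith @IsOpenImmersion) j)
    (hjP : AlgSt.RepByAlgSpWith P (BasedFunctor.comp j ψA)) (c : 𝒞.obj) :
    EssIm (BasedFunctor.comp (ofSpMap w.hom) eD) (DA.obj (j.obj c)) := by
  have comm : ∀ (T : (Over S)ᵒᵖ) (s : X''.obj.obj.obj T),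
      g.hom.hom.app T (f'.hom.hom.app T s) = f.hom.hom.app T (g'.hom.hom.app T s) := by
    intro T s
    have := congrArg (fun m => m.hom.app T s) sq.w
    exact this.symm
  have hE : FibCat.IsEquivOver (PF.E f.hom.hom g.hom.hom g'.hom.hom f'.hom.hom comm) := by
    apply PF.E_isEquivOver
    · intro T s s' h1 h2
      exact Groth.Agent.Lib.Helper37.AlgSpPoints.isPullback_sections_ext sq T s s' h1 h2
    · intro T x h hx
      exact Groth.Agent.Lib.Helper37.AlgSpPoints.isPullback_sections_exists sq T x h hx.symm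
  have hEΘ : FibCat.IsEquivOver (BasedFunctor.comp
      (PF.E f.hom.hom g.hom.hom g'.hom.hom f'.hom.hom comm) Θ) := isEquivOver_comp _ _ hE hΘ
  have hf' : f'.hom.hom = mapOf (BasedFunctor.comp (BasedFunctor.comp
      (PF.E f.hom.hom g.hom.hom g'.hom.hom f'.hom.hom comm) Θ) ψA) := by
    have e0 : BasedFunctor.comp (BasedFunctor.comp
        (PF.E f.hom.hom g.hom.hom g'.hom.hom f'.hom.hom comm) Θ) ψA =
        BasedFunctor.comp (PF.E f.hom.hom g.hom.hom g'.hom.hom f'.hom.hom comm)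
          (BasedFunctor.comp Θ ψA) := rfl
    rw [e0, h1, PF.E_fst f.hom.hom g.hom.hom g'.hom.hom f'.hom.hom comm, mapOf_ofPshMap]
  obtain ⟨a, i, hi⟩ := univ_gen P hPb hP h𝒞 _ hEΘ ψA f' hf' W'' w'' hlg'' j hjo hjP c
  have h5 : EssIm (BasedFunctor.comp (ofSpMap w.hom) eD) (DA.obj
      ((BasedFunctor.comp (ofSpMap w''.hom) (BasedFunctor.comp
        (PF.E f.hom.hom g.hom.hom g'.hom.hom f'.hom.hom comm) Θ)).obj a)) := by
    have e1 : DA.obj ((BasedFunctor.comp (ofSpMap w''.hom) (BasedFunctor.comp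
        (PF.E f.hom.hom g.hom.hom g'.hom.hom f'.hom.hom comm) Θ)).obj a) =
        (BasedFunctor.comp Θ DA).obj
          ((PF.E f.hom.hom g.hom.hom g'.hom.hom f'.hom.hom comm).obj
            ((ofSpMap w''.hom).obj a)) := rfl
    rw [e1, h2]
    have e2 : (BasedFunctor.comp (FibCat.fpSnd (ofSpMap g.hom) (ofSpMap f.hom)) eD).obj
        ((PF.E f.hom.hom g.hom.hom g'.hom.hom f'.hom.hom comm).obj ((ofSpMap w''.hom).obj a)) =
        eD.obj ((ofSpMap (w'' ≫ g').hom).obj a) := rfl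
    rw [e2, ← hk]
    exact essIm_obj (BasedFunctor.comp (ofSpMap w.hom) eD) ((ofSpMap k''.hom).obj a)
  refine essIm_of_iso _ (DA.toFunctor.mapIso i) ?_ h5
  have hb : 𝒟.p.obj (DA.obj ((BasedFunctor.comp (ofSpMap w''.hom) (BasedFunctor.comp
      (PF.E f.hom.hom g.hom.hom g'.hom.hom f'.hom.hom comm) Θ)).obj a)) =
      (ofSp W''.obj).p.obj a :=
    (DA.w_obj _).trans ((BasedFunctor.comp (ofSpMap w''.hom) (BasedFunctor.comp
      (PF.E f.hom.hom g.hom.hom g'.hom.hom f'.hom.hom comm) Θ)).w_obj a)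
  rw [hb]
  exact map_lift'' DA hi

theorem exists_pullback_space {X Y Y' : AlgSp.Space S} (f : X ⟶ Y) (g : Y' ⟶ Y) :
    ∃ (X'' : AlgSp.Space S) (f' : X'' ⟶ Y') (g' : X'' ⟶ X),
      IsPullback g'.hom f'.hom f.hom g.hom := by
  have sq : IsPullback (pullback.fst f.hom g.hom) (pullback.snd f.hom g.hom) f.hom g.hom :=
    IsPullback.of_hasPullback _ _
  have hX'' : IsAlgSpace (pullback f.hom g.hom) :=
    Groth.Agent.Lib.Helper23.AlgSpMor.isAlgSpace_of_isPullback X.property Y'.property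
      Y.property.diag sq
  exact ⟨⟨pullback f.hom g.hom, hX''⟩, ObjectProperty.homMk (pullback.snd f.hom g.hom),
    ObjectProperty.homMk (pullback.fst f.hom g.hom), sq⟩

/-- **base change of universality** -/
theorem bcu (P Q R : MorphismProperty (AlgSp.Sp S)) (hPb : BC P)
    (hP : AlgSp.IsLocalOnBase (AlgSp.IsFppfCover (S := S)) P) (h₄ : H4 P Q R)
    {X Y Y' : AlgSp.Space S} (f : X ⟶ Y) (g : Y' ⟶ Y) (hQ : Q f.hom) (hR : R g.hom)
    (W : AlgSp.Space S) (w : W ⟶ X) (hlg : IsLg P f W w)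
    {𝒜 𝒟 𝒞 : AlgSt.Cat S} (h𝒞 : FibCat.IsFibGrpd 𝒞.p)
    (Θ : FibCat.fp (ofSpMap g.hom) (ofSpMap f.hom) ⥤ᵇ 𝒜) (hΘ : FibCat.IsEquivOver Θ)
    (ψA : 𝒜 ⥤ᵇ ofSp Y'.obj) (DA : 𝒜 ⥤ᵇ 𝒟) (eD : ofSp X.obj ⥤ᵇ 𝒟)
    (h1 : BasedFunctor.comp Θ ψA = FibCat.fpFst (ofSpMap g.hom) (ofSpMap f.hom))
    (h2 : BasedFunctor.comp Θ DA =
      BasedFunctor.comp (FibCat.fpSnd (ofSpMap g.hom) (ofSpMap f.hom)) eD)
    (j : 𝒞 ⥤ᵇ 𝒜)
    (hjo : AlgSt.RepByAlgSpWith (AlgSp.RepWith @IsOpenImmersion) j)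
    (hjP : AlgSt.RepByAlgSpWith P (BasedFunctor.comp j ψA)) (c : 𝒞.obj) :
    EssIm (BasedFunctor.comp (ofSpMap w.hom) eD) (DA.obj (j.obj c)) := by
  obtain ⟨X'', f', g', sq⟩ := exists_pullback_space f g
  obtain ⟨W'', w'', k'', sqW⟩ := exists_pullback_space w g'
  have hlg'' : IsLg P f' W'' w'' := h₄ X Y X'' Y' f g f' g' sq hQ hR W w hlg W'' w'' k'' sqW
  have hk : k'' ≫ w = w'' ≫ g' := by
    apply ObjectProperty.hom_ext
    exact sqW.w
  exact bcu_aux P hPb hP f g f' g' sq w w'' k'' hk hlg'' h𝒞 Θ hΘ ψA DA eD h1 h2 j hjo hjP c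

end Groth.Agent.Lib.Helper17.LG
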