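import Groth.Agent.Lib.Helper17.LargestOpen2
import Groth.Agent.Lib.Helper17.FpInvariance
import Groth.Agent.Lib.Helper17.PastingR
import Groth.Agent.Lib.Helper17.Pasting

set_option autoImplicit false
set_option backward.isDefEq.respectTransparency false
set_option backward.isDefEq.respectTransparency.types false
universe u

namespace Groth.Agent.Lib.Helper17.LG

open CategoryTheory CategoryTheory.Limits AlgebraicGeometry Opposite AlgSp FibCat Stk AlgSt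
open Groth.Agent.Lib.Helper17 Groth.Agent.Lib.Helper17.FP Groth.Agent.Lib.Helper17.EO
  Groth.Agent.Lib.Helper17.PD Groth.Agent.Lib.Helper17.AT Groth.Agent.Lib.Helper17.AB
  Groth.Agent.Lib.Helper17.AOS Groth.Agent.Lib.Helper17.ACP Groth.Agent.Lib.Helper17.PTS
open Groth.Agent.Lib.Helper10

variable {S : Scheme.{u}}

/-- objects of `𝒲 ×_𝒵 𝒳` whose second component is in the essential image of `g` are in the
essential image of the functor induced by `g` -/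
theorem essIm_toInner {𝒲 𝒳' 𝒳 𝒵 : AlgSt.Cat S} (y : 𝒲 ⥤ᵇ 𝒵) (g : 𝒳' ⥤ᵇ 𝒳) (f : 𝒳 ⥤ᵇ 𝒵)
    (s : (FibCat.fp y f).obj) (h : EssIm g s.obj.snd) : EssIm (PSR.toInner y g f) s := by
  obtain ⟨a', i, hi⟩ := h
  have hb : 𝒳'.p.obj a' = 𝒲.p.obj s.obj.fst := by
    have h1 := hl_cod hi
    exact h1.symm.trans (snd_obj s)
  have hlift : 𝒵.p.IsHomLift (𝟙 (𝒲.p.obj s.obj.fst))
      (s.obj.iso ≪≫ f.toFunctor.mapIso i.symm).hom := by
    have h1 := iso_isHomLift s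
    have hi' : 𝒳.p.IsHomLift (𝟙 (𝒳'.p.obj a')) i.inv := IsHomLift.lift_id_inv 𝒳.p _ i
    have h2 : 𝒵.p.IsHomLift (𝟙 (𝒳'.p.obj a')) (f.map i.inv) := map_lift'' f hi'
    rw [hb] at h2
    exact IsHomLift.comp_of_lift_id 𝒵.p _ s.obj.iso.hom (f.map i.inv)
  let c : (FibCat.fp y (BasedFunctor.comp g f)).obj :=
    mkObj (F := y) (G := BasedFunctor.comp g f) s.obj.fst a'
      (s.obj.iso ≪≫ f.toFunctor.mapIso i.symm) hlift
  refine ⟨c, mkIso (F := y) (G := f) (Iso.refl _) i ?_, ?_⟩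
  · change y.map (𝟙 _) ≫ s.obj.iso.hom = (s.obj.iso.hom ≫ f.map i.inv) ≫ f.map i.hom
    rw [Category.assoc, ← f.toFunctor.map_comp, Iso.inv_hom_id]
    simp
  · rw [isHomLift_iff_fst]
    exact IsHomLift.id rfl

/-- naturality is automatic for families of isomorphisms over identities in the category of a
sheaf -/
theorem nat_free {𝒞 : AlgSt.Cat S} {H : AlgSp.Sp S} (G G₀ : 𝒞 ⥤ᵇ ofSp H)
    (ε : ∀ x : 𝒞.obj, G.obj x ≅ G₀.obj x)
    (hε : ∀ x : 𝒞.obj, (ofSp H).p.IsHomLift (𝟙 (𝒞.p.obj x)) (ε x).hom)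
    {x x₁ : 𝒞.obj} (β : x ⟶ x₁) : G.map β ≫ (ε x₁).hom = (ε x).hom ≫ G₀.map β := by
  have h1 : (ofSp H).p.IsHomLift (𝒞.p.map β) (G.map β) := map_lift'' G (IsHomLift.map 𝒞.p β)
  have h2 : (ofSp H).p.IsHomLift (𝒞.p.map β) (G₀.map β) := map_lift'' G₀ (IsHomLift.map 𝒞.p β)
  have h3 := hε x
  have h4 := hε x₁
  have hL : (ofSp H).p.IsHomLift (𝒞.p.map β) (G.map β ≫ (ε x₁).hom) := inferInstance
  have hR : (ofSp H).p.IsHomLift (𝒞.p.map β) ((ε x).hom ≫ G₀.map β) := inferInstance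
  apply EltObj.hom_ext
  have e1 := hl_fac' hL
  have e2 := hl_fac' hR
  exact e1.trans e2.symm

/-- the comparison of the 2-fibre product of the categories of spaces with the 2-fibre product
over a slice -/
theorem exists_theta {F Y' : AlgSp.Space S} {V : Over S} {𝒟 : AlgSt.Cat S}
    (φ₀ : 𝒟 ⥤ᵇ FibCat.overCat V) (e : ofSp F.obj ⥤ᵇ 𝒟) (he : FibCat.IsEquivOver e)
    (κ : ofSp Y'.obj ⥤ᵇ FibCat.overCat V) :
    ∃ Θ : FibCat.fp (ofSpMap (spMapOfOver κ)) (ofSpMap (spMapOfOver (BasedFunctor.comp e φ₀))) ⥤ᵇ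
        FibCat.fp κ φ₀,
      FibCat.IsEquivOver Θ ∧
      BasedFunctor.comp Θ (FibCat.fpFst κ φ₀) =
        FibCat.fpFst (ofSpMap (spMapOfOver κ)) (ofSpMap (spMapOfOver (BasedFunctor.comp e φ₀))) ∧
      BasedFunctor.comp Θ (FibCat.fpSnd κ φ₀) =
        BasedFunctor.comp (FibCat.fpSnd (ofSpMap (spMapOfOver κ))
          (ofSpMap (spMapOfOver (BasedFunctor.comp e φ₀)))) e := by
  let Θ₁ := FI.sq e (toOverCat V) φ₀ (ofSpMap (spMapOfOver (BasedFunctor.comp e φ₀)))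
    (ofSpMap (spMapOfOver κ)) (fun x' => FD.slIso (BasedFunctor.comp e φ₀) x')
    (fun β => FD.slIso_nat (BasedFunctor.comp e φ₀) β)
    (fun x' => FD.slIso_lift (BasedFunctor.comp e φ₀) x')
  have hΘ₁ : FibCat.IsEquivOver Θ₁ := FI.sq_isEquivOver _ _ _ _ _ _ _ _ he
    (AD.toOverCat_isEquivOver V)
  let Θ₂ := FI.tw (BasedFunctor.comp (ofSpMap (spMapOfOver κ)) (toOverCat V)) κ φ₀
    (fun c => (FD.slIso κ c).symm) (fun α => FD.slIso_symm_nat κ α)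
    (fun c => FD.slIso_symm_lift κ c)
  have hΘ₂ : FibCat.IsEquivOver Θ₂ := FI.tw_isEquivOver _ _ _ _ _ _
  refine ⟨BasedFunctor.comp Θ₁ Θ₂, isEquivOver_comp _ _ hΘ₁ hΘ₂, ?_, ?_⟩
  · exact DR.basedFunctor_ext rfl
  · exact DR.basedFunctor_ext rfl

end Groth.Agent.Lib.Helper17.LG
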