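import Groth.Agent.Lib.Helper17.LargestOpen3

set_option autoImplicit false
set_option backward.isDefEq.respectTransparency false
set_option backward.isDefEq.respectTransparency.types false
universe u

namespace Groth.Agent.Lib.Helper17.LG

open CategoryTheory CategoryTheory.Limits AlgebraicGeometry Opposite AlgSp FibCat Stk AlgSt
open Groth.Agent.Lib.Helper17 Groth.Agent.Lib.Helper17.FP Groth.Agent.Lib.Helper17.EO
  Groth.Agent.Lib.Helper17.PD Groth.Agent.Lib.Helper17.AT Groth.Agent.Lib.Helper17.AB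
  Groth.Agent.Lib.Helper17.AOS Groth.Agent.Lib.Helper17.ACP Groth.Agent.Lib.Helper17.PTS
open Groth.Agent.Lib.Helper10

variable {S : Scheme.{u}}

section Sat

variable {𝒳 𝒴 : AlgSt.Cat S} (f : 𝒳 ⥤ᵇ 𝒴) {V : Over S} (v : FibCat.overCat V ⥤ᵇ 𝒴)
  {V₂ : AlgSp.Sp S} (eV : ofSp V₂ ⥤ᵇ FibCat.fp v v)

/-- the first projection of the model of `V ×_𝒴 V` -/
def kap₁ : ofSp V₂ ⥤ᵇ FibCat.overCat V := BasedFunctor.comp eV (FibCat.fpFst v v)

/-- the second projection of the model of `V ×_𝒴 V` -/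
def kap₂ : ofSp V₂ ⥤ᵇ FibCat.overCat V := BasedFunctor.comp eV (FibCat.fpSnd v v)

theorem twV_nat {c c' : (ofSp V₂).obj} (α : c ⟶ c') :
    (BasedFunctor.comp (kap₂ v eV) v).map α ≫ (eV.obj c').obj.iso.symm.hom =
      (eV.obj c).obj.iso.symm.hom ≫ (BasedFunctor.comp (kap₁ v eV) v).map α := by
  have hw := (eV.map α).hom.w
  change v.map (eV.map α).hom.snd ≫ (eV.obj c').obj.iso.inv =
    (eV.obj c).obj.iso.inv ≫ v.map (eV.map α).hom.fst
  rw [Iso.comp_inv_eq, Category.assoc, Iso.eq_inv_comp]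
  exact hw.symm

theorem twV_lift (c : (ofSp V₂).obj) :
    𝒴.p.IsHomLift (𝟙 ((ofSp V₂).p.obj c)) (eV.obj c).obj.iso.symm.hom := by
  have h1 := iso_isHomLift (eV.obj c)
  have h2 : (FibCat.overCat V).p.obj (eV.obj c).obj.fst = (ofSp V₂).p.obj c := eV.w_obj c
  rw [h2] at h1
  exact IsHomLift.lift_id_inv 𝒴.p _ (eV.obj c).obj.iso

/-- the twist by the canonical 2-isomorphism of `V ×_𝒴 V` -/
def twV : FibCat.fp (BasedFunctor.comp (kap₁ v eV) v) f ⥤ᵇ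
    FibCat.fp (BasedFunctor.comp (kap₂ v eV) v) f :=
  FI.tw (BasedFunctor.comp (kap₁ v eV) v) (BasedFunctor.comp (kap₂ v eV) v) f
    (fun c => (eV.obj c).obj.iso.symm) (fun α => twV_nat v eV α) (fun c => twV_lift v eV c)

theorem twV_isEquivOver : FibCat.IsEquivOver (twV f v eV) :=
  FI.tw_isEquivOver (BasedFunctor.comp (kap₁ v eV) v) (BasedFunctor.comp (kap₂ v eV) v) f
    (fun c => (eV.obj c).obj.iso.symm) (fun α => twV_nat v eV α) (fun c => twV_lift v eV c)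

/-- the first projection `(V ×_𝒴 V) ×_𝒴 𝒳 ⟶ V ×_𝒴 𝒳` -/
def D₁ : FibCat.fp (BasedFunctor.comp (kap₁ v eV) v) f ⥤ᵇ FibCat.fp v f :=
  BasedFunctor.comp (PS.paste (kap₁ v eV) v f) (FibCat.fpSnd (kap₁ v eV) (FibCat.fpFst v f))

/-- the second projection `(V ×_𝒴 V) ×_𝒴 𝒳 ⟶ V ×_𝒴 𝒳` -/
def D₂ : FibCat.fp (BasedFunctor.comp (kap₁ v eV) v) f ⥤ᵇ FibCat.fp v f :=
  BasedFunctor.comp (BasedFunctor.comp (twV f v eV) (PS.paste (kap₂ v eV) v f))
    (FibCat.fpSnd (kap₂ v eV) (FibCat.fpFst v f))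

end Sat

/-- composition of the functor of a map of sheaves with a functor to a slice -/
theorem spMapOfOver_ofSpMap_comp {W F : AlgSp.Sp S} {V : Over S} (w : W ⟶ F)
    (Φ : ofSp F ⥤ᵇ FibCat.overCat V) :
    spMapOfOver (BasedFunctor.comp (ofSpMap w) Φ) = w ≫ spMapOfOver Φ := by
  apply ObjectProperty.hom_ext
  ext T x
  rfl

/-- **saturation**: the largest open subspace of `V ×_𝒴 𝒳` is stable under the groupoid -/
theorem sat (P Q R : MorphismProperty (AlgSp.Sp S)) (hPb : BC P)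
    (hP : AlgSp.IsLocalOnBase (AlgSp.IsFppfCover (S := S)) P) (h₄ : H4 P Q R)
    {𝒳 𝒴 : AlgSt.Cat S} (f : 𝒳 ⥤ᵇ 𝒴) {V : Over S} (v : FibCat.overCat V ⥤ᵇ 𝒴)
    (F : AlgSp.Space S) (e : ofSp F.obj ⥤ᵇ FibCat.fp v f) (he : FibCat.IsEquivOver e)
    (hQφ : Q (spMapOfOver (BasedFunctor.comp e (FibCat.fpFst v f))))
    (V₂ : AlgSp.Space S) (eV : ofSp V₂.obj ⥤ᵇ FibCat.fp v v)
    (hR₂ : R (spMapOfOver (kap₂ v eV)))
    (W : AlgSp.Space S) (w : W ⟶ F)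
    (hlg : IsLg P (ObjectProperty.homMk (spMapOfOver (BasedFunctor.comp e (FibCat.fpFst v f))) :
      F ⟶ (⟨(yon S).obj V, IsAlgSpace.yon_obj V⟩ : AlgSp.Space S)) W w)
    (z : (FibCat.fp (BasedFunctor.comp (kap₁ v eV) v) f).obj)
    (hz : EssIm (BasedFunctor.comp (ofSpMap w.hom) e) ((D₁ f v eV).obj z)) :
    EssIm (BasedFunctor.comp (ofSpMap w.hom) e) ((D₂ f v eV).obj z) := by
  let Yv : AlgSp.Space S := ⟨(yon S).obj V, IsAlgSpace.yon_obj V⟩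
  let fF : F ⟶ Yv := ObjectProperty.homMk (spMapOfOver (BasedFunctor.comp e (FibCat.fpFst v f)))
  let gV : V₂ ⟶ Yv := ObjectProperty.homMk (spMapOfOver (kap₂ v eV))
  let ιW : ofSp W.obj ⥤ᵇ FibCat.fp v f := BasedFunctor.comp (ofSpMap w.hom) e
  have hVf : FibCat.IsFibGrpd (FibCat.overCat V).p := FG.isFibGrpd_overForget V
  have hιo : AlgSt.RepByAlgSpWith (AlgSp.RepWith @IsOpenImmersion) ιW :=
    LQT.repWith_postcomp_equiv _ (ofSpMap w.hom) e he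
      (DCV.repWith_ofSpMap _ (SLP.repWith_bc _) W F w.hom hlg.1)
  have hj₀o : AlgSt.RepByAlgSpWith (AlgSp.RepWith @IsOpenImmersion)
      (PSR.toInner (kap₁ v eV) ιW (FibCat.fpFst v f)) :=
    ACP.repWith_toInner _ (kap₁ v eV) ιW (FibCat.fpFst v f) hιo
  have hιP : AlgSt.RepByAlgSpWith P (BasedFunctor.comp ιW (FibCat.fpFst v f)) := by
    refine LQT.repWith_to_slice_of P hPb _ W (BasedFunctor.id _) (isEquivOver_id _) ?_
    have e1 : spMapOfOver (BasedFunctor.comp (BasedFunctor.id (ofSp W.obj))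
        (BasedFunctor.comp ιW (FibCat.fpFst v f))) = (w ≫ fF).hom :=
      spMapOfOver_ofSpMap_comp w.hom (BasedFunctor.comp e (FibCat.fpFst v f))
    rw [e1]
    exact hlg.2.1
  have hj₀P : AlgSt.RepByAlgSpWith P (BasedFunctor.comp
      (PSR.toInner (kap₁ v eV) ιW (FibCat.fpFst v f))
      (FibCat.fpFst (kap₁ v eV) (FibCat.fpFst v f))) := by
    rw [PSR.toInner_fst]
    exact repWith_fpFst P _ (kap₁ v eV) hιP
  have h𝒞 : FibCat.IsFibGrpd (FibCat.fp (kap₁ v eV)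
      (BasedFunctor.comp ιW (FibCat.fpFst v f))).p :=
    SP.isFibGrpd_fp _ _ (Stk.isFibGrpd_ofPsh _) (Stk.isFibGrpd_ofPsh _) hVf
  -- the two pastings
  have hΨ₁ := PS.paste_isEquivOver (kap₁ v eV) v f
  obtain ⟨Ψ₁', ⟨un₁⟩, ⟨cu₁⟩⟩ := id hΨ₁
  have hΨ₁' : FibCat.IsEquivOver Ψ₁' := isEquivOver_symm _ Ψ₁' un₁ cu₁
  have hΨ₂ : FibCat.IsEquivOver (BasedFunctor.comp (twV f v eV) (PS.paste (kap₂ v eV) v f)) :=
    isEquivOver_comp _ _ (twV_isEquivOver f v eV) (PS.paste_isEquivOver (kap₂ v eV) v f)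
  let j := BasedFunctor.comp (BasedFunctor.comp (PSR.toInner (kap₁ v eV) ιW (FibCat.fpFst v f)) Ψ₁')
    (BasedFunctor.comp (twV f v eV) (PS.paste (kap₂ v eV) v f))
  have hjo : AlgSt.RepByAlgSpWith (AlgSp.RepWith @IsOpenImmersion) j :=
    LQT.repWith_postcomp_equiv _ _ _ hΨ₂ (LQT.repWith_postcomp_equiv _ _ _ hΨ₁' hj₀o)
  have hjP : AlgSt.RepByAlgSpWith P
      (BasedFunctor.comp j (FibCat.fpFst (kap₂ v eV) (FibCat.fpFst v f))) := by
    obtain ⟨εd, hεd⟩ : ∃ εd : ∀ x' : (FibCat.fp (kap₁ v eV)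
          (BasedFunctor.comp ιW (FibCat.fpFst v f))).obj,
        (BasedFunctor.comp j (FibCat.fpFst (kap₂ v eV) (FibCat.fpFst v f))).obj x' ≅
        (BasedFunctor.comp (PSR.toInner (kap₁ v eV) ιW (FibCat.fpFst v f))
          (FibCat.fpFst (kap₁ v eV) (FibCat.fpFst v f))).obj x',
        ∀ x', (εd x').hom = (FibCat.fpFst (kap₁ v eV) (FibCat.fpFst v f)).map
          (compApp cu₁ ((PSR.toInner (kap₁ v eV) ιW (FibCat.fpFst v f)).obj x')).hom :=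
      ⟨fun x' => (FibCat.fpFst (kap₁ v eV) (FibCat.fpFst v f)).toFunctor.mapIso
        (compApp cu₁ ((PSR.toInner (kap₁ v eV) ιW (FibCat.fpFst v f)).obj x')), fun _ => rfl⟩
    have εl : ∀ x', (ofSp V₂.obj).p.IsHomLift
        (𝟙 ((FibCat.fp (kap₁ v eV) (BasedFunctor.comp ιW (FibCat.fpFst v f))).p.obj x'))
        (εd x').hom := by
      intro x'
      have h := compApp_lift cu₁ ((PSR.toInner (kap₁ v eV) ιW (FibCat.fpFst v f)).obj x')
      rw [(PSR.toInner (kap₁ v eV) ιW (FibCat.fpFst v f)).w_obj] at h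
      rw [hεd]
      exact map_lift'' (FibCat.fpFst (kap₁ v eV) (FibCat.fpFst v f)) h
    refine repWith_of_square_fwd P
      (BasedFunctor.comp (PSR.toInner (kap₁ v eV) ιW (FibCat.fpFst v f))
          (FibCat.fpFst (kap₁ v eV) (FibCat.fpFst v f)))
      (BasedFunctor.comp j (FibCat.fpFst (kap₂ v eV) (FibCat.fpFst v f)))
      (BasedFunctor.id _) (BasedFunctor.id _)
      (isEquivOver_id _) (isEquivOver_id _) εd ?_ εl hj₀P
    intro x x₁ β
    exact nat_free _ _ εd εl β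
  obtain ⟨Θ, hΘ, hΘ1, hΘ2⟩ := exists_theta (FibCat.fpFst v f) e he (kap₂ v eV)
  have key := fun c => bcu P Q R hPb hP h₄ fF gV hQφ hR₂ W w hlg h𝒞 Θ hΘ
    (FibCat.fpFst (kap₂ v eV) (FibCat.fpFst v f)) (FibCat.fpSnd (kap₂ v eV) (FibCat.fpFst v f))
    e hΘ1 hΘ2 j hjo hjP c
  -- the object
  obtain ⟨c, i, hi⟩ := essIm_toInner (kap₁ v eV) ιW (FibCat.fpFst v f)
    ((PS.paste (kap₁ v eV) v f).obj z) hz
  have hc := key c
  let i₂ : Ψ₁'.obj ((PSR.toInner (kap₁ v eV) ιW (FibCat.fpFst v f)).obj c) ≅ z :=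
    Ψ₁'.toFunctor.mapIso i ≪≫ compApp un₁ z
  refine essIm_of_iso _ ((D₂ f v eV).toFunctor.mapIso i₂) ?_ hc
  have hbz : (FibCat.fp (BasedFunctor.comp (kap₁ v eV) v) f).p.obj z =
      (FibCat.fp (kap₁ v eV) (BasedFunctor.comp ιW (FibCat.fpFst v f))).p.obj c :=
    ((PS.paste (kap₁ v eV) v f).w_obj z).symm.trans (hl_cod hi)
  have h1 : (FibCat.fp (BasedFunctor.comp (kap₁ v eV) v) f).p.IsHomLift
      (𝟙 ((FibCat.fp (kap₁ v eV) (BasedFunctor.comp ιW (FibCat.fpFst v f))).p.obj c))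
      (Ψ₁'.map i.hom) := map_lift'' Ψ₁' hi
  have h2 : (FibCat.fp (BasedFunctor.comp (kap₁ v eV) v) f).p.IsHomLift
      (𝟙 ((FibCat.fp (kap₁ v eV) (BasedFunctor.comp ιW (FibCat.fpFst v f))).p.obj c))
      (compApp un₁ z).hom := by
    rw [← hbz]
    exact compApp_lift un₁ z
  have h3 : (FibCat.fp (BasedFunctor.comp (kap₁ v eV) v) f).p.IsHomLift
      (𝟙 ((FibCat.fp (kap₁ v eV) (BasedFunctor.comp ιW (FibCat.fpFst v f))).p.obj c))
      (Ψ₁'.map i.hom ≫ (compApp un₁ z).hom) :=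
    IsHomLift.comp_of_lift_id _ _ (Ψ₁'.map i.hom) (compApp un₁ z).hom
  have h4 := map_lift'' (D₂ f v eV) h3
  have hb : (FibCat.fp v f).p.obj ((D₂ f v eV).obj
      (Ψ₁'.obj ((PSR.toInner (kap₁ v eV) ιW (FibCat.fpFst v f)).obj c))) =
      (FibCat.fp (kap₁ v eV) (BasedFunctor.comp ιW (FibCat.fpFst v f))).p.obj c :=
    ((FibCat.fpSnd (kap₂ v eV) (FibCat.fpFst v f)).w_obj _).trans (j.w_obj c)
  rw [hb]
  exact h4

end Groth.Agent.Lib.Helper17.LG
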