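import Groth.Agent.Lib.Helper17.LargestOpen4
import Groth.Agent.Lib.Helper17.PointsQc2

set_option autoImplicit false
set_option backward.isDefEq.respectTransparency false
set_option backward.isDefEq.respectTransparency.types false
universe u

namespace Groth.Agent.Lib.Helper17.LG

open CategoryTheory CategoryTheory.Limits AlgebraicGeometry Opposite AlgSp FibCat Stk AlgSt
open Groth.Agent.Lib.Helper17 Groth.Agent.Lib.Helper17.FP Groth.Agent.Lib.Helper17.EO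
  Groth.Agent.Lib.Helper17.PD Groth.Agent.Lib.Helper17.AT Groth.Agent.Lib.Helper17.AB
  Groth.Agent.Lib.Helper17.AOS Groth.Agent.Lib.Helper17.ACP Groth.Agent.Lib.Helper17.PTS
open Groth.Agent.Lib.Helper10

variable {S : Scheme.{u}}

/-- two objects of `V ×_𝒴 𝒳` with isomorphic images in `𝒳` are the two projections of an object of
`(V ×_𝒴 V) ×_𝒴 𝒳` -/
theorem exists_N {𝒳 𝒴 : AlgSt.Cat S} (f : 𝒳 ⥤ᵇ 𝒴) {V : Over S} (v : FibCat.overCat V ⥤ᵇ 𝒴)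
    {V₂ : AlgSp.Sp S} (eV : ofSp V₂ ⥤ᵇ FibCat.fp v v) (heV : FibCat.IsEquivOver eV)
    (ξ₁ ξ₂ : (FibCat.fp v f).obj) (β : ξ₁.obj.snd ≅ ξ₂.obj.snd)
    (hβ : 𝒳.p.IsHomLift (𝟙 ((FibCat.fp v f).p.obj ξ₁)) β.hom) :
    ∃ z : (FibCat.fp (BasedFunctor.comp (kap₁ v eV) v) f).obj,
      (∃ i : (D₁ f v eV).obj z ≅ ξ₁, (FibCat.fp v f).p.IsHomLift
        (𝟙 ((FibCat.fp (BasedFunctor.comp (kap₁ v eV) v) f).p.obj z)) i.hom) ∧
      (∃ i : (D₂ f v eV).obj z ≅ ξ₂, (FibCat.fp v f).p.IsHomLift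
        (𝟙 ((FibCat.fp (BasedFunctor.comp (kap₁ v eV) v) f).p.obj z)) i.hom) := by
  -- the object of `V ×_𝒴 V`
  have hb12 : (FibCat.fp v f).p.obj ξ₂ = (FibCat.fp v f).p.obj ξ₁ := by
    have h1 := hl_cod hβ
    exact (snd_obj ξ₂).symm.trans h1
  have h1 := iso_isHomLift ξ₁
  have h2 := iso_isHomLift ξ₂
  have hfβ : 𝒴.p.IsHomLift (𝟙 ((FibCat.overCat V).p.obj ξ₁.obj.fst)) (f.map β.hom) :=
    map_lift'' f hβ
  have h2' : 𝒴.p.IsHomLift (𝟙 ((FibCat.overCat V).p.obj ξ₁.obj.fst)) ξ₂.obj.iso.inv := by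
    have h3 : 𝒴.p.IsHomLift (𝟙 ((FibCat.overCat V).p.obj ξ₂.obj.fst)) ξ₂.obj.iso.inv :=
      IsHomLift.lift_id_inv 𝒴.p _ ξ₂.obj.iso
    have e0 : (FibCat.overCat V).p.obj ξ₂.obj.fst = (FibCat.overCat V).p.obj ξ₁.obj.fst := hb12
    rw [e0] at h3
    exact h3
  have hγ : 𝒴.p.IsHomLift (𝟙 ((FibCat.overCat V).p.obj ξ₁.obj.fst))
      (ξ₁.obj.iso ≪≫ f.toFunctor.mapIso β ≪≫ ξ₂.obj.iso.symm).hom := by
    have h4 : 𝒴.p.IsHomLift (𝟙 ((FibCat.overCat V).p.obj ξ₁.obj.fst))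
        (f.map β.hom ≫ ξ₂.obj.iso.inv) :=
      IsHomLift.comp_of_lift_id 𝒴.p _ (f.map β.hom) ξ₂.obj.iso.inv
    exact IsHomLift.comp_of_lift_id 𝒴.p _ ξ₁.obj.iso.hom (f.map β.hom ≫ ξ₂.obj.iso.inv)
  let c₀ : (FibCat.fp v v).obj := mkObj (F := v) (G := v) ξ₁.obj.fst ξ₂.obj.fst
    (ξ₁.obj.iso ≪≫ f.toFunctor.mapIso β ≪≫ ξ₂.obj.iso.symm) hγ
  obtain ⟨c, ic, hic⟩ := ((Groth.Agent.S5139.result eV).mp heV).2 c₀
  let i1 : (eV.obj c).obj.fst ≅ ξ₁.obj.fst := (FibCat.fpFst v v).toFunctor.mapIso ic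
  let i2 : (eV.obj c).obj.snd ≅ ξ₂.obj.fst := (FibCat.fpSnd v v).toFunctor.mapIso ic
  have hw : v.map i1.hom ≫ (ξ₁.obj.iso.hom ≫ f.map β.hom ≫ ξ₂.obj.iso.inv) =
      (eV.obj c).obj.iso.hom ≫ v.map i2.hom := ic.hom.hom.w
  have hi1 : (FibCat.overCat V).p.IsHomLift (𝟙 ((ofSp V₂).p.obj c)) i1.hom := by
    have h3 := (isHomLift_iff_fst ic.hom (𝟙 ((FibCat.fp v v).p.obj c₀))).mp hic
    have e0 : (FibCat.fp v v).p.obj c₀ = (ofSp V₂).p.obj c := by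
      have := hl_dom hic
      rw [← this]
      exact eV.w_obj c
    rw [e0] at h3
    exact h3
  have hvi1 : 𝒴.p.IsHomLift (𝟙 ((ofSp V₂).p.obj c)) (v.map i1.hom) := map_lift'' v hi1
  have e1 : (FibCat.overCat V).p.obj ξ₁.obj.fst = (ofSp V₂).p.obj c := hl_cod hi1
  have h1' : 𝒴.p.IsHomLift (𝟙 ((ofSp V₂).p.obj c)) ξ₁.obj.iso.hom := by
    rw [← e1]; exact h1
  have hθ : 𝒴.p.IsHomLift (𝟙 ((ofSp V₂).p.obj c))
      (v.toFunctor.mapIso i1 ≪≫ ξ₁.obj.iso).hom :=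
    IsHomLift.comp_of_lift_id 𝒴.p _ (v.map i1.hom) ξ₁.obj.iso.hom
  let z : (FibCat.fp (BasedFunctor.comp (kap₁ v eV) v) f).obj :=
    mkObj (F := BasedFunctor.comp (kap₁ v eV) v) (G := f) c ξ₁.obj.snd
      (v.toFunctor.mapIso i1 ≪≫ ξ₁.obj.iso) hθ
  refine ⟨z, ⟨mkIso (z := (D₁ f v eV).obj z) (z' := ξ₁) i1 (Iso.refl _) ?_, ?_⟩,
    ⟨mkIso (z := (D₂ f v eV).obj z) (z' := ξ₂) i2 β ?_, ?_⟩⟩
  · change v.map i1.hom ≫ ξ₁.obj.iso.hom = (v.map i1.hom ≫ ξ₁.obj.iso.hom) ≫ f.map (𝟙 _)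
    rw [f.map_id, Category.comp_id]
  · rw [isHomLift_iff_fst]
    exact hi1
  · change v.map i2.hom ≫ ξ₂.obj.iso.hom =
      ((eV.obj c).obj.iso.inv ≫ v.map i1.hom ≫ ξ₁.obj.iso.hom) ≫ f.map β.hom
    rw [Category.assoc, Iso.eq_inv_comp, ← Category.assoc, ← hw]
    simp only [Category.assoc, Iso.inv_hom_id, Category.comp_id]
  · rw [isHomLift_iff_fst]
    have h3 := (isHomLift_iff_fst ic.hom (𝟙 ((FibCat.fp v v).p.obj c₀))).mp hic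
    have h4 : (FibCat.overCat V).p.IsHomLift (𝟙 ((FibCat.fp v v).p.obj c₀)) i2.hom :=
      FP.isHomLift_snd ic.hom _ hic
    have e0 : (FibCat.fp v v).p.obj c₀ = (ofSp V₂).p.obj c := by
      have := hl_dom hic
      rw [← this]
      exact eV.w_obj c
    rw [e0] at h4
    exact h4

/-- **the key step**: an object of `V ×_𝒴 𝒳` whose image in `𝒳` has all its points in the image of
the largest open subspace lies in the largest open subspace -/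
theorem key_essIm (P Q R : MorphismProperty (AlgSp.Sp S)) (hPb : BC P)
    (hP : AlgSp.IsLocalOnBase (AlgSp.IsFppfCover (S := S)) P) (h₄ : H4 P Q R)
    {𝒳 𝒴 : AlgSt.Cat S} (h𝒳 : FibCat.IsFibGrpd 𝒳.p) (h𝒴 : FibCat.IsFibGrpd 𝒴.p)
    (f : 𝒳 ⥤ᵇ 𝒴) {V : Over S} (v : FibCat.overCat V ⥤ᵇ 𝒴)
    (F : AlgSp.Space S) (e : ofSp F.obj ⥤ᵇ FibCat.fp v f) (he : FibCat.IsEquivOver e)
    (hQφ : Q (spMapOfOver (BasedFunctor.comp e (FibCat.fpFst v f))))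
    (V₂ : AlgSp.Space S) (eV : ofSp V₂.obj ⥤ᵇ FibCat.fp v v) (heV : FibCat.IsEquivOver eV)
    (hR₂ : R (spMapOfOver (kap₂ v eV)))
    (W : AlgSp.Space S) (w : W ⟶ F)
    (hlg : IsLg P (ObjectProperty.homMk (spMapOfOver (BasedFunctor.comp e (FibCat.fpFst v f))) :
      F ⟶ (⟨(yon S).obj V, IsAlgSpace.yon_obj V⟩ : AlgSp.Space S)) W w)
    (ξ : (FibCat.fp v f).obj)
    (hξ : OST.QT (Set.range (AlgSt.Points.map (BasedFunctor.comp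
      (BasedFunctor.comp (ofSpMap w.hom) e) (FibCat.fpSnd v f)))) ξ.obj.snd) :
    EssIm (BasedFunctor.comp (ofSpMap w.hom) e) ξ := by
  have hVf : FibCat.IsFibGrpd (FibCat.overCat V).p := FG.isFibGrpd_overForget V
  have hfp : FibCat.IsFibGrpd (FibCat.fp v f).p := SP.isFibGrpd_fp _ _ hVf h𝒳 h𝒴
  refine essIm_of_QT w hlg.1 e he ξ ?_
  intro p a
  -- the image point lies in the image of `W`
  have h1 : AlgSt.Points.mk (p.map (FibCat.fpSnd v f)) ∈ Set.range (AlgSt.Points.map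
      (BasedFunctor.comp (BasedFunctor.comp (ofSpMap w.hom) e) (FibCat.fpSnd v f))) :=
    hξ (p.map (FibCat.fpSnd v f)) ((FibCat.fpSnd v f).map a)
  obtain ⟨η, hη⟩ := h1
  rw [PTS.map_comp] at hη
  obtain ⟨r, hr1, hr2⟩ := PTS.exists_point_fp hfp h𝒳 hfp (FibCat.fpSnd v f) (FibCat.fpSnd v f)
    (AlgSt.Points.map (BasedFunctor.comp (ofSpMap w.hom) e) η) (AlgSt.Points.mk p) hη
  obtain ⟨r₀, rfl⟩ := AlgSt.Points.mk_surjective r
  -- the first object lies in the image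
  have hE1 : EssIm (BasedFunctor.comp (ofSpMap w.hom) e) r₀.obj.obj.fst := by
    refine essIm_of_QT w hlg.1 e he _ ?_
    intro q b
    have e1 : AlgSt.Points.mk q = AlgSt.Points.mk (r₀.map (FibCat.fpFst _ _)) :=
      PTS.mk_eq_of_hom q (r₀.map (FibCat.fpFst _ _)) b
    rw [e1]
    exact ⟨η, hr1.symm⟩
  have hβ : 𝒳.p.IsHomLift (𝟙 ((FibCat.fp v f).p.obj r₀.obj.obj.fst)) r₀.obj.obj.iso.hom :=
    iso_isHomLift r₀.obj
  obtain ⟨z, ⟨i₁, hi₁⟩, ⟨i₂, hi₂⟩⟩ := exists_N f v eV heV r₀.obj.obj.fst r₀.obj.obj.snd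
    r₀.obj.obj.iso hβ
  have hb1 : (FibCat.fp v f).p.obj ((D₁ f v eV).obj z) =
      (FibCat.fp (BasedFunctor.comp (kap₁ v eV) v) f).p.obj z := hl_dom hi₁
  have hb2 : (FibCat.fp v f).p.obj ((D₂ f v eV).obj z) =
      (FibCat.fp (BasedFunctor.comp (kap₁ v eV) v) f).p.obj z := hl_dom hi₂
  have hc1 : (FibCat.fp v f).p.obj r₀.obj.obj.fst =
      (FibCat.fp (BasedFunctor.comp (kap₁ v eV) v) f).p.obj z := hl_cod hi₁
  have hD1 : EssIm (BasedFunctor.comp (ofSpMap w.hom) e) ((D₁ f v eV).obj z) := by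
    refine essIm_of_iso _ i₁.symm ?_ hE1
    rw [hc1]
    exact IsHomLift.lift_id_inv _ _ i₁
  have hD2 := sat P Q R hPb hP h₄ f v F e he hQφ V₂ eV hR₂ W w hlg z hD1
  have hE2 : EssIm (BasedFunctor.comp (ofSpMap w.hom) e) r₀.obj.obj.snd := by
    refine essIm_of_iso _ i₂ ?_ hD2
    rw [hb2]
    exact hi₂
  obtain ⟨a₂, j, hj⟩ := hE2
  have hl2 : (FibCat.fp v f).p.obj r₀.obj.obj.snd = Over.mk r₀.str :=
    (r₀.map (FibCat.fpSnd _ _)).lies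
  let q₂ : AlgSt.FPt (ofSp W.obj) :=
    { K := r₀.K, str := r₀.str, obj := a₂, lies := (hl_cod hj).symm.trans hl2 }
  refine ⟨AlgSt.Points.mk q₂, ?_⟩
  rw [← hr2]
  exact PTS.mk_eq_of_hom (q₂.map (BasedFunctor.comp (ofSpMap w.hom) e))
    (r₀.map (FibCat.fpSnd _ _)) j.hom

end Groth.Agent.Lib.Helper17.LG
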