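import Groth.Agent.Lib.Helper17.LocQTools10
import Groth.Agent.Lib.Helper17.AlgStQc2
import Groth.Agent.Lib.Helper17.DiagCover
import Groth.Agent.Lib.Helper17.Comparison

set_option autoImplicit false
set_option backward.isDefEq.respectTransparency false
set_option backward.isDefEq.respectTransparency.types false
universe u

namespace Groth.Agent.Lib.Helper17.LQT

open CategoryTheory CategoryTheory.Limits AlgebraicGeometry Opposite AlgSp FibCat Stk AlgSt
open Groth.Agent.Lib.Helper17 Groth.Agent.Lib.Helper17.FP Groth.Agent.Lib.Helper17.EO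
  Groth.Agent.Lib.Helper17.PD Groth.Agent.Lib.Helper17.AT Groth.Agent.Lib.Helper17.AB
  Groth.Agent.Lib.Helper17.AOS Groth.Agent.Lib.Helper17.ACP Groth.Agent.Lib.Helper17.PTS
open Groth.Agent.Lib.Helper46 Groth.Agent.Lib.Helper46.LocPChart

variable {S : Scheme.{u}}

/-- an immersion into a locally Noetherian scheme is quasi-compact -/
theorem quasiCompact_of_isImmersion {Z X : Scheme.{u}} (f : Z ⟶ X) [IsImmersion f]
    [IsLocallyNoetherian X] : QuasiCompact f := by
  rw [← f.liftCoborder_ι]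
  infer_instance

/-- a functor to a slice whose source is represented by a space whose map to the base has `P`
is representable by algebraic spaces with `P` -/
theorem repWith_to_slice_of (P : MorphismProperty (AlgSp.Sp S)) (hPb : ACP.BC P)
    {𝒜 : AlgSt.Cat S} {U : Over S} (g : 𝒜 ⥤ᵇ FibCat.overCat U) (F : AlgSp.Space S)
    (e : ofSp F.obj ⥤ᵇ 𝒜) (he : FibCat.IsEquivOver e)
    (h : P (spMapOfOver (BasedFunctor.comp e g))) : AlgSt.RepByAlgSpWith P g := by
  let Φ : ofSp F.obj ⥤ᵇ FibCat.overCat U := BasedFunctor.comp e g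
  have h1 : AlgSt.RepByAlgSpWith P (ofSpMap (spMapOfOver Φ)) :=
    DCV.repWith_ofSpMap P hPb F ⟨(yon S).obj U, IsAlgSpace.yon_obj U⟩ _ h
  have h2 : AlgSt.RepByAlgSpWith P (BasedFunctor.comp (ofSpMap (spMapOfOver Φ)) (toOverCat U)) :=
    CMP.repWith_comp_equiv P _ (toOverCat U) (AD.toOverCat_isEquivOver U) h1
  have h3 : AlgSt.RepByAlgSpWith P Φ := by
    refine repWith_of_square_fwd P (BasedFunctor.comp (ofSpMap (spMapOfOver Φ)) (toOverCat U)) Φ
      (BasedFunctor.id _) (BasedFunctor.id _)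
      (isEquivOver_id _) (isEquivOver_id _) (fun x => (FD.slIso Φ x).symm) ?_ ?_ h2
    · intro x x₁ β
      exact FD.slIso_symm_nat Φ β
    · intro x
      exact FD.slIso_symm_lift Φ x
  exact FD.repWith_of_precomp_equiv P e he g h3

/-- an immersion of algebraic spaces into a locally Noetherian scheme is quasi-compact -/
theorem isQuasiCompactMor_of_isImmersion_locNoeth {F : Sp S} {V : Over S}
    (a : F ⟶ (yon S).obj V) (ha : AlgSp.RepWith @IsImmersion a)
    (hV : IsLocallyNoetherian V.left) : AlgSp.IsQuasiCompactMor a := by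
  apply Groth.Agent.Lib.Helper23.AlgSpMor.isQuasiCompactMor_of_repWith
  have sq0 := ha.rep.isPullback (𝟙 ((yon S).obj V))
  have himm0 : IsImmersion (ha.rep.snd (𝟙 ((yon S).obj V))).left :=
    ha.property_snd (𝟙 _)
  have hqc0 : QuasiCompact (ha.rep.snd (𝟙 ((yon S).obj V))).left :=
    quasiCompact_of_isImmersion _
  have hiso : IsIso (ha.rep.fst (𝟙 ((yon S).obj V))) := sq0.isIso_fst_of_isIso
  have h1 : AlgSp.RepWith @QuasiCompact ((yon S).map (ha.rep.snd (𝟙 ((yon S).obj V)))) :=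
    (AlgSp.repWith_yon_map_iff @QuasiCompact _).mpr hqc0
  have e : ha.rep.fst (𝟙 ((yon S).obj V)) ≫ a = (yon S).map (ha.rep.snd (𝟙 ((yon S).obj V))) := by
    rw [sq0.w, Category.comp_id]
  rw [← e] at h1
  exact (MorphismProperty.cancel_left_of_respectsIso (AlgSp.RepWith @QuasiCompact) _ a).mp h1

/-- an immersion into a locally Noetherian algebraic stack is representable and quasi-compact -/
theorem repWith_qc_of_isImm_locNoeth {𝒳 𝒴 : AlgSt.Cat S}
    (h𝒴 : AlgSt.IsAlgStack Scheme.fppfPrecoverage 𝒴) (j : 𝒳 ⥤ᵇ 𝒴) (hj : AlgSt.IsImm j)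
    (hN : AlgSt.SmoothLocally (fun T ↦ IsLocallyNoetherian T) 𝒴) :
    AlgSt.RepByAlgSpWith AlgSp.IsQuasiCompactMor j := by
  obtain ⟨V, v, hvs, hvj⟩ := h𝒴.atlas
  have hV : IsLocallyNoetherian V.left := hN V v hvs
  have hrep : AlgSt.RepByAlgSp1 j :=
    (rep1_iff_top j).mpr (DDC.repWith_mono (fun _ _ _ _ _ _ => trivial) j hj)
  refine FD.repWith_of_fpFst_cover _ DDC.qc_bc DDC.qc_local j hrep v (flat_of_smooth v hvs)
    (lfp_of_smooth v hvs) hvj ?_
  obtain ⟨F, e, he, ha⟩ := hj V v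
  exact repWith_to_slice_of _ DDC.qc_bc (FibCat.fpFst v j) F e he
    (isQuasiCompactMor_of_isImmersion_locNoeth _ ha hV)

/-- **S13017** -/
theorem locNoeth_and_qc_of_isImm {𝒳 𝒴 : AlgSt.Cat S}
    (h𝒳 : AlgSt.IsAlgStack Scheme.fppfPrecoverage 𝒳)
    (h𝒴 : AlgSt.IsAlgStack Scheme.fppfPrecoverage 𝒴) (j : 𝒳 ⥤ᵇ 𝒴) (hj : AlgSt.IsImm j)
    (hN : AlgSt.SmoothLocally (fun T ↦ IsLocallyNoetherian T) 𝒴) :
    AlgSt.SmoothLocally (fun T ↦ IsLocallyNoetherian T) 𝒳 ∧
      AlgSt.IsQuasiCompactMor Scheme.fppfPrecoverage j :=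
  ⟨smoothLocally_noeth_of_locQ_lft h𝒳 j (locQ_lft_of_isImm h𝒳 h𝒴 j hj) hN,
    QC2.isQuasiCompactMor_of_repWith h𝒳.isStack.1 h𝒴.isStack.1 j
      (repWith_qc_of_isImm_locNoeth h𝒴 j hj hN)⟩

end Groth.Agent.Lib.Helper17.LQT
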