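import Groth.Agent.Lib.Helper17.LocQTools19

set_option autoImplicit false
set_option backward.isDefEq.respectTransparency false
set_option backward.isDefEq.respectTransparency.types false
universe u

namespace Groth.Agent.Lib.Helper17.LQT

open CategoryTheory CategoryTheory.Limits AlgebraicGeometry Opposite AlgSp FibCat Stk AlgSt
open Groth.Agent.Lib.Helper17 Groth.Agent.Lib.Helper17.FP Groth.Agent.Lib.Helper17.EO
  Groth.Agent.Lib.Helper17.PD Groth.Agent.Lib.Helper17.AT Groth.Agent.Lib.Helper17.AB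
  Groth.Agent.Lib.Helper17.AOS Groth.Agent.Lib.Helper17.ACP Groth.Agent.Lib.Helper17.PTS
open Groth.Agent.Lib.Helper46 Groth.Agent.Lib.Helper46.LocPChart

variable {S : Scheme.{u}}

/-- the map of sheaves of the identification `ofSch T ≃ (Sch/T)` is the identity -/
theorem spMapOfOver_toOverCat_id (T : Over S) :
    spMapOfOver (toOverCat T) = 𝟙 ((yon S).obj T) := by
  apply ObjectProperty.hom_ext
  ext T' s
  change (⟨AlgSt.secHom (toOverCat T) ⟨T'.unop, s⟩⟩ : ULift _) = _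
  apply ULift.ext
  change eqToHom _ ≫ s.down = s.down
  simp

/-- **S12994**: fppf descent of `LocQ P` along a flat, lfp, surjective morphism -/
theorem locQ_of_locQ_fpFst_of_fppf {P : MorphismProperty (Sp S)} (hP : IsSmoothLocalST P)
    (hP₂ : AlgSp.IsLocalOnBase AlgSp.IsFppfCover P)
    {𝒳 𝒴 𝒵 : AlgSt.Cat S}
    (h𝒳 : AlgSt.IsAlgStack Scheme.fppfPrecoverage 𝒳)
    (h𝒴 : AlgSt.IsAlgStack Scheme.fppfPrecoverage 𝒴)
    (h𝒵 : AlgSt.IsAlgStack Scheme.fppfPrecoverage 𝒵) (f : 𝒳 ⥤ᵇ 𝒴) (z : 𝒵 ⥤ᵇ 𝒴)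
    (hz₁ : AlgSt.LocQ (AlgSp.LocP @Flat) z)
    (hz₂ : AlgSt.LocQ (AlgSp.LocP @LocallyOfFinitePresentation) z)
    (hz₃ : AlgSt.IsSurjective z)
    (hfz : AlgSt.LocQ P (FibCat.fpFst z f)) : AlgSt.LocQ P f := by
  have hX := h𝒳.isStack.1
  have hY := h𝒴.isStack.1
  have hZ := h𝒵.isStack.1
  apply locQ_of_forall_smooth_chart h𝒳 h𝒴 f
  intro U V x y h α hxs hys hφ
  obtain ⟨T, a, w, haf, hal, has, hws, ⟨β⟩⟩ := exists_fppf_smooth_lift h𝒴 h𝒵 z hz₁ hz₂ hz₃ y hys
  let φ₁ : FibCat.overCat U ⥤ᵇ FibCat.fp y f :=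
    BasedFunctor.comp (FibCat.fpLift x (AlgSt.overMap h) α) (SW.swap f y)
  have hφ₁ : AlgSt.RepByAlgSpWith (AlgSp.LocP @Smooth) φ₁ := repWith_comp_swap _ f y _ hφ
  have eφ : BasedFunctor.comp φ₁ (FibCat.fpFst y f) = AlgSt.overMap h := DR.basedFunctor_ext rfl
  obtain ⟨hpb, hpres⟩ := Groth.Agent.S9875.result S
  let UU : AlgSp.Space S := (AlgSp.ofScheme S).obj U
  let VV : AlgSp.Space S := (AlgSp.ofScheme S).obj V
  let TT : AlgSp.Space S := (AlgSp.ofScheme S).obj T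
  let a' : UU ⟶ VV := ObjectProperty.homMk
    (spMapOfOver (BasedFunctor.comp (toOverCat U) (BasedFunctor.comp φ₁ (FibCat.fpFst y f))))
  let c' : TT ⟶ VV := ObjectProperty.homMk
    (spMapOfOver (BasedFunctor.comp (toOverCat T) (AlgSt.overMap a)))
  have sq0 : IsPullback (pullback.fst a' c') (pullback.snd a' c') a' c' :=
    IsPullback.of_hasPullback a' c'
  have sq1 : IsPullback (pullback.fst a' c').hom (pullback.snd a' c').hom
      (spMapOfOver (BasedFunctor.comp (toOverCat U) (BasedFunctor.comp φ₁ (FibCat.fpFst y f))))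
      (spMapOfOver (BasedFunctor.comp (toOverCat T) (AlgSt.overMap a))) :=
    sq0.map (ObjectProperty.ι (AlgSp.IsAlgSpace (S := S)))
  have sq2 : IsPullback (pullback.fst a' c').hom.hom (pullback.snd a' c').hom.hom
      (spMapOfOver (BasedFunctor.comp (toOverCat U)
        (BasedFunctor.comp φ₁ (FibCat.fpFst y f)))).hom
      (spMapOfOver (BasedFunctor.comp (toOverCat T) (AlgSt.overMap a))).hom :=
    sq1.map (sheafToPresheaf (AlgSp.J S) (Type (u + 1)))
  have comm := PP.comm_of_isPullback sq2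
  have hE := PF.E_isEquivOver _ _ _ _ comm (PP.inj_of_isPullback sq2) (PP.surj_of_isPullback sq2)
  have hKK := FD.KK_isEquivOver (BasedFunctor.comp φ₁ (FibCat.fpFst y f)) (AlgSt.overMap a)
    (toOverCat U) (toOverCat T) (AD.toOverCat_isEquivOver U) (AD.toOverCat_isEquivOver T)
  let Θ₁ : ofSp (pullback a' c').obj ⥤ᵇ FibCat.fp (AlgSt.overMap a) (FibCat.fpFst y f) :=
    BasedFunctor.comp (BasedFunctor.comp (PF.E _ _ _ _ comm)
      (FD.KK (BasedFunctor.comp φ₁ (FibCat.fpFst y f)) (AlgSt.overMap a)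
        (toOverCat U) (toOverCat T)))
      (PSR.toInner (AlgSt.overMap a) φ₁ (FibCat.fpFst y f))
  have hΘ₁ : AlgSt.RepByAlgSpWith (AlgSp.LocP @Smooth) Θ₁ :=
    FD.repWith_precomp_equiv _ _ (isEquivOver_comp _ _ hE hKK) _
      (repWith_toInner _ (AlgSt.overMap a) φ₁ (FibCat.fpFst y f) hφ₁)
  have hΘ₁fst : BasedFunctor.comp Θ₁ (FibCat.fpFst (AlgSt.overMap a) (FibCat.fpFst y f)) =
      BasedFunctor.comp (ofSpMap (pullback.snd a' c').hom) (toOverCat T) :=
    DR.basedFunctor_ext rfl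
  -- second leg : `T ×_𝒴 𝒳 ≃ T ×_𝒵 (𝒵 ×_𝒴 𝒳)`
  obtain ⟨E', ⟨un⟩, ⟨cu⟩⟩ := id (PS.paste_isEquivOver (AlgSt.overMap a) y f)
  have hE' : FibCat.IsEquivOver E' := isEquivOver_symm _ E' un cu
  let tw₀ : FibCat.fp (BasedFunctor.comp (AlgSt.overMap a) y) f ⥤ᵇ
      FibCat.fp (BasedFunctor.comp w z) f :=
    FI.tw (BasedFunctor.comp (AlgSt.overMap a) y) (BasedFunctor.comp w z) f
      (fun t => compApp β t) (fun k => compApp_nat β k) (fun t => compApp_lift β t)
  have htw₀ : FibCat.IsEquivOver tw₀ := FI.tw_isEquivOver _ _ _ _ _ _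
  let Θ₂ : FibCat.fp (AlgSt.overMap a) (FibCat.fpFst y f) ⥤ᵇ FibCat.fp w (FibCat.fpFst z f) :=
    BasedFunctor.comp (BasedFunctor.comp E' tw₀) (PS.paste w z f)
  have hΘ₂ : FibCat.IsEquivOver Θ₂ :=
    isEquivOver_comp _ _ (isEquivOver_comp _ _ hE' htw₀) (PS.paste_isEquivOver w z f)
  let Θ : ofSp (pullback a' c').obj ⥤ᵇ FibCat.fp w (FibCat.fpFst z f) := BasedFunctor.comp Θ₁ Θ₂
  have hΘ : AlgSt.RepByAlgSpWith (AlgSp.LocP @Smooth) Θ := repWith_postcomp_equiv _ Θ₁ Θ₂ hΘ₂ hΘ₁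
  -- the first projection of `Θ`
  let G' : (FibCat.fp (AlgSt.overMap a) (FibCat.fpFst y f) : AlgSt.Cat S) ⟶ FibCat.overCat T :=
    FibCat.fpFst (AlgSt.overMap a) (FibCat.fpFst y f)
  have iB : BasedFunctor.comp Θ₂ (FibCat.fpFst w (FibCat.fpFst z f)) ≅
      FibCat.fpFst (AlgSt.overMap a) (FibCat.fpFst y f) :=
    Bicategory.whiskerRightIso
      (f := (BasedFunctor.comp E' (PS.paste (AlgSt.overMap a) y f) :
        (FibCat.fp (AlgSt.overMap a) (FibCat.fpFst y f) : AlgSt.Cat S) ⟶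
          FibCat.fp (AlgSt.overMap a) (FibCat.fpFst y f)))
      (g := (BasedFunctor.id _ :
        (FibCat.fp (AlgSt.overMap a) (FibCat.fpFst y f) : AlgSt.Cat S) ⟶
          FibCat.fp (AlgSt.overMap a) (FibCat.fpFst y f))) cu G'
  -- an etale atlas of the pullback
  obtain ⟨U₂, c, hce, hcs⟩ := (pullback a' c').property.atlas
  have hcet := ACov.isEtaleMor_of_repWith c hce
  have hcsm : LocP @Smooth c :=
    ACov.locP_of_isEtaleMor (fun _ _ f hf => by have := hf; infer_instance) c hcet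
  have hcsurj : IsSurjectiveMor c := ACov.points_map_surjective c hcs
  have hU₂f : FibCat.IsFibGrpd (FibCat.overCat U₂).p := FG.isFibGrpd_overForget U₂
  have hfpzf : AlgSt.IsAlgStack Scheme.fppfPrecoverage (FibCat.fp z f) :=
    AFP.isAlgStack_fp h𝒴.isStack h𝒴.diag h𝒵 h𝒳 z f
  have hfpw : FibCat.IsFibGrpd (FibCat.fp w (FibCat.fpFst z f)).p :=
    SP.isFibGrpd_fp w (FibCat.fpFst z f) (FG.isFibGrpd_overForget T) hfpzf.isStack.1 hZ
  let φ₂ : FibCat.overCat U₂ ⥤ᵇ FibCat.fp w (FibCat.fpFst z f) :=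
    BasedFunctor.comp (chartOf (pullback a' c').obj c) Θ
  have hφ₂ : AlgSt.RepByAlgSpWith (AlgSp.LocP @Smooth) φ₂ :=
    repWith_comp_of_schLocal' hU₂f hfpw _ AFP.sm_bc AFP.sm_cp CT.sm_schLocal _ Θ
      (repWith_chartOf _ AFP.sm_bc (pullback a' c') c hcsm) hΘ
  let Φ₀ : FibCat.overCat U₂ ⥤ᵇ FibCat.overCat T :=
    BasedFunctor.comp (chartOf (pullback a' c').obj c)
      (BasedFunctor.comp (ofSpMap (pullback.snd a' c').hom) (toOverCat T))
  let k₂ : U₂ ⟶ T := Groth.Agent.S6443.fOf Φ₀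
  have iφ₂ : BasedFunctor.comp φ₂ (FibCat.fpFst w (FibCat.fpFst z f)) ≅ AlgSt.overMap k₂ := by
    let C' : (FibCat.overCat U₂ : AlgSt.Cat S) ⟶ FibCat.fp (AlgSt.overMap a) (FibCat.fpFst y f) :=
      BasedFunctor.comp (chartOf (pullback a' c').obj c) Θ₁
    have i1 : BasedFunctor.comp φ₂ (FibCat.fpFst w (FibCat.fpFst z f)) ≅
        BasedFunctor.comp (BasedFunctor.comp (chartOf (pullback a' c').obj c) Θ₁)
          (FibCat.fpFst (AlgSt.overMap a) (FibCat.fpFst y f)) :=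
      Bicategory.whiskerLeftIso C' iB
    have e2 : BasedFunctor.comp (BasedFunctor.comp (chartOf (pullback a' c').obj c) Θ₁)
          (FibCat.fpFst (AlgSt.overMap a) (FibCat.fpFst y f)) = Φ₀ := by
      change BasedFunctor.comp (chartOf (pullback a' c').obj c)
        (BasedFunctor.comp Θ₁ (FibCat.fpFst (AlgSt.overMap a) (FibCat.fpFst y f))) = _
      rw [hΘ₁fst]
    exact i1 ≪≫ eqToIso e2 ≪≫ Groth.Agent.S6443.isoOverMap Φ₀
  have hPk : P ((yon S).map k₂) :=
    prop_of_locQ_of_smooth_chart' hP hfpzf h𝒵 (FibCat.fpFst z f) hfz w hws φ₂ hφ₂ k₂ iφ₂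
  have hk₂ : (yon S).map k₂ = c ≫ (pullback.snd a' c').hom := by
    rw [← BRG.spMapOfOver_toOverCat]
    have e1 : BasedFunctor.comp (toOverCat U₂) Φ₀ =
        BasedFunctor.comp (ofSpMap c)
          (BasedFunctor.comp (ofSpMap (pullback.snd a' c').hom) (toOverCat T)) := by
      change BasedFunctor.comp (BasedFunctor.comp (BasedFunctor.comp (toOverCat U₂) (ofOverCat U₂))
        (ofSpMap c)) (BasedFunctor.comp (ofSpMap (pullback.snd a' c').hom) (toOverCat T)) = _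
      rw [AD.toOverCat_ofOverCat]
      rfl
    rw [e1, BRG.spMapOfOver_ofSpMap, BRG.spMapOfOver_ofSpMap, spMapOfOver_toOverCat_id]
    exact congrArg (fun m => c ≫ m) (Category.comp_id (pullback.snd a' c').hom)
  rw [hk₂] at hPk
  have hsnd : P (pullback.snd a' c').hom :=
    src_of_smLocalST hP (IsAlgSpace.yon_obj U₂) (pullback a' c').property (IsAlgSpace.yon_obj T)
      c _ hcsm hcsurj hPk
  -- fppf descent along `T ⟶ V`
  have e1 : spMapOfOver (BasedFunctor.comp (toOverCat T) (AlgSt.overMap a)) = (yon S).map a :=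
    BRG.spMapOfOver_overMap a
  have hcov : AlgSp.IsFppfCover (fun _ : PUnit.{u + 1} => TT.obj)
      (fun _ => spMapOfOver (BasedFunctor.comp (toOverCat T) (AlgSt.overMap a))) := by
    refine ⟨fun i => ?_, fun x => ?_⟩
    · dsimp only
      rw [e1]
      exact ⟨Groth.Agent.Lib.Helper23.AlgSpMor.locP_yon_map_of
          Groth.Agent.Lib.Helper46.etLocal_flat a haf,
        Groth.Agent.Lib.Helper23.AlgSpMor.locP_yon_map_of
          Groth.Agent.Lib.Helper30.EtLocalInst.etLocal_lfp a hal⟩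
    · obtain ⟨t, rfl⟩ := (AlgSp.Points.schemeHomeo V).surjective x
      obtain ⟨v, hv⟩ := has t
      refine ⟨PUnit.unit, AlgSp.Points.schemeHomeo T v, ?_⟩
      dsimp only
      rw [e1, AlgSp.Points.map_yon_map_apply, hv]
  have hfin : P (spMapOfOver (BasedFunctor.comp (toOverCat U)
      (BasedFunctor.comp φ₁ (FibCat.fpFst y f)))) :=
    (hP₂ (fun _ : PUnit.{u + 1} => TT.obj)
      (fun _ => spMapOfOver (BasedFunctor.comp (toOverCat T) (AlgSt.overMap a)))
      (IsAlgSpace.yon_obj V) (fun _ => TT.property) hcov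
      (spMapOfOver (BasedFunctor.comp (toOverCat U) (BasedFunctor.comp φ₁ (FibCat.fpFst y f))))
      UU.property (fun _ => (pullback a' c').obj)
      (fun _ => (pullback.snd a' c').hom) (fun _ => (pullback.fst a' c').hom)
      (fun _ => (pullback a' c').property) (fun _ => sq1)).mpr (fun _ => hsnd)
  rw [eφ, BRG.spMapOfOver_overMap] at hfin
  exact hfin

end Groth.Agent.Lib.Helper17.LQT
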