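import Groth.Agent.Lib.Helper10.OpenSubT3
import Groth.Agent.Lib.Helper17.LocQTools20
import Groth.Agent.S10567
import Groth.Agent.S10553

/-!
# Tools for the largest open substack where a morphism is smooth (helper17)
-/

set_option autoImplicit false
set_option backward.isDefEq.respectTransparency false
set_option backward.isDefEq.respectTransparency.types false
universe u

namespace Groth.Agent.Lib.Helper17.MSm

open CategoryTheory CategoryTheory.Limits AlgebraicGeometry Opposite AlgSp FibCat Stk AlgSt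
open Groth.Agent.Lib.Helper17 Groth.Agent.Lib.Helper17.FP Groth.Agent.Lib.Helper17.EO

variable {S : Scheme.{u}}

/-- smooth coverings are fppf coverings -/
theorem isFppfCover_of_isSmCover {ι : Type u} {Y : Sp S} (Yi : ι → Sp S) (g : ∀ i, Yi i ⟶ Y)
    (h : IsSmCover Yi g) : IsFppfCover Yi g := by
  refine ⟨fun i => ⟨?_, ?_⟩, h.2⟩
  · exact PTS.locP_mono (fun _ _ k hk => by have := hk; infer_instance) _ (h.1 i)
  · exact PTS.locP_mono (fun _ _ k hk => by have := hk; infer_instance) _ (h.1 i)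

/-- smoothness is smooth local on the base -/
theorem sm_local_sm : IsLocalOnBase (IsSmCover (S := S)) (LocP @Smooth) :=
  fun _ _ Yi g hY hYi hcov _ f hX Xi p q hXi hsq =>
    AFP.sm_local Yi g hY hYi (isFppfCover_of_isSmCover Yi g hcov) f hX Xi p q hXi hsq

/-- **smoothness is smooth local on source-and-target** -/
theorem isSmoothLocalST_smooth : IsSmoothLocalST (LocP (S := S) @Smooth) :=
  Groth.Agent.S10567.result _ (Groth.Agent.S10553.result S) sm_local_sm
    (fun X Y Z f g hf hg => AFP.sm_cp X.property Y.property Z.property f.hom g.hom hf hg)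

section Inner

variable {𝒲 𝒳 𝒴 𝒵 : AlgSt.Cat S} (y : 𝒲 ⥤ᵇ 𝒵) (f : 𝒳 ⥤ᵇ 𝒴) (g : 𝒴 ⥤ᵇ 𝒵)

instance toInner_faithful [f.toFunctor.Faithful] : (PSR.toInner y f g).toFunctor.Faithful := by
  constructor
  intro q q' k k' h
  apply hom_ext
  · exact congrArg (fun m => m.hom.fst) h
  · apply f.toFunctor.map_injective
    exact congrArg (fun m => m.hom.snd) h

instance toInner_full [f.toFunctor.Full] : (PSR.toInner y f g).toFunctor.Full := by
  constructor
  intro q q' m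
  have hw := m.hom.w
  change y.map m.hom.fst ≫ q'.obj.iso.hom = q.obj.iso.hom ≫ g.map m.hom.snd at hw
  refine ⟨mkHom (z := q) (z' := q') m.hom.fst (f.toFunctor.preimage m.hom.snd) ?_, ?_⟩
  · change y.map m.hom.fst ≫ q'.obj.iso.hom =
      q.obj.iso.hom ≫ g.map (f.toFunctor.map (f.toFunctor.preimage m.hom.snd))
    rw [Functor.map_preimage]
    exact hw
  · apply hom_ext
    · rfl
    · exact Functor.map_preimage _ _

/-- lifting a functor into `𝒲 ×_𝒵 𝒳` along a full subcategory of `𝒳` -/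
def liftFp {𝒜 : AlgSt.Cat S} (Q : 𝒴.obj → Prop) (ψ : 𝒜 ⥤ᵇ FibCat.fp y g)
    (hψ : ∀ a, Q (ψ.obj a).obj.snd) :
    𝒜 ⥤ᵇ FibCat.fp y (BasedFunctor.comp (AlgSt.subIncl 𝒴 Q) g) where
  toFunctor :=
    { obj := fun a => mkObj (F := y) (G := BasedFunctor.comp (AlgSt.subIncl 𝒴 Q) g)
        (ψ.obj a).obj.fst ⟨(ψ.obj a).obj.snd, hψ a⟩ (ψ.obj a).obj.iso (iso_isHomLift (ψ.obj a))
      map := fun {a a'} k => mkHom
        (z := mkObj (F := y) (G := BasedFunctor.comp (AlgSt.subIncl 𝒴 Q) g)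
          (ψ.obj a).obj.fst ⟨(ψ.obj a).obj.snd, hψ a⟩ (ψ.obj a).obj.iso (iso_isHomLift (ψ.obj a)))
        (z' := mkObj (F := y) (G := BasedFunctor.comp (AlgSt.subIncl 𝒴 Q) g)
          (ψ.obj a').obj.fst ⟨(ψ.obj a').obj.snd, hψ a'⟩ (ψ.obj a').obj.iso
          (iso_isHomLift (ψ.obj a')))
        (ψ.map k).hom.fst (ObjectProperty.homMk (ψ.map k).hom.snd) (ψ.map k).hom.w
      map_id := fun a => by
        apply hom_ext
        · change (ψ.map (𝟙 a)).hom.fst = 𝟙 _
          rw [ψ.toFunctor.map_id]; rfl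
        · apply ObjectProperty.hom_ext
          change (ψ.map (𝟙 a)).hom.snd = 𝟙 _
          rw [ψ.toFunctor.map_id]; rfl
      map_comp := fun k k' => by
        apply hom_ext
        · change (ψ.map (k ≫ k')).hom.fst = _
          rw [ψ.toFunctor.map_comp]; rfl
        · apply ObjectProperty.hom_ext
          change (ψ.map (k ≫ k')).hom.snd = _
          rw [ψ.toFunctor.map_comp]; rfl }
  w := ψ.w

theorem liftFp_toInner {𝒜 : AlgSt.Cat S} (Q : 𝒴.obj → Prop) (ψ : 𝒜 ⥤ᵇ FibCat.fp y g)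
    (hψ : ∀ a, Q (ψ.obj a).obj.snd) :
    BasedFunctor.comp (liftFp y g Q ψ hψ) (PSR.toInner y (AlgSt.subIncl 𝒴 Q) g) = ψ :=
  DR.basedFunctor_ext rfl

theorem liftFp_fst {𝒜 : AlgSt.Cat S} (Q : 𝒴.obj → Prop) (ψ : 𝒜 ⥤ᵇ FibCat.fp y g)
    (hψ : ∀ a, Q (ψ.obj a).obj.snd) :
    BasedFunctor.comp (liftFp y g Q ψ hψ)
      (FibCat.fpFst y (BasedFunctor.comp (AlgSt.subIncl 𝒴 Q) g)) =
      BasedFunctor.comp ψ (FibCat.fpFst y g) :=
  DR.basedFunctor_ext rfl

/-- the lift has `P` as soon as the functor does -/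
theorem repWith_liftFp {𝒜 : AlgSt.Cat S} (P : MorphismProperty (AlgSp.Sp S)) (Q : 𝒴.obj → Prop)
    (ψ : 𝒜 ⥤ᵇ FibCat.fp y g) (hψ : ∀ a, Q (ψ.obj a).obj.snd)
    (h : AlgSt.RepByAlgSpWith P ψ) : AlgSt.RepByAlgSpWith P (liftFp y g Q ψ hψ) := by
  have i1 : (AlgSt.subIncl 𝒴 Q).toFunctor.Full := Groth.Agent.Lib.Helper10.OST.subIncl_full Q
  have i2 : (AlgSt.subIncl 𝒴 Q).toFunctor.Faithful :=
    Groth.Agent.Lib.Helper10.OST.subIncl_faithful Q
  have i3 : (PSR.toInner y (AlgSt.subIncl 𝒴 Q) g).toFunctor.Full := toInner_full y _ g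
  have i4 : (PSR.toInner y (AlgSt.subIncl 𝒴 Q) g).toFunctor.Faithful := toInner_faithful y _ g
  refine Groth.Agent.Lib.Helper10.OST.repWith_of_comp_ff P (liftFp y g Q ψ hψ)
    (PSR.toInner y (AlgSt.subIncl 𝒴 Q) g) ?_
  rw [liftFp_toInner]
  exact h

end Inner

end Groth.Agent.Lib.Helper17.MSm
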