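import Groth.Agent.Lib.Helper17.LargestOpen5
import Groth.Agent.Lib.Helper17.MaxSmooth
import Groth.Agent.Lib.Helper17.OpenSub
import Groth.Agent.Lib.Helper17.FppfDescent
import Groth.Agent.Lib.Helper17.LocQTools11
import Groth.Agent.Lib.Helper17.DiagCancel
import Groth.Agent.Lib.Helper17.SchLocalProps
import Groth.Agent.Lib.Helper10.OpenSubT3
import Groth.Agent.Lib.Helper17.DiagLft2
import Groth.Agent.Lib.Helper17.Swap

set_option autoImplicit false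
set_option backward.isDefEq.respectTransparency false
set_option backward.isDefEq.respectTransparency.types false
universe u

namespace Groth.Agent.Lib.Helper17.LG

open CategoryTheory CategoryTheory.Limits AlgebraicGeometry Opposite AlgSp FibCat Stk AlgSt
open Groth.Agent.Lib.Helper17 Groth.Agent.Lib.Helper17.FP Groth.Agent.Lib.Helper17.EO
  Groth.Agent.Lib.Helper17.PD Groth.Agent.Lib.Helper17.AT Groth.Agent.Lib.Helper17.AB
  Groth.Agent.Lib.Helper17.AOS Groth.Agent.Lib.Helper17.ACP Groth.Agent.Lib.Helper17.PTS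
open Groth.Agent.Lib.Helper10

variable {S : Scheme.{u}}

theorem ofSpMap_faithful {W X : AlgSp.Sp S} (w : W ⟶ X) : (ofSpMap w).toFunctor.Faithful := by
  constructor
  intro a b k k' h
  apply Stk.EltObj.hom_ext
  exact congrArg (fun m : (ofSpMap w).obj a ⟶ (ofSpMap w).obj b => Stk.EltObj.Hom.hom m) h

theorem ofSpMap_full {W X : AlgSp.Sp S} (w : W ⟶ X) (hw : Mono w) :
    (ofSpMap w).toFunctor.Full := by
  constructor
  intro a b m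
  have hinj := SLP.injective_app_of_mono w hw (op a.base)
  have hm := m.map_sec
  refine ⟨⟨m.hom, ?_⟩, ?_⟩
  · apply hinj
    have h1 : w.hom.app (op a.base) (W.obj.map m.hom.op b.sec) =
        X.obj.map m.hom.op (w.hom.app (op b.base) b.sec) :=
      NatTrans.naturality_apply w.hom m.hom.op b.sec
    exact h1.trans hm
  · apply Stk.EltObj.hom_ext
    rfl

/-- the lift of the largest open subspace to `V ×_𝒴 𝒳'` is an equivalence as soon as every object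
of `V ×_𝒴 𝒳` with image in `𝒳'` lies in the open subspace -/
theorem liftFp_isEquivOver {𝒳 𝒴 : AlgSt.Cat S} (f : 𝒳 ⥤ᵇ 𝒴) {V : Over S}
    (v : FibCat.overCat V ⥤ᵇ 𝒴) (F : AlgSp.Space S) (e : ofSp F.obj ⥤ᵇ FibCat.fp v f)
    (he : FibCat.IsEquivOver e) (W : AlgSp.Space S) (w : W ⟶ F)
    (hw : AlgSp.RepWith @IsOpenImmersion w.hom) (Q₀ : 𝒳.obj → Prop)
    (hψ : ∀ a, Q₀ ((BasedFunctor.comp (ofSpMap w.hom) e).obj a).obj.snd)
    (key : ∀ ξ : (FibCat.fp v f).obj, Q₀ ξ.obj.snd →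
      EssIm (BasedFunctor.comp (ofSpMap w.hom) e) ξ) :
    FibCat.IsEquivOver (MSm.liftFp v f Q₀ (BasedFunctor.comp (ofSpMap w.hom) e) hψ) := by
  have hmono : Mono w.hom := Groth.Agent.Lib.Helper5.LargestOpenSp.mono_of_openImm w.hom hw
  have i1 : (ofSpMap w.hom).toFunctor.Full := ofSpMap_full w.hom hmono
  have i2 : (ofSpMap w.hom).toFunctor.Faithful := ofSpMap_faithful w.hom
  obtain ⟨⟨i3, i4⟩, -⟩ := (Groth.Agent.S5139.result e).mp he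
  have i5 : (AlgSt.subIncl 𝒳 Q₀).toFunctor.Full := OST.subIncl_full Q₀
  have i6 : (AlgSt.subIncl 𝒳 Q₀).toFunctor.Faithful := OST.subIncl_faithful Q₀
  have i7 : (PSR.toInner v (AlgSt.subIncl 𝒳 Q₀) f).toFunctor.Full := MSm.toInner_full v _ f
  have i8 : (PSR.toInner v (AlgSt.subIncl 𝒳 Q₀) f).toFunctor.Faithful :=
    MSm.toInner_faithful v _ f
  have i9 : ((ofSpMap w.hom).toFunctor ⋙ e.toFunctor).Full := inferInstance
  have i10 : ((ofSpMap w.hom).toFunctor ⋙ e.toFunctor).Faithful := inferInstance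
  have i11 : ((MSm.liftFp v f Q₀ (BasedFunctor.comp (ofSpMap w.hom) e) hψ).toFunctor ⋙
      (PSR.toInner v (AlgSt.subIncl 𝒳 Q₀) f).toFunctor).Full := i9
  have i12 : ((MSm.liftFp v f Q₀ (BasedFunctor.comp (ofSpMap w.hom) e) hψ).toFunctor ⋙
      (PSR.toInner v (AlgSt.subIncl 𝒳 Q₀) f).toFunctor).Faithful := i10
  rw [Groth.Agent.S5139.result]
  refine ⟨⟨Functor.Full.of_comp_faithful _ (PSR.toInner v (AlgSt.subIncl 𝒳 Q₀) f).toFunctor,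
    Functor.Faithful.of_comp _ (PSR.toInner v (AlgSt.subIncl 𝒳 Q₀) f).toFunctor⟩, ?_⟩
  intro η
  obtain ⟨a, i, hi⟩ := key ((PSR.toInner v (AlgSt.subIncl 𝒳 Q₀) f).obj η) η.obj.snd.property
  let i' : (MSm.liftFp v f Q₀ (BasedFunctor.comp (ofSpMap w.hom) e) hψ).obj a ≅ η :=
    (PSR.toInner v (AlgSt.subIncl 𝒳 Q₀) f).toFunctor.preimageIso i
  refine ⟨a, i', ?_⟩
  have hb : (FibCat.fp v (BasedFunctor.comp (AlgSt.subIncl 𝒳 Q₀) f)).p.obj η =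
      (ofSp W.obj).p.obj a := hl_cod (p := (FibCat.fp v f).p) hi
  rw [hb, isHomLift_iff_fst]
  have h1 := (isHomLift_iff_fst i.hom (𝟙 ((ofSp W.obj).p.obj a))).mp hi
  have e1 : ((PSR.toInner v (AlgSt.subIncl 𝒳 Q₀) f).map i'.hom) = i.hom :=
    Functor.map_preimage _ _
  rw [← e1] at h1
  exact h1

/-- the inclusion of the open subspace into `V ×_𝒴 𝒳` is an open immersion -/
theorem isOpenImm_iotaW {𝒳 𝒴 : AlgSt.Cat S} (f : 𝒳 ⥤ᵇ 𝒴) {V : Over S}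
    (v : FibCat.overCat V ⥤ᵇ 𝒴) (F : AlgSp.Space S) (e : ofSp F.obj ⥤ᵇ FibCat.fp v f)
    (he : FibCat.IsEquivOver e) (W : AlgSp.Space S) (w : W ⟶ F)
    (hw : AlgSp.RepWith @IsOpenImmersion w.hom) :
    AlgSt.IsOpenImm (BasedFunctor.comp (ofSpMap w.hom) e) :=
  LQT.repWith_postcomp_equiv _ (ofSpMap w.hom) e he
    (DCV.repWith_ofSpMap _ (SLP.repWith_bc _) W F w.hom hw)

/-- the composite `W ⟶ V ×_𝒴 𝒳 ⟶ 𝒳` is smooth -/
theorem smooth_iotaW_snd {𝒳 𝒴 : AlgSt.Cat S} (h𝒳 : FibCat.IsFibGrpd 𝒳.p)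
    (f : 𝒳 ⥤ᵇ 𝒴) {V : Over S}
    (v : FibCat.overCat V ⥤ᵇ 𝒴) (hvs : AlgSt.RepByAlgSpWith (AlgSp.LocP @Smooth) v)
    (F : AlgSp.Space S) (e : ofSp F.obj ⥤ᵇ FibCat.fp v f)
    (he : FibCat.IsEquivOver e) (W : AlgSp.Space S) (w : W ⟶ F)
    (hw : AlgSp.RepWith @IsOpenImmersion w.hom) :
    AlgSt.RepByAlgSpWith (AlgSp.LocP @Smooth)
      (BasedFunctor.comp (BasedFunctor.comp (ofSpMap w.hom) e) (FibCat.fpSnd v f)) :=
  repWith_comp_of_schLocal' (Stk.isFibGrpd_ofPsh _) h𝒳 _ AFP.sm_bc AFP.sm_cp CT.sm_schLocal _ _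
    (PTS.flat_lfp_of_isOpenImm _ (isOpenImm_iotaW f v F e he W w hw)).2.2
    (AB.repWith_fpSnd _ v f hvs)

/-- the image of the largest open subspace in `|𝒳|` is open -/
theorem isOpen_T0 {𝒳 𝒴 : AlgSt.Cat S} (h𝒳 : AlgSt.IsAlgStack Scheme.fppfPrecoverage 𝒳)
    (f : 𝒳 ⥤ᵇ 𝒴) {V : Over S}
    (v : FibCat.overCat V ⥤ᵇ 𝒴) (hvs : AlgSt.RepByAlgSpWith (AlgSp.LocP @Smooth) v)
    (F : AlgSp.Space S) (e : ofSp F.obj ⥤ᵇ FibCat.fp v f)
    (he : FibCat.IsEquivOver e) (W : AlgSp.Space S) (w : W ⟶ F)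
    (hw : AlgSp.RepWith @IsOpenImmersion w.hom) :
    IsOpen (Set.range (AlgSt.Points.map
      (BasedFunctor.comp (BasedFunctor.comp (ofSpMap w.hom) e) (FibCat.fpSnd v f)))) := by
  have hsm := smooth_iotaW_snd h𝒳.isStack.1 f v hvs F e he W w hw
  exact (PTS.isOpenMap_map_of_flat_lfp (SPS.isAlgStack_ofSp W) h𝒳 _
    (PTS.flat_of_smooth _ hsm) (PTS.lfp_of_smooth _ hsm)).isOpen_range

/-- **the restriction of `f` to the open substack has `P`** -/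
theorem repWith_sub (P : MorphismProperty (AlgSp.Sp S)) (hPb : BC P)
    (hP : AlgSp.IsLocalOnBase (AlgSp.IsFppfCover (S := S)) P)
    {𝒳 𝒴 : AlgSt.Cat S} (h𝒳 : AlgSt.IsAlgStack Scheme.fppfPrecoverage 𝒳)
    (h𝒴 : FibCat.IsFibGrpd 𝒴.p)
    (f : 𝒳 ⥤ᵇ 𝒴) (hf1 : AlgSt.RepByAlgSp1 f) {V : Over S}
    (v : FibCat.overCat V ⥤ᵇ 𝒴) (hvs : AlgSt.RepByAlgSpWith (AlgSp.LocP @Smooth) v)
    (hvsurj : AlgSt.RepByAlgSpWith AlgSp.IsSurjectiveMor v)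
    (F : AlgSp.Space S) (e : ofSp F.obj ⥤ᵇ FibCat.fp v f)
    (he : FibCat.IsEquivOver e) (W : AlgSp.Space S) (w : W ⟶ F)
    (hw : AlgSp.RepWith @IsOpenImmersion w.hom)
    (hwP : P (w.hom ≫ spMapOfOver (BasedFunctor.comp e (FibCat.fpFst v f))))
    (key : ∀ ξ : (FibCat.fp v f).obj, OST.QT (Set.range (AlgSt.Points.map
        (BasedFunctor.comp (BasedFunctor.comp (ofSpMap w.hom) e) (FibCat.fpSnd v f)))) ξ.obj.snd →
      EssIm (BasedFunctor.comp (ofSpMap w.hom) e) ξ) :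
    AlgSt.RepByAlgSpWith P (BasedFunctor.comp (AlgSt.subIncl 𝒳 (OST.QT (Set.range
      (AlgSt.Points.map (BasedFunctor.comp (BasedFunctor.comp (ofSpMap w.hom) e)
        (FibCat.fpSnd v f)))))) f) := by
  have hX := h𝒳.isStack.1
  have hopen := isOpen_T0 h𝒳 f v hvs F e he W w hw
  have hQ₀ := OST.isOpenSubstack_QT h𝒳 _ hopen
  have hg1 : AlgSt.RepByAlgSp1 (BasedFunctor.comp (AlgSt.subIncl 𝒳 (OST.QT (Set.range
      (AlgSt.Points.map (BasedFunctor.comp (BasedFunctor.comp (ofSpMap w.hom) e)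
        (FibCat.fpSnd v f)))))) f) := by
    rw [rep1_iff_top] at hf1 ⊢
    refine repWith_comp_of_schLocal' hQ₀.2.1.isStack.1 h𝒴 _ DCN.top_bc DCN.top_cp
      DCN.top_schLocal _ f ?_ hf1
    exact DDC.repWith_mono (fun _ _ _ _ _ _ => trivial) _ hQ₀.2.2
  have hψ : ∀ a, OST.QT (Set.range
      (AlgSt.Points.map (BasedFunctor.comp (BasedFunctor.comp (ofSpMap w.hom) e)
        (FibCat.fpSnd v f)))) ((BasedFunctor.comp (ofSpMap w.hom) e).obj a).obj.snd :=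
    fun a => OST.QT_range_obj (Stk.isFibGrpd_ofPsh _) hX
      (BasedFunctor.comp (BasedFunctor.comp (ofSpMap w.hom) e) (FibCat.fpSnd v f)) a
  have hE := liftFp_isEquivOver f v F e he W w hw _ hψ key
  refine FD.repWith_of_fpFst_cover P hPb hP _ hg1 v (PTS.flat_of_smooth v hvs)
    (PTS.lfp_of_smooth v hvs) hvsurj ?_
  refine LQT.repWith_to_slice_of P hPb _ W _ hE ?_
  rw [MSm.liftFp_fst, BasedFunctor.comp_assoc, spMapOfOver_ofSpMap_comp]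
  exact hwP

/-- **maximality of the open substack** -/
theorem maximal (P : MorphismProperty (AlgSp.Sp S)) (hPb : BC P)
    (hP : AlgSp.IsLocalOnBase (AlgSp.IsFppfCover (S := S)) P)
    {𝒳 𝒴 : AlgSt.Cat S} (h𝒳 : FibCat.IsFibGrpd 𝒳.p) (h𝒴 : FibCat.IsFibGrpd 𝒴.p)
    (f : 𝒳 ⥤ᵇ 𝒴) {V : Over S}
    (v : FibCat.overCat V ⥤ᵇ 𝒴) (hvsurj : AlgSt.RepByAlgSpWith AlgSp.IsSurjectiveMor v)
    (F : AlgSp.Space S) (e : ofSp F.obj ⥤ᵇ FibCat.fp v f)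
    (he : FibCat.IsEquivOver e) (W : AlgSp.Space S) (w : W ⟶ F)
    (hlg : IsLg P (ObjectProperty.homMk (spMapOfOver (BasedFunctor.comp e (FibCat.fpFst v f))) :
      F ⟶ (⟨(yon S).obj V, IsAlgSpace.yon_obj V⟩ : AlgSp.Space S)) W w)
    (Q₁ : 𝒳.obj → Prop) (hQ₁ : AlgSt.IsOpenSubstack 𝒳 Q₁ Scheme.fppfPrecoverage)
    (hP₁ : AlgSt.RepByAlgSpWith P (BasedFunctor.comp (AlgSt.subIncl 𝒳 Q₁) f))
    (y : 𝒳.obj) (hy : Q₁ y) :
    OST.QT (Set.range (AlgSt.Points.map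
      (BasedFunctor.comp (BasedFunctor.comp (ofSpMap w.hom) e) (FibCat.fpSnd v f)))) y := by
  have hVf : FibCat.IsFibGrpd (FibCat.overCat V).p := FG.isFibGrpd_overForget V
  have hQf : FibCat.IsFibGrpd (AlgSt.fullSub 𝒳 Q₁).p := hQ₁.2.1.isStack.1
  have h𝒞 : FibCat.IsFibGrpd (FibCat.fp v (BasedFunctor.comp (AlgSt.subIncl 𝒳 Q₁) f)).p :=
    SP.isFibGrpd_fp _ _ hVf hQf h𝒴
  let Yv : AlgSp.Space S := ⟨(yon S).obj V, IsAlgSpace.yon_obj V⟩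
  let ψ : FibCat.fp v f ⥤ᵇ ofSp Yv.obj := BasedFunctor.comp (FibCat.fpFst v f) (ofOverCat V)
  let j := PSR.toInner v (AlgSt.subIncl 𝒳 Q₁) f
  have hjo : AlgSt.RepByAlgSpWith (AlgSp.RepWith @IsOpenImmersion) j :=
    ACP.repWith_toInner _ v (AlgSt.subIncl 𝒳 Q₁) f hQ₁.2.2
  have hjP : AlgSt.RepByAlgSpWith P (BasedFunctor.comp j ψ) := by
    have h1 : AlgSt.RepByAlgSpWith P
        (FibCat.fpFst v (BasedFunctor.comp (AlgSt.subIncl 𝒳 Q₁) f)) :=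
      AB.repWith_fpFst P _ v hP₁
    exact LQT.repWith_postcomp_equiv P _ (ofOverCat V) (AD.ofOverCat_isEquivOver V) h1
  have hfF : (ObjectProperty.homMk (spMapOfOver (BasedFunctor.comp e (FibCat.fpFst v f))) :
      F ⟶ Yv).hom.hom = mapOf (BasedFunctor.comp e ψ) :=
    (AD.mapOf_comp_ofOverCat (BasedFunctor.comp e (FibCat.fpFst v f))).symm
  have key := univ_gen P hPb hP h𝒞 e he ψ _ hfF W w hlg j hjo hjP
  -- points
  intro p a
  have hp : Q₁ p.obj := OST.Q_of_hom h𝒳 Q₁ hQ₁.1 hQf a hy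
  have hsurj : AlgSt.IsSurjective v := PTS.isSurjective_of_repWith h𝒴 v hvsurj
  obtain ⟨z, hz⟩ := hsurj (AlgSt.Points.map (BasedFunctor.comp (AlgSt.subIncl 𝒳 Q₁) f)
    (AlgSt.Points.mk (OST.subPt Q₁ p hp)))
  obtain ⟨r, -, hr2⟩ := PTS.exists_point_fp hQf h𝒴 hVf
    (BasedFunctor.comp (AlgSt.subIncl 𝒳 Q₁) f) v z (AlgSt.Points.mk (OST.subPt Q₁ p hp)) hz
  obtain ⟨r₀, rfl⟩ := AlgSt.Points.mk_surjective r
  obtain ⟨a₂, i, hi⟩ := key r₀.obj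
  have hl2 : (FibCat.fp v f).p.obj (j.obj r₀.obj) = Over.mk r₀.str := (r₀.map j).lies
  let q₂ : AlgSt.FPt (ofSp W.obj) :=
    { K := r₀.K, str := r₀.str, obj := a₂, lies := (hl_cod hi).symm.trans hl2 }
  refine ⟨AlgSt.Points.mk q₂, ?_⟩
  rw [PTS.map_comp]
  have e1 : AlgSt.Points.map (BasedFunctor.comp (ofSpMap w.hom) e) (AlgSt.Points.mk q₂) =
      AlgSt.Points.mk (r₀.map j) :=
    PTS.mk_eq_of_hom (q₂.map (BasedFunctor.comp (ofSpMap w.hom) e)) (r₀.map j) i.hom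
  rw [e1]
  have e2 : AlgSt.Points.map (AlgSt.subIncl 𝒳 Q₁) (AlgSt.Points.map
      (FibCat.fpSnd v (BasedFunctor.comp (AlgSt.subIncl 𝒳 Q₁) f)) (AlgSt.Points.mk r₀)) =
      AlgSt.Points.mk p := by
    rw [hr2]
    exact OST.map_subPt Q₁ p hp
  rw [← e2]
  rfl

/-- **the largest open substack on which a morphism representable by algebraic spaces has `P`** -/
theorem main {𝒳 𝒴 : AlgSt.Cat S}
    (h𝒳 : AlgSt.IsAlgStack Scheme.fppfPrecoverage 𝒳) (h𝒴 : AlgSt.IsAlgStack Scheme.fppfPrecoverage 𝒴)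
    (P Q R : MorphismProperty (AlgSp.Sp S)) (hPb : BC P)
    (hP : AlgSp.IsLocalOnBase (AlgSp.IsFppfCover (S := S)) P)
    (h₂ : ∀ (X Y : AlgSp.Space S) (g : X ⟶ Y), AlgSp.LocP @Smooth g.hom → R g.hom)
    (h₃ : ∀ (X Y : AlgSp.Space S) (f : X ⟶ Y), Q f.hom →
      ∃ (W : AlgSp.Space S) (w : W ⟶ X), IsLg P f W w)
    (h₄ : H4 P Q R) (f : 𝒳 ⥤ᵇ 𝒴) (hf : AlgSt.RepByAlgSpWith Q f) :
    ∃ Q₀ : 𝒳.obj → Prop, AlgSt.IsOpenSubstack 𝒳 Q₀ Scheme.fppfPrecoverage ∧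
      AlgSt.RepByAlgSpWith P (BasedFunctor.comp (AlgSt.subIncl 𝒳 Q₀) f) ∧
        ∀ Q₁ : 𝒳.obj → Prop, AlgSt.IsOpenSubstack 𝒳 Q₁ Scheme.fppfPrecoverage →
          AlgSt.RepByAlgSpWith P (BasedFunctor.comp (AlgSt.subIncl 𝒳 Q₁) f) →
            ∀ y, Q₁ y → Q₀ y := by
  have hX := h𝒳.isStack.1
  have hY := h𝒴.isStack.1
  obtain ⟨V, v, hvs, hvsurj⟩ := h𝒴.atlas
  obtain ⟨F, e, he, hQφ⟩ := hf V v
  let Yv : AlgSp.Space S := ⟨(yon S).obj V, IsAlgSpace.yon_obj V⟩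
  obtain ⟨W, w, hlg⟩ := h₃ F Yv
    (ObjectProperty.homMk (spMapOfOver (BasedFunctor.comp e (FibCat.fpFst v f)))) hQφ
  obtain ⟨V₂, eV, heV, -⟩ := hvs V v
  have hsm2 : AlgSp.LocP @Smooth (spMapOfOver (kap₂ v eV)) := by
    have h := DL2.transport (AlgSp.LocP @Smooth) AFP.sm_bc v hvs V v V₂
      (BasedFunctor.comp eV (SW.swap v v)) (isEquivOver_comp _ _ heV (SW.swap_isEquivOver v v))
    rw [BasedFunctor.comp_assoc, SW.swap_fst] at h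
    exact h
  have hR₂ : R (spMapOfOver (kap₂ v eV)) :=
    h₂ V₂ Yv (ObjectProperty.homMk (spMapOfOver (kap₂ v eV))) hsm2
  have key := key_essIm P Q R hPb hP h₄ hX hY f v F e he hQφ V₂ eV heV hR₂ W w hlg
  have hf1 : AlgSt.RepByAlgSp1 f := fun U y => by
    obtain ⟨F', e', he', -⟩ := hf U y
    exact ⟨F', e', he'⟩
  refine ⟨OST.QT (Set.range (AlgSt.Points.map
      (BasedFunctor.comp (BasedFunctor.comp (ofSpMap w.hom) e) (FibCat.fpSnd v f)))),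
    OST.isOpenSubstack_QT h𝒳 _ (isOpen_T0 h𝒳 f v hvs F e he W w hlg.1),
    repWith_sub P hPb hP h𝒳 hY f hf1 v hvs hvsurj F e he W w hlg.1 hlg.2.1 key, ?_⟩
  intro Q₁ hQ₁ hP₁ y hy
  exact maximal P hPb hP hX hY f v hvsurj F e he W w hlg Q₁ hQ₁ hP₁ y hy

end Groth.Agent.Lib.Helper17.LG
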