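import Groth.Agent.Lib.Helper17.SmoothPre

set_option autoImplicit false
set_option backward.isDefEq.respectTransparency false
set_option backward.isDefEq.respectTransparency.types false
universe u

namespace Groth.Agent.Lib.Helper17.MSm

open CategoryTheory CategoryTheory.Limits AlgebraicGeometry Opposite AlgSp FibCat Stk AlgSt
open Groth.Agent.Lib.Helper17 Groth.Agent.Lib.Helper17.FP Groth.Agent.Lib.Helper17.EO
  Groth.Agent.Lib.Helper17.PD Groth.Agent.Lib.Helper17.AT Groth.Agent.Lib.Helper17.AB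
  Groth.Agent.Lib.Helper17.AOS Groth.Agent.Lib.Helper17.ACP Groth.Agent.Lib.Helper17.PTS
  Groth.Agent.Lib.Helper17.LQT
open Groth.Agent.Lib.Helper46 Groth.Agent.Lib.Helper46.LocPChart
open Groth.Agent.Lib.Helper10

variable {S : Scheme.{u}}

/-- the points of `g a` lie in `T` iff the points of `a` lie in the preimage of `T` -/
theorem QT_comp_iff {𝒳' 𝒳 : AlgSt.Cat S} (hX' : FibCat.IsFibGrpd 𝒳'.p)
    (hX : FibCat.IsFibGrpd 𝒳.p) (g : 𝒳' ⥤ᵇ 𝒳) (T : Set (AlgSt.Points 𝒳)) (a : 𝒳'.obj) :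
    OST.QT T (g.obj a) ↔ OST.QT (AlgSt.Points.map g ⁻¹' T) a := by
  constructor
  · intro h p m
    exact h (p.map g) (g.map m)
  · intro h p m
    have hfa : 𝒳.p.obj (g.obj a) = 𝒳'.p.obj a := g.w_obj a
    let c : Over.mk p.str ⟶ 𝒳'.p.obj a := eqToHom p.lies.symm ≫ 𝒳.p.map m ≫ eqToHom hfa
    have hm : 𝒳.p.IsHomLift c m := IsHomLift.of_fac 𝒳.p c m p.lies hfa rfl
    obtain ⟨a', φ, hφ⟩ := hX'.exists_lift (x := a) c
    have hφ' : 𝒳.p.IsHomLift c (g.map φ) := EO.map_lift'' g hφ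
    obtain ⟨θ, -, -, -⟩ := FG.exists_factor hX c (g.map φ) hφ' m hm
    let q : AlgSt.FPt 𝒳' := { K := p.K, str := p.str, obj := a', lies := hl_dom hφ }
    have h1 : AlgSt.Points.mk q ∈ AlgSt.Points.map g ⁻¹' T := h q φ
    rw [mk_eq_of_hom p (q.map g) θ]
    exact h1

/-- the inverse image of an open substack is an open substack -/
theorem isOpenSubstack_comp {𝒳' 𝒳 : AlgSt.Cat S}
    (h𝒳' : AlgSt.IsAlgStack Scheme.fppfPrecoverage 𝒳')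
    (h𝒳 : AlgSt.IsAlgStack Scheme.fppfPrecoverage 𝒳) (g : 𝒳' ⥤ᵇ 𝒳) (Q : 𝒳.obj → Prop)
    (hQ : AlgSt.IsOpenSubstack 𝒳 Q Scheme.fppfPrecoverage) :
    AlgSt.IsOpenSubstack 𝒳' (fun a => Q (g.obj a)) Scheme.fppfPrecoverage := by
  have hT := isOpen_range_subIncl h𝒳 Q hQ
  have hT' := (continuous_map h𝒳 g).isOpen_preimage _ hT
  have e : (fun a => Q (g.obj a)) =
      OST.QT (AlgSt.Points.map g ⁻¹' Set.range (AlgSt.Points.map (AlgSt.subIncl 𝒳 Q))) := by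
    funext a
    apply propext
    rw [OST.Q_iff_QT_range h𝒳 Q hQ]
    exact QT_comp_iff h𝒳'.isStack.1 h𝒳.isStack.1 g _ a
  rw [e]
  exact OST.isOpenSubstack_QT h𝒳' _ hT'

/-- **formation of the largest open substack on which `f` is smooth commutes with smooth
precomposition** -/
theorem largest_smooth_comp {𝒳' 𝒳 𝒴 : AlgSt.Cat S}
    (h𝒳' : AlgSt.IsAlgStack Scheme.fppfPrecoverage 𝒳')
    (h𝒳 : AlgSt.IsAlgStack Scheme.fppfPrecoverage 𝒳)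
    (h𝒴 : AlgSt.IsAlgStack Scheme.fppfPrecoverage 𝒴)
    (g : 𝒳' ⥤ᵇ 𝒳) (hg : AlgSt.LocQ (AlgSp.LocP @Smooth) g) (f : 𝒳 ⥤ᵇ 𝒴)
    (Q : 𝒳.obj → Prop) (hQ₁ : AlgSt.IsOpenSubstack 𝒳 Q Scheme.fppfPrecoverage)
    (hQ₂ : AlgSt.LocQ (AlgSp.LocP @Smooth) (BasedFunctor.comp (AlgSt.subIncl 𝒳 Q) f))
    (hQ₃ : ∀ Q' : 𝒳.obj → Prop, AlgSt.IsOpenSubstack 𝒳 Q' Scheme.fppfPrecoverage →
      AlgSt.LocQ (AlgSp.LocP @Smooth) (BasedFunctor.comp (AlgSt.subIncl 𝒳 Q') f) →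
      ∀ a, Q' a → Q a) :
    AlgSt.IsOpenSubstack 𝒳' (fun a ↦ Q (g.obj a)) Scheme.fppfPrecoverage ∧
      AlgSt.LocQ (AlgSp.LocP @Smooth)
        (BasedFunctor.comp (AlgSt.subIncl 𝒳' (fun a ↦ Q (g.obj a))) (BasedFunctor.comp g f)) ∧
      ∀ Q' : 𝒳'.obj → Prop, AlgSt.IsOpenSubstack 𝒳' Q' Scheme.fppfPrecoverage →
        AlgSt.LocQ (AlgSp.LocP @Smooth)
          (BasedFunctor.comp (AlgSt.subIncl 𝒳' Q') (BasedFunctor.comp g f)) →
        ∀ a, Q' a → Q (g.obj a) := by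
  have hQg := isOpenSubstack_comp h𝒳' h𝒳 g Q hQ₁
  refine ⟨hQg, ?_, ?_⟩
  · let k'' : AlgSt.fullSub 𝒳' (fun a ↦ Q (g.obj a)) ⥤ᵇ AlgSt.fullSub 𝒳 Q :=
      OST.liftSub Q (BasedFunctor.comp (AlgSt.subIncl 𝒳' (fun a ↦ Q (g.obj a))) g)
        (fun a => a.property)
    have e : BasedFunctor.comp (AlgSt.subIncl 𝒳' (fun a ↦ Q (g.obj a))) (BasedFunctor.comp g f) =
        BasedFunctor.comp k'' (BasedFunctor.comp (AlgSt.subIncl 𝒳 Q) f) :=
      DR.basedFunctor_ext rfl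
    rw [e]
    refine locQ_smooth_comp hQg.2.1 hQ₁.2.1 h𝒴 k'' _ ?_ hQ₂
    refine locQ_cancel_ff isSmoothLocalST_smooth hQg.2.1 hQ₁.2.1 h𝒳 k'' (AlgSt.subIncl 𝒳 Q)
      (flat_lfp_of_isOpenImm _ hQ₁.2.2).2.2 ?_
    rw [OST.liftSub_comp]
    exact locQ_smooth_comp hQg.2.1 h𝒳' h𝒳 _ g
      (locQ_smooth_of_repWith hQg.2.1 h𝒳' _ (flat_lfp_of_isOpenImm _ hQg.2.2).2.2) hg
  · intro Q' hQ' hLQ' a ha
    obtain ⟨k, hkdef⟩ : ∃ k : AlgSt.fullSub 𝒳' Q' ⥤ᵇ 𝒳,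
      k = BasedFunctor.comp (AlgSt.subIncl 𝒳' Q') g := ⟨_, rfl⟩
    have hk : AlgSt.LocQ (LocP @Smooth) k := by
      rw [hkdef]
      exact locQ_smooth_comp hQ'.2.1 h𝒳' h𝒳 _ g
        (locQ_smooth_of_repWith hQ'.2.1 h𝒳' _ (flat_lfp_of_isOpenImm _ hQ'.2.2).2.2) hg
    have hT'' : IsOpen (Set.range (AlgSt.Points.map k)) :=
      (isOpenMap_map_of_locQ_smooth hQ'.2.1 h𝒳 k hk).isOpen_range
    have hQ'' := OST.isOpenSubstack_QT h𝒳 _ hT''
    have hkQ : ∀ b, OST.QT (Set.range (AlgSt.Points.map k)) (k.obj b) :=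
      fun b => OST.QT_range_obj hQ'.2.1.isStack.1 h𝒳.isStack.1 k b
    have hsm'' : AlgSt.LocQ (LocP @Smooth)
        (BasedFunctor.comp (AlgSt.subIncl 𝒳 (OST.QT (Set.range (AlgSt.Points.map k)))) f) := by
      obtain ⟨U, V, x₀, y, m, α, hx₀s, hx₀j, hys, hm⟩ := hLQ'
      have hUalg := SPS.isAlgStack_overCat U
      have e2 : BasedFunctor.comp (BasedFunctor.comp x₀ (OST.liftSub _ k hkQ))
          (AlgSt.subIncl 𝒳 (OST.QT (Set.range (AlgSt.Points.map k)))) =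
          BasedFunctor.comp x₀ k := DR.basedFunctor_ext rfl
      refine ⟨U, V, BasedFunctor.comp x₀ (OST.liftSub _ k hkQ), y, m, ?_, ?_, ?_, hys, hm⟩
      · have e3 : BasedFunctor.comp (BasedFunctor.comp x₀ (OST.liftSub _ k hkQ))
            (BasedFunctor.comp (AlgSt.subIncl 𝒳 (OST.QT (Set.range (AlgSt.Points.map k)))) f) =
            BasedFunctor.comp x₀ (BasedFunctor.comp (AlgSt.subIncl 𝒳' Q')
              (BasedFunctor.comp g f)) := by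
          subst hkdef
          exact DR.basedFunctor_ext rfl
        rw [e3]
        exact α
      · apply OST.repWith_of_comp_ff _ _ (AlgSt.subIncl 𝒳 (OST.QT (Set.range (AlgSt.Points.map k))))
        rw [e2]
        apply repWith_smooth_of_locQ hUalg h𝒳 _ (rep1_chart h𝒳 _)
        exact locQ_smooth_comp hUalg hQ'.2.1 h𝒳 x₀ k
          (locQ_smooth_of_repWith hUalg hQ'.2.1 x₀ hx₀s) hk
      · apply repWith_surj_of_isSurjective hUalg hQ''.2.1 _ (rep1_chart hQ''.2.1 _)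
        intro ξ
        have h1 : AlgSt.Points.map (AlgSt.subIncl 𝒳 (OST.QT (Set.range (AlgSt.Points.map k)))) ξ ∈
            Set.range (AlgSt.Points.map
              (AlgSt.subIncl 𝒳 (OST.QT (Set.range (AlgSt.Points.map k))))) := ⟨ξ, rfl⟩
        rw [OST.range_QT] at h1
        obtain ⟨ζ, hζ⟩ := h1
        obtain ⟨ω, rfl⟩ := (isSurjective_of_repWith hQ'.2.1.isStack.1 x₀ hx₀j) ζ
        refine ⟨ω, ?_⟩
        apply OST.map_subIncl_injective h𝒳.isStack.1 _ (fun φ h => OST.QT_of_hom φ h)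
        rw [← hζ, ← map_comp, ← map_comp, e2]
    have := hQ₃ _ hQ'' hsm'' (k.obj ⟨a, ha⟩) (hkQ ⟨a, ha⟩)
    rw [hkdef] at this
    exact this

end Groth.Agent.Lib.Helper17.MSm
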