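import Groth.Agent.Lib.Helper17.LargestOpen6
import Groth.Agent.Lib.Helper17.SmoothPre2

set_option autoImplicit false
set_option backward.isDefEq.respectTransparency false
set_option backward.isDefEq.respectTransparency.types false
universe u

namespace Groth.Agent.Lib.Helper17.LG

open CategoryTheory CategoryTheory.Limits AlgebraicGeometry Opposite AlgSp FibCat Stk AlgSt
open Groth.Agent.Lib.Helper17 Groth.Agent.Lib.Helper17.FP Groth.Agent.Lib.Helper17.EO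
  Groth.Agent.Lib.Helper17.PD Groth.Agent.Lib.Helper17.AT Groth.Agent.Lib.Helper17.AB
  Groth.Agent.Lib.Helper17.AOS Groth.Agent.Lib.Helper17.ACP Groth.Agent.Lib.Helper17.PTS
open Groth.Agent.Lib.Helper10

variable {S : Scheme.{u}}

section Sat2

variable {𝒳 𝒴 𝒵 : AlgSt.Cat S} (f : 𝒳 ⥤ᵇ 𝒴) (z : 𝒵 ⥤ᵇ 𝒴) {V : Over S}
  (v : FibCat.overCat V ⥤ᵇ 𝒴) {G : AlgSp.Sp S} (eG : ofSp G ⥤ᵇ FibCat.fp z v)

/-- the projection of the model of `𝒵 ×_𝒴 V` to `𝒵` -/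
def kz₁ : ofSp G ⥤ᵇ 𝒵 := BasedFunctor.comp eG (FibCat.fpFst z v)

/-- the projection of the model of `𝒵 ×_𝒴 V` to `V` -/
def kz₂ : ofSp G ⥤ᵇ FibCat.overCat V := BasedFunctor.comp eG (FibCat.fpSnd z v)

theorem twZ_nat {c c' : (ofSp G).obj} (α : c ⟶ c') :
    (BasedFunctor.comp (kz₂ z v eG) v).map α ≫ (eG.obj c').obj.iso.symm.hom =
      (eG.obj c).obj.iso.symm.hom ≫ (BasedFunctor.comp (kz₁ z v eG) z).map α := by
  have hw := (eG.map α).hom.w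
  change v.map (eG.map α).hom.snd ≫ (eG.obj c').obj.iso.inv =
    (eG.obj c).obj.iso.inv ≫ z.map (eG.map α).hom.fst
  rw [Iso.comp_inv_eq, Category.assoc, Iso.eq_inv_comp]
  exact hw.symm

theorem twZ_lift (c : (ofSp G).obj) :
    𝒴.p.IsHomLift (𝟙 ((ofSp G).p.obj c)) (eG.obj c).obj.iso.symm.hom := by
  have h1 := iso_isHomLift (eG.obj c)
  have h2 : 𝒵.p.obj (eG.obj c).obj.fst = (ofSp G).p.obj c := eG.w_obj c
  rw [h2] at h1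
  exact IsHomLift.lift_id_inv 𝒴.p _ (eG.obj c).obj.iso

/-- the twist by the canonical 2-isomorphism of `𝒵 ×_𝒴 V` -/
def twZ : FibCat.fp (BasedFunctor.comp (kz₁ z v eG) z) f ⥤ᵇ
    FibCat.fp (BasedFunctor.comp (kz₂ z v eG) v) f :=
  FI.tw (BasedFunctor.comp (kz₁ z v eG) z) (BasedFunctor.comp (kz₂ z v eG) v) f
    (fun c => (eG.obj c).obj.iso.symm) (fun α => twZ_nat z v eG α) (fun c => twZ_lift z v eG c)

theorem twZ_isEquivOver : FibCat.IsEquivOver (twZ f z v eG) :=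
  FI.tw_isEquivOver (BasedFunctor.comp (kz₁ z v eG) z) (BasedFunctor.comp (kz₂ z v eG) v) f
    (fun c => (eG.obj c).obj.iso.symm) (fun α => twZ_nat z v eG α) (fun c => twZ_lift z v eG c)

/-- the projection `(𝒵 ×_𝒴 V) ×_𝒴 𝒳 ⟶ 𝒵 ×_𝒴 𝒳` -/
def Dz₁ : FibCat.fp (BasedFunctor.comp (kz₁ z v eG) z) f ⥤ᵇ FibCat.fp z f :=
  BasedFunctor.comp (PS.paste (kz₁ z v eG) z f) (FibCat.fpSnd (kz₁ z v eG) (FibCat.fpFst z f))

/-- the projection `(𝒵 ×_𝒴 V) ×_𝒴 𝒳 ⟶ V ×_𝒴 𝒳` -/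
def Dz₂ : FibCat.fp (BasedFunctor.comp (kz₁ z v eG) z) f ⥤ᵇ FibCat.fp v f :=
  BasedFunctor.comp (BasedFunctor.comp (twZ f z v eG) (PS.paste (kz₂ z v eG) v f))
    (FibCat.fpSnd (kz₂ z v eG) (FibCat.fpFst v f))

theorem Dz₁_snd : BasedFunctor.comp (Dz₁ f z v eG) (FibCat.fpSnd z f) =
    FibCat.fpSnd (BasedFunctor.comp (kz₁ z v eG) z) f :=
  DR.basedFunctor_ext rfl

theorem Dz₂_snd : BasedFunctor.comp (Dz₂ f z v eG) (FibCat.fpSnd v f) =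
    FibCat.fpSnd (BasedFunctor.comp (kz₁ z v eG) z) f :=
  DR.basedFunctor_ext rfl

end Sat2

/-- **base change of the largest open subspace along a morphism with `R`**, chart form -/
theorem sat2 (P Q R : MorphismProperty (AlgSp.Sp S)) (hPb : BC P)
    (hP : AlgSp.IsLocalOnBase (AlgSp.IsFppfCover (S := S)) P) (h₄ : H4 P Q R)
    {𝒳 𝒴 𝒵 : AlgSt.Cat S} (f : 𝒳 ⥤ᵇ 𝒴) (z : 𝒵 ⥤ᵇ 𝒴) {V : Over S} (v : FibCat.overCat V ⥤ᵇ 𝒴)
    (F : AlgSp.Space S) (e : ofSp F.obj ⥤ᵇ FibCat.fp v f) (he : FibCat.IsEquivOver e)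
    (hQφ : Q (spMapOfOver (BasedFunctor.comp e (FibCat.fpFst v f))))
    (G : AlgSp.Space S) (eG : ofSp G.obj ⥤ᵇ FibCat.fp z v)
    (hR₂ : R (spMapOfOver (kz₂ z v eG)))
    (W : AlgSp.Space S) (w : W ⟶ F)
    (hlg : IsLg P (ObjectProperty.homMk (spMapOfOver (BasedFunctor.comp e (FibCat.fpFst v f))) :
      F ⟶ (⟨(yon S).obj V, IsAlgSpace.yon_obj V⟩ : AlgSp.Space S)) W w)
    {𝒞 : AlgSt.Cat S} (h𝒞 : FibCat.IsFibGrpd 𝒞.p)
    (j₀ : 𝒞 ⥤ᵇ FibCat.fp (kz₁ z v eG) (FibCat.fpFst z f))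
    (hj₀o : AlgSt.RepByAlgSpWith (AlgSp.RepWith @IsOpenImmersion) j₀)
    (hj₀P : AlgSt.RepByAlgSpWith P (BasedFunctor.comp j₀
      (FibCat.fpFst (kz₁ z v eG) (FibCat.fpFst z f))))
    (a₀ : (FibCat.fp (BasedFunctor.comp (kz₁ z v eG) z) f).obj)
    (hz : EssIm j₀ ((PS.paste (kz₁ z v eG) z f).obj a₀)) :
    EssIm (BasedFunctor.comp (ofSpMap w.hom) e) ((Dz₂ f z v eG).obj a₀) := by
  let Yv : AlgSp.Space S := ⟨(yon S).obj V, IsAlgSpace.yon_obj V⟩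
  let fF : F ⟶ Yv := ObjectProperty.homMk (spMapOfOver (BasedFunctor.comp e (FibCat.fpFst v f)))
  let gV : G ⟶ Yv := ObjectProperty.homMk (spMapOfOver (kz₂ z v eG))
  -- the two pastings
  have hΨ₁ := PS.paste_isEquivOver (kz₁ z v eG) z f
  obtain ⟨Ψ₁', ⟨un₁⟩, ⟨cu₁⟩⟩ := id hΨ₁
  have hΨ₁' : FibCat.IsEquivOver Ψ₁' := isEquivOver_symm _ Ψ₁' un₁ cu₁
  have hΨ₂ : FibCat.IsEquivOver (BasedFunctor.comp (twZ f z v eG) (PS.paste (kz₂ z v eG) v f)) :=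
    isEquivOver_comp _ _ (twZ_isEquivOver f z v eG) (PS.paste_isEquivOver (kz₂ z v eG) v f)
  let j := BasedFunctor.comp (BasedFunctor.comp j₀ Ψ₁')
    (BasedFunctor.comp (twZ f z v eG) (PS.paste (kz₂ z v eG) v f))
  have hjo : AlgSt.RepByAlgSpWith (AlgSp.RepWith @IsOpenImmersion) j :=
    LQT.repWith_postcomp_equiv _ _ _ hΨ₂ (LQT.repWith_postcomp_equiv _ _ _ hΨ₁' hj₀o)
  have hjP : AlgSt.RepByAlgSpWith P
      (BasedFunctor.comp j (FibCat.fpFst (kz₂ z v eG) (FibCat.fpFst v f))) := by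
    obtain ⟨εd, hεd⟩ : ∃ εd : ∀ x' : 𝒞.obj,
        (BasedFunctor.comp j (FibCat.fpFst (kz₂ z v eG) (FibCat.fpFst v f))).obj x' ≅
        (BasedFunctor.comp j₀ (FibCat.fpFst (kz₁ z v eG) (FibCat.fpFst z f))).obj x',
        ∀ x', (εd x').hom = (FibCat.fpFst (kz₁ z v eG) (FibCat.fpFst z f)).map
          (compApp cu₁ (j₀.obj x')).hom :=
      ⟨fun x' => (FibCat.fpFst (kz₁ z v eG) (FibCat.fpFst z f)).toFunctor.mapIso
        (compApp cu₁ (j₀.obj x')), fun _ => rfl⟩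
    have εl : ∀ x', (ofSp G.obj).p.IsHomLift (𝟙 (𝒞.p.obj x')) (εd x').hom := by
      intro x'
      have h := compApp_lift cu₁ (j₀.obj x')
      rw [j₀.w_obj] at h
      rw [hεd]
      exact map_lift'' (FibCat.fpFst (kz₁ z v eG) (FibCat.fpFst z f)) h
    refine repWith_of_square_fwd P
      (BasedFunctor.comp j₀ (FibCat.fpFst (kz₁ z v eG) (FibCat.fpFst z f)))
      (BasedFunctor.comp j (FibCat.fpFst (kz₂ z v eG) (FibCat.fpFst v f)))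
      (BasedFunctor.id _) (BasedFunctor.id _)
      (isEquivOver_id _) (isEquivOver_id _) εd ?_ εl hj₀P
    intro x x₁ β
    exact nat_free _ _ εd εl β
  obtain ⟨Θ, hΘ, hΘ1, hΘ2⟩ := exists_theta (FibCat.fpFst v f) e he (kz₂ z v eG)
  have key := fun c => bcu P Q R hPb hP h₄ fF gV hQφ hR₂ W w hlg h𝒞 Θ hΘ
    (FibCat.fpFst (kz₂ z v eG) (FibCat.fpFst v f)) (FibCat.fpSnd (kz₂ z v eG) (FibCat.fpFst v f))
    e hΘ1 hΘ2 j hjo hjP c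
  -- the object
  obtain ⟨c, i, hi⟩ := hz
  have hc := key c
  let i₂ : Ψ₁'.obj (j₀.obj c) ≅ a₀ := Ψ₁'.toFunctor.mapIso i ≪≫ compApp un₁ a₀
  refine essIm_of_iso _ ((Dz₂ f z v eG).toFunctor.mapIso i₂) ?_ hc
  have hbz : (FibCat.fp (BasedFunctor.comp (kz₁ z v eG) z) f).p.obj a₀ = 𝒞.p.obj c :=
    ((PS.paste (kz₁ z v eG) z f).w_obj a₀).symm.trans (hl_cod hi)
  have h1 : (FibCat.fp (BasedFunctor.comp (kz₁ z v eG) z) f).p.IsHomLift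
      (𝟙 (𝒞.p.obj c)) (Ψ₁'.map i.hom) := map_lift'' Ψ₁' hi
  have h2 : (FibCat.fp (BasedFunctor.comp (kz₁ z v eG) z) f).p.IsHomLift
      (𝟙 (𝒞.p.obj c)) (compApp un₁ a₀).hom := by
    rw [← hbz]
    exact compApp_lift un₁ a₀
  have h3 : (FibCat.fp (BasedFunctor.comp (kz₁ z v eG) z) f).p.IsHomLift
      (𝟙 (𝒞.p.obj c)) (Ψ₁'.map i.hom ≫ (compApp un₁ a₀).hom) :=
    IsHomLift.comp_of_lift_id _ _ (Ψ₁'.map i.hom) (compApp un₁ a₀).hom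
  have h4 := map_lift'' (Dz₂ f z v eG) h3
  have hb : (FibCat.fp v f).p.obj ((Dz₂ f z v eG).obj (Ψ₁'.obj (j₀.obj c))) = 𝒞.p.obj c :=
    ((FibCat.fpSnd (kz₂ z v eG) (FibCat.fpFst v f)).w_obj _).trans (j.w_obj c)
  rw [hb]
  exact h4

/-- the lift of a fully faithful functor to `𝒲 ×_𝒴 𝒳'` is an equivalence as soon as every object
of `𝒲 ×_𝒴 𝒳` with image in `𝒳'` lies in its essential image -/
theorem liftFp_isEquivOver_gen {𝒜 𝒲 𝒳 𝒴 : AlgSt.Cat S} (f : 𝒳 ⥤ᵇ 𝒴) (y : 𝒲 ⥤ᵇ 𝒴)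
    (ψ : 𝒜 ⥤ᵇ FibCat.fp y f) (hfull : ψ.toFunctor.Full) (hfaith : ψ.toFunctor.Faithful)
    (Q₀ : 𝒳.obj → Prop) (hψ : ∀ a, Q₀ (ψ.obj a).obj.snd)
    (key : ∀ ξ : (FibCat.fp y f).obj, Q₀ ξ.obj.snd → EssIm ψ ξ) :
    FibCat.IsEquivOver (MSm.liftFp y f Q₀ ψ hψ) := by
  have i5 : (AlgSt.subIncl 𝒳 Q₀).toFunctor.Full := OST.subIncl_full Q₀
  have i6 : (AlgSt.subIncl 𝒳 Q₀).toFunctor.Faithful := OST.subIncl_faithful Q₀
  have i7 : (PSR.toInner y (AlgSt.subIncl 𝒳 Q₀) f).toFunctor.Full := MSm.toInner_full y _ f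
  have i8 : (PSR.toInner y (AlgSt.subIncl 𝒳 Q₀) f).toFunctor.Faithful :=
    MSm.toInner_faithful y _ f
  have i11 : ((MSm.liftFp y f Q₀ ψ hψ).toFunctor ⋙
      (PSR.toInner y (AlgSt.subIncl 𝒳 Q₀) f).toFunctor).Full := hfull
  have i12 : ((MSm.liftFp y f Q₀ ψ hψ).toFunctor ⋙
      (PSR.toInner y (AlgSt.subIncl 𝒳 Q₀) f).toFunctor).Faithful := hfaith
  rw [Groth.Agent.S5139.result]
  refine ⟨⟨Functor.Full.of_comp_faithful _ (PSR.toInner y (AlgSt.subIncl 𝒳 Q₀) f).toFunctor,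
    Functor.Faithful.of_comp _ (PSR.toInner y (AlgSt.subIncl 𝒳 Q₀) f).toFunctor⟩, ?_⟩
  intro η
  obtain ⟨a, i, hi⟩ := key ((PSR.toInner y (AlgSt.subIncl 𝒳 Q₀) f).obj η) η.obj.snd.property
  let i' : (MSm.liftFp y f Q₀ ψ hψ).obj a ≅ η :=
    (PSR.toInner y (AlgSt.subIncl 𝒳 Q₀) f).toFunctor.preimageIso i
  refine ⟨a, i', ?_⟩
  have hb : (FibCat.fp y (BasedFunctor.comp (AlgSt.subIncl 𝒳 Q₀) f)).p.obj η = 𝒜.p.obj a :=
    hl_cod (p := (FibCat.fp y f).p) hi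
  rw [hb, isHomLift_iff_fst]
  have h1 := (isHomLift_iff_fst i.hom (𝟙 (𝒜.p.obj a))).mp hi
  have e1 : ((PSR.toInner y (AlgSt.subIncl 𝒳 Q₀) f).map i'.hom) = i.hom :=
    Functor.map_preimage _ _
  rw [← e1] at h1
  exact h1

/-- **the projection of the inverse image of an open substack with `P` has `P`** -/
theorem repWith_preimage (P : MorphismProperty (AlgSp.Sp S))
    {𝒳 𝒴 𝒵 : AlgSt.Cat S} (f : 𝒳 ⥤ᵇ 𝒴) (z : 𝒵 ⥤ᵇ 𝒴) (Q₀ : 𝒳.obj → Prop)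
    (hQ₀P : AlgSt.RepByAlgSpWith P (BasedFunctor.comp (AlgSt.subIncl 𝒳 Q₀) f)) :
    AlgSt.RepByAlgSpWith P
      (BasedFunctor.comp (AlgSt.subIncl (FibCat.fp z f) fun b ↦ Q₀ b.obj.snd)
        (FibCat.fpFst z f)) := by
  have hfull : (AlgSt.subIncl (FibCat.fp z f) fun b ↦ Q₀ b.obj.snd).toFunctor.Full :=
    OST.subIncl_full _
  have hfaith : (AlgSt.subIncl (FibCat.fp z f) fun b ↦ Q₀ b.obj.snd).toFunctor.Faithful :=
    OST.subIncl_faithful _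
  have hL := liftFp_isEquivOver_gen f z (AlgSt.subIncl (FibCat.fp z f) fun b ↦ Q₀ b.obj.snd)
    hfull hfaith Q₀ (fun a => a.property)
    (fun ξ hξ => essIm_obj (AlgSt.subIncl (FibCat.fp z f) fun b ↦ Q₀ b.obj.snd) ⟨ξ, hξ⟩)
  have h1 : AlgSt.RepByAlgSpWith P
      (FibCat.fpFst z (BasedFunctor.comp (AlgSt.subIncl 𝒳 Q₀) f)) :=
    AB.repWith_fpFst P _ z hQ₀P
  have h2 := FD.repWith_precomp_equiv P _ hL _ h1
  rw [MSm.liftFp_fst] at h2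
  exact h2

/-- an equivalence is surjective on points -/
theorem isSurjective_of_isEquivOver {𝒜 ℬ : AlgSt.Cat S} (E : 𝒜 ⥤ᵇ ℬ)
    (hE : FibCat.IsEquivOver E) : AlgSt.IsSurjective E := by
  obtain ⟨G', ⟨un⟩, ⟨cu⟩⟩ := hE
  intro y
  refine ⟨AlgSt.Points.map G' y, ?_⟩
  rw [← PTS.map_comp, PTS.map_congr cu, PTS.map_id]

/-- **maximality of the inverse image** -/
theorem maximal2 (P Q R : MorphismProperty (AlgSp.Sp S)) (hPb : BC P)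
    (hP : AlgSp.IsLocalOnBase (AlgSp.IsFppfCover (S := S)) P) (h₄ : H4 P Q R)
    {𝒳 𝒴 𝒵 : AlgSt.Cat S} (h𝒳 : FibCat.IsFibGrpd 𝒳.p) (h𝒴 : FibCat.IsFibGrpd 𝒴.p)
    (h𝒵 : FibCat.IsFibGrpd 𝒵.p)
    (f : 𝒳 ⥤ᵇ 𝒴) (z : 𝒵 ⥤ᵇ 𝒴) {V : Over S} (v : FibCat.overCat V ⥤ᵇ 𝒴)
    (hvsurj : AlgSt.RepByAlgSpWith AlgSp.IsSurjectiveMor v)
    (F : AlgSp.Space S) (e : ofSp F.obj ⥤ᵇ FibCat.fp v f) (he : FibCat.IsEquivOver e)
    (hQφ : Q (spMapOfOver (BasedFunctor.comp e (FibCat.fpFst v f))))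
    (G : AlgSp.Space S) (eG : ofSp G.obj ⥤ᵇ FibCat.fp z v) (heG : FibCat.IsEquivOver eG)
    (hR₂ : R (spMapOfOver (kz₂ z v eG)))
    (W : AlgSp.Space S) (w : W ⟶ F)
    (hlg : IsLg P (ObjectProperty.homMk (spMapOfOver (BasedFunctor.comp e (FibCat.fpFst v f))) :
      F ⟶ (⟨(yon S).obj V, IsAlgSpace.yon_obj V⟩ : AlgSp.Space S)) W w)
    (Q₁ : (FibCat.fp z f).obj → Prop)
    (hQ₁ : AlgSt.IsOpenSubstack (FibCat.fp z f) Q₁ Scheme.fppfPrecoverage)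
    (hP₁ : AlgSt.RepByAlgSpWith P
      (BasedFunctor.comp (AlgSt.subIncl (FibCat.fp z f) Q₁) (FibCat.fpFst z f)))
    (b : (FibCat.fp z f).obj) (hb : Q₁ b) :
    OST.QT (Set.range (AlgSt.Points.map
      (BasedFunctor.comp (BasedFunctor.comp (ofSpMap w.hom) e) (FibCat.fpSnd v f)))) b.obj.snd := by
  have hVf : FibCat.IsFibGrpd (FibCat.overCat V).p := FG.isFibGrpd_overForget V
  have hfpf : FibCat.IsFibGrpd (FibCat.fp z f).p := SP.isFibGrpd_fp _ _ h𝒵 h𝒳 h𝒴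
  have hQf : FibCat.IsFibGrpd (AlgSt.fullSub (FibCat.fp z f) Q₁).p := hQ₁.2.1.isStack.1
  have h𝒞 : FibCat.IsFibGrpd (FibCat.fp (kz₁ z v eG)
      (BasedFunctor.comp (AlgSt.subIncl (FibCat.fp z f) Q₁) (FibCat.fpFst z f))).p :=
    SP.isFibGrpd_fp _ _ (Stk.isFibGrpd_ofPsh _) hQf h𝒵
  have hj₀o : AlgSt.RepByAlgSpWith (AlgSp.RepWith @IsOpenImmersion)
      (PSR.toInner (kz₁ z v eG) (AlgSt.subIncl (FibCat.fp z f) Q₁) (FibCat.fpFst z f)) :=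
    ACP.repWith_toInner _ (kz₁ z v eG) _ (FibCat.fpFst z f) hQ₁.2.2
  have hj₀P : AlgSt.RepByAlgSpWith P (BasedFunctor.comp
      (PSR.toInner (kz₁ z v eG) (AlgSt.subIncl (FibCat.fp z f) Q₁) (FibCat.fpFst z f))
      (FibCat.fpFst (kz₁ z v eG) (FibCat.fpFst z f))) := by
    rw [PSR.toInner_fst]
    exact repWith_fpFst P _ (kz₁ z v eG) hP₁
  have key := sat2 P Q R hPb hP h₄ f z v F e he hQφ G eG hR₂ W w hlg h𝒞 _ hj₀o hj₀P
  -- reduce to points of the fibre product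
  have hgoal : OST.QT (AlgSt.Points.map (FibCat.fpSnd z f) ⁻¹' (Set.range (AlgSt.Points.map
      (BasedFunctor.comp (BasedFunctor.comp (ofSpMap w.hom) e) (FibCat.fpSnd v f))))) b := by
    intro p m
    have hp : Q₁ p.obj := OST.Q_of_hom hfpf Q₁ hQ₁.1 hQf m hb
    have hκsurj : AlgSt.IsSurjective (kz₁ z v eG) := by
      intro y
      obtain ⟨y₁, hy₁⟩ := PTS.isSurjective_fpFst hVf h𝒴 h𝒵 v z
        (PTS.isSurjective_of_repWith h𝒴 v hvsurj) y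
      obtain ⟨y₂, hy₂⟩ := isSurjective_of_isEquivOver eG heG y₁
      refine ⟨y₂, ?_⟩
      change AlgSt.Points.map (BasedFunctor.comp eG (FibCat.fpFst z v)) y₂ = y
      rw [PTS.map_comp, hy₂, hy₁]
    obtain ⟨g₀, hg₀⟩ := hκsurj (AlgSt.Points.map
      (BasedFunctor.comp (AlgSt.subIncl (FibCat.fp z f) Q₁) (FibCat.fpFst z f))
      (AlgSt.Points.mk (OST.subPt Q₁ p hp)))
    obtain ⟨r, -, hr2⟩ := PTS.exists_point_fp hQf h𝒵 (Stk.isFibGrpd_ofPsh _)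
      (BasedFunctor.comp (AlgSt.subIncl (FibCat.fp z f) Q₁) (FibCat.fpFst z f)) (kz₁ z v eG)
      g₀ (AlgSt.Points.mk (OST.subPt Q₁ p hp)) hg₀
    obtain ⟨r₀, rfl⟩ := AlgSt.Points.mk_surjective r
    obtain ⟨a₀, ia, hia⟩ := PS.paste_essSurj (kz₁ z v eG) z f
      ((PSR.toInner (kz₁ z v eG) (AlgSt.subIncl (FibCat.fp z f) Q₁) (FibCat.fpFst z f)).obj
        r₀.obj)
    have hE : EssIm (PSR.toInner (kz₁ z v eG) (AlgSt.subIncl (FibCat.fp z f) Q₁)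
        (FibCat.fpFst z f)) ((PS.paste (kz₁ z v eG) z f).obj a₀) := by
      refine essIm_of_iso _ ia.symm ?_ (essIm_obj _ r₀.obj)
      exact IsHomLift.lift_id_inv _ _ ia
    obtain ⟨a₂, i, hi⟩ := key a₀ hE
    have hl1 : (FibCat.fp v f).p.obj ((Dz₂ f z v eG).obj a₀) = Over.mk r₀.str := by
      have e1 : (FibCat.fp v f).p.obj ((Dz₂ f z v eG).obj a₀) =
          (FibCat.fp (BasedFunctor.comp (kz₁ z v eG) z) f).p.obj a₀ := (Dz₂ f z v eG).w_obj a₀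
      have e2 : (FibCat.fp (kz₁ z v eG) (FibCat.fpFst z f)).p.obj
          ((PS.paste (kz₁ z v eG) z f).obj a₀) =
          (FibCat.fp (BasedFunctor.comp (kz₁ z v eG) z) f).p.obj a₀ :=
        (PS.paste (kz₁ z v eG) z f).w_obj a₀
      have e3 := hl_dom hia
      have e4 := (PSR.toInner (kz₁ z v eG) (AlgSt.subIncl (FibCat.fp z f) Q₁)
        (FibCat.fpFst z f)).w_obj r₀.obj
      exact e1.trans (e2.symm.trans (e3.trans (e4.trans r₀.lies)))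
    let q₂ : AlgSt.FPt (ofSp W.obj) :=
      { K := r₀.K, str := r₀.str, obj := a₂, lies := (hl_cod hi).symm.trans hl1 }
    refine ⟨AlgSt.Points.mk q₂, ?_⟩
    have e5 : AlgSt.Points.mk p = AlgSt.Points.map (AlgSt.subIncl (FibCat.fp z f) Q₁)
        (AlgSt.Points.map (FibCat.fpSnd (kz₁ z v eG)
          (BasedFunctor.comp (AlgSt.subIncl (FibCat.fp z f) Q₁) (FibCat.fpFst z f)))
          (AlgSt.Points.mk r₀)) := by
      rw [hr2]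
      exact (OST.map_subPt Q₁ p hp).symm
    rw [e5]
    exact PTS.mk_eq_of_hom
      ((q₂.map (BasedFunctor.comp (ofSpMap w.hom) e)).map (FibCat.fpSnd v f))
      (((r₀.map (FibCat.fpSnd (kz₁ z v eG)
          (BasedFunctor.comp (AlgSt.subIncl (FibCat.fp z f) Q₁) (FibCat.fpFst z f)))).map
        (AlgSt.subIncl (FibCat.fp z f) Q₁)).map (FibCat.fpSnd z f))
      ((FibCat.fpSnd v f).map i.hom ≫ (FibCat.fpSnd z f).map
        ((FibCat.fpSnd (kz₁ z v eG) (FibCat.fpFst z f)).map ia.hom))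
  exact (MSm.QT_comp_iff hfpf h𝒳 (FibCat.fpSnd z f) _ b).mpr hgoal

/-- **base change of the largest open substack along a morphism with `R`** -/
theorem main2 {𝒳 𝒴 𝒵 : AlgSt.Cat S}
    (h𝒳 : AlgSt.IsAlgStack Scheme.fppfPrecoverage 𝒳) (h𝒴 : AlgSt.IsAlgStack Scheme.fppfPrecoverage 𝒴)
    (h𝒵 : AlgSt.IsAlgStack Scheme.fppfPrecoverage 𝒵)
    (P Q R : MorphismProperty (AlgSp.Sp S)) (hPb : BC P)
    (hP : AlgSp.IsLocalOnBase (AlgSp.IsFppfCover (S := S)) P)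
    (h₂ : ∀ (X Y : AlgSp.Space S) (g : X ⟶ Y), AlgSp.LocP @Smooth g.hom → R g.hom)
    (h₃ : ∀ (X Y : AlgSp.Space S) (f : X ⟶ Y), Q f.hom →
      ∃ (W : AlgSp.Space S) (w : W ⟶ X), IsLg P f W w)
    (h₄ : H4 P Q R) (f : 𝒳 ⥤ᵇ 𝒴) (hf : AlgSt.RepByAlgSpWith Q f)
    (Q₀ : 𝒳.obj → Prop) (hQ₀ : AlgSt.IsOpenSubstack 𝒳 Q₀ Scheme.fppfPrecoverage)
    (hQ₀P : AlgSt.RepByAlgSpWith P (BasedFunctor.comp (AlgSt.subIncl 𝒳 Q₀) f))
    (hQ₀max : ∀ Q₁ : 𝒳.obj → Prop, AlgSt.IsOpenSubstack 𝒳 Q₁ Scheme.fppfPrecoverage →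
      AlgSt.RepByAlgSpWith P (BasedFunctor.comp (AlgSt.subIncl 𝒳 Q₁) f) → ∀ y, Q₁ y → Q₀ y)
    (z : 𝒵 ⥤ᵇ 𝒴) (hz : AlgSt.RepByAlgSpWith R z) :
    AlgSt.IsOpenSubstack (FibCat.fp z f) (fun b ↦ Q₀ b.obj.snd) Scheme.fppfPrecoverage ∧
      AlgSt.RepByAlgSpWith P
        (BasedFunctor.comp (AlgSt.subIncl (FibCat.fp z f) fun b ↦ Q₀ b.obj.snd)
          (FibCat.fpFst z f)) ∧
        ∀ Q₁ : (FibCat.fp z f).obj → Prop,
          AlgSt.IsOpenSubstack (FibCat.fp z f) Q₁ Scheme.fppfPrecoverage →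
          AlgSt.RepByAlgSpWith P
            (BasedFunctor.comp (AlgSt.subIncl (FibCat.fp z f) Q₁) (FibCat.fpFst z f)) →
            ∀ b, Q₁ b → Q₀ b.obj.snd := by
  have hX := h𝒳.isStack.1
  have hY := h𝒴.isStack.1
  have hZ := h𝒵.isStack.1
  have hfp : AlgSt.IsAlgStack Scheme.fppfPrecoverage (FibCat.fp z f) :=
    AFP.isAlgStack_fp h𝒴.isStack h𝒴.diag h𝒵 h𝒳 z f
  refine ⟨MSm.isOpenSubstack_comp hfp h𝒳 (FibCat.fpSnd z f) Q₀ hQ₀,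
    repWith_preimage P f z Q₀ hQ₀P, ?_⟩
  intro Q₁ hQ₁ hP₁ b hb
  obtain ⟨V, v, hvs, hvsurj⟩ := h𝒴.atlas
  obtain ⟨F, e, he, hQφ⟩ := hf V v
  let Yv : AlgSp.Space S := ⟨(yon S).obj V, IsAlgSpace.yon_obj V⟩
  obtain ⟨W, w, hlg⟩ := h₃ F Yv
    (ObjectProperty.homMk (spMapOfOver (BasedFunctor.comp e (FibCat.fpFst v f)))) hQφ
  obtain ⟨V₂, eV, heV, -⟩ := hvs V v
  have hsm2 : AlgSp.LocP @Smooth (spMapOfOver (kap₂ v eV)) := by
    have h := DL2.transport (AlgSp.LocP @Smooth) AFP.sm_bc v hvs V v V₂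
      (BasedFunctor.comp eV (SW.swap v v)) (isEquivOver_comp _ _ heV (SW.swap_isEquivOver v v))
    rw [BasedFunctor.comp_assoc, SW.swap_fst] at h
    exact h
  have hR₂ : R (spMapOfOver (kap₂ v eV)) :=
    h₂ V₂ Yv (ObjectProperty.homMk (spMapOfOver (kap₂ v eV))) hsm2
  have key := key_essIm P Q R hPb hP h₄ hX hY f v F e he hQφ V₂ eV heV hR₂ W w hlg
  have hf1 : AlgSt.RepByAlgSp1 f := fun U y => by
    obtain ⟨F', e', he', -⟩ := hf U y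
    exact ⟨F', e', he'⟩
  have hopenQT := OST.isOpenSubstack_QT h𝒳 _ (isOpen_T0 h𝒳 f v hvs F e he W w hlg.1)
  have hPQT := repWith_sub P hPb hP h𝒳 hY f hf1 v hvs hvsurj F e he W w hlg.1 hlg.2.1 key
  obtain ⟨G, eG', heG', hRG⟩ := hz V v
  have heG : FibCat.IsEquivOver (BasedFunctor.comp eG' (SW.swap v z)) :=
    isEquivOver_comp _ _ heG' (SW.swap_isEquivOver v z)
  have hR₂' : R (spMapOfOver (kz₂ z v (BasedFunctor.comp eG' (SW.swap v z)))) := by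
    have e1 : kz₂ z v (BasedFunctor.comp eG' (SW.swap v z)) =
        BasedFunctor.comp eG' (FibCat.fpFst v z) := by
      unfold kz₂
      rw [BasedFunctor.comp_assoc, SW.swap_snd]
    rw [e1]
    exact hRG
  exact hQ₀max _ hopenQT hPQT _ (maximal2 P Q R hPb hP h₄ hX hY hZ f z v hvsurj F e he hQφ G
    (BasedFunctor.comp eG' (SW.swap v z)) heG hR₂' W w hlg Q₁ hQ₁ hP₁ b hb)

end Groth.Agent.Lib.Helper17.LG
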