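import Mathlib
import Groth.Prelude.Def_LieS
import Groth.Agent.Lib.Helper19.Grp.MonoTangent

set_option autoImplicit false
universe u
open CategoryTheory CategoryTheory.Limits MonoidalCategory CartesianMonoidalCategory MonObj GrpObj AlgebraicGeometry
open IsLocalRing
open Groth.Agent.Lib.Helper19 Groth.Agent.Lib.Helper19.Cartier

namespace Groth.Agent.Lib.Helper17.LieKerK3

/-- a Jacobson space with at most one closed point has at most one point -/
theorem subsingleton_of_jacobson {X : Type*} [TopologicalSpace X] [JacobsonSpace X]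
    (h : ∀ x y : X, IsClosed ({x} : Set X) → IsClosed ({y} : Set X) → x = y) : Subsingleton X := by
  have key : ∀ x : X, ∃ c : X, IsClosed ({c} : Set X) ∧ x = c := by
    intro x
    have h1 := JacobsonSpace.closure_inter_closedPoints (X := X) (Z := closure {x}) isClosed_closure
    have hne : (closure ({x} : Set X) ∩ closedPoints X).Nonempty := by
      by_contra hcon
      rw [Set.not_nonempty_iff_eq_empty] at hcon
      rw [hcon, closure_empty] at h1
      exact (Set.eq_empty_iff_forall_notMem.1 h1.symm x) (subset_closure rfl)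
    obtain ⟨c, hcx, hc⟩ := hne
    have hc' : IsClosed ({c} : Set X) := hc
    have hsub : closure ({x} : Set X) ∩ closedPoints X ⊆ {c} := by
      intro y ⟨_, hy⟩
      exact h y c hy hc'
    have h2 : closure ({x} : Set X) ⊆ {c} := by
      rw [← h1]
      exact closure_minimal hsub hc'
    exact ⟨c, hc', h2 (subset_closure rfl)⟩
  refine ⟨fun x y => ?_⟩
  obtain ⟨c, hc, rfl⟩ := key x
  obtain ⟨d, hd, rfl⟩ := key y
  exact h _ _ hc hd

theorem K3 (k : Type u) [Field k] [IsAlgClosed k] {G G' : Over (Spec (CommRingCat.of k))} [GrpObj G] [GrpObj G'] (f : G ⟶ G') [IsMonHom f] [LocallyOfFiniteType G.hom] (hpts : ∀ b b' : 𝟙_ (Over (Spec (CommRingCat.of k))) ⟶ G, b ≫ f = b' ≫ f → b = b') (htan : ∀ g : (Over.mk (Spec.map (CommRingCat.ofHom (algebraMap k (DualNumber k))))) ⟶ G, (∀ x : 𝟙_ (Over (Spec (CommRingCat.of k))) ⟶ (Over.mk (Spec.map (CommRingCat.ofHom (algebraMap k (DualNumber k))))), x ≫ g = η[G]) → g ≫ f = toUnit _ ≫ η[G'] → g = toUnit _ ≫ η[G]) : Mono f := by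
  -- the kernel
  let N : Over (Spec (CommRingCat.of k)) := pullback f η[G']
  let i : N ⟶ G := pullback.fst f η[G']
  have hN : IsPullback i (toUnit N) f η[G'] := by
    have := IsPullback.of_hasPullback f η[G']
    have h2 : pullback.snd f η[G'] = toUnit N := toUnit_unique _ _
    rwa [h2] at this
  -- `N` is locally of finite type over `k`
  have hη : LocallyOfFiniteType η[G'].left := by
    have : LocallyOfFiniteType (η[G'].left ≫ G'.hom) := by
      rw [Over.w η[G']]
      change LocallyOfFiniteType (𝟙 _)
      infer_instance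
    exact locallyOfFiniteType_of_comp η[G'].left G'.hom
  have sq := hN.map (Over.forget _)
  simp only [Over.forget_obj, Over.forget_map] at sq
  have hi : LocallyOfFiniteType i.left :=
    MorphismProperty.of_isPullback (P := @LocallyOfFiniteType) sq.flip hη
  have hNlft : LocallyOfFiniteType N.hom := by
    rw [← Over.w i]
    infer_instance
  -- the kernel has one point
  have hsub : Subsingleton N.left := by
    haveI : JacobsonSpace N.left := LocallyOfFiniteType.jacobsonSpace N.hom
    apply subsingleton_of_jacobson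
    intro c c' hc hc'
    let σ : 𝟙_ (Over (Spec (CommRingCat.of k))) ⟶ N :=
      Over.homMk (pointOfClosedPoint N.hom c hc) (pointOfClosedPoint_comp N.hom c hc)
    let σ' : 𝟙_ (Over (Spec (CommRingCat.of k))) ⟶ N :=
      Over.homMk (pointOfClosedPoint N.hom c' hc') (pointOfClosedPoint_comp N.hom c' hc')
    have h1 : σ ≫ i = σ' ≫ i := by
      apply hpts
      rw [Category.assoc, Category.assoc, hN.w, ← Category.assoc, ← Category.assoc]
      congr 1
      exact toUnit_unique _ _
    have h2 : σ = σ' := kernel_hom_ext f hN σ σ' h1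
    have h3 : σ.left (IsLocalRing.closedPoint k) = σ'.left (IsLocalRing.closedPoint k) := by
      rw [h2]
    have h4 : σ.left (IsLocalRing.closedPoint k) = c := pointOfClosedPoint_apply N.hom c hc _
    have h5 : σ'.left (IsLocalRing.closedPoint k) = c' := pointOfClosedPoint_apply N.hom c' hc' _
    rw [← h4, ← h5, h3]
  have hNoeth : IsLocallyNoetherian N.left := LocallyOfFiniteType.isLocallyNoetherian N.hom
  -- `N` is affine
  let B : CommRingCat.{u} := Γ(N.left, ⊤)
  have hB : IsNoetherianRing B :=
    IsLocallyNoetherian.component_noetherian ⟨⊤, isAffineOpen_top N.left⟩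
  let e : N.left ≅ Spec B := N.left.isoSpec
  let s : CommRingCat.of k ⟶ B := Spec.preimage (e.inv ≫ N.hom)
  have hs : Spec.map s = e.inv ≫ N.hom := Spec.map_preimage _
  let E : Over.mk (Spec.map s) ≅ N := Over.isoMk e.symm (by simp [hs])
  have hN' : IsPullback (E.hom ≫ i) (toUnit _) f η[G'] :=
    hN.of_iso' E (Iso.refl _) (Iso.refl _) (Iso.refl _) (by simp) (toUnit_unique _ _)
      (by simp) (by simp)
  have : Subsingleton (Spec B) := e.symm.hom.homeomorph.injective.subsingleton
  have hsiso : IsIso s := isIso_of_kernel_affine f B s (E.hom ≫ i) hN' htan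
  have : IsIso N.hom := by
    have h1 : N.hom = e.hom ≫ Spec.map s := by rw [hs, Iso.hom_inv_id_assoc]
    rw [h1]
    infer_instance
  exact mono_of_isIso_kernel f hN

end Groth.Agent.Lib.Helper17.LieKerK3
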