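import Mathlib
import Groth.Prelude.Def_LieS

set_option autoImplicit false
universe u
open CategoryTheory CategoryTheory.Limits MonoidalCategory CartesianMonoidalCategory MonObj GrpObj AlgebraicGeometry
open IsLocalRing

namespace Groth.Agent.Lib.Helper17.LieKerK4

theorem K4 (k : Type u) [Field k] {G G' : Over (Spec (CommRingCat.of k))} [GrpObj G] [GrpObj G'] (f : G ⟶ G') [IsMonHom f] (h : Function.Injective (LieS.map k (𝟙 (Spec (CommRingCat.of k))) f)) : ∀ g : (Over.mk (Spec.map (CommRingCat.ofHom (algebraMap k (DualNumber k))))) ⟶ G, (∀ x : 𝟙_ (Over (Spec (CommRingCat.of k))) ⟶ (Over.mk (Spec.map (CommRingCat.ofHom (algebraMap k (DualNumber k))))), x ≫ g = η[G]) → g ≫ f = toUnit _ ≫ η[G'] → g = toUnit _ ≫ η[G] := by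
  intro g hg hgf
  let D : Over (Spec (CommRingCat.of k)) :=
    Over.mk (Spec.map (CommRingCat.ofHom (algebraMap k (DualNumber k))))
  let i : LieS.dpt k (𝟙 (Spec (CommRingCat.of k))) ≅ D :=
    Over.isoMk (Iso.refl _) (by
      change 𝟙 _ ≫ Spec.map _ = Spec.map _ ≫ 𝟙 _
      rw [Category.id_comp, Category.comp_id])
  have hmem : i.hom ≫ g ∈ LieS.Lie G k (𝟙 (Spec (CommRingCat.of k))) := by
    rw [LieS.mem_Lie_iff]
    have h1 := hg (LieS.zeroSec k (𝟙 (Spec (CommRingCat.of k))) ≫ i.hom)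
    rw [Category.assoc] at h1
    rw [h1, Hom.one_def]
    have : toUnit (LieS.pt k (𝟙 (Spec (CommRingCat.of k)))) = 𝟙 _ := Subsingleton.elim _ _
    rw [this, Category.id_comp]
  have h2 : LieS.map k (𝟙 (Spec (CommRingCat.of k))) f ⟨i.hom ≫ g, hmem⟩ =
      LieS.map k (𝟙 (Spec (CommRingCat.of k))) f 1 := by
    rw [map_one]
    apply Subtype.ext
    change (i.hom ≫ g) ≫ f = 1
    rw [Category.assoc, hgf, Hom.one_def, ← Category.assoc]
    congr 1
  have h3 := h h2
  have h4 : i.hom ≫ g = 1 := congrArg Subtype.val h3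
  have h5 : g = i.inv ≫ (1 : LieS.dpt k (𝟙 (Spec (CommRingCat.of k))) ⟶ G) := by
    rw [← h4, Iso.inv_hom_id_assoc]
  rw [h5, Hom.one_def, ← Category.assoc]
  congr 1

end Groth.Agent.Lib.Helper17.LieKerK4
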