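import Groth.Agent.Lib.Helper17.OpenSub
import Groth.Agent.Lib.Helper17.QcCover

set_option autoImplicit false
set_option backward.isDefEq.respectTransparency false
set_option backward.isDefEq.respectTransparency.types false
universe u

namespace Groth.Agent.Lib.Helper17.LQT

open CategoryTheory CategoryTheory.Limits AlgebraicGeometry Opposite AlgSp FibCat Stk AlgSt
open Groth.Agent.Lib.Helper17 Groth.Agent.Lib.Helper17.FP Groth.Agent.Lib.Helper17.EO
  Groth.Agent.Lib.Helper17.PD Groth.Agent.Lib.Helper17.AT Groth.Agent.Lib.Helper17.AB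
  Groth.Agent.Lib.Helper17.AOS Groth.Agent.Lib.Helper17.ACP Groth.Agent.Lib.Helper17.PTS
open Groth.Agent.Lib.Helper46 Groth.Agent.Lib.Helper46.LocPChart

variable {S : Scheme.{u}}

/-- the bridge between two charts: legs, 2-isomorphism, points -/
theorem exists_bridge_all {𝒳 : AlgSt.Cat S} (hX : FibCat.IsFibGrpd 𝒳.p)
    (hΔ : AlgSt.RepByAlgSp1 (FibCat.diag (FibCat.toSelf 𝒳))) {U U₀ : Over S}
    (x : FibCat.overCat U ⥤ᵇ 𝒳) (x₀ : FibCat.overCat U₀ ⥤ᵇ 𝒳) :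
    ∃ (W : Over S) (a : W ⟶ U) (b : W ⟶ U₀),
      (∀ P : MorphismProperty Scheme.{u}, (∀ ⦃X Y : Scheme.{u}⦄ (f : X ⟶ Y), Etale f → P f) →
        BC (LocP (S := S) P) → CP (LocP (S := S) P) →
        AlgSt.RepByAlgSpWith (AlgSp.LocP P) x₀ → P a.left) ∧
      (AlgSt.RepByAlgSpWith AlgSp.IsSurjectiveMor x₀ → Function.Surjective a.left) ∧
      (∀ P : MorphismProperty Scheme.{u}, (∀ ⦃X Y : Scheme.{u}⦄ (f : X ⟶ Y), Etale f → P f) →
        BC (LocP (S := S) P) → CP (LocP (S := S) P) →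
        AlgSt.RepByAlgSpWith (AlgSp.LocP P) x → P b.left) ∧
      (AlgSt.RepByAlgSpWith AlgSp.IsSurjectiveMor x → Function.Surjective b.left) ∧
      Nonempty (BasedFunctor.comp (AlgSt.overMap a) x ≅ BasedFunctor.comp (AlgSt.overMap b) x₀) ∧
      (∀ (u : ↥U.left) (u₀ : ↥U₀.left), AlgSt.Points.ofChart x u = AlgSt.Points.ofChart x₀ u₀ →
        ∃ w : ↥W.left, a.left w = u ∧ b.left w = u₀) := by
  obtain ⟨W, a, b, R, e, c, he, hce, hcs, ha, hb, ⟨ia⟩, ⟨ib⟩⟩ := exists_bridge_q hX hΔ x x₀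
  have hcet := ACov.isEtaleMor_of_repWith c hce
  have hcsurj : IsSurjectiveMor c := ACov.points_map_surjective c hcs
  have hWsp : IsAlgSpace ((yon S).obj W) := IsAlgSpace.yon_obj W
  have e' : BasedFunctor.comp (BasedFunctor.comp e (SW.swap x x₀)) (FibCat.fpFst x₀ x) =
      BasedFunctor.comp e (FibCat.fpSnd x x₀) := DR.basedFunctor_ext rfl
  have he' : FibCat.IsEquivOver (BasedFunctor.comp e (SW.swap x x₀)) :=
    isEquivOver_comp _ _ he (SW.swap_isEquivOver x x₀)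
  have hU : FibCat.IsFibGrpd (FibCat.overCat U).p := FG.isFibGrpd_overForget U
  have hU₀ : FibCat.IsFibGrpd (FibCat.overCat U₀).p := FG.isFibGrpd_overForget U₀
  have hfp : FibCat.IsFibGrpd (FibCat.fp x x₀).p := SP.isFibGrpd_fp _ _ hU hU₀ hX
  let q : FibCat.overCat W ⥤ᵇ FibCat.fp x x₀ :=
    BasedFunctor.comp (BasedFunctor.comp (ofOverCat W) (ofSpMap c)) e
  -- the 2-isomorphism
  have hiso : BasedFunctor.comp (AlgSt.overMap a) x ≅ BasedFunctor.comp (AlgSt.overMap b) x₀ := by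
    let Q : (FibCat.overCat W : AlgSt.Cat S) ⟶ FibCat.fp x x₀ := q
    let X' : (FibCat.overCat U : AlgSt.Cat S) ⟶ 𝒳 := x
    let X₀' : (FibCat.overCat U₀ : AlgSt.Cat S) ⟶ 𝒳 := x₀
    have i1 : BasedFunctor.comp (FibCat.fpFst x x₀) x ≅ BasedFunctor.comp (FibCat.fpSnd x x₀) x₀ :=
      FibCat.fpIso x x₀
    have i2 := Bicategory.whiskerLeftIso Q i1
    have i5 := Bicategory.whiskerRightIso
      (f := (BasedFunctor.comp q (FibCat.fpFst x x₀) :
        (FibCat.overCat W : AlgSt.Cat S) ⟶ FibCat.overCat U)) ia X'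
    have i6 := Bicategory.whiskerRightIso
      (f := (BasedFunctor.comp q (FibCat.fpSnd x x₀) :
        (FibCat.overCat W : AlgSt.Cat S) ⟶ FibCat.overCat U₀)) ib X₀'
    exact i5.symm ≪≫ i2 ≪≫ i6
  -- `q` is surjective on points
  have hq : AlgSt.IsSurjective q := by
    have h1 : AlgSt.RepByAlgSpWith IsSurjectiveMor (BasedFunctor.comp (ofOverCat W) (ofSpMap c)) :=
      FD.repWith_precomp_equiv _ (ofOverCat W) (AD.ofOverCat_isEquivOver W) _
        (DCV.repWith_ofSpMap _ DL.surj_bc ⟨(yon S).obj W, IsAlgSpace.yon_obj W⟩ R c hcsurj)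
    exact isSurjective_comp _ e (isSurjective_of_repWith (Stk.isFibGrpd_ofPsh _) _ h1)
      (isSurjective_of_isEquivOver e he)
  refine ⟨W, a, b, ?_, ?_, ?_, ?_, ⟨hiso⟩, ?_⟩
  · intro P hP hbc hcp h
    have hcP : LocP P c := ACov.locP_of_isEtaleMor hP c hcet
    have h1 := DL2.transport _ hbc x₀ h U x R e he
    have h2 := hcp hWsp R.property (IsAlgSpace.yon_obj U) c _ hcP h1
    rw [← ha] at h2
    exact AlgSp.locP_yon_map h2
  · intro h
    have h1 := DL2.transport _ DL.surj_bc x₀ h U x R e he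
    have h2 := DL.surj_cp hWsp R.property (IsAlgSpace.yon_obj U) c _ hcsurj h1
    rw [← ha] at h2
    exact BRG.surjective_of_isSurjectiveMor a h2
  · intro P hP hbc hcp h
    have hcP : LocP P c := ACov.locP_of_isEtaleMor hP c hcet
    have h1 := DL2.transport _ hbc x h U₀ x₀ R _ he'
    rw [e'] at h1
    have h2 := hcp hWsp R.property (IsAlgSpace.yon_obj U₀) c _ hcP h1
    rw [← hb] at h2
    exact AlgSp.locP_yon_map h2
  · intro h
    have h1 := DL2.transport _ DL.surj_bc x h U₀ x₀ R _ he'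
    rw [e'] at h1
    have h2 := DL.surj_cp hWsp R.property (IsAlgSpace.yon_obj U₀) c _ hcsurj h1
    rw [← hb] at h2
    exact BRG.surjective_of_isSurjectiveMor b h2
  · intro u u₀ h
    obtain ⟨ω, hω1, hω2⟩ := exists_point_fp hU₀ hX hU x₀ x
      (AlgSt.Points.ofChart (BasedFunctor.id _) u) (AlgSt.Points.ofChart (BasedFunctor.id _) u₀) h
    obtain ⟨ζ, rfl⟩ := hq ω
    obtain ⟨w, rfl⟩ := exists_ofChart_id W ζ
    refine ⟨w, ?_, ?_⟩
    · apply ofChart_id_injective U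
      rw [← hω1, ← ofChart_overMap_id, ← map_comp]
      exact (ofChart_congr ia w).symm
    · apply ofChart_id_injective U₀
      rw [← hω2, ← ofChart_overMap_id, ← map_comp]
      exact (ofChart_congr ib w).symm

/-- the 2-isomorphic whiskering helper: `overMap a ⋙ (x ⋙ f) ≅ overMap b ⋙ (x₀ ⋙ f)` -/
noncomputable def whiskerBridge {𝒳 𝒴 : AlgSt.Cat S} {W U U₀ : Over S} (a : W ⟶ U) (b : W ⟶ U₀)
    (x : FibCat.overCat U ⥤ᵇ 𝒳) (x₀ : FibCat.overCat U₀ ⥤ᵇ 𝒳) (f : 𝒳 ⥤ᵇ 𝒴)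
    (i : BasedFunctor.comp (AlgSt.overMap a) x ≅ BasedFunctor.comp (AlgSt.overMap b) x₀) :
    BasedFunctor.comp (AlgSt.overMap a) (BasedFunctor.comp x f) ≅
      BasedFunctor.comp (AlgSt.overMap b) (BasedFunctor.comp x₀ f) := by
  let F : (𝒳 : AlgSt.Cat S) ⟶ 𝒴 := f
  exact Bicategory.whiskerRightIso
    (f := (BasedFunctor.comp (AlgSt.overMap a) x : (FibCat.overCat W : AlgSt.Cat S) ⟶ 𝒳))
    (g := (BasedFunctor.comp (AlgSt.overMap b) x₀ : (FibCat.overCat W : AlgSt.Cat S) ⟶ 𝒳)) i F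

/-- a chart square with `P` on the scheme map gives `P` for `x ⋙ f` (for `P ⊇` smooth) -/
theorem repWith_comp_of_square {𝒳 𝒴 : AlgSt.Cat S} (hY : FibCat.IsFibGrpd 𝒴.p)
    (P : MorphismProperty Scheme.{u}) (hP : ∀ ⦃X Y : Scheme.{u}⦄ (f : X ⟶ Y), Smooth f → P f)
    (hbc : BC (LocP (S := S) P)) (hcp : CP (LocP (S := S) P))
    (hl : ACov.SchLocal (LocP (S := S) P))
    {U V : Over S} (x : FibCat.overCat U ⥤ᵇ 𝒳) (y : FibCat.overCat V ⥤ᵇ 𝒴) (h : U ⟶ V)
    (f : 𝒳 ⥤ᵇ 𝒴) (α : BasedFunctor.comp x f ≅ BasedFunctor.comp (AlgSt.overMap h) y)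
    (hy : AlgSt.RepByAlgSpWith (LocP @Smooth) y) (hh : LocP P ((yon S).map h)) :
    AlgSt.RepByAlgSpWith (LocP P) (BasedFunctor.comp x f) := by
  have hUf : FibCat.IsFibGrpd (FibCat.overCat U).p := FG.isFibGrpd_overForget U
  have h1 : AlgSt.RepByAlgSpWith (LocP P) (AlgSt.overMap h) := CT.repWith_overMap _ hbc h hh
  have h2 : AlgSt.RepByAlgSpWith (LocP P) y := repWith_locP_mono hP y hy
  exact DCN.repWith_of_iso _ α (repWith_comp_of_schLocal' hUf hY _ hbc hcp hl _ y h1 h2)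

/-- **a flat, locally finitely presented morphism of algebraic stacks (chart-square form) is open
on points** -/
theorem isOpenMor_of_locQ {𝒳 𝒴 : AlgSt.Cat S}
    (h𝒳 : AlgSt.IsAlgStack Scheme.fppfPrecoverage 𝒳)
    (h𝒴 : AlgSt.IsAlgStack Scheme.fppfPrecoverage 𝒴) (f : 𝒳 ⥤ᵇ 𝒴)
    (h1 : AlgSt.LocQ (AlgSp.LocP @Flat) f)
    (h2 : AlgSt.LocQ (AlgSp.LocP @LocallyOfFinitePresentation) f) : AlgSt.IsOpenMor f := by
  obtain ⟨U₁, V₁, x₁, y₁, k₁, α₁, hx₁s, hx₁j, hy₁s, hk₁⟩ := h1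
  obtain ⟨U₂, V₂, x₂, y₂, k₂, α₂, hx₂s, hx₂j, hy₂s, hk₂⟩ := h2
  have hX := h𝒳.isStack.1
  have hY := h𝒴.isStack.1
  obtain ⟨W, a, b, ha, haj, hb, -, ⟨i⟩, -⟩ := exists_bridge_all hX h𝒳.diag x₁ x₂
  have hWf : FibCat.IsFibGrpd (FibCat.overCat W).p := FG.isFibGrpd_overForget W
  have hasm : Smooth a.left := ha @Smooth (fun _ _ f hf => by have := hf; infer_instance)
    AFP.sm_bc AFP.sm_cp hx₂s
  have hbsm : Smooth b.left := hb @Smooth (fun _ _ f hf => by have := hf; infer_instance)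
    AFP.sm_bc AFP.sm_cp hx₁s
  have hasurj := haj hx₂j
  -- the two composites
  have hf1 : AlgSt.RepByAlgSpWith (LocP @Flat) (BasedFunctor.comp x₁ f) :=
    repWith_comp_of_square hY @Flat (fun _ _ g hg => by have := hg; infer_instance)
      DL.flat_bc DL.flat_cp flat_schLocal x₁ y₁ k₁ f α₁ hy₁s hk₁
  have hf2 : AlgSt.RepByAlgSpWith (LocP @LocallyOfFinitePresentation) (BasedFunctor.comp x₂ f) :=
    repWith_comp_of_square hY @LocallyOfFinitePresentation
      (fun _ _ g hg => by have := hg; infer_instance)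
      DL.lfp_bc DL.lfp_cp lfp_schLocal x₂ y₂ k₂ f α₂ hy₂s hk₂
  have ha1 : AlgSt.RepByAlgSpWith (LocP @Flat) (AlgSt.overMap a) :=
    CT.repWith_overMap _ DL.flat_bc a
      (Groth.Agent.Lib.Helper23.AlgSpMor.locP_yon_map_of
        Groth.Agent.Lib.Helper46.etLocal_flat a (by infer_instance))
  have hb2 : AlgSt.RepByAlgSpWith (LocP @LocallyOfFinitePresentation) (AlgSt.overMap b) :=
    CT.repWith_overMap _ DL.lfp_bc b
      (Groth.Agent.Lib.Helper23.AlgSpMor.locP_yon_map_of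
        Groth.Agent.Lib.Helper30.EtLocalInst.etLocal_lfp b
        (by infer_instance))
  -- the chart `c`
  let c : FibCat.overCat W ⥤ᵇ 𝒴 := BasedFunctor.comp (AlgSt.overMap a) (BasedFunctor.comp x₁ f)
  have hc1 : AlgSt.RepByAlgSpWith (LocP @Flat) c :=
    repWith_comp_of_schLocal' hWf hY _ DL.flat_bc DL.flat_cp flat_schLocal _ _ ha1 hf1
  have hc2 : AlgSt.RepByAlgSpWith (LocP @LocallyOfFinitePresentation) c :=
    DCN.repWith_of_iso _ (whiskerBridge a b x₁ x₂ f i)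
      (repWith_comp_of_schLocal' hWf hY _ DL.lfp_bc DL.lfp_cp lfp_schLocal _ _ hb2 hf2)
  have hopen : IsOpenMap (AlgSt.Points.ofChart c) := isOpenMap_ofChart hY h𝒴.diag c hc1 hc2
  have hx₁surj : Function.Surjective (AlgSt.Points.ofChart x₁) :=
    ofChart_surjective x₁ (isSurjective_of_repWith hX x₁ hx₁j)
  have hcont : Continuous (AlgSt.Points.ofChart x₁) := continuous_ofChart h𝒳 x₁
  intro O hO
  have e : AlgSt.Points.map f '' O =
      AlgSt.Points.ofChart c '' (a.left ⁻¹' (AlgSt.Points.ofChart x₁ ⁻¹' O)) := by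
    ext η
    constructor
    · rintro ⟨ξ, hξ, rfl⟩
      obtain ⟨u, rfl⟩ := hx₁surj ξ
      obtain ⟨w, rfl⟩ := hasurj u
      refine ⟨w, hξ, ?_⟩
      change AlgSt.Points.ofChart (BasedFunctor.comp (AlgSt.overMap a) (BasedFunctor.comp x₁ f)) w = _
      rw [ofChart_overMap, ofChart_comp]
    · rintro ⟨w, hw, rfl⟩
      refine ⟨AlgSt.Points.ofChart x₁ (a.left w), hw, ?_⟩
      change _ = AlgSt.Points.ofChart (BasedFunctor.comp (AlgSt.overMap a) (BasedFunctor.comp x₁ f)) w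
      rw [ofChart_overMap, ofChart_comp]
  rw [e]
  exact hopen _ ((hO.preimage hcont).preimage a.left.continuous)

end Groth.Agent.Lib.Helper17.LQT
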