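import Groth.Agent.Lib.Helper17.ChartTools
import Groth.Agent.S12777
import Groth.Agent.Lib.Helper46.STLocal

set_option autoImplicit false
set_option backward.isDefEq.respectTransparency false
set_option backward.isDefEq.respectTransparency.types false
universe u

namespace Groth.Agent.Lib.Helper17.SPD

open CategoryTheory CategoryTheory.Limits AlgebraicGeometry Opposite AlgSp FibCat Stk AlgSt
open Groth.Agent.Lib.Helper17 Groth.Agent.Lib.Helper17.FP Groth.Agent.Lib.Helper17.EO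
  Groth.Agent.Lib.Helper17.PD Groth.Agent.Lib.Helper17.AT Groth.Agent.Lib.Helper17.AB
  Groth.Agent.Lib.Helper17.AOS Groth.Agent.Lib.Helper17.ACP
open Groth.Agent.Lib.Helper46 Groth.Agent.Lib.Helper46.LocPChart

variable {S : Scheme.{u}}

/-- every functor over `(Sch/S)` between the categories of two algebraic spaces is representable
by algebraic spaces -/
theorem rep1_ofSp_functor (F G : AlgSp.Space S) (Φ : ofSp F.obj ⥤ᵇ ofSp G.obj) :
    AlgSt.RepByAlgSp1 Φ := by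
  rw [rep1_iff_top]
  have h0 : AlgSt.RepByAlgSp1 (Stk.ofPshMap (mapOf Φ)) :=
    (Groth.Agent.S12777.result _).mp (AR.repBySp_of_algSpaces F G (mapOf Φ))
  rw [rep1_iff_top] at h0
  exact repWith_of_square_fwd ⊤ (Stk.ofPshMap (mapOf Φ)) Φ (BasedFunctor.id _) (BasedFunctor.id _)
    (isEquivOver_id _) (isEquivOver_id _) (fun a => compIso Φ a) (fun β => compIso_nat Φ β)
    (fun a => compIso_lift Φ a) h0

theorem rep1_chart_ofSp (X : AlgSp.Space S) (U : Over S) (x : FibCat.overCat U ⥤ᵇ ofSp X.obj) :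
    AlgSt.RepByAlgSp1 x := by
  have h1 := rep1_ofSp_functor ⟨(yon S).obj U, IsAlgSpace.yon_obj U⟩ X
    (BasedFunctor.comp (toOverCat U) x)
  have e : x = BasedFunctor.comp (ofOverCat U) (BasedFunctor.comp (toOverCat U) x) :=
    DR.basedFunctor_ext rfl
  rw [e, rep1_iff_top]
  exact FD.repWith_precomp_equiv ⊤ (ofOverCat U) (AD.ofOverCat_isEquivOver U) _
    ((rep1_iff_top _).mp h1)

/-- the diagonal of the category of an algebraic space is representable by algebraic spaces -/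
theorem rep1_diag_ofSp (X : AlgSp.Space S) :
    AlgSt.RepByAlgSp1 (FibCat.diag (FibCat.toSelf (ofSp X.obj))) :=
  (Groth.Agent.S12765.result (Stk.isFibGrpd_ofPsh _)).mpr (rep1_chart_ofSp X)

theorem surj_id (X : Sp S) : IsSurjectiveMor (𝟙 X) := by
  intro p
  exact ⟨p, by rw [Points.map_id]⟩

theorem repWith_id_ofSp (C : MorphismProperty (Sp S)) (hCb : BC C) (X : AlgSp.Space S)
    (h : C (𝟙 X.obj)) : AlgSt.RepByAlgSpWith C (BasedFunctor.id (ofSp X.obj)) := by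
  have h1 := DCV.repWith_ofSpMap C hCb X X (𝟙 _) h
  have e : ofSpMap (𝟙 X.obj) = BasedFunctor.id (ofSp X.obj) := DR.basedFunctor_ext rfl
  rw [e] at h1
  exact h1

theorem ofOverCat_ofSpMap_id (U : Over S) :
    BasedFunctor.comp (ofOverCat U) (ofSpMap (𝟙 ((yon S).obj U))) = ofOverCat U :=
  DR.basedFunctor_ext rfl

/-- the tautological chart of a scheme is smooth and surjective -/
theorem ofOverCat_smooth_surj (U : Over S) :
    AlgSt.RepByAlgSpWith (LocP @Smooth) (ofOverCat U) ∧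
      AlgSt.RepByAlgSpWith IsSurjectiveMor (ofOverCat U) := by
  let UU : AlgSp.Space S := ⟨(yon S).obj U, IsAlgSpace.yon_obj U⟩
  have h1 : AlgSt.RepByAlgSpWith (LocP @Smooth)
      (BasedFunctor.comp (ofOverCat U) (ofSpMap (𝟙 ((yon S).obj U)))) :=
    FD.repWith_precomp_equiv _ (ofOverCat U) (AD.ofOverCat_isEquivOver U) _
      (DCV.repWith_ofSpMap _ AFP.sm_bc UU UU (𝟙 _) (Groth.Agent.Lib.Helper46.STLocal.sm_id _))
  have h2 : AlgSt.RepByAlgSpWith IsSurjectiveMor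
      (BasedFunctor.comp (ofOverCat U) (ofSpMap (𝟙 ((yon S).obj U)))) :=
    FD.repWith_precomp_equiv _ (ofOverCat U) (AD.ofOverCat_isEquivOver U) _
      (DCV.repWith_ofSpMap _ DL.surj_bc UU UU (𝟙 _) (surj_id _))
  rw [ofOverCat_ofSpMap_id] at h1 h2
  exact ⟨h1, h2⟩

section

variable (P : Scheme.{u} → Prop)
  (hP : ∀ (U : Scheme.{u}) (R : Presieve U), R ∈ Scheme.precoverage @Smooth U →
    (P U ↔ ∀ ⦃V : Scheme.{u}⦄ (g : V ⟶ U), R g → P V))

include hP

/-- the criterion in terms of one smooth surjective chart, for a category fibred in groupoids with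
representable diagonal -/
theorem smoothLocally_of_chart {𝒳 : AlgSt.Cat S} (hX : FibCat.IsFibGrpd 𝒳.p)
    (hΔ : AlgSt.RepByAlgSp1 (FibCat.diag (FibCat.toSelf 𝒳)))
    (U₀ : Over S) (x₀ : FibCat.overCat U₀ ⥤ᵇ 𝒳)
    (hs₀ : AlgSt.RepByAlgSpWith (AlgSp.LocP @Smooth) x₀)
    (hsurj₀ : AlgSt.RepByAlgSpWith AlgSp.IsSurjectiveMor x₀) (hP₀ : P U₀.left) :
    AlgSt.SmoothLocally P 𝒳 := by
  intro U x hx
  obtain ⟨W, a, b, ha, ha', hb, -, -⟩ := BRG.exists_bridge_props hX hΔ x x₀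
  have := ha hs₀
  have := hb hx
  exact SML.of_smooth_surjective P hP a.left (ha' hsurj₀) (SML.of_smooth P hP b.left hP₀)

theorem smoothLocally_ofSch_iff (U : Over S) :
    AlgSt.SmoothLocally P (AlgSt.ofSch U) ↔ P U.left := by
  obtain ⟨h1, h2⟩ := ofOverCat_smooth_surj U
  constructor
  · intro h
    exact h U (ofOverCat U) h1
  · intro h
    exact smoothLocally_of_chart P hP (Stk.isFibGrpd_ofPsh _)
      (rep1_diag_ofSp ⟨(yon S).obj U, IsAlgSpace.yon_obj U⟩) U (ofOverCat U) h1 h2 h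

theorem smoothLocally_ofSp_iff (X : AlgSp.Space S) :
    AlgSt.SmoothLocally P (AlgSt.ofSp X.obj) ↔ AlgSp.EtaleLocally P X.obj := by
  have hX : FibCat.IsFibGrpd (AlgSt.ofSp X.obj).p := Stk.isFibGrpd_ofPsh _
  constructor
  · intro h
    obtain ⟨U, p, hpe, hps⟩ := X.property.atlas
    obtain ⟨h1, -⟩ := CT.smooth_surj_chart_of_space hX X (BasedFunctor.id _) p hpe
    have hid := (ofOverCat_smooth_surj U).1
    refine ⟨U, p, hpe, hps, h U _ (h1 ?_)⟩
    exact repWith_id_ofSp _ AFP.sm_bc X (Groth.Agent.Lib.Helper46.STLocal.sm_id _)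
  · rintro ⟨U, p, hpe, hps, hPU⟩
    obtain ⟨h1, h2⟩ := CT.smooth_surj_chart_of_space hX X (BasedFunctor.id _) p hpe
    exact smoothLocally_of_chart P hP hX (rep1_diag_ofSp X) U _
      (h1 (repWith_id_ofSp _ AFP.sm_bc X (Groth.Agent.Lib.Helper46.STLocal.sm_id _)))
      (h2 hps (repWith_id_ofSp _ DL.surj_bc X (surj_id _))) hPU

theorem smoothLocally_iff_space_chart {𝒳 : AlgSt.Cat S}
    (h𝒳 : AlgSt.IsAlgStack Scheme.fppfPrecoverage 𝒳) :
    AlgSt.SmoothLocally P 𝒳 ↔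
      ∃ (U : AlgSp.Space S) (x : AlgSt.ofSp U.obj ⥤ᵇ 𝒳),
        AlgSt.RepByAlgSpWith (AlgSp.LocP @Smooth) x ∧ AlgSt.RepByAlgSpWith AlgSp.IsSurjectiveMor x ∧
          AlgSp.EtaleLocally P U.obj := by
  have hX := h𝒳.isStack.1
  constructor
  · intro h
    obtain ⟨U₀, x₀, hs, hsurj⟩ := h𝒳.atlas
    refine ⟨⟨(yon S).obj U₀, IsAlgSpace.yon_obj U₀⟩, BasedFunctor.comp (toOverCat U₀) x₀,
      FD.repWith_precomp_equiv _ (toOverCat U₀) (AD.toOverCat_isEquivOver U₀) x₀ hs,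
      FD.repWith_precomp_equiv _ (toOverCat U₀) (AD.toOverCat_isEquivOver U₀) x₀ hsurj,
      ⟨U₀, 𝟙 _, repWith_id _ U₀, repWith_id _ U₀, h U₀ x₀ hs⟩⟩
  · rintro ⟨U, x, hs, hsurj, ⟨U', p, hpe, hps, hPU'⟩⟩
    obtain ⟨h1, h2⟩ := CT.smooth_surj_chart_of_space hX U x p hpe
    exact smoothLocally_of_chart P hP hX h𝒳.diag U' _ (h1 hs) (h2 hps hsurj) hPU'

theorem smoothLocally_iff_all_spaces {𝒳 : AlgSt.Cat S}
    (h𝒳 : AlgSt.IsAlgStack Scheme.fppfPrecoverage 𝒳) :
    AlgSt.SmoothLocally P 𝒳 ↔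
      ∀ (U : AlgSp.Space S) (x : AlgSt.ofSp U.obj ⥤ᵇ 𝒳),
        AlgSt.RepByAlgSpWith (AlgSp.LocP @Smooth) x → AlgSp.EtaleLocally P U.obj := by
  have hX := h𝒳.isStack.1
  constructor
  · intro h U x hs
    obtain ⟨U', p, hpe, hps⟩ := U.property.atlas
    obtain ⟨h1, -⟩ := CT.smooth_surj_chart_of_space hX U x p hpe
    exact ⟨U', p, hpe, hps, h U' _ (h1 hs)⟩
  · intro h U x hs
    obtain ⟨U'', p, hpe, hps, hP''⟩ := h ⟨(yon S).obj U, IsAlgSpace.yon_obj U⟩
      (BasedFunctor.comp (toOverCat U) x)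
      (FD.repWith_precomp_equiv _ (toOverCat U) (AD.toOverCat_isEquivOver U) x hs)
    obtain ⟨g, rfl⟩ := (yon S).map_surjective p
    have he : Etale g.left := (repWith_yon_map_iff @Etale g).mp hpe
    have hsj : Surjective g.left := (repWith_yon_map_iff @Surjective g).mp hps
    exact SML.of_smooth_surjective P hP g.left hsj.surj hP''

end

end Groth.Agent.Lib.Helper17.SPD
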