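import Groth.Agent.Lib.Helper17.LocQTools9
import Groth.Agent.Lib.Helper17.SpaceDiag
import Groth.Agent.Lib.Helper55.NoethDescent

set_option autoImplicit false
set_option backward.isDefEq.respectTransparency false
set_option backward.isDefEq.respectTransparency.types false
universe u

namespace Groth.Agent.Lib.Helper17.LQT

open CategoryTheory CategoryTheory.Limits AlgebraicGeometry Opposite AlgSp FibCat Stk AlgSt
open Groth.Agent.Lib.Helper17 Groth.Agent.Lib.Helper17.FP Groth.Agent.Lib.Helper17.EO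
  Groth.Agent.Lib.Helper17.PD Groth.Agent.Lib.Helper17.AT Groth.Agent.Lib.Helper17.AB
  Groth.Agent.Lib.Helper17.AOS Groth.Agent.Lib.Helper17.ACP Groth.Agent.Lib.Helper17.PTS
open Groth.Agent.Lib.Helper46 Groth.Agent.Lib.Helper46.LocPChart

variable {S : Scheme.{u}}

/-- local Noetherianity is local in the smooth topology -/
theorem isLocallyNoetherian_smooth_local (U : Scheme.{u}) (R : Presieve U)
    (hR : R ∈ Scheme.precoverage @Smooth U) :
    IsLocallyNoetherian U ↔ ∀ ⦃V : Scheme.{u}⦄ (g : V ⟶ U), R g → IsLocallyNoetherian V := by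
  have hsm : ∀ ⦃V : Scheme.{u}⦄ (g : V ⟶ U), R g → Smooth g := fun V g hg => hR.2 hg
  have hsurj : ∀ u : U, ∃ (V : Scheme.{u}) (g : V ⟶ U), R g ∧ u ∈ Set.range g := fun u => by
    obtain ⟨V, g, hg, y, hy⟩ := Scheme.JointlySurjective.exists_eq R hR u
    exact ⟨V, g, hg, y, hy⟩
  constructor
  · intro hU V g hg
    have : Smooth g := hsm g hg
    exact LocallyOfFiniteType.isLocallyNoetherian g
  · intro H
    choose V g hg hmem using fun u : U => hsurj u
    have hsmg : ∀ u, Smooth (g u) := fun u => hsm (g u) (hg u)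
    let b : (∐ V) ⟶ U := Sigma.desc g
    have hb : Smooth b := IsZariskiLocalAtSource.sigmaDesc (P := @Smooth) hsmg
    have hbs : Surjective b := ⟨fun u => by
      obtain ⟨v, hv⟩ := hmem u
      refine ⟨Sigma.ι V u v, ?_⟩
      rw [← Scheme.Hom.comp_apply, Sigma.ι_desc]
      exact hv⟩
    have hN : IsLocallyNoetherian (∐ V) := by
      rw [isLocallyNoetherian_iff_openCover (sigmaOpenCover V)]
      intro u
      exact H (g u) (hg u)
    exact Groth.Agent.Lib.Helper55.isLocallyNoetherian_of_flat_surjective_open b b.isOpenMap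

/-- **S12998** -/
theorem smoothLocally_noeth_of_locQ_lft {𝒳 𝒴 : AlgSt.Cat S}
    (h𝒳 : AlgSt.IsAlgStack Scheme.fppfPrecoverage 𝒳) (f : 𝒳 ⥤ᵇ 𝒴)
    (hf : AlgSt.LocQ (AlgSp.LocP @LocallyOfFiniteType) f)
    (hN : AlgSt.SmoothLocally (fun T ↦ IsLocallyNoetherian T) 𝒴) :
    AlgSt.SmoothLocally (fun T ↦ IsLocallyNoetherian T) 𝒳 := by
  obtain ⟨U, V, x, y, h, α, hxs, hxj, hys, hh⟩ := hf
  have hV : IsLocallyNoetherian V.left := hN V y hys
  have hlft : LocallyOfFiniteType h.left := AlgSp.locP_yon_map hh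
  have hU : IsLocallyNoetherian U.left := LocallyOfFiniteType.isLocallyNoetherian h.left
  exact SPD.smoothLocally_of_chart (fun T ↦ IsLocallyNoetherian T)
    isLocallyNoetherian_smooth_local h𝒳.isStack.1 h𝒳.diag U x hxs hxj hU

end Groth.Agent.Lib.Helper17.LQT
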