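import Groth.Agent.Lib.Helper17.LocQTools11
import Groth.Agent.Lib.Helper17.AlgStQc4
import Groth.Agent.Lib.Helper17.DiagComp
import Groth.Agent.Lib.Helper46.RepIso

set_option autoImplicit false
set_option backward.isDefEq.respectTransparency false
set_option backward.isDefEq.respectTransparency.types false
universe u

namespace Groth.Agent.Lib.Helper17.LQT

open CategoryTheory CategoryTheory.Limits AlgebraicGeometry Opposite AlgSp FibCat Stk AlgSt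
open Groth.Agent.Lib.Helper17 Groth.Agent.Lib.Helper17.FP Groth.Agent.Lib.Helper17.EO
  Groth.Agent.Lib.Helper17.PD Groth.Agent.Lib.Helper17.AT Groth.Agent.Lib.Helper17.AB
  Groth.Agent.Lib.Helper17.AOS Groth.Agent.Lib.Helper17.ACP Groth.Agent.Lib.Helper17.PTS
open Groth.Agent.Lib.Helper46 Groth.Agent.Lib.Helper46.LocPChart

variable {S : Scheme.{u}}

/-- the source of a representable quasi-compact morphism to a quasi-compact stack is
quasi-compact -/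
theorem isQuasiCompact_of_repWith_qc {𝒳 𝒴 : AlgSt.Cat S} (hX : FibCat.IsFibGrpd 𝒳.p)
    (f : 𝒳 ⥤ᵇ 𝒴) (hf : AlgSt.RepByAlgSpWith AlgSp.IsQuasiCompactMor f)
    (hq : AlgSt.IsQuasiCompact 𝒴) : AlgSt.IsQuasiCompact 𝒳 := by
  obtain ⟨U, x, haff, hxs, hxsurj⟩ := hq
  obtain ⟨F, e, he, ha⟩ := hf U x
  have hUq : IsQuasiCompactSp ((yon S).obj U) :=
    ⟨U, 𝟙 _, repWith_id _ U, repWith_id _ U, inferInstance⟩
  have hFq : IsQuasiCompactSp F.obj :=
    ha (IsAlgSpace.yon_obj U) hUq (𝟙 _) (𝟙 _)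
      (spMapOfOver (BasedFunctor.comp e (FibCat.fpFst x f)))
      (IsPullback.of_horiz_isIso ⟨by simp⟩)
  obtain ⟨U', p, hpe, hps, hcomp⟩ := hFq
  have : CompactSpace ↥U'.left := hcomp
  let m : FibCat.fp x f ⥤ᵇ 𝒳 := FibCat.fpSnd x f
  have hm₁ : AlgSt.RepByAlgSpWith (LocP @Smooth) m := AB.repWith_fpSnd _ x f hxs
  have hm₂ : AlgSt.RepByAlgSpWith IsSurjectiveMor m := AB.repWith_fpSnd _ x f hxsurj
  obtain ⟨h1, h2⟩ := CT.smooth_surj_chart_of_space hX F (BasedFunctor.comp e m) p hpe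
  exact CT.isQuasiCompact_of_compact_chart hX U' _
    (h1 (FD.repWith_precomp_equiv _ e he m hm₁))
    (h2 hps (FD.repWith_precomp_equiv _ e he m hm₂))

/-- an immersion is quasi-separated -/
theorem repWith_qs_of_isImm {𝒳 𝒴 : AlgSt.Cat S} (j : 𝒳 ⥤ᵇ 𝒴) (hj : AlgSt.IsImm j) :
    AlgSt.RepByAlgSpWith AlgSp.IsQuasiSeparatedMor j := by
  refine DDC.repWith_mono (fun X Y a _ _ ha => ?_) j hj
  have hm : Mono a := Groth.Agent.Lib.Helper62.mono_of_repWith @IsImmersion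
    (fun f hf => by have : IsImmersion f := hf; infer_instance) a ha
  have : IsIso (pullback.diagonal a) := inferInstance
  exact Groth.Agent.Lib.Helper46.RepIso.repWith_of_isIso @QuasiCompact (pullback.diagonal a)

/-- **S13018** -/
theorem noetherian_of_isImm {𝒳 𝒴 : AlgSt.Cat S}
    (h𝒳 : AlgSt.IsAlgStack Scheme.fppfPrecoverage 𝒳)
    (h𝒴 : AlgSt.IsAlgStack Scheme.fppfPrecoverage 𝒴) (j : 𝒳 ⥤ᵇ 𝒴) (hj : AlgSt.IsImm j)
    (hq : AlgSt.IsQuasiCompact 𝒴) (hs : AlgSt.IsQuasiSeparatedOver 𝒴)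
    (hN : AlgSt.SmoothLocally (fun T ↦ IsLocallyNoetherian T) 𝒴) :
    AlgSt.IsQuasiCompact 𝒳 ∧ AlgSt.IsQuasiSeparatedOver 𝒳 ∧
      AlgSt.SmoothLocally (fun T ↦ IsLocallyNoetherian T) 𝒳 := by
  refine ⟨isQuasiCompact_of_repWith_qc h𝒳.isStack.1 j (repWith_qc_of_isImm_locNoeth h𝒴 j hj hN) hq,
    ?_, (locNoeth_and_qc_of_isImm h𝒳 h𝒴 j hj hN).1⟩
  have h1 : AlgSt.RepByAlgSpWith (AlgSp.IsQuasiCompactMor ⊓ AlgSp.IsQuasiSeparatedMor)
      (FibCat.diag j) := DD.qcqs_diag_of_repWith_isQuasiSeparatedMor j (repWith_qs_of_isImm j hj)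
  have h2 := DC.repWith_diag_comp h𝒳.isStack.1 SP.isFibGrpd_selfOver _ PB.qcqs_bc PB.qcqs_cp
    (ACov.schLocal_of_isLocalOnBase _ PB.qcqs_local) j (FibCat.toSelf 𝒴) h1 hs
  have e : BasedFunctor.comp j (FibCat.toSelf 𝒴) = FibCat.toSelf 𝒳 := SST.toSelfOver_eq _ _
  rw [e] at h2
  exact h2

end Groth.Agent.Lib.Helper17.LQT
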