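import Groth.Agent.Lib.Helper17.LocQTools12
import Groth.Agent.Lib.Helper17.SpQc

set_option autoImplicit false
set_option backward.isDefEq.respectTransparency false
set_option backward.isDefEq.respectTransparency.types false
universe u

namespace Groth.Agent.Lib.Helper17.LQT

open CategoryTheory CategoryTheory.Limits AlgebraicGeometry Opposite AlgSp FibCat Stk AlgSt
open Groth.Agent.Lib.Helper17 Groth.Agent.Lib.Helper17.FP Groth.Agent.Lib.Helper17.EO
  Groth.Agent.Lib.Helper17.PD Groth.Agent.Lib.Helper17.AT Groth.Agent.Lib.Helper17.AB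
  Groth.Agent.Lib.Helper17.AOS Groth.Agent.Lib.Helper17.ACP Groth.Agent.Lib.Helper17.PTS
open Groth.Agent.Lib.Helper46 Groth.Agent.Lib.Helper46.LocPChart

variable {S : Scheme.{u}}

/-- the sheaf map of a chart of the category of a sheaf -/
noncomputable def xiSh (X : Sp S) {U : Over S} (x : FibCat.overCat U ⥤ᵇ ofSp X) :
    (yon S).obj U ⟶ X := ObjectProperty.homMk (AD.xiOf x)

theorem repWith_xiSh (X : Sp S) {U : Over S} (x : FibCat.overCat U ⥤ᵇ ofSp X)
    (P : MorphismProperty (Sp S)) (h : AlgSt.RepByAlgSpWith P x) :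
    AlgSt.RepByAlgSpWith P (ofSpMap (xiSh X x)) := by
  have h1 : AlgSt.RepByAlgSpWith P (AD.yOf (AD.xiOf x)) :=
    repWith_of_square_fwd P x (AD.yOf (AD.xiOf x)) (BasedFunctor.id _) (BasedFunctor.id _)
      (isEquivOver_id _) (isEquivOver_id _) (fun w => AD.yIso x w) (fun α => AD.yIso_nat x α)
      (fun w => AD.yIso_lift x w) h
  exact FD.repWith_of_precomp_equiv P (ofOverCat U) (AD.ofOverCat_isEquivOver U) _ h1

/-- a 2-commutative square of charts of categories of sheaves gives a commutative square of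
sheaves -/
theorem xiSh_comm {F G : Sp S} (a : F ⟶ G) {U V : Over S} (x : FibCat.overCat U ⥤ᵇ ofSp F)
    (y : FibCat.overCat V ⥤ᵇ ofSp G) (h : U ⟶ V)
    (α : BasedFunctor.comp x (ofSpMap a) ≅ BasedFunctor.comp (AlgSt.overMap h) y) :
    xiSh F x ≫ a = (yon S).map h ≫ xiSh G y := by
  apply ObjectProperty.hom_ext
  change AD.xiOf x ≫ a.hom = ((yon S).map h).hom ≫ AD.xiOf y
  unfold AD.xiOf
  have e1 : a.hom = PD.mapOf (Stk.ofPshMap a.hom) := (PD.mapOf_ofPshMap a.hom).symm
  have e2 : ((yon S).map h).hom = PD.mapOf (Stk.ofPshMap ((yon S).map h).hom) :=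
    (PD.mapOf_ofPshMap _).symm
  rw [e1, e2, ← PD.mapOf_comp, ← PD.mapOf_comp]
  have e3 : BasedFunctor.comp (Stk.ofPshMap ((yon S).map h).hom)
      (BasedFunctor.comp (toOverCat V) y) =
      BasedFunctor.comp (toOverCat U) (BasedFunctor.comp (AlgSt.overMap h) y) :=
    DR.basedFunctor_ext rfl
  rw [e3]
  apply PD.mapOf_congr _ _ (fun w => compApp α ((toOverCat U).obj w))
  intro w
  exact compApp_lift α ((toOverCat U).obj w)

/-- **S12992**, forward direction -/
theorem prop_of_locQ_ofSpMap (P : MorphismProperty (AlgSp.Sp S)) (hP : AlgSp.IsSmoothLocalST P)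
    (F G : AlgSp.Space S) (a : F ⟶ G) (h : AlgSt.LocQ P (AlgSt.ofSpMap a.hom)) : P a.hom := by
  obtain ⟨U, V, x, y, h, α, hxs, hxj, hys, hh⟩ := h
  let UU : AlgSp.Space S := ⟨(yon S).obj U, IsAlgSpace.yon_obj U⟩
  let VV : AlgSp.Space S := ⟨(yon S).obj V, IsAlgSpace.yon_obj V⟩
  have hξs : LocP @Smooth (xiSh F.obj x) :=
    SQC.prop_of_repWith_ofSpMap _ AFP.sm_bc CT.sm_schLocal UU F _ (repWith_xiSh _ x _ hxs)
  have hξj : IsSurjectiveMor (xiSh F.obj x) :=
    SQC.prop_of_repWith_ofSpMap _ DL.surj_bc CT.surj_schLocal UU F _ (repWith_xiSh _ x _ hxj)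
  have hηs : LocP @Smooth (xiSh G.obj y) :=
    SQC.prop_of_repWith_ofSpMap _ AFP.sm_bc CT.sm_schLocal VV G _ (repWith_xiSh _ y _ hys)
  have comm := xiSh_comm a.hom x y h α
  rw [hP.locality F.property G.property a.hom]
  intro pt
  obtain ⟨v, hv⟩ := hξj pt
  exact ⟨(yon S).obj U, (yon S).obj V, xiSh F.obj x, xiSh G.obj y, (yon S).map h, v,
    IsAlgSpace.yon_obj U, IsAlgSpace.yon_obj V, hξs, hηs, comm, hv, hh⟩

/-- the chart of the category of a sheaf given by a map from a scheme -/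
noncomputable def chartOf (X : Sp S) {U : Over S} (c : (yon S).obj U ⟶ X) :
    FibCat.overCat U ⥤ᵇ ofSp X := BasedFunctor.comp (ofOverCat U) (ofSpMap c)

theorem repWith_chartOf (P : MorphismProperty (Sp S)) (hPb : ACP.BC P) (X : AlgSp.Space S)
    {U : Over S} (c : (yon S).obj U ⟶ X.obj) (h : P c) :
    AlgSt.RepByAlgSpWith P (chartOf X.obj c) :=
  FD.repWith_precomp_equiv _ (ofOverCat U) (AD.ofOverCat_isEquivOver U) _
    (DCV.repWith_ofSpMap _ hPb ⟨(yon S).obj U, IsAlgSpace.yon_obj U⟩ X c h)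

theorem chartOf_comm {F G : Sp S} (a : F ⟶ G) {U V : Over S} (c : (yon S).obj U ⟶ F)
    (q : (yon S).obj V ⟶ G) (h : U ⟶ V) (w : c ≫ a = (yon S).map h ≫ q) :
    BasedFunctor.comp (chartOf F c) (ofSpMap a) =
      BasedFunctor.comp (AlgSt.overMap h) (chartOf G q) := by
  have e1 : BasedFunctor.comp (chartOf F c) (ofSpMap a) = chartOf G (c ≫ a) :=
    DR.basedFunctor_ext rfl
  have e2 : BasedFunctor.comp (AlgSt.overMap h) (chartOf G q) = chartOf G ((yon S).map h ≫ q) :=
    DR.basedFunctor_ext rfl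
  rw [e1, e2, w]

/-- **S12992**, backward direction -/
theorem locQ_ofSpMap_of_prop (P : MorphismProperty (AlgSp.Sp S)) (hP : AlgSp.IsSmoothLocalST P)
    (F G : AlgSp.Space S) (a : F ⟶ G) (h : P a.hom) : AlgSt.LocQ P (AlgSt.ofSpMap a.hom) := by
  obtain ⟨V, q, hqe, hqs⟩ := G.property.atlas
  have sq : IsPullback (pullback.fst a.hom q) (pullback.snd a.hom q) a.hom q :=
    IsPullback.of_hasPullback _ _
  have hF' : IsAlgSpace (pullback a.hom q) :=
    Groth.Agent.Lib.Helper23.AlgSpMor.isAlgSpace_of_isPullback F.property (IsAlgSpace.yon_obj V)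
      G.property.diag sq
  have h1e : RepWith @Etale (pullback.fst a.hom q) := (RepWith @Etale).of_isPullback sq.flip hqe
  have h1s : RepWith @Surjective (pullback.fst a.hom q) :=
    (RepWith @Surjective).of_isPullback sq.flip hqs
  obtain ⟨U, p, hpe, hps⟩ := hF'.atlas
  have : (AlgSp.RepWith (S := S) @Etale).IsMultiplicative := AlgSp.repWith_isMultiplicative _
  have : (AlgSp.RepWith (S := S) @Surjective).IsMultiplicative := AlgSp.repWith_isMultiplicative _
  have hce : RepWith @Etale (p ≫ pullback.fst a.hom q) := (RepWith @Etale).comp_mem _ _ hpe h1e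
  have hcs : RepWith @Surjective (p ≫ pullback.fst a.hom q) :=
    (RepWith @Surjective).comp_mem _ _ hps h1s
  have hsm : ∀ {X Y : Sp S} (hY : IsAlgSpace Y) (f : X ⟶ Y), RepWith @Etale f → LocP @Smooth f :=
    fun hY f hf => Groth.Agent.S9961.locP_of_repWith
      Groth.Agent.Lib.Helper30.EtLocalInst.etLocal_smooth
      (fun _ _ g hg => by have : Etale g := hg; infer_instance) hY f hf
  obtain ⟨h₀, hh₀⟩ := (yon S).map_surjective (p ≫ pullback.snd a.hom q)
  have hP1 : P (pullback.snd a.hom q) :=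
    hP.baseChange F.property G.property hF' (IsAlgSpace.yon_obj V) a.hom q _ _ sq
      (hsm G.property q hqe) h
  have hP2 : P ((yon S).map h₀) := by
    rw [hh₀]
    exact hP.precomp (IsAlgSpace.yon_obj U) hF' (IsAlgSpace.yon_obj V) _ _ (hsm hF' p hpe) hP1
  have w : (p ≫ pullback.fst a.hom q) ≫ a.hom = (yon S).map h₀ ≫ q := by
    rw [hh₀, Category.assoc, Category.assoc, sq.w]
  refine ⟨U, V, chartOf F.obj (p ≫ pullback.fst a.hom q), chartOf G.obj q, h₀,
    eqToIso (chartOf_comm a.hom _ q h₀ w), ?_, ?_, ?_, hP2⟩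
  · exact repWith_chartOf _ AFP.sm_bc F _ (hsm F.property _ hce)
  · exact repWith_chartOf _ DL.surj_bc F _
      (Groth.Agent.Lib.Helper23.AlgSpMor.isSurjectiveMor_of_repWith_surjective _ hcs)
  · exact repWith_chartOf _ AFP.sm_bc G _ (hsm G.property _ hqe)

end Groth.Agent.Lib.Helper17.LQT
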