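import Groth.Agent.Lib.Helper17.LocQTools13

set_option autoImplicit false
set_option backward.isDefEq.respectTransparency false
set_option backward.isDefEq.respectTransparency.types false
universe u

namespace Groth.Agent.Lib.Helper17.LQT

open CategoryTheory CategoryTheory.Limits AlgebraicGeometry Opposite AlgSp FibCat Stk AlgSt
open Groth.Agent.Lib.Helper17 Groth.Agent.Lib.Helper17.FP Groth.Agent.Lib.Helper17.EO
  Groth.Agent.Lib.Helper17.PD Groth.Agent.Lib.Helper17.AT Groth.Agent.Lib.Helper17.AB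
  Groth.Agent.Lib.Helper17.AOS Groth.Agent.Lib.Helper17.ACP Groth.Agent.Lib.Helper17.PTS
open Groth.Agent.Lib.Helper46 Groth.Agent.Lib.Helper46.LocPChart

variable {S : Scheme.{u}}

theorem toOverCat_overMap {U V : Over S} (h : U ⟶ V) :
    BasedFunctor.comp (toOverCat U) (AlgSt.overMap h) =
      BasedFunctor.comp (ofSpMap ((yon S).map h)) (toOverCat V) :=
  DR.basedFunctor_ext rfl

/-- **S12991**, forward direction: a scheme chart square is a space chart square -/
theorem exists_space_square_of_locQ (P : MorphismProperty (AlgSp.Sp S)) {𝒳 𝒴 : AlgSt.Cat S}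
    (f : 𝒳 ⥤ᵇ 𝒴) (hf : AlgSt.LocQ P f) :
    ∃ (U V : AlgSp.Space S) (x : AlgSt.ofSp U.obj ⥤ᵇ 𝒳) (y : AlgSt.ofSp V.obj ⥤ᵇ 𝒴) (h : U ⟶ V)
      (_ : BasedFunctor.comp x f ≅ BasedFunctor.comp (AlgSt.ofSpMap h.hom) y),
      AlgSt.RepByAlgSpWith (AlgSp.LocP @Smooth) x ∧ AlgSt.RepByAlgSpWith AlgSp.IsSurjectiveMor x ∧
      AlgSt.RepByAlgSpWith (AlgSp.LocP @Smooth) y ∧ P h.hom := by
  obtain ⟨U, V, x, y, h, α, hxs, hxj, hys, hh⟩ := hf
  let UU : AlgSp.Space S := ⟨(yon S).obj U, IsAlgSpace.yon_obj U⟩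
  let VV : AlgSp.Space S := ⟨(yon S).obj V, IsAlgSpace.yon_obj V⟩
  let h' : UU ⟶ VV := ObjectProperty.homMk ((yon S).map h)
  let T : (ofSp UU.obj : AlgSt.Cat S) ⟶ FibCat.overCat U := toOverCat U
  have s1 : BasedFunctor.comp (toOverCat U) (BasedFunctor.comp x f) ≅
      BasedFunctor.comp (toOverCat U) (BasedFunctor.comp (AlgSt.overMap h) y) :=
    Bicategory.whiskerLeftIso T α
  have s2 : BasedFunctor.comp (toOverCat U) (BasedFunctor.comp (AlgSt.overMap h) y) =
      BasedFunctor.comp (AlgSt.ofSpMap h'.hom) (BasedFunctor.comp (toOverCat V) y) := by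
    change BasedFunctor.comp (BasedFunctor.comp (toOverCat U) (AlgSt.overMap h)) y =
      BasedFunctor.comp (BasedFunctor.comp (ofSpMap ((yon S).map h)) (toOverCat V)) y
    rw [toOverCat_overMap]
  refine ⟨UU, VV, BasedFunctor.comp (toOverCat U) x, BasedFunctor.comp (toOverCat V) y, h',
    s1 ≪≫ eqToIso s2, ?_, ?_, ?_, hh⟩
  · exact FD.repWith_precomp_equiv _ (toOverCat U) (AD.toOverCat_isEquivOver U) x hxs
  · exact FD.repWith_precomp_equiv _ (toOverCat U) (AD.toOverCat_isEquivOver U) x hxj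
  · exact FD.repWith_precomp_equiv _ (toOverCat V) (AD.toOverCat_isEquivOver V) y hys

/-- **S12991**, backward direction: a space chart square refines to a scheme chart square -/
theorem locQ_of_space_square (P : MorphismProperty (AlgSp.Sp S)) (hP : AlgSp.IsSmoothLocalST P)
    {𝒳 𝒴 : AlgSt.Cat S} (hX : FibCat.IsFibGrpd 𝒳.p) (hY : FibCat.IsFibGrpd 𝒴.p) (f : 𝒳 ⥤ᵇ 𝒴)
    (U V : AlgSp.Space S) (x : AlgSt.ofSp U.obj ⥤ᵇ 𝒳) (y : AlgSt.ofSp V.obj ⥤ᵇ 𝒴) (h : U ⟶ V)
    (α : BasedFunctor.comp x f ≅ BasedFunctor.comp (AlgSt.ofSpMap h.hom) y)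
    (hxs : AlgSt.RepByAlgSpWith (AlgSp.LocP @Smooth) x)
    (hxj : AlgSt.RepByAlgSpWith AlgSp.IsSurjectiveMor x)
    (hys : AlgSt.RepByAlgSpWith (AlgSp.LocP @Smooth) y) (hh : P h.hom) : AlgSt.LocQ P f := by
  obtain ⟨V₀, q, hqe, hqs⟩ := V.property.atlas
  have sq : IsPullback (pullback.fst h.hom q) (pullback.snd h.hom q) h.hom q :=
    IsPullback.of_hasPullback _ _
  have hF' : IsAlgSpace (pullback h.hom q) :=
    Groth.Agent.Lib.Helper23.AlgSpMor.isAlgSpace_of_isPullback U.property (IsAlgSpace.yon_obj V₀)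
      V.property.diag sq
  have h1e : RepWith @Etale (pullback.fst h.hom q) := (RepWith @Etale).of_isPullback sq.flip hqe
  have h1s : RepWith @Surjective (pullback.fst h.hom q) :=
    (RepWith @Surjective).of_isPullback sq.flip hqs
  obtain ⟨U₀, p, hpe, hps⟩ := hF'.atlas
  have : (AlgSp.RepWith (S := S) @Etale).IsMultiplicative := AlgSp.repWith_isMultiplicative _
  have : (AlgSp.RepWith (S := S) @Surjective).IsMultiplicative := AlgSp.repWith_isMultiplicative _
  have hce : RepWith @Etale (p ≫ pullback.fst h.hom q) := (RepWith @Etale).comp_mem _ _ hpe h1e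
  have hcs : RepWith @Surjective (p ≫ pullback.fst h.hom q) :=
    (RepWith @Surjective).comp_mem _ _ hps h1s
  have hsm : ∀ {X Y : Sp S} (hY : IsAlgSpace Y) (f : X ⟶ Y), RepWith @Etale f → LocP @Smooth f :=
    fun hY f hf => Groth.Agent.S9961.locP_of_repWith
      Groth.Agent.Lib.Helper30.EtLocalInst.etLocal_smooth
      (fun _ _ g hg => by have : Etale g := hg; infer_instance) hY f hf
  obtain ⟨h₀, hh₀⟩ := (yon S).map_surjective (p ≫ pullback.snd h.hom q)
  have hP1 : P (pullback.snd h.hom q) :=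
    hP.baseChange U.property V.property hF' (IsAlgSpace.yon_obj V₀) h.hom q _ _ sq
      (hsm V.property q hqe) hh
  have hP2 : P ((yon S).map h₀) := by
    rw [hh₀]
    exact hP.precomp (IsAlgSpace.yon_obj U₀) hF' (IsAlgSpace.yon_obj V₀) _ _ (hsm hF' p hpe) hP1
  have w : (p ≫ pullback.fst h.hom q) ≫ h.hom = (yon S).map h₀ ≫ q := by
    rw [hh₀, Category.assoc, Category.assoc, sq.w]
  have hU₀f : FibCat.IsFibGrpd (FibCat.overCat U₀).p := FG.isFibGrpd_overForget U₀
  have hV₀f : FibCat.IsFibGrpd (FibCat.overCat V₀).p := FG.isFibGrpd_overForget V₀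
  let C : (FibCat.overCat U₀ : AlgSt.Cat S) ⟶ ofSp U.obj := chartOf U.obj (p ≫ pullback.fst h.hom q)
  have s1 : BasedFunctor.comp (chartOf U.obj (p ≫ pullback.fst h.hom q)) (BasedFunctor.comp x f) ≅
      BasedFunctor.comp (chartOf U.obj (p ≫ pullback.fst h.hom q))
        (BasedFunctor.comp (AlgSt.ofSpMap h.hom) y) :=
    Bicategory.whiskerLeftIso C α
  have s2 : BasedFunctor.comp (chartOf U.obj (p ≫ pullback.fst h.hom q))
        (BasedFunctor.comp (AlgSt.ofSpMap h.hom) y) =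
      BasedFunctor.comp (AlgSt.overMap h₀) (BasedFunctor.comp (chartOf V.obj q) y) := by
    change BasedFunctor.comp (BasedFunctor.comp (chartOf U.obj (p ≫ pullback.fst h.hom q))
        (AlgSt.ofSpMap h.hom)) y =
      BasedFunctor.comp (BasedFunctor.comp (AlgSt.overMap h₀) (chartOf V.obj q)) y
    rw [chartOf_comm h.hom _ q h₀ w]
  refine ⟨U₀, V₀, BasedFunctor.comp (chartOf U.obj (p ≫ pullback.fst h.hom q)) x,
    BasedFunctor.comp (chartOf V.obj q) y, h₀, s1 ≪≫ eqToIso s2, ?_, ?_, ?_, hP2⟩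
  · exact repWith_comp_of_schLocal' hU₀f hX _ AFP.sm_bc AFP.sm_cp CT.sm_schLocal _ x
      (repWith_chartOf _ AFP.sm_bc U _ (hsm U.property _ hce)) hxs
  · exact repWith_comp_of_schLocal' hU₀f hX _ DL.surj_bc DL.surj_cp CT.surj_schLocal _ x
      (repWith_chartOf _ DL.surj_bc U _
        (Groth.Agent.Lib.Helper23.AlgSpMor.isSurjectiveMor_of_repWith_surjective _ hcs)) hxj
  · exact repWith_comp_of_schLocal' hV₀f hY _ AFP.sm_bc AFP.sm_cp CT.sm_schLocal _ y
      (repWith_chartOf _ AFP.sm_bc V _ (hsm V.property _ hqe)) hys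

end Groth.Agent.Lib.Helper17.LQT
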