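import Groth.Agent.Lib.Helper17.LocQTools14
import Groth.Agent.Lib.Helper17.SectionUnr

set_option autoImplicit false
set_option backward.isDefEq.respectTransparency false
set_option backward.isDefEq.respectTransparency.types false
universe u

namespace Groth.Agent.Lib.Helper17.LQT

open CategoryTheory CategoryTheory.Limits AlgebraicGeometry Opposite AlgSp FibCat Stk AlgSt
open Groth.Agent.Lib.Helper17 Groth.Agent.Lib.Helper17.FP Groth.Agent.Lib.Helper17.EO
  Groth.Agent.Lib.Helper17.PD Groth.Agent.Lib.Helper17.AT Groth.Agent.Lib.Helper17.AB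
  Groth.Agent.Lib.Helper17.AOS Groth.Agent.Lib.Helper17.ACP Groth.Agent.Lib.Helper17.PTS
open Groth.Agent.Lib.Helper46 Groth.Agent.Lib.Helper46.LocPChart
open Groth.Agent.Lib.Helper36.AlgSpCharts

variable {S : Scheme.{u}}

section SchemeLevel

variable {X Y Z : Scheme.{u}} (f : X ⟶ Y) (g : Y ⟶ Z)

theorem exists_affine_triple' (x : X) :
    ∃ (W : Z.Opens) (_ : IsAffineOpen W) (U : Y.Opens) (_ : IsAffineOpen U) (V : X.Opens)
      (_ : IsAffineOpen V) (_ : U ≤ g ⁻¹ᵁ W) (_ : V ≤ f ⁻¹ᵁ U), x ∈ V := by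
  obtain ⟨_, ⟨W, hW, rfl⟩, hsW, -⟩ :=
    Z.isBasis_affineOpens.exists_subset_of_mem_open (Set.mem_univ (g (f x))) isOpen_univ
  obtain ⟨_, ⟨U, hU, rfl⟩, hyU, hUW⟩ :=
    Y.isBasis_affineOpens.exists_subset_of_mem_open (show f x ∈ (g ⁻¹ᵁ W : Set Y) from hsW)
      (g ⁻¹ᵁ W).isOpen
  obtain ⟨_, ⟨V, hV, rfl⟩, hxV, hVU⟩ :=
    X.isBasis_affineOpens.exists_subset_of_mem_open (show x ∈ (f ⁻¹ᵁ U : Set X) from hyU)
      (f ⁻¹ᵁ U).isOpen
  exact ⟨W, hW, U, hU, V, hV, hUW, hVU, hxV⟩

/-- cancellation: if `f ≫ g` is locally of finite presentation and `g` locally of finite type then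
`f` is locally of finite presentation (after helper54) -/
theorem lfp_of_comp' [LocallyOfFinitePresentation (f ≫ g)] [LocallyOfFiniteType g] :
    LocallyOfFinitePresentation f := by
  have hQ : RingHom.StableUnderCompositionWithLocalizationAwaySource
      @RingHom.FinitePresentation := by
    intro R S T _ _ _ _ r _ φ hφ
    exact RingHom.finitePresentation_stableUnderComposition _ _
      (RingHom.finitePresentation_holdsForLocalizationAway S r) hφ
  rw [HasRingHomProperty.iff_exists_appLE (P := @LocallyOfFinitePresentation) hQ]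
  intro x
  obtain ⟨W, hW, U, hU, V, hV, e₁, e₂, hxV⟩ := exists_affine_triple' f g x
  refine ⟨⟨U, hU⟩, ⟨V, hV⟩, hxV, e₂, ?_⟩
  have e₃ : V ≤ (f ≫ g) ⁻¹ᵁ W := fun z hz => e₁ (e₂ hz)
  have h3 := (f ≫ g).finitePresentation_appLE hW hV e₃
  have h4 : ((f.appLE U V e₂).hom.comp (g.appLE W U e₁).hom).FinitePresentation := by
    rw [← CommRingCat.hom_comp, Scheme.Hom.appLE_comp_appLE f g W U V e₁ e₂]
    exact h3
  exact RingHom.FinitePresentation.of_comp_finiteType _ h4 (g.finiteType_appLE hW hU e₁)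

end SchemeLevel

/-- **a section of a morphism locally of finite type from an algebraic space to a scheme is
locally of finite presentation** -/
theorem section_chart_lfp {U : Over S} {Y : Sp S} (hY : IsAlgSpace Y) (a : Y ⟶ (yon S).obj U)
    (ha : LocP @LocallyOfFiniteType a)
    (σ : (yon S).obj U ⟶ Y) (hσ : σ ≫ a = 𝟙 _) : LocP @LocallyOfFinitePresentation σ := by
  obtain ⟨V, c, hce, hcs⟩ := hY.atlas
  obtain ⟨V', p1, p2, sq1⟩ := exists_isPullback_yon σ c hce.rep
  have hp1e : Etale p1.left := prop_fst_of_isPullback sq1 hce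
  have hp1s : Surjective p1.left := prop_fst_of_isPullback sq1 hcs
  obtain ⟨d, hd⟩ := (yon S).map_surjective (c ≫ a)
  have e1 : p2 ≫ d = p1 := by
    apply (yon S).map_injective
    rw [Functor.map_comp, hd, ← Category.assoc, ← sq1.w, Category.assoc, hσ, Category.comp_id]
  have hdl : LocallyOfFiniteType d.left :=
    ha c (𝟙 _) d hce (AlgSp.repWith_id _ U) (by rw [hd, Category.comp_id])
  have hlfp : LocallyOfFinitePresentation p2.left := by
    have h1 : LocallyOfFinitePresentation (p2.left ≫ d.left) := by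
      rw [← Over.comp_left, e1]
      infer_instance
    exact lfp_of_comp' p2.left d.left
  exact locP_of_chart Groth.Agent.Lib.Helper30.EtLocalInst.etLocal_lfp σ ((yon S).map p1) c p2
    ((repWith_yon_map_iff _ _).2 hp1e) ((repWith_yon_map_iff _ _).2 hp1s) hce sq1.w hlfp

/-- **a section of a functor to a slice which is representable and locally of finite type** is
representable by algebraic spaces and locally of finite presentation -/
theorem repWith_section_to_slice_lfp {𝒜 : AlgSt.Cat S} {U : Over S}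
    (π : 𝒜 ⥤ᵇ FibCat.overCat U)
    (hπ : AlgSt.RepByAlgSpWith (LocP @LocallyOfFiniteType) π)
    (s : FibCat.overCat U ⥤ᵇ 𝒜) (ι : BasedFunctor.comp s π ≅ BasedFunctor.id _) :
    AlgSt.RepByAlgSpWith (LocP @LocallyOfFinitePresentation) s := by
  obtain ⟨Y, e, he, haY⟩ := TC.exists_of_repWith_to_slice _ π hπ
  obtain ⟨e', ⟨u₁⟩, ⟨c₁⟩⟩ := id he
  have he' : FibCat.IsEquivOver e' := isEquivOver_symm e e' u₁ c₁
  let Sg : ofSp ((yon S).obj U) ⥤ᵇ ofSp Y.obj :=
    BasedFunctor.comp (toOverCat U) (BasedFunctor.comp s e')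
  let σ : (yon S).obj U ⟶ Y.obj := ObjectProperty.homMk (mapOf Sg)
  let a : Y.obj ⟶ (yon S).obj U := spMapOfOver (BasedFunctor.comp e π)
  have hσ : σ ≫ a = 𝟙 _ := by
    apply ObjectProperty.hom_ext
    change mapOf Sg ≫ (spMapOfOver (BasedFunctor.comp e π)).hom = 𝟙 _
    rw [← AD.mapOf_comp_ofOverCat, ← mapOf_comp, ← mapOf_id]
    refine mapOf_congr _ _ (fun x => ?_) (fun x => ?_)
    · exact ((BasedFunctor.comp π (ofOverCat U)).toFunctor.mapIso
          (compApp c₁ (s.obj ((toOverCat U).obj x))) ≪≫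
        (ofOverCat U).toFunctor.mapIso (compApp ι ((toOverCat U).obj x)) :
        _ ≅ (ofOverCat U).obj ((toOverCat U).obj x))
    · have hl1 := compApp_lift c₁ (s.obj ((toOverCat U).obj x))
      rw [s.w_obj, (toOverCat U).w_obj] at hl1
      have hl1' : (ofSch U).p.IsHomLift (𝟙 x.base)
          ((BasedFunctor.comp π (ofOverCat U)).toFunctor.mapIso
            (compApp c₁ (s.obj ((toOverCat U).obj x)))).hom :=
        map_lift'' (BasedFunctor.comp π (ofOverCat U)) hl1
      have hl2 := compApp_lift ι ((toOverCat U).obj x)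
      rw [(toOverCat U).w_obj] at hl2
      have hl2' : (ofSch U).p.IsHomLift (𝟙 x.base)
          ((ofOverCat U).toFunctor.mapIso (compApp ι ((toOverCat U).obj x))).hom :=
        map_lift'' (ofOverCat U) hl2
      exact IsHomLift.comp_of_lift_id (ofSch U).p _ _ _
  have hP : LocP @LocallyOfFinitePresentation σ := section_chart_lfp Y.property a haY σ hσ
  have h1 : AlgSt.RepByAlgSpWith (LocP (S := S) @LocallyOfFinitePresentation)
      (Stk.ofPshMap σ.hom) :=
    DCV.repWith_ofSpMap _ DL.lfp_bc ⟨(yon S).obj U, IsAlgSpace.yon_obj U⟩ Y σ hP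
  have h2 : AlgSt.RepByAlgSpWith (LocP (S := S) @LocallyOfFinitePresentation) Sg := by
    refine repWith_of_square_fwd _ (Stk.ofPshMap (mapOf Sg)) Sg (BasedFunctor.id _)
      (BasedFunctor.id _) (isEquivOver_id _) (isEquivOver_id _) (fun x' => compIso Sg x') ?_ ?_ h1
    · intro x x₁ β
      exact compIso_nat Sg β
    · intro x'
      exact compIso_lift Sg x'
  have h3 : AlgSt.RepByAlgSpWith (LocP (S := S) @LocallyOfFinitePresentation)
      (BasedFunctor.comp s e') :=
    FD.repWith_of_precomp_equiv _ (toOverCat U) (AD.toOverCat_isEquivOver U) _ h2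
  exact DCN.repWith_of_comp_equiv _ s e' he' h3

/-- **the diagonal of a functor representable by algebraic spaces and locally of finite type** is
locally of finite presentation -/
theorem repWith_diag_lfp_of_rep_lft {𝒳 𝒴 : AlgSt.Cat S} (f : 𝒳 ⥤ᵇ 𝒴)
    (hf : AlgSt.RepByAlgSpWith (LocP @LocallyOfFiniteType) f) :
    AlgSt.RepByAlgSpWith (LocP @LocallyOfFinitePresentation) (FibCat.diag f) := by
  intro T z
  apply TC.exists_of_repWith_to_slice
  have hι : BasedFunctor.comp (DS.s2 f z) (FibCat.fpFst (BasedFunctor.comp (DS.x1 f z) f) f) =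
      BasedFunctor.id _ := DR.basedFunctor_ext rfl
  have hs2 : AlgSt.RepByAlgSpWith (LocP @LocallyOfFinitePresentation) (DS.s2 f z) :=
    repWith_section_to_slice_lfp (FibCat.fpFst (BasedFunctor.comp (DS.x1 f z) f) f)
      (AB.repWith_fpFst _ f _ hf) (DS.s2 f z) (eqToIso hι)
  have h1 : AlgSt.RepByAlgSpWith (LocP @LocallyOfFinitePresentation)
      (FibCat.fpFst (DS.s1 f z) (DS.s2 f z)) :=
    repWith_fpFst _ (DS.s2 f z) (DS.s1 f z) hs2
  exact FD.repWith_precomp_equiv _ (DS.K f z) (DS.K_isEquivOver f z) _ h1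

/-- converse dictionary for slice functors -/
theorem prop_of_repWith_overMap (P : MorphismProperty (Sp S)) (hbc : BC P) (hl : ACov.SchLocal P)
    {W U : Over S} (k : W ⟶ U) (h : AlgSt.RepByAlgSpWith P (AlgSt.overMap k)) :
    P ((yon S).map k) := by
  have h1 : AlgSt.RepByAlgSpWith P (BasedFunctor.comp (toOverCat W) (AlgSt.overMap k)) :=
    FD.repWith_precomp_equiv P (toOverCat W) (AD.toOverCat_isEquivOver W) _ h
  rw [toOverCat_overMap] at h1
  have h2 := DCN.repWith_of_comp_equiv P (ofSpMap ((yon S).map k)) (toOverCat U)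
    (AD.toOverCat_isEquivOver U) h1
  exact SQC.prop_of_repWith_ofSpMap P hbc hl ⟨(yon S).obj W, IsAlgSpace.yon_obj W⟩
    ⟨(yon S).obj U, IsAlgSpace.yon_obj U⟩ _ h2

/-- **S13005**: cancellation for locally of finite presentation -/
theorem locQ_lfp_of_comp {𝒳 𝒴 𝒵 : AlgSt.Cat S}
    (h𝒳 : AlgSt.IsAlgStack Scheme.fppfPrecoverage 𝒳)
    (h𝒴 : AlgSt.IsAlgStack Scheme.fppfPrecoverage 𝒴)
    (h𝒵 : AlgSt.IsAlgStack Scheme.fppfPrecoverage 𝒵) (f : 𝒳 ⥤ᵇ 𝒴) (g : 𝒴 ⥤ᵇ 𝒵)
    (hfg : AlgSt.LocQ (AlgSp.LocP @LocallyOfFinitePresentation) (BasedFunctor.comp f g))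
    (hg : AlgSt.LocQ (AlgSp.LocP @LocallyOfFiniteType) g) :
    AlgSt.LocQ (AlgSp.LocP @LocallyOfFinitePresentation) f := by
  have hX := h𝒳.isStack.1
  have hY := h𝒴.isStack.1
  have hZ := h𝒵.isStack.1
  obtain ⟨U₂, V₂, x₂, y₂, h₂, α₂, hx₂s, hx₂j, hy₂s, hh₂⟩ := hg
  have hh₂l : LocallyOfFiniteType h₂.left := AlgSp.locP_yon_map hh₂
  obtain ⟨W, q, hqs, hqj, hq⟩ := exists_chart_of_locQ good_lfp hZ _ hfg
  obtain ⟨W', a, b, ha, haj, -, -, ⟨i⟩, -⟩ :=
    exists_bridge_all hY h𝒴.diag (BasedFunctor.comp q f) x₂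
  have hW'f : FibCat.IsFibGrpd (FibCat.overCat W').p := FG.isFibGrpd_overForget W'
  have hV₂f : FibCat.IsFibGrpd (FibCat.overCat V₂).p := FG.isFibGrpd_overForget V₂
  have hasm : Smooth a.left := ha @Smooth (fun _ _ f hf => by have := hf; infer_instance)
    AFP.sm_bc AFP.sm_cp hx₂s
  have hasurj := haj hx₂j
  have ha0 : AlgSt.RepByAlgSpWith (LocP @Smooth) (AlgSt.overMap a) :=
    CT.repWith_overMap _ AFP.sm_bc a
      (Groth.Agent.Lib.Helper23.AlgSpMor.locP_yon_map_of
        Groth.Agent.Lib.Helper30.EtLocalInst.etLocal_smooth a hasm)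
  have ha3 : AlgSt.RepByAlgSpWith IsSurjectiveMor (AlgSt.overMap a) :=
    CT.repWith_overMap _ DL.surj_bc a (CT.isSurjectiveMor_yon_map a hasurj)
  have ha1 : AlgSt.RepByAlgSpWith (LocP @LocallyOfFinitePresentation) (AlgSt.overMap a) :=
    lfp_of_smooth _ ha0
  -- the composite to `𝒵`
  have h1 : AlgSt.RepByAlgSpWith (LocP @LocallyOfFinitePresentation)
      (BasedFunctor.comp (AlgSt.overMap a) (BasedFunctor.comp q (BasedFunctor.comp f g))) :=
    repWith_comp_of_schLocal' hW'f hZ _ DL.lfp_bc DL.lfp_cp lfp_schLocal _ _ ha1 hq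
  have j : BasedFunctor.comp (AlgSt.overMap (b ≫ h₂)) y₂ ≅
      BasedFunctor.comp (AlgSt.overMap a) (BasedFunctor.comp q (BasedFunctor.comp f g)) := by
    let G' : (𝒴 : AlgSt.Cat S) ⟶ 𝒵 := g
    let B' : (FibCat.overCat W' : AlgSt.Cat S) ⟶ FibCat.overCat U₂ := AlgSt.overMap b
    have s1 : BasedFunctor.comp (BasedFunctor.comp (AlgSt.overMap a) (BasedFunctor.comp q f)) g ≅
        BasedFunctor.comp (BasedFunctor.comp (AlgSt.overMap b) x₂) g :=
      Bicategory.whiskerRightIso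
        (f := (BasedFunctor.comp (AlgSt.overMap a) (BasedFunctor.comp q f) :
          (FibCat.overCat W' : AlgSt.Cat S) ⟶ 𝒴))
        (g := (BasedFunctor.comp (AlgSt.overMap b) x₂ : (FibCat.overCat W' : AlgSt.Cat S) ⟶ 𝒴))
        i G'
    have s2 : BasedFunctor.comp (AlgSt.overMap b) (BasedFunctor.comp x₂ g) ≅
        BasedFunctor.comp (AlgSt.overMap b) (BasedFunctor.comp (AlgSt.overMap h₂) y₂) :=
      Bicategory.whiskerLeftIso B' α₂
    have s3 : BasedFunctor.comp (AlgSt.overMap b) (BasedFunctor.comp (AlgSt.overMap h₂) y₂) =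
        BasedFunctor.comp (AlgSt.overMap (b ≫ h₂)) y₂ := by
      change BasedFunctor.comp (BasedFunctor.comp (AlgSt.overMap b) (AlgSt.overMap h₂)) y₂ = _
      rw [← overMap_comp]
    exact (s1 ≪≫ s2 ≪≫ eqToIso s3).symm
  have h2 : AlgSt.RepByAlgSpWith (LocP @LocallyOfFinitePresentation)
      (BasedFunctor.comp (AlgSt.overMap (b ≫ h₂)) y₂) := DCN.repWith_of_iso _ j h1
  have hΔ : AlgSt.RepByAlgSpWith (LocP @LocallyOfFinitePresentation) (FibCat.diag y₂) :=
    repWith_diag_lfp_of_rep_lft y₂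
      (repWith_locP_mono (fun _ _ k hk => by have : Smooth k := hk; infer_instance) y₂ hy₂s)
  have h3 : AlgSt.RepByAlgSpWith (LocP @LocallyOfFinitePresentation) (AlgSt.overMap (b ≫ h₂)) :=
    TC.repWith_cancel hW'f hV₂f hZ _ DL.lfp_bc DL.lfp_cp lfp_schLocal _ y₂ h2 hΔ
  have h4 : LocallyOfFinitePresentation (b ≫ h₂).left :=
    AlgSp.locP_yon_map (prop_of_repWith_overMap _ DL.lfp_bc lfp_schLocal _ h3)
  have hbl : LocallyOfFinitePresentation b.left := by
    have : LocallyOfFinitePresentation (b.left ≫ h₂.left) := by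
      rw [← Over.comp_left]
      exact h4
    exact lfp_of_comp' b.left h₂.left
  -- the chart
  refine locQ_of_chart good_lfp hX h𝒴 f (BasedFunctor.comp (AlgSt.overMap a) q) ?_ ?_ ?_
  · exact repWith_comp_of_schLocal' hW'f hX _ AFP.sm_bc AFP.sm_cp CT.sm_schLocal _ q ha0 hqs
  · exact repWith_comp_of_schLocal' hW'f hX _ DL.surj_bc DL.surj_cp CT.surj_schLocal _ q ha3 hqj
  · have hb1 : AlgSt.RepByAlgSpWith (LocP @LocallyOfFinitePresentation) (AlgSt.overMap b) :=
      CT.repWith_overMap _ DL.lfp_bc b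
        (Groth.Agent.Lib.Helper23.AlgSpMor.locP_yon_map_of
          Groth.Agent.Lib.Helper30.EtLocalInst.etLocal_lfp b hbl)
    have h5 : AlgSt.RepByAlgSpWith (LocP @LocallyOfFinitePresentation)
        (BasedFunctor.comp (AlgSt.overMap b) x₂) :=
      repWith_comp_of_schLocal' hW'f hY _ DL.lfp_bc DL.lfp_cp lfp_schLocal _ x₂ hb1
        (lfp_of_smooth _ hx₂s)
    exact DCN.repWith_of_iso _ i h5

end Groth.Agent.Lib.Helper17.LQT
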