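import Groth.Agent.Lib.Helper17.LocQTools15
import Groth.Agent.Lib.Helper17.DiagLft

set_option autoImplicit false
set_option backward.isDefEq.respectTransparency false
set_option backward.isDefEq.respectTransparency.types false
universe u

namespace Groth.Agent.Lib.Helper17.LQT

open CategoryTheory CategoryTheory.Limits AlgebraicGeometry Opposite AlgSp FibCat Stk AlgSt
open Groth.Agent.Lib.Helper17 Groth.Agent.Lib.Helper17.FP Groth.Agent.Lib.Helper17.EO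
  Groth.Agent.Lib.Helper17.PD Groth.Agent.Lib.Helper17.AT Groth.Agent.Lib.Helper17.AB
  Groth.Agent.Lib.Helper17.AOS Groth.Agent.Lib.Helper17.ACP Groth.Agent.Lib.Helper17.PTS
open Groth.Agent.Lib.Helper46 Groth.Agent.Lib.Helper46.LocPChart

variable {S : Scheme.{u}}

/-- **the diagonal of a morphism locally of finite type is locally of finite presentation** -/
theorem repWith_lfp_diag_of_locQ_lft {𝒳 𝒴 : AlgSt.Cat S}
    (h𝒳 : AlgSt.IsAlgStack Scheme.fppfPrecoverage 𝒳)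
    (h𝒴 : AlgSt.IsAlgStack Scheme.fppfPrecoverage 𝒴) (f : 𝒳 ⥤ᵇ 𝒴)
    (hf : AlgSt.LocQ (AlgSp.LocP @LocallyOfFiniteType) f) :
    AlgSt.RepByAlgSpWith (LocP @LocallyOfFinitePresentation) (FibCat.diag f) := by
  have hX := h𝒳.isStack.1
  have hY := h𝒴.isStack.1
  obtain ⟨U, x, hsm, hsurj, hxf⟩ := exists_chart_of_locQ good_lft hY f hf
  have hU : FibCat.IsFibGrpd (FibCat.overCat U).p := FG.isFibGrpd_overForget U
  have hflat : AlgSt.RepByAlgSpWith (LocP @Flat) x := flat_of_smooth x hsm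
  have hlfp : AlgSt.RepByAlgSpWith (LocP @LocallyOfFinitePresentation) x := lfp_of_smooth x hsm
  have hm₁ := SR.repWith_m _ DL.flat_bc DL.flat_cp flat_schLocal hU hU hX hY x f x hflat hflat
  have hm₂ := SR.repWith_m _ DL.lfp_bc DL.lfp_cp lfp_schLocal hU hU hX hY x f x hlfp hlfp
  have hm₃ := SR.repWith_m _ DL.surj_bc DL.surj_cp CT.surj_schLocal hU hU hX hY x f x hsurj hsurj
  have hrep : AlgSt.RepByAlgSp1 (FibCat.diag f) :=
    (rep1_iff_top _).mpr (DDC.repWith_mono (fun _ _ _ _ _ _ => trivial) _ (DL.lft_diag h𝒳 h𝒴 f))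
  refine FD.repWith_of_fpFst_cover _ DL.lfp_bc DL.lfp_local _ hrep (MS.m x f x) hm₁ hm₂ hm₃ ?_
  refine FD.repWith_of_precomp_equiv _ (MS.M x f x) (MS.M_isEquivOver x f x) _ ?_
  have hB : FibCat.IsFibGrpd (MS.B x f x).p := SP.isFibGrpd_fp _ _ hU hU hY
  have hR : FibCat.IsFibGrpd (FibCat.fp x x).p := SP.isFibGrpd_fp x x hU hU hX
  refine TC.repWith_cancel hR hB hU _ DL.lfp_bc DL.lfp_cp lfp_schLocal
    _ (FibCat.fpFst (BasedFunctor.comp x f) (BasedFunctor.comp x f)) ?_ ?_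
  · change AlgSt.RepByAlgSpWith _ (FibCat.fpFst x x)
    exact repWith_fpFst _ x x hlfp
  · refine Groth.Agent.Lib.Helper38.DBCAlgSt.repByAlgSpWith_diag_fpFst hU hY hU _
      (BasedFunctor.comp x f) (BasedFunctor.comp x f) ?_
    exact repWith_diag_lfp_of_rep_lft _ hxf

/-- **S13006** -/
theorem locQ_lfp_diag_of_locQ_lft {𝒳 𝒴 : AlgSt.Cat S}
    (h𝒳 : AlgSt.IsAlgStack Scheme.fppfPrecoverage 𝒳)
    (h𝒴 : AlgSt.IsAlgStack Scheme.fppfPrecoverage 𝒴) (f : 𝒳 ⥤ᵇ 𝒴)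
    (hf : AlgSt.LocQ (AlgSp.LocP @LocallyOfFiniteType) f) :
    AlgSt.LocQ (AlgSp.LocP @LocallyOfFinitePresentation) (FibCat.diag f) :=
  locQ_of_repWith good_lfp h𝒳 (AFP.isAlgStack_fp h𝒴.isStack h𝒴.diag h𝒳 h𝒳 f f) _
    (repWith_lfp_diag_of_locQ_lft h𝒳 h𝒴 f hf)

end Groth.Agent.Lib.Helper17.LQT
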