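import Groth.Agent.Lib.Helper17.LocQTools16
import Groth.Agent.S10565

set_option autoImplicit false
set_option backward.isDefEq.respectTransparency false
set_option backward.isDefEq.respectTransparency.types false
universe u

namespace Groth.Agent.Lib.Helper17.LQT

open CategoryTheory CategoryTheory.Limits AlgebraicGeometry Opposite AlgSp FibCat Stk AlgSt
open Groth.Agent.Lib.Helper17 Groth.Agent.Lib.Helper17.FP Groth.Agent.Lib.Helper17.EO
  Groth.Agent.Lib.Helper17.PD Groth.Agent.Lib.Helper17.AT Groth.Agent.Lib.Helper17.AB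
  Groth.Agent.Lib.Helper17.AOS Groth.Agent.Lib.Helper17.ACP Groth.Agent.Lib.Helper17.PTS
open Groth.Agent.Lib.Helper46 Groth.Agent.Lib.Helper46.LocPChart

variable {S : Scheme.{u}}

/-! ### consequences of smooth locality on source-and-target -/

/-- an etale atlas is a smooth covering -/
theorem isSmCover_of_atlas {G : Sp S} {V : Over S} (φ : (yon S).obj V ⟶ G)
    (he : RepWith @Etale φ) (hs : RepWith @Surjective φ) :
    IsSmCover (fun _ : PUnit.{u + 1} => (yon S).obj V) (fun _ => φ) := by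
  refine ⟨fun _ => ?_, fun x => ⟨PUnit.unit, ACov.points_map_surjective φ hs x⟩⟩
  exact ACov.locP_of_isEtaleMor (P := @Smooth) (fun X Y f hf => by have := hf; infer_instance) φ
    (ACov.isEtaleMor_of_repWith φ he)

/-- a property smooth local on the base can be checked after base change to schemes -/
theorem schLocal_of_smLocalOnBase (P : MorphismProperty (Sp S))
    (hP : IsLocalOnBase (IsSmCover (S := S)) P) : ACov.SchLocal P := by
  intro H G hH hG a ha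
  obtain ⟨V, φ, he, hs⟩ := hG.atlas
  have hcov := isSmCover_of_atlas φ he hs
  have sq : IsPullback (pullback.fst a φ) (pullback.snd a φ) a φ := IsPullback.of_hasPullback a φ
  have sq' : IsPullback (pullback.fst a φ).hom (pullback.snd a φ).hom a.hom φ.hom :=
    sq.map (sheafToPresheaf _ _)
  obtain ⟨h, hA, hQ⟩ := ha φ.hom _ _ sq'
  exact (hP (fun _ : PUnit.{u + 1} => (yon S).obj V) (fun _ => φ) hG
    (fun _ => IsAlgSpace.yon_obj V) hcov a hH (fun _ => pullback a φ)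
    (fun _ => pullback.snd a φ) (fun _ => pullback.fst a φ) (fun _ => hA) (fun _ => sq)).mpr
    (fun _ => hQ)

theorem schLocal_of_smLocalST {P : MorphismProperty (Sp S)} (hP : IsSmoothLocalST P) :
    ACov.SchLocal P :=
  schLocal_of_smLocalOnBase P (Groth.Agent.S10565.result hP).2.1

/-- postcomposition with a smooth morphism -/
theorem postcomp_of_smLocalST {P : MorphismProperty (Sp S)} (hP : IsSmoothLocalST P)
    ⦃X Y Z : Sp S⦄ (hX : IsAlgSpace X) (hY : IsAlgSpace Y) (hZ : IsAlgSpace Z) (a : X ⟶ Y)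
    (b : Y ⟶ Z) (ha : P a) (hb : LocP @Smooth b) : P (a ≫ b) :=
  (Groth.Agent.S10565.result hP).2.2 (X := ⟨X, hX⟩) (Y := ⟨Y, hY⟩) (Z := ⟨Z, hZ⟩)
    (ObjectProperty.homMk a) (ObjectProperty.homMk b) ha hb

/-- descent along a smooth surjective morphism on the source -/
theorem src_of_smLocalST {P : MorphismProperty (Sp S)} (hP : IsSmoothLocalST P)
    ⦃X Y Z : Sp S⦄ (hX : IsAlgSpace X) (hY : IsAlgSpace Y) (hZ : IsAlgSpace Z) (m : X ⟶ Y)
    (b : Y ⟶ Z) (hm : LocP @Smooth m) (hms : IsSurjectiveMor m) (h : P (m ≫ b)) : P b := by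
  have hsrc := (Groth.Agent.S10565.result hP).1
  have hcov : IsSmCover (fun _ : PUnit.{u + 1} => X) (fun _ => m) :=
    ⟨fun _ => hm, fun x => ⟨PUnit.unit, hms x⟩⟩
  exact (hsrc (fun _ : PUnit.{u + 1} => X) (fun _ => m) hY (fun _ => hX) hcov b hZ).mpr (fun _ => h)

/-! ### factorization of the representing space of a composite -/

/-- **factorization**: for `f` representable with `P`, a space representing the base change of
`f ⋙ g` maps with `P` to a given space representing the base change of `g`, compatibly with the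
structure maps -/
theorem exists_factor {𝒳 𝒴 𝒵 : AlgSt.Cat S}
    (h𝒳 : FibCat.IsFibGrpd 𝒳.p) (h𝒵 : FibCat.IsFibGrpd 𝒵.p)
    (P : MorphismProperty (AlgSp.Sp S)) [P.RespectsIso] (hP : ACov.SchLocal P)
    (f : 𝒳 ⥤ᵇ 𝒴) (g : 𝒴 ⥤ᵇ 𝒵) (hf : AlgSt.RepByAlgSpWith P f) {U : Over S}
    (y : FibCat.overCat U ⥤ᵇ 𝒵) (G : AlgSp.Space S) (eG : ofSp G.obj ⥤ᵇ FibCat.fp y g)
    (heG : FibCat.IsEquivOver eG) :
    ∃ (H : AlgSp.Space S) (eH : ofSp H.obj ⥤ᵇ FibCat.fp y (BasedFunctor.comp f g))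
      (m : H.obj ⟶ G.obj), FibCat.IsEquivOver eH ∧ P m ∧
      spMapOfOver (BasedFunctor.comp eH (FibCat.fpFst y (BasedFunctor.comp f g))) =
        m ≫ spMapOfOver (BasedFunctor.comp eG (FibCat.fpFst y g)) := by
  obtain ⟨gG, ⟨z₁⟩, ⟨z₂⟩⟩ := id heG
  have hr : AlgSt.RepByAlgSpWith P (PSR.toInner y f g) := repWith_toInner P y f g hf
  let w : FibCat.fp y (BasedFunctor.comp f g) ⥤ᵇ ofSp G.obj :=
    BasedFunctor.comp (PSR.toInner y f g) gG
  have hw : AlgSt.RepByAlgSpWith P w := by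
    refine repWith_of_square_fwd P (PSR.toInner y f g) w (BasedFunctor.id _) eG
      (isEquivOver_id _) heG (fun x' => compApp z₂ ((PSR.toInner y f g).obj x')) ?_ ?_ hr
    · intro x x₁ β
      exact compApp_nat z₂ ((PSR.toInner y f g).map β)
    · intro x'
      have h := compApp_lift z₂ ((PSR.toInner y f g).obj x')
      rw [(PSR.toInner y f g).w_obj x'] at h
      exact h
  have h𝒲 : FibCat.IsFibGrpd (FibCat.fp y (BasedFunctor.comp f g)).p :=
    SP.isFibGrpd_fp y (BasedFunctor.comp f g) (FG.isFibGrpd_overForget U) h𝒳 h𝒵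
  obtain ⟨H, eH, heH, hPa⟩ := exists_space_of_repWith_of_schLocal P hP h𝒲 G w hw
  refine ⟨H, eH, ObjectProperty.homMk (mapOf (BasedFunctor.comp eH w)), heH, hPa, ?_⟩
  apply ObjectProperty.hom_ext
  change (spMapOfOver (BasedFunctor.comp eH (FibCat.fpFst y (BasedFunctor.comp f g)))).hom =
    mapOf (BasedFunctor.comp eH w) ≫ (spMapOfOver (BasedFunctor.comp eG (FibCat.fpFst y g))).hom
  rw [← AD.mapOf_comp_ofOverCat, ← AD.mapOf_comp_ofOverCat, ← mapOf_comp]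
  refine mapOf_congr _ _ (fun a => ?_) (fun a => ?_)
  · exact ((BasedFunctor.comp (FibCat.fpFst y g) (ofOverCat U)).toFunctor.mapIso
      (compApp z₂ ((PSR.toInner y f g).obj (eH.obj a)))).symm
  · have h := compApp_lift z₂ ((PSR.toInner y f g).obj (eH.obj a))
    rw [(PSR.toInner y f g).w_obj, eH.w_obj] at h
    have h0 : (FibCat.fp y g).p.IsHomLift (𝟙 a.base)
        (compApp z₂ ((PSR.toInner y f g).obj (eH.obj a))).hom := h
    have h' : (FibCat.fp y g).p.IsHomLift (𝟙 a.base)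
        (compApp z₂ ((PSR.toInner y f g).obj (eH.obj a))).inv :=
      IsHomLift.lift_id_inv (FibCat.fp y g).p a.base _
    exact map_lift'' (BasedFunctor.comp (FibCat.fpFst y g) (ofOverCat U)) h'

/-- **mixed composition** -/
theorem repWith_comp_mixed {𝒳 𝒴 𝒵 : AlgSt.Cat S}
    (h𝒳 : FibCat.IsFibGrpd 𝒳.p) (h𝒵 : FibCat.IsFibGrpd 𝒵.p)
    (P₁ P₂ P₃ : MorphismProperty (AlgSp.Sp S)) (hb₁ : BC P₁) (hl₁ : ACov.SchLocal P₁)
    (hc : ∀ ⦃X Y Z : AlgSp.Sp S⦄, AlgSp.IsAlgSpace X → AlgSp.IsAlgSpace Y → AlgSp.IsAlgSpace Z →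
      ∀ (a : X ⟶ Y) (b : Y ⟶ Z), P₁ a → P₂ b → P₃ (a ≫ b))
    (f : 𝒳 ⥤ᵇ 𝒴) (g : 𝒴 ⥤ᵇ 𝒵) (hf : AlgSt.RepByAlgSpWith P₁ f)
    (hg : AlgSt.RepByAlgSpWith P₂ g) : AlgSt.RepByAlgSpWith P₃ (BasedFunctor.comp f g) := by
  intro U y
  obtain ⟨G, eG, heG, hPG⟩ := hg U y
  have := restr_respectsIso P₁ hb₁
  obtain ⟨H, eH, m, heH, hm, key⟩ := exists_factor h𝒳 h𝒵 (restr P₁) (restr_schLocal P₁ hl₁) f g
    ((repWith_restr_iff _ _).mpr hf) y G eG heG
  refine ⟨H, eH, heH, ?_⟩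
  rw [key]
  exact hc H.property G.property (IsAlgSpace.yon_obj U) m _ hm.2.2 hPG

theorem smsurj_bc : BC (LocP (S := S) @Smooth ⊓ IsSurjectiveMor) :=
  fun _ _ _ _ h1 h2 h3 h4 a b a' b' sq h =>
    ⟨AFP.sm_bc h1 h2 h3 h4 a b a' b' sq h.1, DL.surj_bc h1 h2 h3 h4 a b a' b' sq h.2⟩

theorem smsurj_schLocal : ACov.SchLocal (LocP (S := S) @Smooth ⊓ IsSurjectiveMor) := by
  intro H G hH hG a ha
  refine ⟨CT.sm_schLocal hH hG a ?_, CT.surj_schLocal hH hG a ?_⟩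
  · intro U ξ F' fst snd sq
    obtain ⟨h, hA, hQ⟩ := ha ξ fst snd sq
    exact ⟨h, hA, hQ.1⟩
  · intro U ξ F' fst snd sq
    obtain ⟨h, hA, hQ⟩ := ha ξ fst snd sq
    exact ⟨h, hA, hQ.2⟩

/-- **descent along a smooth surjective morphism on the source** -/
theorem repWith_of_precomp_smsurj {𝒳 𝒴 𝒵 : AlgSt.Cat S}
    (h𝒳 : FibCat.IsFibGrpd 𝒳.p) (h𝒵 : FibCat.IsFibGrpd 𝒵.p)
    (P : MorphismProperty (AlgSp.Sp S)) (hPb : BC P)
    (hsrc : ∀ ⦃X Y Z : AlgSp.Sp S⦄, AlgSp.IsAlgSpace X → AlgSp.IsAlgSpace Y → AlgSp.IsAlgSpace Z →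
      ∀ (m : X ⟶ Y) (b : Y ⟶ Z), LocP @Smooth m → IsSurjectiveMor m → P (m ≫ b) → P b)
    (f : 𝒳 ⥤ᵇ 𝒴) (g : 𝒴 ⥤ᵇ 𝒵) (hfs : AlgSt.RepByAlgSpWith (LocP @Smooth) f)
    (hfj : AlgSt.RepByAlgSpWith IsSurjectiveMor f) (hg : AlgSt.RepByAlgSp1 g)
    (h : AlgSt.RepByAlgSpWith P (BasedFunctor.comp f g)) : AlgSt.RepByAlgSpWith P g := by
  intro U y
  obtain ⟨G, eG, heG⟩ := hg U y
  have hf : AlgSt.RepByAlgSpWith (LocP @Smooth ⊓ IsSurjectiveMor) f :=
    DL2.repWith_inf' _ _ DL.surj_bc f hfs hfj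
  have := restr_respectsIso _ (smsurj_bc (S := S))
  obtain ⟨H, eH, m, heH, hm, key⟩ := exists_factor h𝒳 h𝒵 (restr (LocP @Smooth ⊓ IsSurjectiveMor))
    (restr_schLocal _ smsurj_schLocal) f g ((repWith_restr_iff _ _).mpr hf) y G eG heG
  have hPH := DL2.transport P hPb (BasedFunctor.comp f g) h U y H eH heH
  rw [key] at hPH
  exact ⟨G, eG, heG, hsrc H.property G.property (IsAlgSpace.yon_obj U) m _ hm.2.2.1 hm.2.2.2 hPH⟩

/-! ### the bridge for abstract properties -/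

/-- the bridge between two charts, with the inheritance of an abstract property stable under base
change and precomposition with smooth morphisms -/
theorem exists_bridge_abs {𝒳 : AlgSt.Cat S} (hX : FibCat.IsFibGrpd 𝒳.p)
    (hΔ : AlgSt.RepByAlgSp1 (FibCat.diag (FibCat.toSelf 𝒳))) {U U₀ : Over S}
    (x : FibCat.overCat U ⥤ᵇ 𝒳) (x₀ : FibCat.overCat U₀ ⥤ᵇ 𝒳) :
    ∃ (W : Over S) (a : W ⟶ U) (b : W ⟶ U₀),
      (∀ P : MorphismProperty Scheme.{u}, (∀ ⦃X Y : Scheme.{u}⦄ (f : X ⟶ Y), Etale f → P f) →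
        BC (LocP (S := S) P) → CP (LocP (S := S) P) →
        AlgSt.RepByAlgSpWith (AlgSp.LocP P) x₀ → P a.left) ∧
      (AlgSt.RepByAlgSpWith AlgSp.IsSurjectiveMor x₀ → Function.Surjective a.left) ∧
      (∀ P : MorphismProperty (Sp S), BC P →
        (∀ ⦃X Y Z : Sp S⦄, IsAlgSpace X → IsAlgSpace Y → IsAlgSpace Z → ∀ (f : X ⟶ Y) (g : Y ⟶ Z),
          LocP @Smooth f → P g → P (f ≫ g)) →
        AlgSt.RepByAlgSpWith P x → P ((yon S).map b)) ∧
      Nonempty (BasedFunctor.comp (AlgSt.overMap a) x ≅ BasedFunctor.comp (AlgSt.overMap b) x₀) := by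
  obtain ⟨W, a, b, R, e, c, he, hce, hcs, ha, hb, ⟨ia⟩, ⟨ib⟩⟩ := exists_bridge_q hX hΔ x x₀
  have hcet := ACov.isEtaleMor_of_repWith c hce
  have hcsurj : IsSurjectiveMor c := ACov.points_map_surjective c hcs
  have hWsp : IsAlgSpace ((yon S).obj W) := IsAlgSpace.yon_obj W
  have e' : BasedFunctor.comp (BasedFunctor.comp e (SW.swap x x₀)) (FibCat.fpFst x₀ x) =
      BasedFunctor.comp e (FibCat.fpSnd x x₀) := DR.basedFunctor_ext rfl
  have he' : FibCat.IsEquivOver (BasedFunctor.comp e (SW.swap x x₀)) :=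
    isEquivOver_comp _ _ he (SW.swap_isEquivOver x x₀)
  let q : FibCat.overCat W ⥤ᵇ FibCat.fp x x₀ :=
    BasedFunctor.comp (BasedFunctor.comp (ofOverCat W) (ofSpMap c)) e
  have hiso : BasedFunctor.comp (AlgSt.overMap a) x ≅ BasedFunctor.comp (AlgSt.overMap b) x₀ := by
    let Q : (FibCat.overCat W : AlgSt.Cat S) ⟶ FibCat.fp x x₀ := q
    let X' : (FibCat.overCat U : AlgSt.Cat S) ⟶ 𝒳 := x
    let X₀' : (FibCat.overCat U₀ : AlgSt.Cat S) ⟶ 𝒳 := x₀
    have i1 : BasedFunctor.comp (FibCat.fpFst x x₀) x ≅ BasedFunctor.comp (FibCat.fpSnd x x₀) x₀ :=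
      FibCat.fpIso x x₀
    have i2 := Bicategory.whiskerLeftIso Q i1
    have i5 := Bicategory.whiskerRightIso
      (f := (BasedFunctor.comp q (FibCat.fpFst x x₀) :
        (FibCat.overCat W : AlgSt.Cat S) ⟶ FibCat.overCat U)) ia X'
    have i6 := Bicategory.whiskerRightIso
      (f := (BasedFunctor.comp q (FibCat.fpSnd x x₀) :
        (FibCat.overCat W : AlgSt.Cat S) ⟶ FibCat.overCat U₀)) ib X₀'
    exact i5.symm ≪≫ i2 ≪≫ i6
  refine ⟨W, a, b, ?_, ?_, ?_, ⟨hiso⟩⟩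
  · intro P hP hbc hcp h
    have hcP : LocP P c := ACov.locP_of_isEtaleMor hP c hcet
    have h1 := DL2.transport _ hbc x₀ h U x R e he
    have h2 := hcp hWsp R.property (IsAlgSpace.yon_obj U) c _ hcP h1
    rw [← ha] at h2
    exact AlgSp.locP_yon_map h2
  · intro h
    have h1 := DL2.transport _ DL.surj_bc x₀ h U x R e he
    have h2 := DL.surj_cp hWsp R.property (IsAlgSpace.yon_obj U) c _ hcsurj h1
    rw [← ha] at h2
    exact BRG.surjective_of_isSurjectiveMor a h2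
  · intro P hbc hpre h
    have hcP : LocP @Smooth c :=
      ACov.locP_of_isEtaleMor (fun _ _ f hf => by have := hf; infer_instance) c hcet
    have h1 := DL2.transport _ hbc x h U₀ x₀ R _ he'
    rw [e'] at h1
    have h2 := hpre hWsp R.property (IsAlgSpace.yon_obj U₀) c _ hcP h1
    rw [← hb] at h2
    exact h2

/-! ### the chart form for abstract properties -/

/-- a chart square gives the chart form -/
theorem exists_chart_of_locQ_abs {P : MorphismProperty (Sp S)} (hP : IsSmoothLocalST P)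
    (hPb : BC P) {𝒳 𝒴 : AlgSt.Cat S} (hY : FibCat.IsFibGrpd 𝒴.p) (f : 𝒳 ⥤ᵇ 𝒴)
    (h : AlgSt.LocQ P f) :
    ∃ (W : Over S) (q : FibCat.overCat W ⥤ᵇ 𝒳),
      AlgSt.RepByAlgSpWith (LocP @Smooth) q ∧ AlgSt.RepByAlgSpWith IsSurjectiveMor q ∧
      AlgSt.RepByAlgSpWith P (BasedFunctor.comp q f) := by
  obtain ⟨U, V, x, y, k, α, hxs, hxj, hys, hk⟩ := h
  have hUf : FibCat.IsFibGrpd (FibCat.overCat U).p := FG.isFibGrpd_overForget U
  refine ⟨U, x, hxs, hxj, ?_⟩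
  have h1 : AlgSt.RepByAlgSpWith P (AlgSt.overMap k) := CT.repWith_overMap P hPb k hk
  have h2 : AlgSt.RepByAlgSpWith P (BasedFunctor.comp (AlgSt.overMap k) y) :=
    repWith_comp_mixed hUf hY P (LocP @Smooth) P hPb (schLocal_of_smLocalST hP)
      (fun _ _ _ hX hY hZ a b ha hb => postcomp_of_smLocalST hP hX hY hZ a b ha hb) _ y h1 hys
  exact DCN.repWith_of_iso _ α h2

/-- the chart form gives a chart square -/
theorem locQ_of_chart_abs {P : MorphismProperty (Sp S)} (hP : IsSmoothLocalST P)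
    (hPb : BC P) {𝒳 𝒴 : AlgSt.Cat S} (hX : FibCat.IsFibGrpd 𝒳.p)
    (h𝒴 : AlgSt.IsAlgStack Scheme.fppfPrecoverage 𝒴) (f : 𝒳 ⥤ᵇ 𝒴)
    {W : Over S} (q : FibCat.overCat W ⥤ᵇ 𝒳)
    (hqs : AlgSt.RepByAlgSpWith (LocP @Smooth) q) (hqj : AlgSt.RepByAlgSpWith IsSurjectiveMor q)
    (h : AlgSt.RepByAlgSpWith P (BasedFunctor.comp q f)) : AlgSt.LocQ P f := by
  have hY := h𝒴.isStack.1
  obtain ⟨V, v, hvs, hvj⟩ := h𝒴.atlas
  obtain ⟨W', a, b, ha, haj, hb, ⟨i⟩⟩ := exists_bridge_abs hY h𝒴.diag (BasedFunctor.comp q f) v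
  have hW'f : FibCat.IsFibGrpd (FibCat.overCat W').p := FG.isFibGrpd_overForget W'
  have hasm : Smooth a.left := ha @Smooth (fun _ _ f hf => by have := hf; infer_instance)
    AFP.sm_bc AFP.sm_cp hvs
  have hasurj := haj hvj
  have ha0 : AlgSt.RepByAlgSpWith (LocP @Smooth) (AlgSt.overMap a) :=
    CT.repWith_overMap _ AFP.sm_bc a
      (Groth.Agent.Lib.Helper23.AlgSpMor.locP_yon_map_of
        Groth.Agent.Lib.Helper30.EtLocalInst.etLocal_smooth a hasm)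
  have ha3 : AlgSt.RepByAlgSpWith IsSurjectiveMor (AlgSt.overMap a) :=
    CT.repWith_overMap _ DL.surj_bc a (CT.isSurjectiveMor_yon_map a hasurj)
  refine ⟨W', V, BasedFunctor.comp (AlgSt.overMap a) q, v, b, i, ?_, ?_, hvs,
    hb P hPb (fun _ _ _ hX hY hZ f g hf hg => hP.precomp hX hY hZ f g hf hg) h⟩
  · exact repWith_comp_of_schLocal' hW'f hX _ AFP.sm_bc AFP.sm_cp CT.sm_schLocal _ q ha0 hqs
  · exact repWith_comp_of_schLocal' hW'f hX _ DL.surj_bc DL.surj_cp CT.surj_schLocal _ q ha3 hqj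

/-- **S13039**: base change -/
theorem locQ_fpFst_abs {P : MorphismProperty (Sp S)} (hP : IsSmoothLocalST P) (hPb : BC P)
    {𝒳 𝒴 𝒴' : AlgSt.Cat S}
    (h𝒳 : AlgSt.IsAlgStack Scheme.fppfPrecoverage 𝒳)
    (h𝒴 : AlgSt.IsAlgStack Scheme.fppfPrecoverage 𝒴)
    (h𝒴' : AlgSt.IsAlgStack Scheme.fppfPrecoverage 𝒴') (f : 𝒳 ⥤ᵇ 𝒴) (g : 𝒴' ⥤ᵇ 𝒴)
    (h : AlgSt.LocQ P f) : AlgSt.LocQ P (FibCat.fpFst g f) := by
  have hX := h𝒳.isStack.1
  have hY := h𝒴.isStack.1
  have hY' := h𝒴'.isStack.1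
  obtain ⟨U, x, hxs, hxj, hxf⟩ := exists_chart_of_locQ_abs hP hPb hY f h
  have hUf : FibCat.IsFibGrpd (FibCat.overCat U).p := FG.isFibGrpd_overForget U
  have h1 : AlgSt.RepByAlgSpWith P (FibCat.fpFst g (BasedFunctor.comp x f)) :=
    AB.repWith_fpFst P (BasedFunctor.comp x f) g hxf
  let τ : FibCat.fp g (BasedFunctor.comp x f) ⥤ᵇ FibCat.fp g f := PSR.toInner g x f
  have hτ : ∀ (P' : MorphismProperty (AlgSp.Sp S)), AlgSt.RepByAlgSpWith P' x →
      AlgSt.RepByAlgSpWith P' τ := fun P' h' => repWith_toInner P' g x f h'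
  have hfp : AlgSt.IsAlgStack Scheme.fppfPrecoverage (FibCat.fp g (BasedFunctor.comp x f)) :=
    AFP.isAlgStack_fp h𝒴.isStack h𝒴.diag h𝒴' (SPS.isAlgStack_overCat U) g (BasedFunctor.comp x f)
  have hfpf : FibCat.IsFibGrpd (FibCat.fp g f).p := SP.isFibGrpd_fp _ _ hY' hX hY
  obtain ⟨T, t, hts, htj⟩ := hfp.atlas
  have hTf : FibCat.IsFibGrpd (FibCat.overCat T).p := FG.isFibGrpd_overForget T
  have e1 : BasedFunctor.comp τ (FibCat.fpFst g f) = FibCat.fpFst g (BasedFunctor.comp x f) := rfl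
  have h2 : AlgSt.RepByAlgSpWith P
      (BasedFunctor.comp t (FibCat.fpFst g (BasedFunctor.comp x f))) :=
    repWith_comp_mixed hTf hY' (LocP @Smooth) P P AFP.sm_bc CT.sm_schLocal
      (fun _ _ _ hX hY hZ a b ha hb => hP.precomp hX hY hZ a b ha hb) t _ hts h1
  refine locQ_of_chart_abs hP hPb hfpf h𝒴' (FibCat.fpFst g f) (BasedFunctor.comp t τ) ?_ ?_ ?_
  · exact repWith_comp_of_schLocal' hTf hfpf _ AFP.sm_bc AFP.sm_cp CT.sm_schLocal t τ hts
      (hτ _ hxs)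
  · exact repWith_comp_of_schLocal' hTf hfpf _ DL.surj_bc DL.surj_cp CT.surj_schLocal t τ htj
      (hτ _ hxj)
  · exact h2

/-- **S12993** -/
theorem locQ_iff_repWith_abs {P : MorphismProperty (Sp S)} (hP : IsSmoothLocalST P) (hPb : BC P)
    {𝒳 𝒴 : AlgSt.Cat S}
    (h𝒳 : AlgSt.IsAlgStack Scheme.fppfPrecoverage 𝒳)
    (h𝒴 : AlgSt.IsAlgStack Scheme.fppfPrecoverage 𝒴) (f : 𝒳 ⥤ᵇ 𝒴) (hf : AlgSt.RepByAlgSp1 f) :
    AlgSt.LocQ P f ↔ AlgSt.RepByAlgSpWith P f := by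
  have hX := h𝒳.isStack.1
  have hY := h𝒴.isStack.1
  constructor
  · intro h
    obtain ⟨U, x, hxs, hxj, hxf⟩ := exists_chart_of_locQ_abs hP hPb hY f h
    have hUf : FibCat.IsFibGrpd (FibCat.overCat U).p := FG.isFibGrpd_overForget U
    exact repWith_of_precomp_smsurj hUf hY P hPb
      (fun _ _ _ hX hY hZ m b hm hms h => src_of_smLocalST hP hX hY hZ m b hm hms h)
      x f hxs hxj hf hxf
  · intro h
    obtain ⟨U, x, hxs, hxj⟩ := h𝒳.atlas
    have hUf : FibCat.IsFibGrpd (FibCat.overCat U).p := FG.isFibGrpd_overForget U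
    refine locQ_of_chart_abs hP hPb hX h𝒴 f x hxs hxj ?_
    exact repWith_comp_mixed hUf hY (LocP @Smooth) P P AFP.sm_bc CT.sm_schLocal
      (fun _ _ _ hX hY hZ a b ha hb => hP.precomp hX hY hZ a b ha hb) x f hxs h

end Groth.Agent.Lib.Helper17.LQT
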