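import Groth.Agent.Lib.Helper17.LocQTools17
import Groth.Agent.Lib.Helper17.FppfDescentFam

set_option autoImplicit false
set_option backward.isDefEq.respectTransparency false
set_option backward.isDefEq.respectTransparency.types false
universe u

namespace Groth.Agent.Lib.Helper17.LQT

open CategoryTheory CategoryTheory.Limits AlgebraicGeometry Opposite AlgSp FibCat Stk AlgSt
open Groth.Agent.Lib.Helper17 Groth.Agent.Lib.Helper17.FP Groth.Agent.Lib.Helper17.EO
  Groth.Agent.Lib.Helper17.PD Groth.Agent.Lib.Helper17.AT Groth.Agent.Lib.Helper17.AB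
  Groth.Agent.Lib.Helper17.AOS Groth.Agent.Lib.Helper17.ACP Groth.Agent.Lib.Helper17.PTS
open Groth.Agent.Lib.Helper46 Groth.Agent.Lib.Helper46.LocPChart

variable {S : Scheme.{u}}

/-- **base change of a chart square along a smooth chart of the target** (no base change
hypothesis on `P` beyond smooth locality) -/
theorem exists_chart_fpFst_of_locQ {P : MorphismProperty (Sp S)} (hP : IsSmoothLocalST P)
    {𝒳 𝒴 : AlgSt.Cat S} (hX : FibCat.IsFibGrpd 𝒳.p) (hY : FibCat.IsFibGrpd 𝒴.p)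
    (f : 𝒳 ⥤ᵇ 𝒴) (hf : AlgSt.LocQ P f)
    {V : Over S} (y : FibCat.overCat V ⥤ᵇ 𝒴) (hys : AlgSt.RepByAlgSpWith (LocP @Smooth) y) :
    ∃ (T : Over S) (ψ : FibCat.overCat T ⥤ᵇ FibCat.fp y f),
      AlgSt.RepByAlgSpWith (LocP @Smooth) ψ ∧ AlgSt.RepByAlgSpWith IsSurjectiveMor ψ ∧
      P ((yon S).map (Groth.Agent.S6443.fOf (BasedFunctor.comp ψ (FibCat.fpFst y f)))) := by
  obtain ⟨U₀, V₀, x₀, y₀, h₀, α₀, hx₀s, hx₀j, hy₀s, hh₀⟩ := hf
  obtain ⟨R, e, he, hb₁⟩ := hy₀s V y
  have he' : FibCat.IsEquivOver (BasedFunctor.comp e (SW.swap y y₀)) :=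
    isEquivOver_comp _ _ he (SW.swap_isEquivOver y y₀)
  have e' : BasedFunctor.comp (BasedFunctor.comp e (SW.swap y y₀)) (FibCat.fpFst y₀ y) =
      BasedFunctor.comp e (FibCat.fpSnd y y₀) := DR.basedFunctor_ext rfl
  have hb₂ := DL2.transport _ AFP.sm_bc y hys V₀ y₀ R _ he'
  rw [e'] at hb₂
  obtain ⟨hpb, hpres⟩ := Groth.Agent.S9875.result S
  let UU : AlgSp.Space S := (AlgSp.ofScheme S).obj U₀
  let YY : AlgSp.Space S := (AlgSp.ofScheme S).obj V₀
  let a' : UU ⟶ YY := ObjectProperty.homMk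
    (spMapOfOver (BasedFunctor.comp (toOverCat U₀) (AlgSt.overMap h₀)))
  let c' : R ⟶ YY := ObjectProperty.homMk (spMapOfOver (BasedFunctor.comp e (FibCat.fpSnd y y₀)))
  have sq0 : IsPullback (pullback.fst a' c') (pullback.snd a' c') a' c' :=
    IsPullback.of_hasPullback a' c'
  have sq1 : IsPullback (pullback.fst a' c').hom (pullback.snd a' c').hom
      (spMapOfOver (BasedFunctor.comp (toOverCat U₀) (AlgSt.overMap h₀)))
      (spMapOfOver (BasedFunctor.comp e (FibCat.fpSnd y y₀))) :=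
    sq0.map (ObjectProperty.ι (AlgSp.IsAlgSpace (S := S)))
  have sq2 : IsPullback (pullback.fst a' c').hom.hom (pullback.snd a' c').hom.hom
      (spMapOfOver (BasedFunctor.comp (toOverCat U₀) (AlgSt.overMap h₀))).hom
      (spMapOfOver (BasedFunctor.comp e (FibCat.fpSnd y y₀))).hom :=
    sq1.map (sheafToPresheaf (AlgSp.J S) (Type (u + 1)))
  have hPa' : P (spMapOfOver (BasedFunctor.comp (toOverCat U₀) (AlgSt.overMap h₀))) := by
    rw [BRG.spMapOfOver_overMap]
    exact hh₀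
  have hp2 : P (pullback.snd a' c').hom :=
    hP.baseChange (IsAlgSpace.yon_obj U₀) (IsAlgSpace.yon_obj V₀) (pullback a' c').property
      R.property _ _ _ _ sq1 hb₂ hPa'
  have hp2b : P ((pullback.snd a' c').hom ≫
      spMapOfOver (BasedFunctor.comp e (FibCat.fpFst y y₀))) :=
    postcomp_of_smLocalST hP (pullback a' c').property R.property (IsAlgSpace.yon_obj V) _ _
      hp2 hb₁
  -- the functor from the pullback to the base change
  have comm := PP.comm_of_isPullback sq2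
  have hE := PF.E_isEquivOver _ _ _ _ comm (PP.inj_of_isPullback sq2) (PP.surj_of_isPullback sq2)
  have hKK := FD.KK_isEquivOver (AlgSt.overMap h₀) (FibCat.fpSnd y y₀) (toOverCat U₀) e
    (AD.toOverCat_isEquivOver U₀) he
  have hps := FI.ps_isEquivOver y y₀ (AlgSt.overMap h₀)
  have hnat : ∀ {x x₁ : (FibCat.overCat U₀).obj} (β : x ⟶ x₁),
      (BasedFunctor.comp (AlgSt.overMap h₀) y₀).map β ≫ (compApp α₀ x₁).symm.hom =
        (compApp α₀ x).symm.hom ≫ (BasedFunctor.comp x₀ f).map β := by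
    intro x x₁ β
    have n := compApp_nat α₀ β
    change _ ≫ (compApp α₀ x₁).inv = (compApp α₀ x).inv ≫ _
    rw [Iso.comp_inv_eq, Category.assoc, Iso.eq_inv_comp]
    exact n.symm
  have hlift : ∀ x' : (FibCat.overCat U₀).obj,
      𝒴.p.IsHomLift (𝟙 ((FibCat.overCat U₀).p.obj x')) (compApp α₀ x').symm.hom := by
    intro x'
    have hl := compApp_lift α₀ x'
    exact IsHomLift.lift_id_inv 𝒴.p _ (compApp α₀ x')
  let sgm : FibCat.fp y (BasedFunctor.comp (AlgSt.overMap h₀) y₀) ⥤ᵇ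
      FibCat.fp y (BasedFunctor.comp x₀ f) :=
    FI.sq (BasedFunctor.id _) (BasedFunctor.id _) (BasedFunctor.comp x₀ f)
      (BasedFunctor.comp (AlgSt.overMap h₀) y₀) y (fun x' => (compApp α₀ x').symm) hnat hlift
  have hsgm : FibCat.IsEquivOver sgm :=
    FI.sq_isEquivOver (BasedFunctor.id _) (BasedFunctor.id _) (BasedFunctor.comp x₀ f)
      (BasedFunctor.comp (AlgSt.overMap h₀) y₀) y (fun x' => (compApp α₀ x').symm) hnat hlift
      (isEquivOver_id _) (isEquivOver_id _)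
  let Ξ : ofSp (pullback a' c').obj ⥤ᵇ FibCat.fp y (BasedFunctor.comp x₀ f) :=
    BasedFunctor.comp (BasedFunctor.comp (BasedFunctor.comp (PF.E _ _ _ _ comm)
      (FD.KK (AlgSt.overMap h₀) (FibCat.fpSnd y y₀) (toOverCat U₀) e))
      (FI.ps y y₀ (AlgSt.overMap h₀))) sgm
  have hΞ : FibCat.IsEquivOver Ξ :=
    isEquivOver_comp _ _ (isEquivOver_comp _ _ (isEquivOver_comp _ _ hE hKK) hps) hsgm
  let Ψ : ofSp (pullback a' c').obj ⥤ᵇ FibCat.fp y f :=
    BasedFunctor.comp Ξ (PSR.toInner y x₀ f)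
  have hΨ : ∀ (P' : MorphismProperty (AlgSp.Sp S)), AlgSt.RepByAlgSpWith P' x₀ →
      AlgSt.RepByAlgSpWith P' Ψ := fun P' h' =>
    FD.repWith_precomp_equiv P' Ξ hΞ _ (repWith_toInner P' y x₀ f h')
  have hΨfst : BasedFunctor.comp Ψ (FibCat.fpFst y f) =
      BasedFunctor.comp (ofSpMap (pullback.snd a' c').hom)
        (BasedFunctor.comp e (FibCat.fpFst y y₀)) := DR.basedFunctor_ext rfl
  -- an etale atlas of the pullback
  obtain ⟨T, c, hce, hcs⟩ := (pullback a' c').property.atlas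
  have hcet := ACov.isEtaleMor_of_repWith c hce
  have hcsm : LocP @Smooth c :=
    ACov.locP_of_isEtaleMor (fun _ _ f hf => by have := hf; infer_instance) c hcet
  have hcsurj : IsSurjectiveMor c := ACov.points_map_surjective c hcs
  have hTf : FibCat.IsFibGrpd (FibCat.overCat T).p := FG.isFibGrpd_overForget T
  have hfpf : FibCat.IsFibGrpd (FibCat.fp y f).p :=
    SP.isFibGrpd_fp y f (FG.isFibGrpd_overForget V) hX hY
  refine ⟨T, BasedFunctor.comp (chartOf (pullback a' c').obj c) Ψ, ?_, ?_, ?_⟩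
  · exact repWith_comp_of_schLocal' hTf hfpf _ AFP.sm_bc AFP.sm_cp CT.sm_schLocal _ Ψ
      (repWith_chartOf _ AFP.sm_bc (pullback a' c') c hcsm) (hΨ _ hx₀s)
  · exact repWith_comp_of_schLocal' hTf hfpf _ DL.surj_bc DL.surj_cp CT.surj_schLocal _ Ψ
      (repWith_chartOf _ DL.surj_bc (pullback a' c') c hcsurj) (hΨ _ hx₀j)
  · rw [← BRG.spMapOfOver_toOverCat]
    have e1 : BasedFunctor.comp (toOverCat T)
        (BasedFunctor.comp (BasedFunctor.comp (chartOf (pullback a' c').obj c) Ψ)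
          (FibCat.fpFst y f)) =
        BasedFunctor.comp (ofSpMap c) (BasedFunctor.comp (ofSpMap (pullback.snd a' c').hom)
          (BasedFunctor.comp e (FibCat.fpFst y y₀))) := by
      change BasedFunctor.comp (BasedFunctor.comp (BasedFunctor.comp (toOverCat T) (ofOverCat T))
        (ofSpMap c)) (BasedFunctor.comp Ψ (FibCat.fpFst y f)) = _
      rw [AD.toOverCat_ofOverCat, hΨfst]
      rfl
    rw [e1, BRG.spMapOfOver_ofSpMap, BRG.spMapOfOver_ofSpMap]
    exact hP.precomp (IsAlgSpace.yon_obj T) (pullback a' c').property (IsAlgSpace.yon_obj V) c _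
      hcsm hp2b


/-- postcomposition with the symmetry of the 2-fibre product keeps `RepByAlgSpWith` -/
theorem repWith_comp_swap (P' : MorphismProperty (AlgSp.Sp S)) {𝒲 𝒳 𝒴 𝒵 : AlgSt.Cat S}
    (f : 𝒳 ⥤ᵇ 𝒵) (g : 𝒴 ⥤ᵇ 𝒵) (φ : 𝒲 ⥤ᵇ FibCat.fp f g) (h : AlgSt.RepByAlgSpWith P' φ) :
    AlgSt.RepByAlgSpWith P' (BasedFunctor.comp φ (SW.swap f g)) := by
  refine repWith_of_square_fwd P' φ _ (BasedFunctor.id _) (SW.swap g f) (isEquivOver_id _)
    (SW.swap_isEquivOver g f) (fun x' => Iso.refl _) ?_ ?_ h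
  · intro x x₁ β
    exact (Category.comp_id _).trans (Category.id_comp _).symm
  · intro x'
    exact IsHomLift.id (φ.w_obj x')

/-- **S12990**, forward direction: chart independence -/
theorem prop_of_locQ_of_smooth_chart {P : MorphismProperty (Sp S)} (hP : IsSmoothLocalST P)
    {𝒳 𝒴 : AlgSt.Cat S}
    (h𝒳 : AlgSt.IsAlgStack Scheme.fppfPrecoverage 𝒳)
    (h𝒴 : AlgSt.IsAlgStack Scheme.fppfPrecoverage 𝒴) (f : 𝒳 ⥤ᵇ 𝒴) (hf : AlgSt.LocQ P f)
    {U V : Over S} (x : FibCat.overCat U ⥤ᵇ 𝒳) (y : FibCat.overCat V ⥤ᵇ 𝒴) (h : U ⟶ V)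
    (α : BasedFunctor.comp x f ≅ BasedFunctor.comp (AlgSt.overMap h) y)
    (hys : AlgSt.RepByAlgSpWith (AlgSp.LocP @Smooth) y)
    (hφ : AlgSt.RepByAlgSpWith (AlgSp.LocP @Smooth) (FibCat.fpLift x (AlgSt.overMap h) α)) :
    P ((AlgSp.yon S).map h) := by
  have hX := h𝒳.isStack.1
  have hY := h𝒴.isStack.1
  obtain ⟨T, ψ, hψs, hψj, hPk⟩ := exists_chart_fpFst_of_locQ hP hX hY f hf y hys
  have hfpA : AlgSt.IsAlgStack Scheme.fppfPrecoverage (FibCat.fp y f) :=
    AFP.isAlgStack_fp h𝒴.isStack h𝒴.diag (SPS.isAlgStack_overCat V) h𝒳 y f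
  let φ' : FibCat.overCat U ⥤ᵇ FibCat.fp y f :=
    BasedFunctor.comp (FibCat.fpLift x (AlgSt.overMap h) α) (SW.swap f y)
  have hφ' : AlgSt.RepByAlgSpWith (AlgSp.LocP @Smooth) φ' := repWith_comp_swap _ f y _ hφ
  obtain ⟨W, a, b, ha, haj, hb, ⟨i⟩⟩ := exists_bridge_abs hfpA.isStack.1 hfpA.diag φ' ψ
  have hasm : Smooth a.left := ha @Smooth (fun _ _ f hf => by have := hf; infer_instance)
    AFP.sm_bc AFP.sm_cp hψs
  have hasurj := haj hψj
  have hbsm : LocP @Smooth ((yon S).map b) :=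
    hb (LocP @Smooth) AFP.sm_bc (fun _ _ _ hX hY hZ f g hf hg => AFP.sm_cp hX hY hZ f g hf hg) hφ'
  -- the two scheme maps agree
  let k : T ⟶ V := Groth.Agent.S6443.fOf (BasedFunctor.comp ψ (FibCat.fpFst y f))
  have ik : BasedFunctor.comp ψ (FibCat.fpFst y f) ≅ AlgSt.overMap k :=
    Groth.Agent.S6443.isoOverMap _
  have eφ : BasedFunctor.comp φ' (FibCat.fpFst y f) = AlgSt.overMap h := DR.basedFunctor_ext rfl
  have heq : a ≫ h = b ≫ k := by
    apply eq_of_overMap_iso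
    let A' : (FibCat.overCat W : AlgSt.Cat S) ⟶ FibCat.overCat U := AlgSt.overMap a
    let B' : (FibCat.overCat W : AlgSt.Cat S) ⟶ FibCat.overCat T := AlgSt.overMap b
    let G' : (FibCat.fp y f : AlgSt.Cat S) ⟶ FibCat.overCat V := FibCat.fpFst y f
    have j2 : BasedFunctor.comp (AlgSt.overMap a) (BasedFunctor.comp φ' (FibCat.fpFst y f)) ≅
        BasedFunctor.comp (AlgSt.overMap b) (BasedFunctor.comp ψ (FibCat.fpFst y f)) :=
      Bicategory.whiskerRightIso
        (f := (BasedFunctor.comp (AlgSt.overMap a) φ' :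
          (FibCat.overCat W : AlgSt.Cat S) ⟶ FibCat.fp y f))
        (g := (BasedFunctor.comp (AlgSt.overMap b) ψ :
          (FibCat.overCat W : AlgSt.Cat S) ⟶ FibCat.fp y f)) i G'
    have j3 : BasedFunctor.comp (AlgSt.overMap b) (BasedFunctor.comp ψ (FibCat.fpFst y f)) ≅
        BasedFunctor.comp (AlgSt.overMap b) (AlgSt.overMap k) :=
      Bicategory.whiskerLeftIso B' ik
    have e1 : AlgSt.overMap (a ≫ h) = BasedFunctor.comp (AlgSt.overMap a) (AlgSt.overMap h) :=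
      DR.basedFunctor_ext (Over.mapComp_eq a h)
    have e2 : AlgSt.overMap (b ≫ k) = BasedFunctor.comp (AlgSt.overMap b) (AlgSt.overMap k) :=
      DR.basedFunctor_ext (Over.mapComp_eq b k)
    rw [e1, e2, ← eφ]
    exact j2 ≪≫ j3
  have h1 : P ((yon S).map b ≫ (yon S).map k) :=
    hP.precomp (IsAlgSpace.yon_obj W) (IsAlgSpace.yon_obj T) (IsAlgSpace.yon_obj V) _ _ hbsm hPk
  rw [← Functor.map_comp, ← heq, Functor.map_comp] at h1
  refine src_of_smLocalST hP (IsAlgSpace.yon_obj W) (IsAlgSpace.yon_obj U) (IsAlgSpace.yon_obj V)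
    ((yon S).map a) ((yon S).map h) ?_ ?_ h1
  · exact Groth.Agent.Lib.Helper23.AlgSpMor.locP_yon_map_of
      Groth.Agent.Lib.Helper30.EtLocalInst.etLocal_smooth a hasm
  · exact CT.isSurjectiveMor_yon_map a hasurj


/-- **S12990**, backward direction: the canonical chart square of a morphism of algebraic stacks -/
theorem locQ_of_forall_smooth_chart {P : MorphismProperty (Sp S)}
    {𝒳 𝒴 : AlgSt.Cat S}
    (h𝒳 : AlgSt.IsAlgStack Scheme.fppfPrecoverage 𝒳)
    (h𝒴 : AlgSt.IsAlgStack Scheme.fppfPrecoverage 𝒴) (f : 𝒳 ⥤ᵇ 𝒴)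
    (H : ∀ (U V : Over S) (x : FibCat.overCat U ⥤ᵇ 𝒳) (y : FibCat.overCat V ⥤ᵇ 𝒴) (h : U ⟶ V)
      (α : BasedFunctor.comp x f ≅ BasedFunctor.comp (AlgSt.overMap h) y),
      AlgSt.RepByAlgSpWith (AlgSp.LocP @Smooth) x → AlgSt.RepByAlgSpWith (AlgSp.LocP @Smooth) y →
      AlgSt.RepByAlgSpWith (AlgSp.LocP @Smooth) (FibCat.fpLift x (AlgSt.overMap h) α) →
      P ((AlgSp.yon S).map h)) :
    AlgSt.LocQ P f := by
  have hX := h𝒳.isStack.1
  have hY := h𝒴.isStack.1
  obtain ⟨V, v, hvs, hvj⟩ := h𝒴.atlas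
  have hfp : AlgSt.IsAlgStack Scheme.fppfPrecoverage (FibCat.fp f v) :=
    AFP.isAlgStack_fp h𝒴.isStack h𝒴.diag h𝒳 (SPS.isAlgStack_overCat V) f v
  obtain ⟨U, u, hus, huj⟩ := hfp.atlas
  have hUf : FibCat.IsFibGrpd (FibCat.overCat U).p := FG.isFibGrpd_overForget U
  let x : FibCat.overCat U ⥤ᵇ 𝒳 := BasedFunctor.comp u (FibCat.fpFst f v)
  have hxs : AlgSt.RepByAlgSpWith (LocP @Smooth) x :=
    repWith_comp_of_schLocal' hUf hX _ AFP.sm_bc AFP.sm_cp CT.sm_schLocal u _ hus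
      (repWith_fpFst _ v f hvs)
  have hxj : AlgSt.RepByAlgSpWith IsSurjectiveMor x :=
    repWith_comp_of_schLocal' hUf hX _ DL.surj_bc DL.surj_cp CT.surj_schLocal u _ huj
      (repWith_fpFst _ v f hvj)
  let h : U ⟶ V := Groth.Agent.S6443.fOf (BasedFunctor.comp u (FibCat.fpSnd f v))
  have ih : BasedFunctor.comp u (FibCat.fpSnd f v) ≅ AlgSt.overMap h :=
    Groth.Agent.S6443.isoOverMap _
  let α : BasedFunctor.comp x f ≅ BasedFunctor.comp (AlgSt.overMap h) v :=
    BasedNatIso.mkNatIso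
      (NatIso.ofComponents
        (fun x' => (u.obj x').obj.iso ≪≫ v.toFunctor.mapIso (compApp ih x'))
        (fun {x' x₁} β => by
          have h1 := (u.map β).hom.w
          have h2 := compApp_nat ih β
          change f.map (u.map β).hom.fst ≫ (u.obj x₁).obj.iso.hom ≫ v.map (compApp ih x₁).hom =
            ((u.obj x').obj.iso.hom ≫ v.map (compApp ih x').hom) ≫ v.map ((AlgSt.overMap h).map β)
          rw [← Category.assoc, h1, Category.assoc, Category.assoc, ← v.map_comp, ← v.map_comp]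
          congr 2))
      (fun x' => by
        change 𝒴.p.IsHomLift _ ((u.obj x').obj.iso.hom ≫ v.map (compApp ih x').hom)
        have h1 := FP.iso_isHomLift (u.obj x')
        have h2 := compApp_lift ih x'
        have h3 : 𝒴.p.IsHomLift (𝟙 ((FibCat.overCat U).p.obj x')) (v.map (compApp ih x').hom) :=
          map_lift'' v h2
        have e1 : 𝒳.p.obj (u.obj x').obj.fst = (FibCat.overCat U).p.obj x' := u.w_obj x'
        rw [e1] at h1
        exact IsHomLift.comp_of_lift_id 𝒴.p _ _ _)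
  have hφ : AlgSt.RepByAlgSpWith (LocP @Smooth) (FibCat.fpLift x (AlgSt.overMap h) α) := by
    refine repWith_of_square_fwd _ u _ (BasedFunctor.id _) (BasedFunctor.id _)
      (isEquivOver_id _) (isEquivOver_id _)
      (fun x' => mkIso (z := (FibCat.fpLift x (AlgSt.overMap h) α).obj x') (z' := u.obj x')
        (Iso.refl _) (compApp ih x').symm ?_) ?_ ?_ hus
    · change f.map (𝟙 _) ≫ (u.obj x').obj.iso.hom =
        ((u.obj x').obj.iso.hom ≫ v.map (compApp ih x').hom) ≫ v.map (compApp ih x').inv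
      rw [f.map_id, Category.id_comp, Category.assoc, ← v.map_comp, Iso.hom_inv_id, v.map_id,
        Category.comp_id]
    · intro x' x₁ β
      apply hom_ext
      · exact (Category.comp_id _).trans (Category.id_comp _).symm
      · have h2 := compApp_nat ih β
        change (AlgSt.overMap h).map β ≫ (compApp ih x₁).inv =
          (compApp ih x').inv ≫ (u.map β).hom.snd
        rw [Iso.comp_inv_eq, Category.assoc, Iso.eq_inv_comp]
        exact h2.symm
    · intro x'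
      rw [isHomLift_iff_fst]
      exact IsHomLift.id (x.w_obj x')
  exact ⟨U, V, x, v, h, α, hxs, hxj, hvs, H U V x v h α hxs hvs hφ⟩

end Groth.Agent.Lib.Helper17.LQT
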