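import Groth.Agent.Lib.Helper17.LocQTools18
import Groth.Agent.Lib.Helper17.LocQTools8

set_option autoImplicit false
set_option backward.isDefEq.respectTransparency false
set_option backward.isDefEq.respectTransparency.types false
universe u

namespace Groth.Agent.Lib.Helper17.LQT

open CategoryTheory CategoryTheory.Limits AlgebraicGeometry Opposite AlgSp FibCat Stk AlgSt
open Groth.Agent.Lib.Helper17 Groth.Agent.Lib.Helper17.FP Groth.Agent.Lib.Helper17.EO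
  Groth.Agent.Lib.Helper17.PD Groth.Agent.Lib.Helper17.AT Groth.Agent.Lib.Helper17.AB
  Groth.Agent.Lib.Helper17.AOS Groth.Agent.Lib.Helper17.ACP Groth.Agent.Lib.Helper17.PTS
open Groth.Agent.Lib.Helper46 Groth.Agent.Lib.Helper46.LocPChart

variable {S : Scheme.{u}}

/-- chart independence, with the chart of the base change given in the orientation `V ×_𝒴 𝒳` -/
theorem prop_of_locQ_of_smooth_chart' {P : MorphismProperty (Sp S)} (hP : IsSmoothLocalST P)
    {𝒳 𝒴 : AlgSt.Cat S}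
    (h𝒳 : AlgSt.IsAlgStack Scheme.fppfPrecoverage 𝒳)
    (h𝒴 : AlgSt.IsAlgStack Scheme.fppfPrecoverage 𝒴) (f : 𝒳 ⥤ᵇ 𝒴) (hf : AlgSt.LocQ P f)
    {U V : Over S} (y : FibCat.overCat V ⥤ᵇ 𝒴)
    (hys : AlgSt.RepByAlgSpWith (AlgSp.LocP @Smooth) y)
    (φ' : FibCat.overCat U ⥤ᵇ FibCat.fp y f)
    (hφ' : AlgSt.RepByAlgSpWith (AlgSp.LocP @Smooth) φ') (h : U ⟶ V)
    (eφ : BasedFunctor.comp φ' (FibCat.fpFst y f) ≅ AlgSt.overMap h) :
    P ((AlgSp.yon S).map h) := by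
  have hX := h𝒳.isStack.1
  have hY := h𝒴.isStack.1
  obtain ⟨T, ψ, hψs, hψj, hPk⟩ := exists_chart_fpFst_of_locQ hP hX hY f hf y hys
  have hfpA : AlgSt.IsAlgStack Scheme.fppfPrecoverage (FibCat.fp y f) :=
    AFP.isAlgStack_fp h𝒴.isStack h𝒴.diag (SPS.isAlgStack_overCat V) h𝒳 y f
  obtain ⟨W, a, b, ha, haj, hb, ⟨i⟩⟩ := exists_bridge_abs hfpA.isStack.1 hfpA.diag φ' ψ
  have hasm : Smooth a.left := ha @Smooth (fun _ _ f hf => by have := hf; infer_instance)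
    AFP.sm_bc AFP.sm_cp hψs
  have hasurj := haj hψj
  have hbsm : LocP @Smooth ((yon S).map b) :=
    hb (LocP @Smooth) AFP.sm_bc (fun _ _ _ hX hY hZ f g hf hg => AFP.sm_cp hX hY hZ f g hf hg) hφ'
  let k : T ⟶ V := Groth.Agent.S6443.fOf (BasedFunctor.comp ψ (FibCat.fpFst y f))
  have ik : BasedFunctor.comp ψ (FibCat.fpFst y f) ≅ AlgSt.overMap k :=
    Groth.Agent.S6443.isoOverMap _
  have heq : a ≫ h = b ≫ k := by
    apply eq_of_overMap_iso
    let A' : (FibCat.overCat W : AlgSt.Cat S) ⟶ FibCat.overCat U := AlgSt.overMap a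
    let B' : (FibCat.overCat W : AlgSt.Cat S) ⟶ FibCat.overCat T := AlgSt.overMap b
    let G' : (FibCat.fp y f : AlgSt.Cat S) ⟶ FibCat.overCat V := FibCat.fpFst y f
    have j1 : BasedFunctor.comp (AlgSt.overMap a) (AlgSt.overMap h) ≅
        BasedFunctor.comp (AlgSt.overMap a) (BasedFunctor.comp φ' (FibCat.fpFst y f)) :=
      (Bicategory.whiskerLeftIso A' eφ).symm
    have j2 : BasedFunctor.comp (AlgSt.overMap a) (BasedFunctor.comp φ' (FibCat.fpFst y f)) ≅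
        BasedFunctor.comp (AlgSt.overMap b) (BasedFunctor.comp ψ (FibCat.fpFst y f)) :=
      Bicategory.whiskerRightIso
        (f := (BasedFunctor.comp (AlgSt.overMap a) φ' :
          (FibCat.overCat W : AlgSt.Cat S) ⟶ FibCat.fp y f))
        (g := (BasedFunctor.comp (AlgSt.overMap b) ψ :
          (FibCat.overCat W : AlgSt.Cat S) ⟶ FibCat.fp y f)) i G'
    have j3 : BasedFunctor.comp (AlgSt.overMap b) (BasedFunctor.comp ψ (FibCat.fpFst y f)) ≅
        BasedFunctor.comp (AlgSt.overMap b) (AlgSt.overMap k) :=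
      Bicategory.whiskerLeftIso B' ik
    have e1 : AlgSt.overMap (a ≫ h) = BasedFunctor.comp (AlgSt.overMap a) (AlgSt.overMap h) :=
      DR.basedFunctor_ext (Over.mapComp_eq a h)
    have e2 : AlgSt.overMap (b ≫ k) = BasedFunctor.comp (AlgSt.overMap b) (AlgSt.overMap k) :=
      DR.basedFunctor_ext (Over.mapComp_eq b k)
    rw [e1, e2]
    exact j1 ≪≫ j2 ≪≫ j3
  have h1 : P ((yon S).map b ≫ (yon S).map k) :=
    hP.precomp (IsAlgSpace.yon_obj W) (IsAlgSpace.yon_obj T) (IsAlgSpace.yon_obj V) _ _ hbsm hPk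
  rw [← Functor.map_comp, ← heq, Functor.map_comp] at h1
  refine src_of_smLocalST hP (IsAlgSpace.yon_obj W) (IsAlgSpace.yon_obj U) (IsAlgSpace.yon_obj V)
    ((yon S).map a) ((yon S).map h) ?_ ?_ h1
  · exact Groth.Agent.Lib.Helper23.AlgSpMor.locP_yon_map_of
      Groth.Agent.Lib.Helper30.EtLocalInst.etLocal_smooth a hasm
  · exact CT.isSurjectiveMor_yon_map a hasurj

/-- postcomposition with an equivalence keeps `RepByAlgSpWith` -/
theorem repWith_postcomp_equiv (P' : MorphismProperty (AlgSp.Sp S)) {𝒲 𝒴 𝒴' : AlgSt.Cat S}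
    (φ : 𝒲 ⥤ᵇ 𝒴) (E : 𝒴 ⥤ᵇ 𝒴') (hE : FibCat.IsEquivOver E)
    (h : AlgSt.RepByAlgSpWith P' φ) : AlgSt.RepByAlgSpWith P' (BasedFunctor.comp φ E) := by
  obtain ⟨E', ⟨un⟩, ⟨cu⟩⟩ := id hE
  have hE' : FibCat.IsEquivOver E' := isEquivOver_symm E E' un cu
  refine repWith_of_square_fwd P' φ _ (BasedFunctor.id _) E' (isEquivOver_id _) hE'
    (fun x' => compApp un (φ.obj x')) ?_ ?_ h
  · intro x x₁ β
    exact compApp_nat un (φ.map β)
  · intro x'
    have hl := compApp_lift un (φ.obj x')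
    rw [φ.w_obj x'] at hl
    exact hl


/-- a smooth chart of the target lifts, fppf locally on the chart, to a smooth chart of a flat,
locally finitely presented, surjective cover -/
theorem exists_fppf_smooth_lift {𝒴 𝒵 : AlgSt.Cat S}
    (h𝒴 : AlgSt.IsAlgStack Scheme.fppfPrecoverage 𝒴)
    (h𝒵 : AlgSt.IsAlgStack Scheme.fppfPrecoverage 𝒵) (z : 𝒵 ⥤ᵇ 𝒴)
    (hz₁ : AlgSt.LocQ (AlgSp.LocP @Flat) z)
    (hz₂ : AlgSt.LocQ (AlgSp.LocP @LocallyOfFinitePresentation) z)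
    (hz₃ : AlgSt.IsSurjective z) {V : Over S} (y : FibCat.overCat V ⥤ᵇ 𝒴)
    (hys : AlgSt.RepByAlgSpWith (AlgSp.LocP @Smooth) y) :
    ∃ (T : Over S) (a : T ⟶ V) (w : FibCat.overCat T ⥤ᵇ 𝒵),
      Flat a.left ∧ LocallyOfFinitePresentation a.left ∧ Function.Surjective a.left ∧
      AlgSt.RepByAlgSpWith (AlgSp.LocP @Smooth) w ∧
      Nonempty (BasedFunctor.comp w z ≅ BasedFunctor.comp (AlgSt.overMap a) y) := by
  have hY := h𝒴.isStack.1
  have hZ := h𝒵.isStack.1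
  obtain ⟨W, q, hqs, hqj, hq1, hq2⟩ := exists_flat_lfp_chart h𝒵 h𝒴 z hz₁ hz₂
  obtain ⟨T, a, b, ha, -, hb, -, ⟨i⟩, hpt⟩ :=
    exists_bridge_all hY h𝒴.diag y (BasedFunctor.comp q z)
  have hTf : FibCat.IsFibGrpd (FibCat.overCat T).p := FG.isFibGrpd_overForget T
  have hbsm : Smooth b.left := hb @Smooth (fun _ _ f hf => by have := hf; infer_instance)
    AFP.sm_bc AFP.sm_cp hys
  have hb0 : AlgSt.RepByAlgSpWith (LocP @Smooth) (AlgSt.overMap b) :=
    CT.repWith_overMap _ AFP.sm_bc b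
      (Groth.Agent.Lib.Helper23.AlgSpMor.locP_yon_map_of
        Groth.Agent.Lib.Helper30.EtLocalInst.etLocal_smooth b hbsm)
  refine ⟨T, a, BasedFunctor.comp (AlgSt.overMap b) q, ?_, ?_, ?_, ?_, ⟨i.symm⟩⟩
  · exact ha @Flat (fun _ _ f hf => by have := hf; infer_instance) DL.flat_bc DL.flat_cp hq1
  · exact ha @LocallyOfFinitePresentation (fun _ _ f hf => by have := hf; infer_instance)
      DL.lfp_bc DL.lfp_cp hq2
  · intro v
    obtain ⟨ξ, hξ⟩ := hz₃ (AlgSt.Points.ofChart y v)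
    obtain ⟨w, rfl⟩ := ofChart_surjective q (isSurjective_of_repWith hZ q hqj) ξ
    obtain ⟨t, ht, -⟩ := hpt v w hξ.symm
    exact ⟨t, ht⟩
  · exact repWith_comp_of_schLocal' hTf hZ _ AFP.sm_bc AFP.sm_cp CT.sm_schLocal _ q hb0 hqs

end Groth.Agent.Lib.Helper17.LQT
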