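import Groth.Agent.Lib.Helper17.LocQTools

set_option autoImplicit false
set_option backward.isDefEq.respectTransparency false
set_option backward.isDefEq.respectTransparency.types false
universe u

namespace Groth.Agent.Lib.Helper17.LQT

open CategoryTheory CategoryTheory.Limits AlgebraicGeometry Opposite AlgSp FibCat Stk AlgSt
open Groth.Agent.Lib.Helper17 Groth.Agent.Lib.Helper17.FP Groth.Agent.Lib.Helper17.EO
  Groth.Agent.Lib.Helper17.PD Groth.Agent.Lib.Helper17.AT Groth.Agent.Lib.Helper17.AB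
  Groth.Agent.Lib.Helper17.AOS Groth.Agent.Lib.Helper17.ACP Groth.Agent.Lib.Helper17.PTS
open Groth.Agent.Lib.Helper46 Groth.Agent.Lib.Helper46.LocPChart

variable {S : Scheme.{u}}

/-- **a flat, locally finitely presented morphism of algebraic stacks (chart-square form) has a
smooth surjective chart of the source whose composite is flat and locally finitely presented** -/
theorem exists_flat_lfp_chart {𝒳 𝒴 : AlgSt.Cat S}
    (h𝒳 : AlgSt.IsAlgStack Scheme.fppfPrecoverage 𝒳)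
    (h𝒴 : AlgSt.IsAlgStack Scheme.fppfPrecoverage 𝒴) (f : 𝒳 ⥤ᵇ 𝒴)
    (h1 : AlgSt.LocQ (AlgSp.LocP @Flat) f)
    (h2 : AlgSt.LocQ (AlgSp.LocP @LocallyOfFinitePresentation) f) :
    ∃ (W : Over S) (q : FibCat.overCat W ⥤ᵇ 𝒳),
      AlgSt.RepByAlgSpWith (LocP @Smooth) q ∧ AlgSt.RepByAlgSpWith IsSurjectiveMor q ∧
      AlgSt.RepByAlgSpWith (LocP @Flat) (BasedFunctor.comp q f) ∧
      AlgSt.RepByAlgSpWith (LocP @LocallyOfFinitePresentation) (BasedFunctor.comp q f) := by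
  obtain ⟨U₁, V₁, x₁, y₁, k₁, α₁, hx₁s, hx₁j, hy₁s, hk₁⟩ := h1
  obtain ⟨U₂, V₂, x₂, y₂, k₂, α₂, hx₂s, hx₂j, hy₂s, hk₂⟩ := h2
  have hX := h𝒳.isStack.1
  have hY := h𝒴.isStack.1
  obtain ⟨W, a, b, ha, haj, hb, -, ⟨i⟩, -⟩ := exists_bridge_all hX h𝒳.diag x₁ x₂
  have hWf : FibCat.IsFibGrpd (FibCat.overCat W).p := FG.isFibGrpd_overForget W
  have hasm : Smooth a.left := ha @Smooth (fun _ _ f hf => by have := hf; infer_instance)
    AFP.sm_bc AFP.sm_cp hx₂s
  have hbsm : Smooth b.left := hb @Smooth (fun _ _ f hf => by have := hf; infer_instance)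
    AFP.sm_bc AFP.sm_cp hx₁s
  have hasurj := haj hx₂j
  have hf1 : AlgSt.RepByAlgSpWith (LocP @Flat) (BasedFunctor.comp x₁ f) :=
    repWith_comp_of_square hY @Flat (fun _ _ g hg => by have := hg; infer_instance)
      DL.flat_bc DL.flat_cp flat_schLocal x₁ y₁ k₁ f α₁ hy₁s hk₁
  have hf2 : AlgSt.RepByAlgSpWith (LocP @LocallyOfFinitePresentation) (BasedFunctor.comp x₂ f) :=
    repWith_comp_of_square hY @LocallyOfFinitePresentation
      (fun _ _ g hg => by have := hg; infer_instance)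
      DL.lfp_bc DL.lfp_cp lfp_schLocal x₂ y₂ k₂ f α₂ hy₂s hk₂
  have ha0 : AlgSt.RepByAlgSpWith (LocP @Smooth) (AlgSt.overMap a) :=
    CT.repWith_overMap _ AFP.sm_bc a
      (Groth.Agent.Lib.Helper23.AlgSpMor.locP_yon_map_of
        Groth.Agent.Lib.Helper30.EtLocalInst.etLocal_smooth a hasm)
  have ha1 : AlgSt.RepByAlgSpWith (LocP @Flat) (AlgSt.overMap a) := flat_of_smooth _ ha0
  have ha3 : AlgSt.RepByAlgSpWith IsSurjectiveMor (AlgSt.overMap a) :=
    CT.repWith_overMap _ DL.surj_bc a (CT.isSurjectiveMor_yon_map a hasurj)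
  have hb2 : AlgSt.RepByAlgSpWith (LocP @LocallyOfFinitePresentation) (AlgSt.overMap b) :=
    CT.repWith_overMap _ DL.lfp_bc b
      (Groth.Agent.Lib.Helper23.AlgSpMor.locP_yon_map_of
        Groth.Agent.Lib.Helper30.EtLocalInst.etLocal_lfp b
        (by infer_instance))
  refine ⟨W, BasedFunctor.comp (AlgSt.overMap a) x₁, ?_, ?_, ?_, ?_⟩
  · exact repWith_comp_of_schLocal' hWf hX _ AFP.sm_bc AFP.sm_cp CT.sm_schLocal _ x₁ ha0 hx₁s
  · exact repWith_comp_of_schLocal' hWf hX _ DL.surj_bc DL.surj_cp CT.surj_schLocal _ x₁ ha3 hx₁j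
  · exact repWith_comp_of_schLocal' hWf hY _ DL.flat_bc DL.flat_cp flat_schLocal
      (AlgSt.overMap a) (BasedFunctor.comp x₁ f) ha1 hf1
  · exact DCN.repWith_of_iso _ (whiskerBridge a b x₁ x₂ f i)
      (repWith_comp_of_schLocal' hWf hY _ DL.lfp_bc DL.lfp_cp lfp_schLocal _ _ hb2 hf2)

/-- **quasi-compactness of a morphism can be tested after a base change `z` such that some scheme
chart `q ⋙ z` is flat, locally finitely presented and surjective on points** -/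
theorem isQuasiCompactMor_of_fpFst_chart {𝒳 𝒴 𝒵 : AlgSt.Cat S}
    (h𝒳 : AlgSt.IsAlgStack Scheme.fppfPrecoverage 𝒳)
    (h𝒴 : AlgSt.IsAlgStack Scheme.fppfPrecoverage 𝒴) (f : 𝒳 ⥤ᵇ 𝒴) (z : 𝒵 ⥤ᵇ 𝒴)
    {W₀ : Over S} (q : FibCat.overCat W₀ ⥤ᵇ 𝒵)
    (hw₀1 : AlgSt.RepByAlgSpWith (LocP @Flat) (BasedFunctor.comp q z))
    (hw₀2 : AlgSt.RepByAlgSpWith (LocP @LocallyOfFinitePresentation) (BasedFunctor.comp q z))
    (hw₀3 : Function.Surjective (AlgSt.Points.ofChart (BasedFunctor.comp q z)))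
    (hq : AlgSt.IsQuasiCompactMor Scheme.fppfPrecoverage (FibCat.fpFst z f)) :
    AlgSt.IsQuasiCompactMor Scheme.fppfPrecoverage f := by
  intro 𝒯 h𝒯 hqc h
  have hY := h𝒴.isStack.1
  have hZ := h𝒯.isStack.1
  obtain ⟨U, u, hUaff, hus, husurj⟩ := hqc
  have hW₀f : FibCat.IsFibGrpd (FibCat.overCat W₀).p := FG.isFibGrpd_overForget W₀
  let x : FibCat.overCat U ⥤ᵇ 𝒴 := BasedFunctor.comp u h
  let w₀ : FibCat.overCat W₀ ⥤ᵇ 𝒴 := BasedFunctor.comp q z
  obtain ⟨V, a, b, ha, -, -, -, ⟨iso₀⟩, hpt⟩ := exists_bridge_all hY h𝒴.diag x w₀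
  have : Flat a.left := ha @Flat (fun _ _ f hf => by have := hf; infer_instance)
    DL.flat_bc DL.flat_cp hw₀1
  have : LocallyOfFinitePresentation a.left :=
    ha @LocallyOfFinitePresentation (fun _ _ f hf => by have := hf; infer_instance)
      DL.lfp_bc DL.lfp_cp hw₀2
  have hasurj : Function.Surjective a.left := by
    intro t
    obtain ⟨t₀, ht₀⟩ := hw₀3 (AlgSt.Points.ofChart x t)
    obtain ⟨v, hv, -⟩ := hpt t t₀ ht₀.symm
    exact ⟨v, hv⟩
  have hopen : IsOpenMap a.left := a.left.isOpenMap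
  obtain ⟨V', hV'c, hV'⟩ := QCT.exists_compact_open_image a.left (𝟙 V.left) hopen hasurj
  let V'' : Over S := Over.mk (V'.ι ≫ V.hom)
  let j : V'' ⟶ V := Over.homMk V'.ι rfl
  have hcomp : CompactSpace ↥V''.left := isCompact_iff_compactSpace.mp hV'c
  let A : FibCat.overCat V'' ⥤ᵇ FibCat.overCat U :=
    BasedFunctor.comp (AlgSt.overMap j) (AlgSt.overMap a)
  let B : FibCat.overCat V'' ⥤ᵇ FibCat.overCat W₀ :=
    BasedFunctor.comp (AlgSt.overMap j) (AlgSt.overMap b)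
  let T : ofSch V'' ⥤ᵇ FibCat.overCat V'' := toOverCat V''
  let n : ofSch V'' ⥤ᵇ 𝒯 := BasedFunctor.comp T (BasedFunctor.comp A u)
  let k' : ofSch V'' ⥤ᵇ 𝒵 := BasedFunctor.comp T (BasedFunctor.comp B q)
  -- the 2-isomorphism
  have iso₂ : BasedFunctor.comp n h ≅ BasedFunctor.comp k' z := by
    let J' : (FibCat.overCat V'' : AlgSt.Cat S) ⟶ FibCat.overCat V := AlgSt.overMap j
    let T' : (ofSch V'' : AlgSt.Cat S) ⟶ FibCat.overCat V'' := T
    have i1 := Bicategory.whiskerLeftIso J' iso₀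
    exact Bicategory.whiskerLeftIso T' i1
  -- `n` is surjective on points
  have hA : AlgSt.IsSurjective A := by
    intro ζ
    obtain ⟨u₀, rfl⟩ := exists_ofChart_id U ζ
    obtain ⟨v, hv, hvV'⟩ := hV' u₀
    let v'' : ↥V''.left := ⟨v, hvV'⟩
    have e1 : j.left v'' = v := rfl
    refine ⟨AlgSt.Points.ofChart (BasedFunctor.id _) v'', ?_⟩
    calc AlgSt.Points.map A (AlgSt.Points.ofChart (BasedFunctor.id _) v'')
        = AlgSt.Points.ofChart (BasedFunctor.comp (AlgSt.overMap j) (AlgSt.overMap a)) v'' := rfl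
      _ = AlgSt.Points.ofChart (AlgSt.overMap a) (j.left v'') :=
          ofChart_overMap j (AlgSt.overMap a) v''
      _ = AlgSt.Points.ofChart (BasedFunctor.id _) (a.left (j.left v'')) :=
          ofChart_overMap_id a _
      _ = AlgSt.Points.ofChart (BasedFunctor.id _) u₀ := by rw [e1, hv]
  have hn : AlgSt.IsSurjective n :=
    isSurjective_comp _ _ (isSurjective_of_isEquivOver T (AD.toOverCat_isEquivOver V''))
      (isSurjective_comp _ _ hA (isSurjective_of_repWith hZ u husurj))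
  -- the hypothesis
  have h1 : AlgSt.IsQuasiCompact (FibCat.fp k' (FibCat.fpFst z f)) :=
    hq (ofSch V'') (SPS.isAlgStack_ofSp ⟨(yon S).obj V'', IsAlgSpace.yon_obj V''⟩)
      (SQC.isQuasiCompact_ofSch V'') k'
  have h2 : AlgSt.IsQuasiCompact (FibCat.fp (BasedFunctor.comp k' z) f) :=
    QC3.isQuasiCompact_of_equiv' (PS.paste k' z f) (PS.paste_isEquivOver k' z f) h1
  have h3 : AlgSt.IsQuasiCompact (FibCat.fp (BasedFunctor.comp n h) f) :=
    QCM.isQuasiCompact_of_equiv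
      (FI.tw (BasedFunctor.comp k' z) (BasedFunctor.comp n h) f (fun v => compApp iso₂ v)
        (fun α => compApp_nat iso₂ α) (fun v => compApp_lift iso₂ v))
      (FI.tw_isEquivOver (BasedFunctor.comp k' z) (BasedFunctor.comp n h) f
        (fun v => compApp iso₂ v) (fun α => compApp_nat iso₂ α) (fun v => compApp_lift iso₂ v)) h2
  exact isQuasiCompact_fp_of_surjective (Stk.isFibGrpd_ofPsh _) h𝒯 h𝒳 h𝒴 n hn h f h3

/-- **quasi-compactness of a morphism is fppf local on the base** (chart-square form of flat and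
locally finitely presented) -/
theorem isQuasiCompactMor_of_fpFst_of_fppf {𝒳 𝒴 𝒵 : AlgSt.Cat S}
    (h𝒳 : AlgSt.IsAlgStack Scheme.fppfPrecoverage 𝒳)
    (h𝒴 : AlgSt.IsAlgStack Scheme.fppfPrecoverage 𝒴) (f : 𝒳 ⥤ᵇ 𝒴)
    (h𝒵 : AlgSt.IsAlgStack Scheme.fppfPrecoverage 𝒵) (z : 𝒵 ⥤ᵇ 𝒴)
    (hz₁ : AlgSt.LocQ (AlgSp.LocP @Flat) z)
    (hz₂ : AlgSt.LocQ (AlgSp.LocP @LocallyOfFinitePresentation) z)
    (hz₃ : AlgSt.IsSurjective z)
    (hq : AlgSt.IsQuasiCompactMor Scheme.fppfPrecoverage (FibCat.fpFst z f)) :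
    AlgSt.IsQuasiCompactMor Scheme.fppfPrecoverage f := by
  obtain ⟨W, q, -, hqj, hq1, hq2⟩ := exists_flat_lfp_chart h𝒵 h𝒴 z hz₁ hz₂
  refine isQuasiCompactMor_of_fpFst_chart h𝒳 h𝒴 f z q hq1 hq2 ?_ hq
  intro η
  obtain ⟨ζ, rfl⟩ := hz₃ η
  obtain ⟨w, rfl⟩ := ofChart_surjective q (isSurjective_of_repWith h𝒵.isStack.1 q hqj) ζ
  exact ⟨w, rfl⟩

end Groth.Agent.Lib.Helper17.LQT
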