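import Groth.Agent.Lib.Helper17.MagicSq
import Groth.Agent.Lib.Helper17.AlgStComp
import Groth.Agent.Lib.Helper17.SchLocalProps

set_option autoImplicit false
set_option backward.isDefEq.respectTransparency false
set_option backward.isDefEq.respectTransparency.types false
universe v u

namespace Groth.Agent.Lib.Helper17.TC

open CategoryTheory CategoryTheory.Functor CategoryTheory.Limits AlgebraicGeometry Opposite FibCat Stk
  AlgSt
open Groth.Agent.Lib.Helper17 Groth.Agent.Lib.Helper17.FP Groth.Agent.Lib.Helper17.EO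
  Groth.Agent.Lib.Helper17.PD Groth.Agent.Lib.Helper17.AT Groth.Agent.Lib.Helper17.AB
  Groth.Agent.Lib.Helper17.AOS

section General

variable {C : Type u} [Category.{v} C] {𝒜 ℬ : BasedCategory.{v, max u v} C} (q : 𝒜 ⥤ᵇ ℬ)

/-- base change along the identity: `ℬ ×_ℬ 𝒜 ⟶ 𝒜` is an equivalence -/
theorem fpSnd_id_isEquivOver : FibCat.IsEquivOver (fpSnd (BasedFunctor.id ℬ) q) := by
  rw [Groth.Agent.S5139.result]
  refine ⟨⟨⟨?_⟩, ⟨?_⟩⟩, ?_⟩
  · intro z z' k₂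
    let k₂' : z.obj.snd ⟶ z'.obj.snd := k₂
    let θ : z.obj.fst ≅ q.obj z.obj.snd := z.obj.iso
    let θ' : z'.obj.fst ≅ q.obj z'.obj.snd := z'.obj.iso
    refine ⟨mkHom (F := BasedFunctor.id ℬ) (G := q) (θ.hom ≫ q.map k₂' ≫ θ'.inv) k₂' ?_, rfl⟩
    change (θ.hom ≫ q.map k₂' ≫ θ'.inv) ≫ θ'.hom = θ.hom ≫ q.map k₂'
    rw [Category.assoc, Category.assoc, Iso.inv_hom_id, Category.comp_id]
  · intro z z' k k' h
    have h2 : k.hom.snd = k'.hom.snd := h
    apply hom_ext _ h2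
    have e1 := k.hom.w
    have e2 := k'.hom.w
    rw [h2] at e1
    exact (cancel_mono z'.obj.iso.hom).mp (e1.trans e2.symm)
  · intro a
    refine ⟨mkObj (F := BasedFunctor.id ℬ) (G := q) (q.obj a) a (Iso.refl _)
      (IsHomLift.id rfl), Iso.refl _, ?_⟩
    exact IsHomLift.id rfl

end General

variable {S : Scheme.{u}}

/-- a functor to a slice which is representable by algebraic spaces with `P`: its source is
represented by a space whose map to the base has `P` -/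
theorem exists_of_repWith_to_slice (P : MorphismProperty (AlgSp.Sp S)) {𝒜 : AlgSt.Cat S}
    {U : Over S} (q : 𝒜 ⥤ᵇ FibCat.overCat U) (hq : AlgSt.RepByAlgSpWith P q) :
    ∃ (F : AlgSp.Space S) (e : ofSp F.obj ⥤ᵇ 𝒜),
      FibCat.IsEquivOver e ∧ P (spMapOfOver (BasedFunctor.comp e q)) := by
  obtain ⟨F, e₀, he₀, hP₀⟩ := hq U (BasedFunctor.id _)
  refine ⟨F, BasedFunctor.comp e₀ (fpSnd (BasedFunctor.id _) q),
    isEquivOver_comp e₀ _ he₀ (fpSnd_id_isEquivOver q), ?_⟩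
  have key : spMapOfOver (BasedFunctor.comp e₀ (fpFst (BasedFunctor.id _) q)) =
      spMapOfOver (BasedFunctor.comp (BasedFunctor.comp e₀ (fpSnd (BasedFunctor.id _) q)) q) := by
    apply spMap_congr _ _ (fun a => (e₀.obj a).obj.iso)
    intro a
    have h1 := iso_isHomLift (e₀.obj a)
    have h2 : (FibCat.overCat U).p.obj (e₀.obj a).obj.fst = (ofSp F.obj).p.obj a := e₀.w_obj a
    rw [← h2]
    exact h1
  rw [← key]
  exact hP₀

/-- **Cancellation**: if `b ∘ f` and the diagonal of `b` are representable by algebraic spaces with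
`P` (stable under base change and composition, checkable after base change to schemes), so is `f` -/
theorem repWith_cancel {𝒳 𝒴 𝒵 : AlgSt.Cat S}
    (h𝒳 : FibCat.IsFibGrpd 𝒳.p) (h𝒴 : FibCat.IsFibGrpd 𝒴.p) (h𝒵 : FibCat.IsFibGrpd 𝒵.p)
    (P : MorphismProperty (AlgSp.Sp S)) (hPb : ACP.BC P) (hPc : ACP.CP P) (hP : ACov.SchLocal P)
    (f : 𝒳 ⥤ᵇ 𝒴) (b : 𝒴 ⥤ᵇ 𝒵) (hfb : AlgSt.RepByAlgSpWith P (BasedFunctor.comp f b))
    (hΔ : AlgSt.RepByAlgSpWith P (FibCat.diag b)) : AlgSt.RepByAlgSpWith P f := by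
  intro U y
  have hfB : FibCat.IsFibGrpd (MS.B f b y).p :=
    SP.isFibGrpd_fp (BasedFunctor.comp y b) (BasedFunctor.comp f b)
      (FG.isFibGrpd_overForget U) h𝒳 h𝒵
  have hfP : FibCat.IsFibGrpd (FibCat.fp b b).p := SP.isFibGrpd_fp b b h𝒴 h𝒴 h𝒵
  have hfM : FibCat.IsFibGrpd (FibCat.fp (MS.m f b y) (FibCat.diag b)).p :=
    SP.isFibGrpd_fp _ _ hfB h𝒴 hfP
  have h1 : AlgSt.RepByAlgSpWith P
      (FibCat.fpFst (BasedFunctor.comp y b) (BasedFunctor.comp f b)) :=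
    repWith_fpFst P (BasedFunctor.comp f b) (BasedFunctor.comp y b) hfb
  have h2 : AlgSt.RepByAlgSpWith P (FibCat.fpFst (MS.m f b y) (FibCat.diag b)) :=
    repWith_fpFst P (FibCat.diag b) (MS.m f b y) hΔ
  have h3 : AlgSt.RepByAlgSpWith P
      (BasedFunctor.comp (FibCat.fpFst (MS.m f b y) (FibCat.diag b))
        (FibCat.fpFst (BasedFunctor.comp y b) (BasedFunctor.comp f b))) :=
    ACP.repWith_comp_of_schLocal' hfM (FG.isFibGrpd_overForget U) P hPb hPc hP _ _ h2 h1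
  exact transfer_inv P (MS.M f b y) (MS.M_isEquivOver f b y) (FibCat.fpFst y f) _
    (MS.M_fst f b y) (exists_of_repWith_to_slice P _ h3)

/-- the same for a 2-commutative triangle -/
theorem repWith_cancel_tri {𝒳 𝒴 𝒵 : AlgSt.Cat S}
    (h𝒳 : FibCat.IsFibGrpd 𝒳.p) (h𝒴 : FibCat.IsFibGrpd 𝒴.p) (h𝒵 : FibCat.IsFibGrpd 𝒵.p)
    (P : MorphismProperty (AlgSp.Sp S)) (hPb : ACP.BC P) (hPc : ACP.CP P) (hP : ACov.SchLocal P)
    (f : 𝒳 ⥤ᵇ 𝒴) (a : 𝒳 ⥤ᵇ 𝒵) (b : 𝒴 ⥤ᵇ 𝒵) (e : BasedFunctor.comp f b ≅ a)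
    (ha : AlgSt.RepByAlgSpWith P a)
    (hΔ : AlgSt.RepByAlgSpWith P (FibCat.diag b)) : AlgSt.RepByAlgSpWith P f := by
  refine repWith_cancel h𝒳 h𝒴 h𝒵 P hPb hPc hP f b ?_ hΔ
  refine repWith_of_square_fwd P a (BasedFunctor.comp f b) (BasedFunctor.id _) (BasedFunctor.id _)
    (isEquivOver_id _) (isEquivOver_id _) (fun x' => compApp e x') ?_ ?_ ha
  · intro x x₁ β
    exact compApp_nat e β
  · intro x'
    exact compApp_lift e x'

end Groth.Agent.Lib.Helper17.TC
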