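import Groth.Agent.Lib.Helper17.LocQTools2
import Groth.Agent.Lib.Helper17.TriCancel
import Groth.Agent.S9961

set_option autoImplicit false
set_option backward.isDefEq.respectTransparency false
set_option backward.isDefEq.respectTransparency.types false
universe u

namespace Groth.Agent.Lib.Helper17.LQT

open CategoryTheory CategoryTheory.Limits AlgebraicGeometry Opposite AlgSp FibCat Stk AlgSt
open Groth.Agent.Lib.Helper17 Groth.Agent.Lib.Helper17.FP Groth.Agent.Lib.Helper17.EO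
  Groth.Agent.Lib.Helper17.PD Groth.Agent.Lib.Helper17.AT Groth.Agent.Lib.Helper17.AB
  Groth.Agent.Lib.Helper17.AOS Groth.Agent.Lib.Helper17.ACP Groth.Agent.Lib.Helper17.PTS
open Groth.Agent.Lib.Helper46 Groth.Agent.Lib.Helper46.LocPChart

variable {S : Scheme.{u}}

/-- the package of facts about a property of morphisms of schemes needed to pass between chart
squares and charts -/
structure Good (Q : MorphismProperty Scheme.{u}) : Prop where
  etLocal : EtLocal Q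
  of_smooth : ∀ ⦃X Y : Scheme.{u}⦄ (f : X ⟶ Y), Smooth f → Q f
  bc : ∀ S : Scheme.{u}, BC (LocP (S := S) Q)
  cp : ∀ S : Scheme.{u}, CP (LocP (S := S) Q)
  schLocal : ∀ S : Scheme.{u}, ACov.SchLocal (LocP (S := S) Q)

theorem Good.of_etale {Q : MorphismProperty Scheme.{u}} (hQ : Good Q) ⦃X Y : Scheme.{u}⦄
    (f : X ⟶ Y) (hf : Etale f) : Q f :=
  hQ.of_smooth f (by have := hf; infer_instance)

theorem good_flat : Good (@Flat : MorphismProperty Scheme.{u}) where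
  etLocal := etLocal_flat
  of_smooth _ _ f hf := by have := hf; infer_instance
  bc _ := DL.flat_bc
  cp _ := DL.flat_cp
  schLocal _ := flat_schLocal

theorem good_lfp : Good (@LocallyOfFinitePresentation : MorphismProperty Scheme.{u}) where
  etLocal := Groth.Agent.Lib.Helper30.EtLocalInst.etLocal_lfp
  of_smooth _ _ f hf := by have := hf; infer_instance
  bc _ := DL.lfp_bc
  cp _ := DL.lfp_cp
  schLocal _ := lfp_schLocal

theorem good_lft : Good (@LocallyOfFiniteType : MorphismProperty Scheme.{u}) where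
  etLocal := Groth.Agent.Lib.Helper30.EtLocalInst.etLocal_lft
  of_smooth _ _ f hf := by have := hf; infer_instance
  bc _ := DL.lft_bc
  cp _ := DL.lft_cp
  schLocal _ := ACov.schLocal_of_isLocalOnBase _ DL.lft_local

/-- a chart square gives a chart -/
theorem exists_chart_of_locQ {Q : MorphismProperty Scheme.{u}} (hQ : Good Q) {𝒳 𝒴 : AlgSt.Cat S}
    (hY : FibCat.IsFibGrpd 𝒴.p) (f : 𝒳 ⥤ᵇ 𝒴) (h : AlgSt.LocQ (AlgSp.LocP Q) f) :
    ∃ (W : Over S) (q : FibCat.overCat W ⥤ᵇ 𝒳),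
      AlgSt.RepByAlgSpWith (LocP @Smooth) q ∧ AlgSt.RepByAlgSpWith IsSurjectiveMor q ∧
      AlgSt.RepByAlgSpWith (LocP Q) (BasedFunctor.comp q f) := by
  obtain ⟨U, V, x, y, k, α, hxs, hxj, hys, hk⟩ := h
  exact ⟨U, x, hxs, hxj, repWith_comp_of_square hY Q hQ.of_smooth (hQ.bc S) (hQ.cp S)
    (hQ.schLocal S) x y k f α hys hk⟩

/-- a chart gives a chart square -/
theorem locQ_of_chart {Q : MorphismProperty Scheme.{u}} (hQ : Good Q) {𝒳 𝒴 : AlgSt.Cat S}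
    (hX : FibCat.IsFibGrpd 𝒳.p)
    (h𝒴 : AlgSt.IsAlgStack Scheme.fppfPrecoverage 𝒴) (f : 𝒳 ⥤ᵇ 𝒴)
    {W : Over S} (q : FibCat.overCat W ⥤ᵇ 𝒳)
    (hqs : AlgSt.RepByAlgSpWith (LocP @Smooth) q) (hqj : AlgSt.RepByAlgSpWith IsSurjectiveMor q)
    (h : AlgSt.RepByAlgSpWith (LocP Q) (BasedFunctor.comp q f)) :
    AlgSt.LocQ (AlgSp.LocP Q) f := by
  have hY := h𝒴.isStack.1
  obtain ⟨V, v, hvs, hvj⟩ := h𝒴.atlas
  obtain ⟨W', a, b, ha, haj, hb, -, ⟨i⟩, -⟩ :=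
    exists_bridge_all hY h𝒴.diag (BasedFunctor.comp q f) v
  have hW'f : FibCat.IsFibGrpd (FibCat.overCat W').p := FG.isFibGrpd_overForget W'
  have hasm : Smooth a.left := ha @Smooth (fun _ _ f hf => by have := hf; infer_instance)
    AFP.sm_bc AFP.sm_cp hvs
  have hasurj := haj hvj
  have hbQ : Q b.left := hb Q hQ.of_etale (hQ.bc S) (hQ.cp S) h
  have ha0 : AlgSt.RepByAlgSpWith (LocP @Smooth) (AlgSt.overMap a) :=
    CT.repWith_overMap _ AFP.sm_bc a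
      (Groth.Agent.Lib.Helper23.AlgSpMor.locP_yon_map_of
        Groth.Agent.Lib.Helper30.EtLocalInst.etLocal_smooth a hasm)
  have ha3 : AlgSt.RepByAlgSpWith IsSurjectiveMor (AlgSt.overMap a) :=
    CT.repWith_overMap _ DL.surj_bc a (CT.isSurjectiveMor_yon_map a hasurj)
  refine ⟨W', V, BasedFunctor.comp (AlgSt.overMap a) q, v, b, i, ?_, ?_, hvs, ?_⟩
  · exact repWith_comp_of_schLocal' hW'f hX _ AFP.sm_bc AFP.sm_cp CT.sm_schLocal _ q ha0 hqs
  · exact repWith_comp_of_schLocal' hW'f hX _ DL.surj_bc DL.surj_cp CT.surj_schLocal _ q ha3 hqj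
  · exact Groth.Agent.Lib.Helper23.AlgSpMor.locP_yon_map_of hQ.etLocal b hbQ

/-- a morphism representable with `Q` has `Q` on chart squares -/
theorem locQ_of_repWith {Q : MorphismProperty Scheme.{u}} (hQ : Good Q) {𝒳 𝒴 : AlgSt.Cat S}
    (h𝒳 : AlgSt.IsAlgStack Scheme.fppfPrecoverage 𝒳)
    (h𝒴 : AlgSt.IsAlgStack Scheme.fppfPrecoverage 𝒴) (f : 𝒳 ⥤ᵇ 𝒴)
    (h : AlgSt.RepByAlgSpWith (LocP Q) f) : AlgSt.LocQ (AlgSp.LocP Q) f := by
  obtain ⟨W, q, hqs, hqj⟩ := h𝒳.atlas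
  have hWf : FibCat.IsFibGrpd (FibCat.overCat W).p := FG.isFibGrpd_overForget W
  exact locQ_of_chart hQ h𝒳.isStack.1 h𝒴 f q hqs hqj
    (repWith_comp_of_schLocal' hWf h𝒴.isStack.1 _ (hQ.bc S) (hQ.cp S) (hQ.schLocal S) q f
      (repWith_locP_mono hQ.of_smooth q hqs) h)

/-- **cancellation for locally of finite type** -/
theorem locQ_lft_of_comp {𝒳 𝒴 𝒵 : AlgSt.Cat S}
    (h𝒳 : AlgSt.IsAlgStack Scheme.fppfPrecoverage 𝒳)
    (h𝒴 : AlgSt.IsAlgStack Scheme.fppfPrecoverage 𝒴)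
    (h𝒵 : AlgSt.IsAlgStack Scheme.fppfPrecoverage 𝒵) (f : 𝒳 ⥤ᵇ 𝒴) (g : 𝒴 ⥤ᵇ 𝒵)
    (h : AlgSt.LocQ (AlgSp.LocP @LocallyOfFiniteType) (BasedFunctor.comp f g)) :
    AlgSt.LocQ (AlgSp.LocP @LocallyOfFiniteType) f := by
  obtain ⟨W, q, hqs, hqj, hq⟩ := exists_chart_of_locQ good_lft h𝒵.isStack.1 _ h
  have hWf : FibCat.IsFibGrpd (FibCat.overCat W).p := FG.isFibGrpd_overForget W
  refine locQ_of_chart good_lft h𝒳.isStack.1 h𝒴 f q hqs hqj ?_
  exact TC.repWith_cancel hWf h𝒴.isStack.1 h𝒵.isStack.1 _ DL.lft_bc DL.lft_cp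
    (ACov.schLocal_of_isLocalOnBase _ DL.lft_local) (BasedFunctor.comp q f) g hq
    (DL.lft_diag h𝒴 h𝒵 g)

/-- an immersion is locally of finite type -/
theorem locQ_lft_of_isImm {𝒳 𝒴 : AlgSt.Cat S}
    (h𝒳 : AlgSt.IsAlgStack Scheme.fppfPrecoverage 𝒳)
    (h𝒴 : AlgSt.IsAlgStack Scheme.fppfPrecoverage 𝒴) (f : 𝒳 ⥤ᵇ 𝒴) (h : AlgSt.IsImm f) :
    AlgSt.LocQ (AlgSp.LocP @LocallyOfFiniteType) f := by
  refine locQ_of_repWith good_lft h𝒳 h𝒴 f ?_
  refine DDC.repWith_mono (fun X Y a _ hY ha => ?_) f h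
  refine Groth.Agent.S9961.locP_of_repWith Groth.Agent.Lib.Helper30.EtLocalInst.etLocal_lft ?_ hY a ha
  intro A B g hg
  have : IsImmersion g := hg
  exact (inferInstance : LocallyOfFiniteType g)

/-- an open immersion is locally of finite presentation -/
theorem locQ_lfp_of_isOpenImm {𝒳 𝒴 : AlgSt.Cat S}
    (h𝒳 : AlgSt.IsAlgStack Scheme.fppfPrecoverage 𝒳)
    (h𝒴 : AlgSt.IsAlgStack Scheme.fppfPrecoverage 𝒴) (f : 𝒳 ⥤ᵇ 𝒴) (h : AlgSt.IsOpenImm f) :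
    AlgSt.LocQ (AlgSp.LocP @LocallyOfFinitePresentation) f :=
  locQ_of_repWith good_lfp h𝒳 h𝒴 f (flat_lfp_of_isOpenImm f h).2.1

end Groth.Agent.Lib.Helper17.LQT
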