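import Groth.Agent.Lib.Helper17.LocQTools3
import Groth.Agent.Lib.Helper17.Comparison

set_option autoImplicit false
set_option backward.isDefEq.respectTransparency false
set_option backward.isDefEq.respectTransparency.types false
universe u

namespace Groth.Agent.Lib.Helper17.LQT

open CategoryTheory CategoryTheory.Limits AlgebraicGeometry Opposite AlgSp FibCat Stk AlgSt
open Groth.Agent.Lib.Helper17 Groth.Agent.Lib.Helper17.FP Groth.Agent.Lib.Helper17.EO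
  Groth.Agent.Lib.Helper17.PD Groth.Agent.Lib.Helper17.AT Groth.Agent.Lib.Helper17.AB
  Groth.Agent.Lib.Helper17.AOS Groth.Agent.Lib.Helper17.ACP Groth.Agent.Lib.Helper17.PTS
open Groth.Agent.Lib.Helper46 Groth.Agent.Lib.Helper46.LocPChart

variable {S : Scheme.{u}}

/-- **lifting a chart of `𝒴` to a chart of the base change `𝒴 ×_𝒵 V`** -/
theorem exists_lift_chart {𝒴 𝒵 : AlgSt.Cat S} (hY : FibCat.IsFibGrpd 𝒴.p)
    (hZ : FibCat.IsFibGrpd 𝒵.p) (hΔ : AlgSt.RepByAlgSp1 (FibCat.diag (FibCat.toSelf 𝒵)))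
    (g : 𝒴 ⥤ᵇ 𝒵) {V W : Over S} (v : FibCat.overCat V ⥤ᵇ 𝒵) (ψ : FibCat.overCat W ⥤ᵇ 𝒴) :
    ∃ (W₀ : Over S) (a₀ : W₀ ⟶ W) (b₀ : W₀ ⟶ V) (w' : FibCat.overCat W₀ ⥤ᵇ FibCat.fp g v),
      Nonempty (BasedFunctor.comp w' (FibCat.fpFst g v) ≅ BasedFunctor.comp (AlgSt.overMap a₀) ψ) ∧
      Nonempty (BasedFunctor.comp w' (FibCat.fpSnd g v) ≅ AlgSt.overMap b₀) ∧
      (∀ P : MorphismProperty Scheme.{u}, (∀ ⦃X Y : Scheme.{u}⦄ (f : X ⟶ Y), Etale f → P f) →
        BC (LocP (S := S) P) → CP (LocP (S := S) P) →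
        AlgSt.RepByAlgSpWith (AlgSp.LocP P) v → P a₀.left) ∧
      (AlgSt.RepByAlgSpWith AlgSp.IsSurjectiveMor v → Function.Surjective a₀.left) ∧
      (∀ P : MorphismProperty Scheme.{u}, (∀ ⦃X Y : Scheme.{u}⦄ (f : X ⟶ Y), Etale f → P f) →
        BC (LocP (S := S) P) → CP (LocP (S := S) P) →
        AlgSt.RepByAlgSpWith (AlgSp.LocP P) (BasedFunctor.comp ψ g) → P b₀.left) ∧
      (∀ P : MorphismProperty Scheme.{u}, (∀ ⦃X Y : Scheme.{u}⦄ (f : X ⟶ Y), Etale f → P f) →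
        BC (LocP (S := S) P) → CP (LocP (S := S) P) → ACov.SchLocal (LocP (S := S) P) →
        AlgSt.RepByAlgSpWith (AlgSp.LocP P) ψ → AlgSt.RepByAlgSpWith (AlgSp.LocP P) w') ∧
      (AlgSt.IsSurjective ψ → AlgSt.IsSurjective w') := by
  let x : FibCat.overCat W ⥤ᵇ 𝒵 := BasedFunctor.comp ψ g
  obtain ⟨W₀, a₀, b₀, R, e, c, he, hce, hcs, ha, hb, ⟨ia⟩, ⟨ib⟩⟩ := exists_bridge_q hZ hΔ x v
  have hcet := ACov.isEtaleMor_of_repWith c hce
  have hcsurj : IsSurjectiveMor c := ACov.points_map_surjective c hcs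
  have hWsp : IsAlgSpace ((yon S).obj W₀) := IsAlgSpace.yon_obj W₀
  have e' : BasedFunctor.comp (BasedFunctor.comp e (SW.swap x v)) (FibCat.fpFst v x) =
      BasedFunctor.comp e (FibCat.fpSnd x v) := DR.basedFunctor_ext rfl
  have he' : FibCat.IsEquivOver (BasedFunctor.comp e (SW.swap x v)) :=
    isEquivOver_comp _ _ he (SW.swap_isEquivOver x v)
  have hWf : FibCat.IsFibGrpd (FibCat.overCat W).p := FG.isFibGrpd_overForget W
  have hW₀f : FibCat.IsFibGrpd (FibCat.overCat W₀).p := FG.isFibGrpd_overForget W₀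
  have hVf : FibCat.IsFibGrpd (FibCat.overCat V).p := FG.isFibGrpd_overForget V
  have hfpgv : FibCat.IsFibGrpd (FibCat.fp g v).p := SP.isFibGrpd_fp _ _ hY hVf hZ
  let π : FibCat.fp g v ⥤ᵇ 𝒴 := FibCat.fpFst g v
  have hfp2 : FibCat.IsFibGrpd (FibCat.fp ψ π).p := SP.isFibGrpd_fp _ _ hWf hfpgv hY
  let θ : FibCat.overCat W₀ ⥤ᵇ FibCat.fp x v :=
    BasedFunctor.comp (BasedFunctor.comp (ofOverCat W₀) (ofSpMap c)) e
  let ρ : FibCat.fp x v ⥤ᵇ FibCat.fp g v :=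
    BasedFunctor.comp (PS.paste ψ g v) (FibCat.fpSnd ψ π)
  let w' : FibCat.overCat W₀ ⥤ᵇ FibCat.fp g v := BasedFunctor.comp θ ρ
  have hρ1 : BasedFunctor.comp ρ (FibCat.fpFst g v) = BasedFunctor.comp (FibCat.fpFst x v) ψ := rfl
  have hρ2 : BasedFunctor.comp ρ (FibCat.fpSnd g v) = FibCat.fpSnd x v := rfl
  refine ⟨W₀, a₀, b₀, w', ?_, ?_, ?_, ?_, ?_, ?_, ?_⟩
  · -- first projection
    let Ψ : (FibCat.overCat W : AlgSt.Cat S) ⟶ 𝒴 := ψ
    have i5 := Bicategory.whiskerRightIso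
      (f := (BasedFunctor.comp θ (FibCat.fpFst x v) :
        (FibCat.overCat W₀ : AlgSt.Cat S) ⟶ FibCat.overCat W))
      (g := (AlgSt.overMap a₀ : (FibCat.overCat W₀ : AlgSt.Cat S) ⟶ FibCat.overCat W)) ia Ψ
    exact ⟨i5⟩
  · exact ⟨ib⟩
  · intro P hP hbc hcp h
    have hcP : LocP P c := ACov.locP_of_isEtaleMor hP c hcet
    have h1 := DL2.transport _ hbc v h W x R e he
    have h2 := hcp hWsp R.property (IsAlgSpace.yon_obj W) c _ hcP h1
    rw [← ha] at h2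
    exact AlgSp.locP_yon_map h2
  · intro h
    have h1 := DL2.transport _ DL.surj_bc v h W x R e he
    have h2 := DL.surj_cp hWsp R.property (IsAlgSpace.yon_obj W) c _ hcsurj h1
    rw [← ha] at h2
    exact BRG.surjective_of_isSurjectiveMor a₀ h2
  · intro P hP hbc hcp h
    have hcP : LocP P c := ACov.locP_of_isEtaleMor hP c hcet
    have h1 := DL2.transport _ hbc x h V v R _ he'
    rw [e'] at h1
    have h2 := hcp hWsp R.property (IsAlgSpace.yon_obj V) c _ hcP h1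
    rw [← hb] at h2
    exact AlgSp.locP_yon_map h2
  · intro P hP hbc hcp hl hψ
    have h1 : AlgSt.RepByAlgSpWith (LocP P) (BasedFunctor.comp (ofOverCat W₀) (ofSpMap c)) :=
      FD.repWith_precomp_equiv _ (ofOverCat W₀) (AD.ofOverCat_isEquivOver W₀) _
        (DCV.repWith_ofSpMap _ hbc ⟨(yon S).obj W₀, IsAlgSpace.yon_obj W₀⟩ R c
          (ACov.locP_of_isEtaleMor hP c hcet))
    have h2 : AlgSt.RepByAlgSpWith (LocP P) θ := CMP.repWith_comp_equiv _ _ e he h1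
    have h3 : AlgSt.RepByAlgSpWith (LocP P) (FibCat.fpSnd ψ π) := AB.repWith_fpSnd _ ψ π hψ
    have h4 : AlgSt.RepByAlgSpWith (LocP P) ρ :=
      FD.repWith_precomp_equiv _ (PS.paste ψ g v) (PS.paste_isEquivOver ψ g v) _ h3
    exact repWith_comp_of_schLocal' hW₀f hfpgv _ hbc hcp hl θ ρ h2 h4
  · intro hψ
    have h1 : AlgSt.RepByAlgSpWith IsSurjectiveMor (BasedFunctor.comp (ofOverCat W₀) (ofSpMap c)) :=
      FD.repWith_precomp_equiv _ (ofOverCat W₀) (AD.ofOverCat_isEquivOver W₀) _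
        (DCV.repWith_ofSpMap _ DL.surj_bc ⟨(yon S).obj W₀, IsAlgSpace.yon_obj W₀⟩ R c hcsurj)
    have hθ : AlgSt.IsSurjective θ :=
      isSurjective_comp _ e (isSurjective_of_repWith (Stk.isFibGrpd_ofPsh _) _ h1)
        (isSurjective_of_isEquivOver e he)
    have hρ : AlgSt.IsSurjective ρ :=
      isSurjective_comp _ _ (isSurjective_of_isEquivOver _ (PS.paste_isEquivOver ψ g v))
        (isSurjective_fpSnd hfpgv hY hWf ψ π hψ)
    exact isSurjective_comp θ ρ hθ hρ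

theorem fOf_overMap {W U : Over S} (a : W ⟶ U) : Groth.Agent.S6443.fOf (AlgSt.overMap a) = a := by
  have h1 : Groth.Agent.S6443.fOf (AlgSt.overMap a) =
      eqToHom (Groth.Agent.S6443.left_eq (AlgSt.overMap a) (Over.mk (𝟙 W))).symm ≫
        ((Over.map a).obj (Over.mk (𝟙 W))).hom := rfl
  rw [h1]
  simp

/-- 2-isomorphic composites of slice functors come from equal morphisms -/
theorem eq_of_overMap_iso {W U : Over S} {a a' : W ⟶ U}
    (i : AlgSt.overMap a ≅ AlgSt.overMap a') : a = a' := by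
  rw [← fOf_overMap a, ← fOf_overMap a']
  exact Groth.Agent.S6443.fOf_congr i

/-- **descent of a chart-form property along a covering chart**: if `ψ : W ⟶ 𝒴` is a chart with
the covering properties `𝒞`, surjective on points, and `ψ ⋙ g` has `Q`, then `g` has `Q` on a
chart square. -/
theorem locQ_of_cover_chart {Q : MorphismProperty Scheme.{u}} (hQ : Good Q)
    (hQc : ∀ ⦃A B C : Scheme.{u}⦄ (e : A ⟶ B) (k : B ⟶ C), Smooth e → Q k → Q (e ≫ k))
    (𝒞 : MorphismProperty Scheme.{u} → Prop)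
    (h𝒞 : ∀ P, 𝒞 P → (∀ ⦃X Y : Scheme.{u}⦄ (f : X ⟶ Y), Etale f → P f) ∧
      BC (LocP (S := S) P) ∧ CP (LocP (S := S) P) ∧ ACov.SchLocal (LocP (S := S) P))
    (hdesc : ∀ ⦃A B C : Scheme.{u}⦄ (e : A ⟶ B) (k : B ⟶ C), (∀ P, 𝒞 P → P e) →
      Function.Surjective e → Q (e ≫ k) → Q k)
    {𝒴 𝒵 : AlgSt.Cat S} (h𝒴 : AlgSt.IsAlgStack Scheme.fppfPrecoverage 𝒴)
    (h𝒵 : AlgSt.IsAlgStack Scheme.fppfPrecoverage 𝒵) (g : 𝒴 ⥤ᵇ 𝒵)
    {W : Over S} (ψ : FibCat.overCat W ⥤ᵇ 𝒴)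
    (hψ : ∀ P, 𝒞 P → AlgSt.RepByAlgSpWith (LocP P) ψ) (hψs : AlgSt.IsSurjective ψ)
    (hψg : AlgSt.RepByAlgSpWith (LocP Q) (BasedFunctor.comp ψ g)) :
    AlgSt.LocQ (AlgSp.LocP Q) g := by
  have hY := h𝒴.isStack.1
  have hZ := h𝒵.isStack.1
  obtain ⟨V, v, hvs, hvj⟩ := h𝒵.atlas
  have hV : AlgSt.IsAlgStack Scheme.fppfPrecoverage (FibCat.overCat V) := SPS.isAlgStack_overCat V
  have h𝒴' : AlgSt.IsAlgStack Scheme.fppfPrecoverage (FibCat.fp g v) :=
    AFP.isAlgStack_fp h𝒵.isStack h𝒵.diag h𝒴 hV g v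
  have hY' := h𝒴'.isStack.1
  obtain ⟨U', u', hu's, hu'j⟩ := h𝒴'.atlas
  obtain ⟨W₀, a₀, b₀, w', ⟨i1⟩, ⟨i2⟩, -, -, hb₀, hw', hw's⟩ :=
    exists_lift_chart hY hZ h𝒵.diag g v ψ
  have hb₀Q : Q b₀.left := hb₀ Q hQ.of_etale (hQ.bc S) (hQ.cp S) hψg
  obtain ⟨W₁, c, d, hc, -, hd, -, ⟨i3⟩, hpt⟩ := exists_bridge_all hY' h𝒴'.diag u' w'
  have hU'f : FibCat.IsFibGrpd (FibCat.overCat U').p := FG.isFibGrpd_overForget U'
  have hdsm : Smooth d.left := hd @Smooth (fun _ _ f hf => by have := hf; infer_instance)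
    AFP.sm_bc AFP.sm_cp hu's
  have hcsurj : Function.Surjective c.left := by
    intro t
    obtain ⟨t₀, ht₀⟩ := ofChart_surjective w' (hw's hψs) (AlgSt.Points.ofChart u' t)
    obtain ⟨w₁, hw₁, -⟩ := hpt t t₀ ht₀.symm
    exact ⟨w₁, hw₁⟩
  have hc𝒞 : ∀ P, 𝒞 P → P c.left := fun P hP => by
    obtain ⟨h1, h2, h3, h4⟩ := h𝒞 P hP
    exact hc P h1 h2 h3 (hw' P h1 h2 h3 h4 (hψ P hP))
  -- the scheme map `h`
  let g' : FibCat.fp g v ⥤ᵇ FibCat.overCat V := FibCat.fpSnd g v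
  let π : FibCat.fp g v ⥤ᵇ 𝒴 := FibCat.fpFst g v
  let h : U' ⟶ V := Groth.Agent.S6443.fOf (BasedFunctor.comp u' g')
  have ih : BasedFunctor.comp u' g' ≅ AlgSt.overMap h :=
    Groth.Agent.S6443.isoOverMap (BasedFunctor.comp u' g')
  have heq : c ≫ h = d ≫ b₀ := by
    apply eq_of_overMap_iso
    let C' : (FibCat.overCat W₁ : AlgSt.Cat S) ⟶ FibCat.overCat U' := AlgSt.overMap c
    let D' : (FibCat.overCat W₁ : AlgSt.Cat S) ⟶ FibCat.overCat W₀ := AlgSt.overMap d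
    let G' : (FibCat.fp g v : AlgSt.Cat S) ⟶ FibCat.overCat V := g'
    have j1 : BasedFunctor.comp (AlgSt.overMap c) (AlgSt.overMap h) ≅
        BasedFunctor.comp (AlgSt.overMap c) (BasedFunctor.comp u' g') :=
      (Bicategory.whiskerLeftIso C' ih).symm
    have j2 : BasedFunctor.comp (AlgSt.overMap c) (BasedFunctor.comp u' g') ≅
        BasedFunctor.comp (AlgSt.overMap d) (BasedFunctor.comp w' g') :=
      Bicategory.whiskerRightIso
        (f := (BasedFunctor.comp (AlgSt.overMap c) u' :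
          (FibCat.overCat W₁ : AlgSt.Cat S) ⟶ FibCat.fp g v))
        (g := (BasedFunctor.comp (AlgSt.overMap d) w' :
          (FibCat.overCat W₁ : AlgSt.Cat S) ⟶ FibCat.fp g v)) i3 G'
    have j3 : BasedFunctor.comp (AlgSt.overMap d) (BasedFunctor.comp w' g') ≅
        BasedFunctor.comp (AlgSt.overMap d) (AlgSt.overMap b₀) :=
      Bicategory.whiskerLeftIso D' i2
    have e1 : AlgSt.overMap (c ≫ h) = BasedFunctor.comp (AlgSt.overMap c) (AlgSt.overMap h) :=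
      DR.basedFunctor_ext (Over.mapComp_eq c h)
    have e2 : AlgSt.overMap (d ≫ b₀) = BasedFunctor.comp (AlgSt.overMap d) (AlgSt.overMap b₀) :=
      DR.basedFunctor_ext (Over.mapComp_eq d b₀)
    rw [e1, e2]
    exact j1 ≪≫ j2 ≪≫ j3
  have hQdb : Q (d.left ≫ b₀.left) := hQc d.left b₀.left hdsm hb₀Q
  have hQh : Q h.left := by
    refine hdesc c.left h.left hc𝒞 hcsurj ?_
    rw [← Over.comp_left, heq, Over.comp_left]
    exact hQdb
  -- the chart square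
  have hπs : AlgSt.RepByAlgSpWith (LocP @Smooth) π := AB.repWith_fpFst _ v g hvs
  have hπj : AlgSt.RepByAlgSpWith IsSurjectiveMor π := AB.repWith_fpFst _ v g hvj
  have α : BasedFunctor.comp (BasedFunctor.comp u' π) g ≅ BasedFunctor.comp (AlgSt.overMap h) v := by
    let U'' : (FibCat.overCat U' : AlgSt.Cat S) ⟶ FibCat.fp g v := u'
    let V' : (FibCat.overCat V : AlgSt.Cat S) ⟶ 𝒵 := v
    have k1 : BasedFunctor.comp u' (BasedFunctor.comp π g) ≅
        BasedFunctor.comp u' (BasedFunctor.comp g' v) :=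
      Bicategory.whiskerLeftIso U'' (FibCat.fpIso g v)
    have k2 : BasedFunctor.comp (BasedFunctor.comp u' g') v ≅
        BasedFunctor.comp (AlgSt.overMap h) v :=
      Bicategory.whiskerRightIso
        (f := (BasedFunctor.comp u' g' : (FibCat.overCat U' : AlgSt.Cat S) ⟶ FibCat.overCat V))
        (g := (AlgSt.overMap h : (FibCat.overCat U' : AlgSt.Cat S) ⟶ FibCat.overCat V)) ih V'
    exact k1 ≪≫ k2
  refine ⟨U', V, BasedFunctor.comp u' π, v, h, α, ?_, ?_, hvs, ?_⟩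
  · exact repWith_comp_of_schLocal' hU'f hY _ AFP.sm_bc AFP.sm_cp CT.sm_schLocal u' π hu's hπs
  · exact repWith_comp_of_schLocal' hU'f hY _ DL.surj_bc DL.surj_cp CT.surj_schLocal u' π hu'j hπj
  · exact Groth.Agent.Lib.Helper23.AlgSpMor.locP_yon_map_of hQ.etLocal h hQh

end Groth.Agent.Lib.Helper17.LQT
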