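import Groth.Agent.Lib.Helper17.LocQTools4
import Groth.Agent.Lib.Helper46.FppfSourceSch

set_option autoImplicit false
set_option backward.isDefEq.respectTransparency false
set_option backward.isDefEq.respectTransparency.types false
universe u

namespace Groth.Agent.Lib.Helper17.LQT

open CategoryTheory CategoryTheory.Limits AlgebraicGeometry Opposite AlgSp FibCat Stk AlgSt
open Groth.Agent.Lib.Helper17 Groth.Agent.Lib.Helper17.FP Groth.Agent.Lib.Helper17.EO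
  Groth.Agent.Lib.Helper17.PD Groth.Agent.Lib.Helper17.AT Groth.Agent.Lib.Helper17.AB
  Groth.Agent.Lib.Helper17.AOS Groth.Agent.Lib.Helper17.ACP Groth.Agent.Lib.Helper17.PTS
open Groth.Agent.Lib.Helper46 Groth.Agent.Lib.Helper46.LocPChart

variable {S : Scheme.{u}}

/-- the chart form of a property passes to smooth refinements of the chart -/
theorem repWith_of_refine {Q : MorphismProperty Scheme.{u}} (hQ : Good Q) {𝒳 𝒴 : AlgSt.Cat S}
    (hY : FibCat.IsFibGrpd 𝒴.p) {W W' : Over S} (a : W' ⟶ W) (ha : Smooth a.left)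
    (q : FibCat.overCat W ⥤ᵇ 𝒳) (q' : FibCat.overCat W' ⥤ᵇ 𝒳)
    (i : q' ≅ BasedFunctor.comp (AlgSt.overMap a) q) (f : 𝒳 ⥤ᵇ 𝒴)
    (h : AlgSt.RepByAlgSpWith (LocP Q) (BasedFunctor.comp q f)) :
    AlgSt.RepByAlgSpWith (LocP Q) (BasedFunctor.comp q' f) := by
  have hW'f : FibCat.IsFibGrpd (FibCat.overCat W').p := FG.isFibGrpd_overForget W'
  have h1 : AlgSt.RepByAlgSpWith (LocP Q) (AlgSt.overMap a) :=
    CT.repWith_overMap _ (hQ.bc S) a
      (Groth.Agent.Lib.Helper23.AlgSpMor.locP_yon_map_of hQ.etLocal a (hQ.of_smooth _ ha))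
  have h2 : AlgSt.RepByAlgSpWith (LocP Q)
      (BasedFunctor.comp (AlgSt.overMap a) (BasedFunctor.comp q f)) :=
    repWith_comp_of_schLocal' hW'f hY _ (hQ.bc S) (hQ.cp S) (hQ.schLocal S) _ _ h1 h
  let F : (𝒳 : AlgSt.Cat S) ⟶ 𝒴 := f
  have j : BasedFunctor.comp q' f ≅ BasedFunctor.comp (AlgSt.overMap a) (BasedFunctor.comp q f) :=
    Bicategory.whiskerRightIso
      (f := (q' : (FibCat.overCat W' : AlgSt.Cat S) ⟶ 𝒳))
      (g := (BasedFunctor.comp (AlgSt.overMap a) q : (FibCat.overCat W' : AlgSt.Cat S) ⟶ 𝒳)) i F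
  exact DCN.repWith_of_iso _ j h2

/-- two smooth surjective charts have a common smooth surjective refinement -/
theorem exists_common_chart {𝒳 : AlgSt.Cat S} (h𝒳 : AlgSt.IsAlgStack Scheme.fppfPrecoverage 𝒳)
    {W₁ W₂ : Over S} (q₁ : FibCat.overCat W₁ ⥤ᵇ 𝒳) (q₂ : FibCat.overCat W₂ ⥤ᵇ 𝒳)
    (h₁s : AlgSt.RepByAlgSpWith (LocP @Smooth) q₁)
    (h₁j : AlgSt.RepByAlgSpWith IsSurjectiveMor q₁)
    (h₂s : AlgSt.RepByAlgSpWith (LocP @Smooth) q₂)
    (h₂j : AlgSt.RepByAlgSpWith IsSurjectiveMor q₂) :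
    ∃ (W : Over S) (q : FibCat.overCat W ⥤ᵇ 𝒳) (a₁ : W ⟶ W₁) (a₂ : W ⟶ W₂),
      AlgSt.RepByAlgSpWith (LocP @Smooth) q ∧ AlgSt.RepByAlgSpWith IsSurjectiveMor q ∧
      Smooth a₁.left ∧ Smooth a₂.left ∧
      Nonempty (q ≅ BasedFunctor.comp (AlgSt.overMap a₁) q₁) ∧
      Nonempty (q ≅ BasedFunctor.comp (AlgSt.overMap a₂) q₂) := by
  have hX := h𝒳.isStack.1
  obtain ⟨W, a, b, ha, haj, hb, -, ⟨i⟩, -⟩ := exists_bridge_all hX h𝒳.diag q₁ q₂
  have hWf : FibCat.IsFibGrpd (FibCat.overCat W).p := FG.isFibGrpd_overForget W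
  have hasm : Smooth a.left := ha @Smooth (fun _ _ f hf => by have := hf; infer_instance)
    AFP.sm_bc AFP.sm_cp h₂s
  have hbsm : Smooth b.left := hb @Smooth (fun _ _ f hf => by have := hf; infer_instance)
    AFP.sm_bc AFP.sm_cp h₁s
  have hasurj := haj h₂j
  have ha0 : AlgSt.RepByAlgSpWith (LocP @Smooth) (AlgSt.overMap a) :=
    CT.repWith_overMap _ AFP.sm_bc a
      (Groth.Agent.Lib.Helper23.AlgSpMor.locP_yon_map_of
        Groth.Agent.Lib.Helper30.EtLocalInst.etLocal_smooth a hasm)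
  have ha3 : AlgSt.RepByAlgSpWith IsSurjectiveMor (AlgSt.overMap a) :=
    CT.repWith_overMap _ DL.surj_bc a (CT.isSurjectiveMor_yon_map a hasurj)
  refine ⟨W, BasedFunctor.comp (AlgSt.overMap a) q₁, a, b, ?_, ?_, hasm, hbsm, ⟨Iso.refl _⟩, ⟨i⟩⟩
  · exact repWith_comp_of_schLocal' hWf hX _ AFP.sm_bc AFP.sm_cp CT.sm_schLocal _ q₁ ha0 h₁s
  · exact repWith_comp_of_schLocal' hWf hX _ DL.surj_bc DL.surj_cp CT.surj_schLocal _ q₁ ha3 h₁j

theorem comp_smooth_flat ⦃A B C : Scheme.{u}⦄ (e : A ⟶ B) (k : B ⟶ C) (he : Smooth e)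
    (hk : Flat k) : Flat (e ≫ k) := by
  have := he; have := hk; infer_instance

theorem comp_smooth_lft ⦃A B C : Scheme.{u}⦄ (e : A ⟶ B) (k : B ⟶ C) (he : Smooth e)
    (hk : LocallyOfFiniteType k) : LocallyOfFiniteType (e ≫ k) := by
  have := he; have := hk; infer_instance

theorem comp_smooth_lfp ⦃A B C : Scheme.{u}⦄ (e : A ⟶ B) (k : B ⟶ C) (he : Smooth e)
    (hk : LocallyOfFinitePresentation k) : LocallyOfFinitePresentation (e ≫ k) := by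
  have := he; have := hk; infer_instance

/-- the covering properties: flat -/
def CFlat : MorphismProperty Scheme.{u} → Prop := fun P => P = @Flat

/-- the covering properties: flat and locally of finite presentation -/
def CFppf : MorphismProperty Scheme.{u} → Prop :=
  fun P => P = @Flat ∨ P = @LocallyOfFinitePresentation

theorem cFlat_good (P : MorphismProperty Scheme.{u}) (hP : CFlat P) :
    (∀ ⦃X Y : Scheme.{u}⦄ (f : X ⟶ Y), Etale f → P f) ∧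
      BC (LocP (S := S) P) ∧ CP (LocP (S := S) P) ∧ ACov.SchLocal (LocP (S := S) P) := by
  cases hP
  exact ⟨good_flat.of_etale, DL.flat_bc, DL.flat_cp, flat_schLocal⟩

theorem cFppf_good (P : MorphismProperty Scheme.{u}) (hP : CFppf P) :
    (∀ ⦃X Y : Scheme.{u}⦄ (f : X ⟶ Y), Etale f → P f) ∧
      BC (LocP (S := S) P) ∧ CP (LocP (S := S) P) ∧ ACov.SchLocal (LocP (S := S) P) := by
  rcases hP with rfl | rfl
  · exact ⟨good_flat.of_etale, DL.flat_bc, DL.flat_cp, flat_schLocal⟩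
  · exact ⟨good_lfp.of_etale, DL.lfp_bc, DL.lfp_cp, lfp_schLocal⟩

theorem desc_flat ⦃A B C : Scheme.{u}⦄ (e : A ⟶ B) (k : B ⟶ C) (he : ∀ P, CFlat P → P e)
    (hs : Function.Surjective e) (h : Flat (e ≫ k)) : Flat k := by
  have hfl : Flat e := he _ rfl
  refine flat_of_family k fun x => ?_
  obtain ⟨y, rfl⟩ := hs x
  exact ⟨A, e, hfl, h, y, rfl⟩

theorem desc_lft ⦃A B C : Scheme.{u}⦄ (e : A ⟶ B) (k : B ⟶ C) (he : ∀ P, CFppf P → P e)
    (hs : Function.Surjective e) (h : LocallyOfFiniteType (e ≫ k)) : LocallyOfFiniteType k := by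
  have hfl : Flat e := he _ (Or.inl rfl)
  have hfp : LocallyOfFinitePresentation e := he _ (Or.inr rfl)
  have : Surjective e := ⟨hs⟩
  exact Groth.Agent.Lib.Helper46.FppfSourceSch.locallyOfFiniteType_of_fppf_surjective_comp e k

theorem desc_lfp ⦃A B C : Scheme.{u}⦄ (e : A ⟶ B) (k : B ⟶ C) (he : ∀ P, CFppf P → P e)
    (hs : Function.Surjective e) (h : LocallyOfFinitePresentation (e ≫ k)) :
    LocallyOfFinitePresentation k := by
  have hfl : Flat e := he _ (Or.inl rfl)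
  have hfp : LocallyOfFinitePresentation e := he _ (Or.inr rfl)
  have : Surjective e := ⟨hs⟩
  exact Groth.Agent.Lib.Helper46.FppfSourceSch.locallyOfFinitePresentation_of_fppf_surjective_comp e k

/-- **S13001**: locally of finite type descends along a representable fppf cover of the source -/
theorem locQ_lft_of_comp_of_rep_fppf {𝒳 𝒴 𝒵 : AlgSt.Cat S}
    (h𝒳 : AlgSt.IsAlgStack Scheme.fppfPrecoverage 𝒳)
    (h𝒴 : AlgSt.IsAlgStack Scheme.fppfPrecoverage 𝒴)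
    (h𝒵 : AlgSt.IsAlgStack Scheme.fppfPrecoverage 𝒵) (f : 𝒳 ⥤ᵇ 𝒴) (g : 𝒴 ⥤ᵇ 𝒵)
    (hf₁ : AlgSt.RepByAlgSpWith (AlgSp.LocP @Flat) f)
    (hf₂ : AlgSt.RepByAlgSpWith (AlgSp.LocP @LocallyOfFinitePresentation) f)
    (hf₃ : AlgSt.RepByAlgSpWith AlgSp.IsSurjectiveMor f)
    (h : AlgSt.LocQ (AlgSp.LocP @LocallyOfFiniteType) (BasedFunctor.comp f g)) :
    AlgSt.LocQ (AlgSp.LocP @LocallyOfFiniteType) g := by
  have hX := h𝒳.isStack.1
  have hY := h𝒴.isStack.1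
  obtain ⟨W, q, hqs, hqj, hq⟩ := exists_chart_of_locQ good_lft h𝒵.isStack.1 _ h
  have hWf : FibCat.IsFibGrpd (FibCat.overCat W).p := FG.isFibGrpd_overForget W
  refine locQ_of_cover_chart good_lft comp_smooth_lft CFppf cFppf_good desc_lft h𝒴 h𝒵 g
    (BasedFunctor.comp q f) ?_ ?_ hq
  · rintro P (rfl | rfl)
    · exact repWith_comp_of_schLocal' hWf hY _ DL.flat_bc DL.flat_cp flat_schLocal q f
        (flat_of_smooth q hqs) hf₁
    · exact repWith_comp_of_schLocal' hWf hY _ DL.lfp_bc DL.lfp_cp lfp_schLocal q f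
        (lfp_of_smooth q hqs) hf₂
  · exact isSurjective_comp _ _ (isSurjective_of_repWith hX q hqj) (isSurjective_of_repWith hY f hf₃)

/-- **S13004**: flatness descends along a flat surjective morphism of the source -/
theorem locQ_flat_of_comp_of_surjective_flat {𝒳 𝒴 𝒵 : AlgSt.Cat S}
    (h𝒳 : AlgSt.IsAlgStack Scheme.fppfPrecoverage 𝒳)
    (h𝒴 : AlgSt.IsAlgStack Scheme.fppfPrecoverage 𝒴)
    (h𝒵 : AlgSt.IsAlgStack Scheme.fppfPrecoverage 𝒵) (f : 𝒳 ⥤ᵇ 𝒴) (g : 𝒴 ⥤ᵇ 𝒵)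
    (hf₁ : AlgSt.LocQ (AlgSp.LocP @Flat) f) (hf₂ : AlgSt.IsSurjective f)
    (h : AlgSt.LocQ (AlgSp.LocP @Flat) (BasedFunctor.comp f g)) :
    AlgSt.LocQ (AlgSp.LocP @Flat) g := by
  have hX := h𝒳.isStack.1
  have hY := h𝒴.isStack.1
  have hZ := h𝒵.isStack.1
  obtain ⟨W₁, q₁, h₁s, h₁j, h₁⟩ := exists_chart_of_locQ good_flat hY _ hf₁
  obtain ⟨W₂, q₂, h₂s, h₂j, h₂⟩ := exists_chart_of_locQ good_flat hZ _ h
  obtain ⟨W, q, a₁, a₂, hqs, hqj, ha₁, ha₂, ⟨i₁⟩, ⟨i₂⟩⟩ :=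
    exists_common_chart h𝒳 q₁ q₂ h₁s h₁j h₂s h₂j
  have k₁ := repWith_of_refine good_flat hY a₁ ha₁ q₁ q i₁ f h₁
  have k₂ := repWith_of_refine good_flat hZ a₂ ha₂ q₂ q i₂ (BasedFunctor.comp f g) h₂
  refine locQ_of_cover_chart good_flat comp_smooth_flat CFlat cFlat_good desc_flat h𝒴 h𝒵 g
    (BasedFunctor.comp q f) ?_ ?_ k₂
  · rintro P rfl
    exact k₁
  · exact isSurjective_comp _ _ (isSurjective_of_repWith hX q hqj) hf₂

/-- **S13007**: locally of finite presentation descends along an fppf cover of the source -/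
theorem locQ_lfp_of_comp_of_fppf {𝒳 𝒴 𝒵 : AlgSt.Cat S}
    (h𝒳 : AlgSt.IsAlgStack Scheme.fppfPrecoverage 𝒳)
    (h𝒴 : AlgSt.IsAlgStack Scheme.fppfPrecoverage 𝒴)
    (h𝒵 : AlgSt.IsAlgStack Scheme.fppfPrecoverage 𝒵) (f : 𝒳 ⥤ᵇ 𝒴) (g : 𝒴 ⥤ᵇ 𝒵)
    (hf₁ : AlgSt.LocQ (AlgSp.LocP @Flat) f)
    (hf₂ : AlgSt.LocQ (AlgSp.LocP @LocallyOfFinitePresentation) f)
    (hf₃ : AlgSt.IsSurjective f)
    (h : AlgSt.LocQ (AlgSp.LocP @LocallyOfFinitePresentation) (BasedFunctor.comp f g)) :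
    AlgSt.LocQ (AlgSp.LocP @LocallyOfFinitePresentation) g := by
  have hX := h𝒳.isStack.1
  have hY := h𝒴.isStack.1
  have hZ := h𝒵.isStack.1
  obtain ⟨W₁, q₁, h₁s, h₁j, h₁f, h₁p⟩ := exists_flat_lfp_chart h𝒳 h𝒴 f hf₁ hf₂
  obtain ⟨W₂, q₂, h₂s, h₂j, h₂⟩ := exists_chart_of_locQ good_lfp hZ _ h
  obtain ⟨W, q, a₁, a₂, hqs, hqj, ha₁, ha₂, ⟨i₁⟩, ⟨i₂⟩⟩ :=
    exists_common_chart h𝒳 q₁ q₂ h₁s h₁j h₂s h₂j
  have k₁f := repWith_of_refine good_flat hY a₁ ha₁ q₁ q i₁ f h₁f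
  have k₁p := repWith_of_refine good_lfp hY a₁ ha₁ q₁ q i₁ f h₁p
  have k₂ := repWith_of_refine good_lfp hZ a₂ ha₂ q₂ q i₂ (BasedFunctor.comp f g) h₂
  refine locQ_of_cover_chart good_lfp comp_smooth_lfp CFppf cFppf_good desc_lfp h𝒴 h𝒵 g
    (BasedFunctor.comp q f) ?_ ?_ k₂
  · rintro P (rfl | rfl)
    · exact k₁f
    · exact k₁p
  · exact isSurjective_comp _ _ (isSurjective_of_repWith hX q hqj) hf₃

end Groth.Agent.Lib.Helper17.LQT
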