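import Groth.Agent.Lib.Helper17.PointsSp2
import Groth.Agent.Lib.Helper23.AlgSpMor5
import Groth.Agent.Lib.Helper37.AlgSpPoints

set_option autoImplicit false
set_option backward.isDefEq.respectTransparency false
set_option backward.isDefEq.respectTransparency.types false
universe u

namespace Groth.Agent.Lib.Helper17.PDX

open CategoryTheory CategoryTheory.Limits AlgebraicGeometry Opposite AlgSp FibCat Stk AlgSt
open Groth.Agent.Lib.Helper17 Groth.Agent.Lib.Helper17.FP Groth.Agent.Lib.Helper17.EO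
  Groth.Agent.Lib.Helper17.PD Groth.Agent.Lib.Helper17.AT Groth.Agent.Lib.Helper17.AB
  Groth.Agent.Lib.Helper17.AOS Groth.Agent.Lib.Helper17.ACP Groth.Agent.Lib.Helper17.PTS
open Groth.Agent.Lib.Helper46 Groth.Agent.Lib.Helper46.LocPChart

/-- a property of maps of topological spaces which is invariant under homeomorphisms and descends
along open surjective base changes -/
structure TopProp (Pr : ∀ {X Y : Type (u + 1)} [TopologicalSpace X] [TopologicalSpace Y],
    (X → Y) → Prop) : Prop where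
  conj : ∀ {X X' Y Y' : Type (u + 1)} [TopologicalSpace X] [TopologicalSpace X']
    [TopologicalSpace Y] [TopologicalSpace Y'] (A : X ≃ₜ X') (B : Y ≃ₜ Y') (f : X → Y)
    (g : X' → Y'), (∀ x, B (f x) = g (A x)) → (Pr f ↔ Pr g)
  desc : ∀ {X' V' X Z : Type (u + 1)} [TopologicalSpace X'] [TopologicalSpace V']
    [TopologicalSpace X] [TopologicalSpace Z] (v : V' → Z) (π' : X' → V') (m' : X' → X)
    (π : X → Z), Continuous v → IsOpenMap v → Function.Surjective v → Continuous m' →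
    Function.Surjective m' → (∀ x', v (π' x') = π (m' x')) →
    (∀ z' p, v z' = π p → ∃ x', π' x' = z' ∧ m' x' = p) → Continuous π → Pr π' → Pr π

section Instances

theorem topProp_isOpenMap : TopProp.{u} (fun {_ _} [_] [_] f => IsOpenMap f) where
  conj := fun A B f g h => isOpenMap_conj A B f g h
  desc := by
    intro X' V' X Z _ _ _ _ v π' m' π _ hvo _ hmc hms hcomm _ _ hπ' O hO
    have e : π '' O = v '' (π' '' (m' ⁻¹' O)) := by
      ext z
      constructor
      · rintro ⟨x, hx, rfl⟩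
        obtain ⟨x', rfl⟩ := hms x
        exact ⟨π' x', ⟨x', hx, rfl⟩, hcomm x'⟩
      · rintro ⟨_, ⟨x', hx', rfl⟩, rfl⟩
        exact ⟨m' x', hx', (hcomm x').symm⟩
    rw [e]
    exact hvo _ (hπ' _ (hO.preimage hmc))

theorem isQuotientMap_of_open_surj {V' Z : Type*} [TopologicalSpace V'] [TopologicalSpace Z]
    (v : V' → Z) (hvc : Continuous v) (hvo : IsOpenMap v) (hvs : Function.Surjective v) :
    Topology.IsQuotientMap v :=
  hvo.isQuotientMap hvc hvs

theorem topProp_isClosedMap : TopProp.{u} (fun {_ _} [_] [_] f => IsClosedMap f) where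
  conj := fun A B f g h => isClosedMap_conj A B f g h
  desc := by
    intro X' V' X Z _ _ _ _ v π' m' π hvc hvo hvs hmc _ hcomm hfib _ hπ' C hC
    have hq := isQuotientMap_of_open_surj v hvc hvo hvs
    rw [← hq.isClosed_preimage]
    have e : v ⁻¹' (π '' C) = π' '' (m' ⁻¹' C) := by
      ext z'
      constructor
      · rintro ⟨x, hx, h⟩
        obtain ⟨x', rfl, rfl⟩ := hfib z' x h.symm
        exact ⟨x', hx, rfl⟩
      · rintro ⟨x', hx', rfl⟩
        exact ⟨m' x', hx', (hcomm x').symm⟩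
    rw [e]
    exact hπ' _ (hC.preimage hmc)

theorem topProp_injective : TopProp.{u} (fun {_ _} [_] [_] f => Function.Injective f) where
  conj := fun A B f g h => injective_conj A B f g h
  desc := by
    intro X' V' X Z _ _ _ _ v π' m' π _ _ hvs _ _ _ hfib _ hπ' x₁ x₂ h
    obtain ⟨z', hz'⟩ := hvs (π x₁)
    obtain ⟨x'₁, h1, rfl⟩ := hfib z' x₁ hz'
    obtain ⟨x'₂, h2, rfl⟩ := hfib z' x₂ (hz'.trans h)
    rw [hπ' (h1.trans h2.symm)]

theorem surjective_desc {X' V' X Z : Type*} (v : V' → Z) (π' : X' → V') (m' : X' → X)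
    (π : X → Z) (hvs : Function.Surjective v) (hcomm : ∀ x', v (π' x') = π (m' x'))
    (hπ' : Function.Surjective π') : Function.Surjective π := by
  intro z
  obtain ⟨z', rfl⟩ := hvs z
  obtain ⟨x', rfl⟩ := hπ' z'
  exact ⟨m' x', (hcomm x').symm⟩

theorem topProp_isHomeomorph : TopProp.{u} (fun {_ _} [_] [_] f => IsHomeomorph f) where
  conj := fun A B f g h => isHomeomorph_conj A B f g h
  desc := by
    intro X' V' X Z _ _ _ _ v π' m' π hvc hvo hvs hmc hms hcomm hfib hπc hπ'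
    refine ⟨hπc, ?_, ?_, ?_⟩
    · exact topProp_isOpenMap.desc v π' m' π hvc hvo hvs hmc hms hcomm hfib hπc hπ'.isOpenMap
    · exact topProp_injective.desc v π' m' π hvc hvo hvs hmc hms hcomm hfib hπc hπ'.injective
    · exact surjective_desc v π' m' π hvs hcomm hπ'.surjective

theorem topProp_isQuotientMap : TopProp.{u} (fun {_ _} [_] [_] f => Topology.IsQuotientMap f) where
  conj := fun A B f g h => isQuotientMap_conj A B f g h
  desc := by
    intro X' V' X Z _ _ _ _ v π' m' π hvc hvo hvs hmc _ hcomm _ hπc hπ'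
    have hq := isQuotientMap_of_open_surj v hvc hvo hvs
    refine ⟨Topology.isCoinducing_iff.mpr fun O => ⟨fun h => ?_, fun h => h.preimage hπc⟩,
      surjective_desc v π' m' π hvs hcomm hπ'.surjective⟩
    rw [← hq.isOpen_preimage, ← hπ'.isOpen_preimage]
    have e : π' ⁻¹' (v ⁻¹' O) = m' ⁻¹' (π ⁻¹' O) := by
      ext x'
      change v (π' x') ∈ O ↔ π (m' x') ∈ O
      rw [hcomm]
    rw [e]
    exact h.preimage hmc

end Instances

variable {S : Scheme.{u}}
variable {Pr : ∀ {X Y : Type (u + 1)} [TopologicalSpace X] [TopologicalSpace Y], (X → Y) → Prop}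

/-- the property of morphisms of sheaves defined by a property of the maps on points -/
def QP (Pr : ∀ {X Y : Type (u + 1)} [TopologicalSpace X] [TopologicalSpace Y], (X → Y) → Prop) :
    MorphismProperty (Sp S) := fun _ _ f => Pr (AlgSp.Points.map f)

theorem isHomeomorph_points_map_iso {X Y : Sp S} (e : X ≅ Y) :
    IsHomeomorph (AlgSp.Points.map e.hom) := by
  have h1 : ∀ x, AlgSp.Points.map e.inv (AlgSp.Points.map e.hom x) = x := fun x => by
    rw [← AlgSp.Points.map_comp, e.hom_inv_id, AlgSp.Points.map_id]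
  have h2 : ∀ y, AlgSp.Points.map e.hom (AlgSp.Points.map e.inv y) = y := fun y => by
    rw [← AlgSp.Points.map_comp, e.inv_hom_id, AlgSp.Points.map_id]
  refine ⟨AlgSp.Points.continuous_map _, ?_, Function.LeftInverse.injective h1,
    Function.RightInverse.surjective h2⟩
  intro O hO
  have : AlgSp.Points.map e.hom '' O = AlgSp.Points.map e.inv ⁻¹' O := by
    ext y
    constructor
    · rintro ⟨x, hx, rfl⟩
      change AlgSp.Points.map e.inv (AlgSp.Points.map e.hom x) ∈ O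
      rw [h1]
      exact hx
    · intro hy
      exact ⟨AlgSp.Points.map e.inv y, hy, h2 y⟩
  rw [this]
  exact hO.preimage (AlgSp.Points.continuous_map _)

theorem qP_respectsIso (hPr : TopProp.{u} Pr) : (QP (S := S) Pr).RespectsIso := by
  apply MorphismProperty.RespectsIso.mk
  · intro X Y Z e f hf
    exact (hPr.conj (isHomeomorph_points_map_iso e).homeomorph (Homeomorph.refl _)
      (AlgSp.Points.map (e.hom ≫ f)) (AlgSp.Points.map f)
      (fun x => AlgSp.Points.map_comp e.hom f x)).mpr hf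
  · intro X Y Z e f hf
    exact (hPr.conj (Homeomorph.refl _) (isHomeomorph_points_map_iso e).homeomorph
      (AlgSp.Points.map f) (AlgSp.Points.map (f ≫ e.hom))
      (fun x => (AlgSp.Points.map_comp f e.hom x).symm)).mp hf

/-- **(⇒)**: a representable morphism with universally-`Pr` base changes to schemes has `Pr` after
every base change to an algebraic stack -/
theorem univ_of_repWith (hPr : TopProp.{u} Pr) {𝒳 𝒴 : AlgSt.Cat S}
    (h𝒳 : AlgSt.IsAlgStack Scheme.fppfPrecoverage 𝒳)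
    (h𝒴 : AlgSt.IsAlgStack Scheme.fppfPrecoverage 𝒴) (f : 𝒳 ⥤ᵇ 𝒴)
    (h : AlgSt.RepByAlgSpWith (UnivSp (QP Pr)) f) (𝒵 : AlgSt.Cat S)
    (h𝒵 : AlgSt.IsAlgStack Scheme.fppfPrecoverage 𝒵) (g : 𝒵 ⥤ᵇ 𝒴) :
    Pr (AlgSt.Points.map (FibCat.fpFst g f)) := by
  obtain ⟨V, y, H⟩ := exists_top_square h𝒳 h𝒴 h𝒵 f g
  obtain ⟨F, e, he, hQ⟩ := h V y
  obtain ⟨V', X', _, _, v, π', m', A, B, hvc, hvo, hvs, hmc, hms, hcomm, hfib, hAB⟩ := H F e he
  have hφ : Pr (AlgSp.Points.map (spMapOfOver (BasedFunctor.comp e (FibCat.fpFst y f)))) :=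
    hQ (IsAlgSpace.yon_obj V) (𝟙 _) (𝟙 _) _ (IsPullback.of_horiz_isIso ⟨by simp⟩)
  have hπ' : Pr π' := (hPr.conj A B _ _ hAB).mp hφ
  exact hPr.desc v π' m' _ hvc hvo hvs hmc hms hcomm hfib (continuous_map h𝒵 _) hπ'

/-- universality over algebraic spaces can be tested on schemes -/
theorem univSp_of_schemes (hPr : TopProp.{u} Pr) {X Y : Sp S} (a : X ⟶ Y)
    (H : ∀ (W : Over S) (g : (yon S).obj W ⟶ Y) (P : Sp S) (fst : P ⟶ X)
      (snd : P ⟶ (yon S).obj W), IsPullback fst snd a g → Pr (AlgSp.Points.map snd)) :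
    UnivSp (QP Pr) a := by
  intro Z Z' hZ g fst snd sq
  obtain ⟨W, c, hce, hcs⟩ := hZ.atlas
  have sq2 : IsPullback (pullback.fst snd c) (pullback.snd snd c) snd c :=
    IsPullback.of_hasPullback snd c
  have sq3 : IsPullback (pullback.fst snd c ≫ fst) (pullback.snd snd c) a (c ≫ g) :=
    sq2.paste_horiz sq
  have h1 : Pr (AlgSp.Points.map (pullback.snd snd c)) := H W (c ≫ g) _ _ _ sq3
  have hcsurj : IsSurjectiveMor c := ACov.points_map_surjective c hcs
  refine hPr.desc (AlgSp.Points.map c) (AlgSp.Points.map (pullback.snd snd c))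
    (AlgSp.Points.map (pullback.fst snd c)) (AlgSp.Points.map snd)
    (AlgSp.Points.continuous_map c)
    (Groth.Agent.Lib.Helper23.AlgSpMor.isOpenMap_points_of_repWith_etale c hce) hcsurj
    (AlgSp.Points.continuous_map _)
    (Groth.Agent.Lib.Helper23.AlgSpMor.isSurjectiveMor_of_isPullback sq2.flip hcsurj)
    ?_ ?_ (AlgSp.Points.continuous_map snd) h1
  · intro x'
    rw [← AlgSp.Points.map_comp, ← AlgSp.Points.map_comp, sq2.w]
  · intro z' p hzp
    exact Groth.Agent.Lib.Helper37.AlgSpPoints.points_exists_of_isPullback sq2.flip z' p hzp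

/-- **(⇐)** -/
theorem repWith_univSp_of_univ (hPr : TopProp.{u} Pr) {𝒳 𝒴 : AlgSt.Cat S}
    (h𝒳 : AlgSt.IsAlgStack Scheme.fppfPrecoverage 𝒳)
    (h𝒴 : AlgSt.IsAlgStack Scheme.fppfPrecoverage 𝒴) (f : 𝒳 ⥤ᵇ 𝒴) (hf : AlgSt.RepByAlgSp1 f)
    (H : ∀ (𝒵 : AlgSt.Cat S), AlgSt.IsAlgStack Scheme.fppfPrecoverage 𝒵 → ∀ (g : 𝒵 ⥤ᵇ 𝒴),
      Pr (AlgSt.Points.map (FibCat.fpFst g f))) :
    AlgSt.RepByAlgSpWith (UnivSp (QP Pr)) f := by
  have hRI := qP_respectsIso (S := S) hPr
  have key : AlgSt.RepByAlgSpWith (QP Pr) f := by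
    intro Z y'
    obtain ⟨F', e', he'⟩ := hf Z y'
    refine ⟨F', e', he', ?_⟩
    obtain ⟨A, B, hAB⟩ := exists_homeos_fp h𝒳 h𝒴 f y' F' e' he'
    exact (hPr.conj A B _ _ hAB).mpr (H (FibCat.overCat Z) (SPS.isAlgStack_overCat Z) y')
  intro T y
  obtain ⟨F, e, he⟩ := hf T y
  refine ⟨F, e, he, ?_⟩
  apply univSp_of_schemes hPr
  intro W g P fst snd sq
  have k5 := repBySpWith_of_repWith (QP Pr) f key y F e he
  rw [AlgSp.repBySpWith_hom_iff] at k5
  exact (k5 g fst snd sq).2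

theorem repWith_univSp_iff (hPr : TopProp.{u} Pr) {𝒳 𝒴 : AlgSt.Cat S}
    (h𝒳 : AlgSt.IsAlgStack Scheme.fppfPrecoverage 𝒳)
    (h𝒴 : AlgSt.IsAlgStack Scheme.fppfPrecoverage 𝒴) (f : 𝒳 ⥤ᵇ 𝒴) (hf : AlgSt.RepByAlgSp1 f) :
    AlgSt.RepByAlgSpWith (UnivSp (QP Pr)) f ↔
      ∀ (𝒵 : AlgSt.Cat S), AlgSt.IsAlgStack Scheme.fppfPrecoverage 𝒵 → ∀ (g : 𝒵 ⥤ᵇ 𝒴),
        Pr (AlgSt.Points.map (FibCat.fpFst g f)) :=
  ⟨fun h => univ_of_repWith hPr h𝒳 h𝒴 f h, fun H => repWith_univSp_of_univ hPr h𝒳 h𝒴 f hf H⟩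

end Groth.Agent.Lib.Helper17.PDX
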