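import Groth.Agent.Lib.Helper17.LocQTools5
import Groth.Agent.Lib.Helper17.PointsSp3
import Groth.Agent.Lib.Helper17.FppfDescent

set_option autoImplicit false
set_option backward.isDefEq.respectTransparency false
set_option backward.isDefEq.respectTransparency.types false
universe u

namespace Groth.Agent.Lib.Helper17.LQT

open CategoryTheory CategoryTheory.Limits AlgebraicGeometry Opposite AlgSp FibCat Stk AlgSt
open Groth.Agent.Lib.Helper17 Groth.Agent.Lib.Helper17.FP Groth.Agent.Lib.Helper17.EO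
  Groth.Agent.Lib.Helper17.PD Groth.Agent.Lib.Helper17.AT Groth.Agent.Lib.Helper17.AB
  Groth.Agent.Lib.Helper17.AOS Groth.Agent.Lib.Helper17.ACP Groth.Agent.Lib.Helper17.PTS
open Groth.Agent.Lib.Helper46 Groth.Agent.Lib.Helper46.LocPChart

variable {S : Scheme.{u}}

/-- a representable morphism of algebraic stacks which is surjective on points is surjective after
every base change to a scheme -/
theorem repWith_surj_of_isSurjective {𝒳 𝒴 : AlgSt.Cat S}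
    (h𝒳 : AlgSt.IsAlgStack Scheme.fppfPrecoverage 𝒳)
    (h𝒴 : AlgSt.IsAlgStack Scheme.fppfPrecoverage 𝒴) (f : 𝒳 ⥤ᵇ 𝒴) (hf : AlgSt.RepByAlgSp1 f)
    (hs : AlgSt.IsSurjective f) : AlgSt.RepByAlgSpWith IsSurjectiveMor f := by
  intro T y
  obtain ⟨F, e, he⟩ := hf T y
  refine ⟨F, e, he, ?_⟩
  obtain ⟨A, B, hAB⟩ := PDX.exists_homeos_fp h𝒳 h𝒴 f y F e he
  intro p
  have hTf : FibCat.IsFibGrpd (FibCat.overCat T).p := FG.isFibGrpd_overForget T
  obtain ⟨ω, hω⟩ := isSurjective_fpFst h𝒳.isStack.1 h𝒴.isStack.1 hTf f y hs (B p)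
  refine ⟨A.symm ω, B.injective ?_⟩
  rw [hAB, Homeomorph.apply_symm_apply, hω]

/-- a chart of an algebraic stack is representable -/
theorem rep1_chart {𝒴 : AlgSt.Cat S} (h𝒴 : AlgSt.IsAlgStack Scheme.fppfPrecoverage 𝒴)
    {W : Over S} (x : FibCat.overCat W ⥤ᵇ 𝒴) : AlgSt.RepByAlgSp1 x := by
  intro U y
  exact (Groth.Agent.S12765.result h𝒴.isStack.1).mp h𝒴.diag W x U y

/-- **S12995** -/
theorem repWith_iff_fpFst_of_fppf (P : MorphismProperty (AlgSp.Sp S)) (hPb : ACP.BC P)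
    (hP : AlgSp.IsLocalOnBase (AlgSp.IsFppfCover (S := S)) P)
    {𝒳 𝒴 𝒵 : AlgSt.Cat S}
    (h𝒳 : AlgSt.IsAlgStack Scheme.fppfPrecoverage 𝒳)
    (h𝒴 : AlgSt.IsAlgStack Scheme.fppfPrecoverage 𝒴) (f : 𝒳 ⥤ᵇ 𝒴) (hf : AlgSt.RepByAlgSp1 f)
    (h𝒵 : AlgSt.IsAlgStack Scheme.fppfPrecoverage 𝒵) (z : 𝒵 ⥤ᵇ 𝒴)
    (hz₁ : AlgSt.LocQ (AlgSp.LocP @Flat) z)
    (hz₂ : AlgSt.LocQ (AlgSp.LocP @LocallyOfFinitePresentation) z)
    (hz₃ : AlgSt.IsSurjective z) :
    AlgSt.RepByAlgSpWith P f ↔ AlgSt.RepByAlgSpWith P (FibCat.fpFst z f) := by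
  constructor
  · intro h
    exact AB.repWith_fpFst P f z h
  · intro h
    obtain ⟨W, q, -, hqj, hq1, hq2⟩ := exists_flat_lfp_chart h𝒵 h𝒴 z hz₁ hz₂
    let ζ : FibCat.overCat W ⥤ᵇ 𝒴 := BasedFunctor.comp q z
    have hζs : AlgSt.IsSurjective ζ :=
      isSurjective_comp _ _ (isSurjective_of_repWith h𝒵.isStack.1 q hqj) hz₃
    have hζ3 : AlgSt.RepByAlgSpWith IsSurjectiveMor ζ :=
      repWith_surj_of_isSurjective (SPS.isAlgStack_overCat W) h𝒴 ζ (rep1_chart h𝒴 ζ) hζs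
    have h1 : AlgSt.RepByAlgSpWith P (FibCat.fpFst q (FibCat.fpFst z f)) :=
      AB.repWith_fpFst P (FibCat.fpFst z f) q h
    have h2 : AlgSt.RepByAlgSpWith P (FibCat.fpFst ζ f) :=
      FD.repWith_precomp_equiv P (PS.paste q z f) (PS.paste_isEquivOver _ _ _) _ h1
    exact FD.repWith_of_fpFst_cover P hPb hP f hf ζ hq1 hq2 hζ3 h2

/-- **S13000**: locally of finite type can be tested after a flat, locally finitely presented,
surjective base change from an algebraic space -/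
theorem locQ_lft_of_fpFst_space {𝒳 𝒴 : AlgSt.Cat S}
    (h𝒳 : AlgSt.IsAlgStack Scheme.fppfPrecoverage 𝒳)
    (h𝒴 : AlgSt.IsAlgStack Scheme.fppfPrecoverage 𝒴) (f : 𝒳 ⥤ᵇ 𝒴)
    (W : AlgSp.Space S) (w : AlgSt.ofSp W.obj ⥤ᵇ 𝒴)
    (hw₁ : AlgSt.RepByAlgSpWith (AlgSp.LocP @Flat) w)
    (hw₂ : AlgSt.RepByAlgSpWith (AlgSp.LocP @LocallyOfFinitePresentation) w)
    (hw₃ : AlgSt.RepByAlgSpWith AlgSp.IsSurjectiveMor w)
    (h : AlgSt.LocQ (AlgSp.LocP @LocallyOfFiniteType) (FibCat.fpFst w f)) :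
    AlgSt.LocQ (AlgSp.LocP @LocallyOfFiniteType) f := by
  have hX := h𝒳.isStack.1
  have hY := h𝒴.isStack.1
  have hWf : FibCat.IsFibGrpd (AlgSt.ofSp W.obj).p := Stk.isFibGrpd_ofPsh _
  have hfp : FibCat.IsFibGrpd (FibCat.fp w f).p := SP.isFibGrpd_fp _ _ hWf hX hY
  obtain ⟨T, p, hps, hpj, hp⟩ := exists_chart_of_locQ good_lft hWf _ h
  have hTf : FibCat.IsFibGrpd (FibCat.overCat T).p := FG.isFibGrpd_overForget T
  let ψ : FibCat.overCat T ⥤ᵇ 𝒳 := BasedFunctor.comp p (FibCat.fpSnd w f)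
  have hψ1 : AlgSt.RepByAlgSpWith (LocP @Flat) ψ :=
    repWith_comp_of_schLocal' hTf hX _ DL.flat_bc DL.flat_cp flat_schLocal p _
      (flat_of_smooth p hps) (AB.repWith_fpSnd _ w f hw₁)
  have hψ2 : AlgSt.RepByAlgSpWith (LocP @LocallyOfFinitePresentation) ψ :=
    repWith_comp_of_schLocal' hTf hX _ DL.lfp_bc DL.lfp_cp lfp_schLocal p _
      (lfp_of_smooth p hps) (AB.repWith_fpSnd _ w f hw₂)
  have hψs : AlgSt.IsSurjective ψ :=
    isSurjective_comp _ _ (isSurjective_of_repWith hfp p hpj)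
      (isSurjective_of_repWith hX _ (AB.repWith_fpSnd _ w f hw₃))
  have hwlft : AlgSt.RepByAlgSpWith (LocP @LocallyOfFiniteType) w :=
    repWith_locP_mono (fun _ _ g hg => by have := hg; infer_instance) w hw₂
  have h1 : AlgSt.RepByAlgSpWith (LocP @LocallyOfFiniteType)
      (BasedFunctor.comp (BasedFunctor.comp p (FibCat.fpFst w f)) w) :=
    repWith_comp_of_schLocal' hTf hY _ DL.lft_bc DL.lft_cp
      (ACov.schLocal_of_isLocalOnBase _ DL.lft_local) _ w hp hwlft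
  have hψf : AlgSt.RepByAlgSpWith (LocP @LocallyOfFiniteType) (BasedFunctor.comp ψ f) := by
    let P' : (FibCat.overCat T : AlgSt.Cat S) ⟶ FibCat.fp w f := p
    have j : BasedFunctor.comp p (BasedFunctor.comp (FibCat.fpSnd w f) f) ≅
        BasedFunctor.comp p (BasedFunctor.comp (FibCat.fpFst w f) w) :=
      Bicategory.whiskerLeftIso P' (FibCat.fpIso w f).symm
    exact DCN.repWith_of_iso _ j h1
  refine locQ_of_cover_chart good_lft comp_smooth_lft CFppf cFppf_good desc_lft h𝒳 h𝒴 f ψ ?_ hψs hψf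
  rintro P (rfl | rfl)
  · exact hψ1
  · exact hψ2

end Groth.Agent.Lib.Helper17.LQT
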