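import Groth.Agent.Lib.Helper17.LocQTools6
import Groth.Agent.Lib.Helper17.PastingR

set_option autoImplicit false
set_option backward.isDefEq.respectTransparency false
set_option backward.isDefEq.respectTransparency.types false
universe u

namespace Groth.Agent.Lib.Helper17.LQT

open CategoryTheory CategoryTheory.Limits AlgebraicGeometry Opposite AlgSp FibCat Stk AlgSt
open Groth.Agent.Lib.Helper17 Groth.Agent.Lib.Helper17.FP Groth.Agent.Lib.Helper17.EO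
  Groth.Agent.Lib.Helper17.PD Groth.Agent.Lib.Helper17.AT Groth.Agent.Lib.Helper17.AB
  Groth.Agent.Lib.Helper17.AOS Groth.Agent.Lib.Helper17.ACP Groth.Agent.Lib.Helper17.PTS
open Groth.Agent.Lib.Helper46 Groth.Agent.Lib.Helper46.LocPChart

variable {S : Scheme.{u}}

/-- **base change of the chart form**: if `z : 𝒵 ⟶ 𝒴` has `Q` on a chart, so does the projection
`𝒵 ×_𝒴 𝒳 ⟶ 𝒳` -/
theorem exists_chart_fpSnd {Q : MorphismProperty Scheme.{u}} (hQ : Good Q)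
    (hQc : ∀ ⦃A B C : Scheme.{u}⦄ (e : A ⟶ B) (k : B ⟶ C), Q e → Smooth k → Q (e ≫ k))
    {𝒳 𝒴 𝒵 : AlgSt.Cat S}
    (h𝒳 : AlgSt.IsAlgStack Scheme.fppfPrecoverage 𝒳)
    (h𝒴 : AlgSt.IsAlgStack Scheme.fppfPrecoverage 𝒴)
    (h𝒵 : AlgSt.IsAlgStack Scheme.fppfPrecoverage 𝒵) (z : 𝒵 ⥤ᵇ 𝒴) (f : 𝒳 ⥤ᵇ 𝒴)
    {W : Over S} (q : FibCat.overCat W ⥤ᵇ 𝒵)
    (hqs : AlgSt.RepByAlgSpWith (LocP @Smooth) q) (hqj : AlgSt.RepByAlgSpWith IsSurjectiveMor q)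
    (hq : AlgSt.RepByAlgSpWith (LocP Q) (BasedFunctor.comp q z)) :
    ∃ (W₀ : Over S) (p : FibCat.overCat W₀ ⥤ᵇ FibCat.fp z f),
      AlgSt.RepByAlgSpWith (LocP @Smooth) p ∧ AlgSt.RepByAlgSpWith IsSurjectiveMor p ∧
      AlgSt.RepByAlgSpWith (LocP Q) (BasedFunctor.comp p (FibCat.fpSnd z f)) := by
  have hX := h𝒳.isStack.1
  have hY := h𝒴.isStack.1
  have hZ := h𝒵.isStack.1
  obtain ⟨X₀, x₀, hx₀s, hx₀j⟩ := h𝒳.atlas
  let v : FibCat.overCat X₀ ⥤ᵇ 𝒴 := BasedFunctor.comp x₀ f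
  obtain ⟨W₀, a₀, b₀, w', -, ⟨i2⟩, -, -, hb₀, hw', hw's⟩ :=
    exists_lift_chart hZ hY h𝒴.diag z v q
  have hW₀f : FibCat.IsFibGrpd (FibCat.overCat W₀).p := FG.isFibGrpd_overForget W₀
  have hX₀f : FibCat.IsFibGrpd (FibCat.overCat X₀).p := FG.isFibGrpd_overForget X₀
  have hfpzv : FibCat.IsFibGrpd (FibCat.fp z v).p := SP.isFibGrpd_fp _ _ hZ hX₀f hY
  have hPP : AlgSt.IsAlgStack Scheme.fppfPrecoverage (FibCat.fp z f) :=
    AFP.isAlgStack_fp h𝒴.isStack h𝒴.diag h𝒵 h𝒳 z f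
  have hP := hPP.isStack.1
  have hb₀Q : Q b₀.left := hb₀ Q hQ.of_etale (hQ.bc S) (hQ.cp S) hq
  let τ : FibCat.fp z v ⥤ᵇ FibCat.fp z f := PSR.toInner z x₀ f
  have hτ : ∀ (P : MorphismProperty (AlgSp.Sp S)), AlgSt.RepByAlgSpWith P x₀ →
      AlgSt.RepByAlgSpWith P τ := fun P h =>
    FD.repWith_precomp_equiv P (PSR.paste z x₀ f) (PSR.paste_isEquivOver z x₀ f) _
      (AB.repWith_fpFst P x₀ (FibCat.fpSnd z f) h)
  let p : FibCat.overCat W₀ ⥤ᵇ FibCat.fp z f := BasedFunctor.comp w' τ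
  have hps : AlgSt.RepByAlgSpWith (LocP @Smooth) p :=
    repWith_comp_of_schLocal' hW₀f hP _ AFP.sm_bc AFP.sm_cp CT.sm_schLocal w' τ
      (hw' @Smooth (fun _ _ f hf => by have := hf; infer_instance) AFP.sm_bc AFP.sm_cp
        CT.sm_schLocal hqs) (hτ _ hx₀s)
  have hτsurj : AlgSt.IsSurjective τ := isSurjective_of_repWith hP τ (hτ _ hx₀j)
  have hpsurj : AlgSt.IsSurjective p :=
    isSurjective_comp w' τ (hw's (isSurjective_of_repWith hZ q hqj)) hτsurj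
  have hpj : AlgSt.RepByAlgSpWith IsSurjectiveMor p :=
    repWith_surj_of_isSurjective (SPS.isAlgStack_overCat W₀) hPP p (rep1_chart hPP p) hpsurj
  refine ⟨W₀, p, hps, hpj, ?_⟩
  have e1 : BasedFunctor.comp τ (FibCat.fpSnd z f) =
      BasedFunctor.comp (FibCat.fpSnd z v) x₀ := rfl
  have hb1 : AlgSt.RepByAlgSpWith (LocP Q) (AlgSt.overMap b₀) :=
    CT.repWith_overMap _ (hQ.bc S) b₀
      (Groth.Agent.Lib.Helper23.AlgSpMor.locP_yon_map_of hQ.etLocal b₀ hb₀Q)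
  have hx₀Q : AlgSt.RepByAlgSpWith (LocP Q) x₀ := repWith_locP_mono hQ.of_smooth x₀ hx₀s
  have h1 : AlgSt.RepByAlgSpWith (LocP Q) (BasedFunctor.comp (AlgSt.overMap b₀) x₀) :=
    repWith_comp_of_schLocal' hW₀f hX _ (hQ.bc S) (hQ.cp S) (hQ.schLocal S) _ x₀ hb1 hx₀Q
  let X₀' : (FibCat.overCat X₀ : AlgSt.Cat S) ⟶ 𝒳 := x₀
  have j : BasedFunctor.comp (BasedFunctor.comp w' (FibCat.fpSnd z v)) x₀ ≅
      BasedFunctor.comp (AlgSt.overMap b₀) x₀ :=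
    Bicategory.whiskerRightIso
      (f := (BasedFunctor.comp w' (FibCat.fpSnd z v) :
        (FibCat.overCat W₀ : AlgSt.Cat S) ⟶ FibCat.overCat X₀))
      (g := (AlgSt.overMap b₀ : (FibCat.overCat W₀ : AlgSt.Cat S) ⟶ FibCat.overCat X₀)) i2 X₀'
  exact DCN.repWith_of_iso _ j h1

/-- **composition of the chart form** -/
theorem exists_chart_comp {Q : MorphismProperty Scheme.{u}} (hQ : Good Q)
    {𝒬 𝒵 𝒴 : AlgSt.Cat S} (hP : FibCat.IsFibGrpd 𝒬.p)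
    (h𝒵 : AlgSt.IsAlgStack Scheme.fppfPrecoverage 𝒵) (hY : FibCat.IsFibGrpd 𝒴.p)
    (φ : 𝒬 ⥤ᵇ 𝒵) (z : 𝒵 ⥤ᵇ 𝒴)
    {T W : Over S} (p : FibCat.overCat T ⥤ᵇ 𝒬) (q : FibCat.overCat W ⥤ᵇ 𝒵)
    (hps : AlgSt.RepByAlgSpWith (LocP @Smooth) p) (hpj : AlgSt.RepByAlgSpWith IsSurjectiveMor p)
    (hp : AlgSt.RepByAlgSpWith (LocP Q) (BasedFunctor.comp p φ))
    (hqs : AlgSt.RepByAlgSpWith (LocP @Smooth) q) (hqj : AlgSt.RepByAlgSpWith IsSurjectiveMor q)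
    (hq : AlgSt.RepByAlgSpWith (LocP Q) (BasedFunctor.comp q z)) :
    ∃ (T₁ : Over S) (p' : FibCat.overCat T₁ ⥤ᵇ 𝒬),
      AlgSt.RepByAlgSpWith (LocP @Smooth) p' ∧ AlgSt.RepByAlgSpWith IsSurjectiveMor p' ∧
      AlgSt.RepByAlgSpWith (LocP Q) (BasedFunctor.comp p' (BasedFunctor.comp φ z)) := by
  have hZ := h𝒵.isStack.1
  obtain ⟨T₁, a, b, ha, haj, hb, -, ⟨i⟩, -⟩ :=
    exists_bridge_all hZ h𝒵.diag (BasedFunctor.comp p φ) q
  have hT₁f : FibCat.IsFibGrpd (FibCat.overCat T₁).p := FG.isFibGrpd_overForget T₁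
  have hasm : Smooth a.left := ha @Smooth (fun _ _ f hf => by have := hf; infer_instance)
    AFP.sm_bc AFP.sm_cp hqs
  have hasurj := haj hqj
  have hbQ : Q b.left := hb Q hQ.of_etale (hQ.bc S) (hQ.cp S) hp
  have ha0 : AlgSt.RepByAlgSpWith (LocP @Smooth) (AlgSt.overMap a) :=
    CT.repWith_overMap _ AFP.sm_bc a
      (Groth.Agent.Lib.Helper23.AlgSpMor.locP_yon_map_of
        Groth.Agent.Lib.Helper30.EtLocalInst.etLocal_smooth a hasm)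
  have ha3 : AlgSt.RepByAlgSpWith IsSurjectiveMor (AlgSt.overMap a) :=
    CT.repWith_overMap _ DL.surj_bc a (CT.isSurjectiveMor_yon_map a hasurj)
  have hb1 : AlgSt.RepByAlgSpWith (LocP Q) (AlgSt.overMap b) :=
    CT.repWith_overMap _ (hQ.bc S) b
      (Groth.Agent.Lib.Helper23.AlgSpMor.locP_yon_map_of hQ.etLocal b hbQ)
  refine ⟨T₁, BasedFunctor.comp (AlgSt.overMap a) p, ?_, ?_, ?_⟩
  · exact repWith_comp_of_schLocal' hT₁f hP _ AFP.sm_bc AFP.sm_cp CT.sm_schLocal _ p ha0 hps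
  · exact repWith_comp_of_schLocal' hT₁f hP _ DL.surj_bc DL.surj_cp CT.surj_schLocal _ p ha3 hpj
  · have h1 : AlgSt.RepByAlgSpWith (LocP Q)
        (BasedFunctor.comp (AlgSt.overMap b) (BasedFunctor.comp q z)) :=
      repWith_comp_of_schLocal' hT₁f hY _ (hQ.bc S) (hQ.cp S) (hQ.schLocal S) _ _ hb1 hq
    let Z' : (𝒵 : AlgSt.Cat S) ⟶ 𝒴 := z
    have j : BasedFunctor.comp (BasedFunctor.comp (AlgSt.overMap a) (BasedFunctor.comp p φ)) z ≅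
        BasedFunctor.comp (BasedFunctor.comp (AlgSt.overMap b) q) z :=
      Bicategory.whiskerRightIso
        (f := (BasedFunctor.comp (AlgSt.overMap a) (BasedFunctor.comp p φ) :
          (FibCat.overCat T₁ : AlgSt.Cat S) ⟶ 𝒵))
        (g := (BasedFunctor.comp (AlgSt.overMap b) q : (FibCat.overCat T₁ : AlgSt.Cat S) ⟶ 𝒵))
        i Z'
    exact DCN.repWith_of_iso _ j h1

theorem comp_flat_smooth ⦃A B C : Scheme.{u}⦄ (e : A ⟶ B) (k : B ⟶ C) (he : Flat e)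
    (hk : Smooth k) : Flat (e ≫ k) := by
  have := he; have := hk; infer_instance

/-- **S13003**: flatness can be tested after a flat surjective base change -/
theorem locQ_flat_of_fpFst_of_surjective_flat {𝒳 𝒴 𝒵 : AlgSt.Cat S}
    (h𝒳 : AlgSt.IsAlgStack Scheme.fppfPrecoverage 𝒳)
    (h𝒴 : AlgSt.IsAlgStack Scheme.fppfPrecoverage 𝒴) (f : 𝒳 ⥤ᵇ 𝒴)
    (h𝒵 : AlgSt.IsAlgStack Scheme.fppfPrecoverage 𝒵) (z : 𝒵 ⥤ᵇ 𝒴)
    (hz₁ : AlgSt.LocQ (AlgSp.LocP @Flat) z) (hz₂ : AlgSt.IsSurjective z)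
    (h : AlgSt.LocQ (AlgSp.LocP @Flat) (FibCat.fpFst z f)) :
    AlgSt.LocQ (AlgSp.LocP @Flat) f := by
  have hX := h𝒳.isStack.1
  have hY := h𝒴.isStack.1
  have hZ := h𝒵.isStack.1
  have hPP : AlgSt.IsAlgStack Scheme.fppfPrecoverage (FibCat.fp z f) :=
    AFP.isAlgStack_fp h𝒴.isStack h𝒴.diag h𝒵 h𝒳 z f
  have hP := hPP.isStack.1
  obtain ⟨Wz, qz, hqzs, hqzj, hqz⟩ := exists_chart_of_locQ good_flat hY _ hz₁
  obtain ⟨W₁, p₁, hp₁s, hp₁j, hp₁⟩ :=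
    exists_chart_fpSnd good_flat comp_flat_smooth h𝒳 h𝒴 h𝒵 z f qz hqzs hqzj hqz
  obtain ⟨W₂, p₂, hp₂s, hp₂j, hp₂⟩ := exists_chart_of_locQ good_flat hZ _ h
  obtain ⟨W₃, p₃, hp₃s, hp₃j, hp₃⟩ :=
    exists_chart_comp good_flat hP h𝒵 hY (FibCat.fpFst z f) z p₂ qz hp₂s hp₂j hp₂ hqzs hqzj hqz
  obtain ⟨W, p, a₁, a₃, hps, hpj, ha₁, ha₃, ⟨i₁⟩, ⟨i₃⟩⟩ :=
    exists_common_chart hPP p₁ p₃ hp₁s hp₁j hp₃s hp₃j
  have k₁ := repWith_of_refine good_flat hX a₁ ha₁ p₁ p i₁ (FibCat.fpSnd z f) hp₁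
  have k₃ := repWith_of_refine good_flat hY a₃ ha₃ p₃ p i₃
    (BasedFunctor.comp (FibCat.fpFst z f) z) hp₃
  let ψ : FibCat.overCat W ⥤ᵇ 𝒳 := BasedFunctor.comp p (FibCat.fpSnd z f)
  have hψs : AlgSt.IsSurjective ψ :=
    isSurjective_comp _ _ (isSurjective_of_repWith hP p hpj) (isSurjective_fpSnd hX hY hZ z f hz₂)
  have hψf : AlgSt.RepByAlgSpWith (LocP @Flat) (BasedFunctor.comp ψ f) := by
    let P' : (FibCat.overCat W : AlgSt.Cat S) ⟶ FibCat.fp z f := p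
    have j : BasedFunctor.comp p (BasedFunctor.comp (FibCat.fpSnd z f) f) ≅
        BasedFunctor.comp p (BasedFunctor.comp (FibCat.fpFst z f) z) :=
      Bicategory.whiskerLeftIso P' (FibCat.fpIso z f).symm
    exact DCN.repWith_of_iso _ j k₃
  refine locQ_of_cover_chart good_flat comp_smooth_flat CFlat cFlat_good desc_flat h𝒳 h𝒴 f ψ ?_
    hψs hψf
  rintro P rfl
  exact k₁

end Groth.Agent.Lib.Helper17.LQT
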