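import Groth.Agent.Lib.Helper17.LocQTools8

set_option autoImplicit false
set_option backward.isDefEq.respectTransparency false
set_option backward.isDefEq.respectTransparency.types false
universe u

namespace Groth.Agent.Lib.Helper17.LQT

open CategoryTheory CategoryTheory.Limits AlgebraicGeometry Opposite AlgSp FibCat Stk AlgSt
open Groth.Agent.Lib.Helper17 Groth.Agent.Lib.Helper17.FP Groth.Agent.Lib.Helper17.EO
  Groth.Agent.Lib.Helper17.PD Groth.Agent.Lib.Helper17.AT Groth.Agent.Lib.Helper17.AB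
  Groth.Agent.Lib.Helper17.AOS Groth.Agent.Lib.Helper17.ACP Groth.Agent.Lib.Helper17.PTS
open Groth.Agent.Lib.Helper46 Groth.Agent.Lib.Helper46.LocPChart
open Groth.Agent.Lib.Helper36.AlgSpCharts

variable {S : Scheme.{u}}

theorem overMap_comp {A B C : Over S} (a : A ⟶ B) (b : B ⟶ C) :
    AlgSt.overMap (a ≫ b) = BasedFunctor.comp (AlgSt.overMap a) (AlgSt.overMap b) :=
  DR.basedFunctor_ext (Over.mapComp_eq a b)

/-- **S13038**: composition for a property smooth local on source-and-target and stable under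
composition -/
theorem locQ_comp (P : MorphismProperty (AlgSp.Sp S)) (hP : AlgSp.IsSmoothLocalST P)
    (hPc : ∀ ⦃X₁ Y₁ Z₁ : AlgSp.Sp S⦄, AlgSp.IsAlgSpace X₁ → AlgSp.IsAlgSpace Y₁ →
      AlgSp.IsAlgSpace Z₁ → ∀ (a : X₁ ⟶ Y₁) (b : Y₁ ⟶ Z₁), P a → P b → P (a ≫ b))
    {𝒳 𝒴 𝒵 : AlgSt.Cat S}
    (h𝒳 : AlgSt.IsAlgStack Scheme.fppfPrecoverage 𝒳)
    (h𝒴 : AlgSt.IsAlgStack Scheme.fppfPrecoverage 𝒴)
    (f : 𝒳 ⥤ᵇ 𝒴) (g : 𝒴 ⥤ᵇ 𝒵) (hf : AlgSt.LocQ P f) (hg : AlgSt.LocQ P g) :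
    AlgSt.LocQ P (BasedFunctor.comp f g) := by
  have hX := h𝒳.isStack.1
  have hY := h𝒴.isStack.1
  obtain ⟨U₁, V₁, x₁, y₁, h₁, α₁, hx₁s, hx₁j, hy₁s, hh₁⟩ := hf
  obtain ⟨U₂, V₂, x₂, y₂, h₂, α₂, hx₂s, hx₂j, hy₂s, hh₂⟩ := hg
  obtain ⟨T, a, b, ha, haj, hb, -, ⟨i⟩, -⟩ := exists_bridge_all hY h𝒴.diag y₁ x₂
  have hasm : Smooth a.left := ha @Smooth (fun _ _ f hf => by have := hf; infer_instance)
    AFP.sm_bc AFP.sm_cp hx₂s
  have hasurj := haj hx₂j
  have hbsm : Smooth b.left := hb @Smooth (fun _ _ f hf => by have := hf; infer_instance)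
    AFP.sm_bc AFP.sm_cp hy₁s
  have hasmR : RepWith @Smooth ((yon S).map a) := (AlgSp.repWith_yon_map_iff _ _).2 hasm
  have hasjR : RepWith @Surjective ((yon S).map a) :=
    (AlgSp.repWith_yon_map_iff _ _).2 ⟨hasurj⟩
  obtain ⟨U, p1, p2, sq⟩ := exists_isPullback_yon ((yon S).map h₁) ((yon S).map a) hasmR.rep
  have hp1sm : Smooth p1.left := prop_fst_of_isPullback sq hasmR
  have hp1surj : Surjective p1.left := prop_fst_of_isPullback sq hasjR
  have hUf : FibCat.IsFibGrpd (FibCat.overCat U).p := FG.isFibGrpd_overForget U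
  have e1 : p1 ≫ h₁ = p2 ≫ a := by
    apply (yon S).map_injective
    rw [Functor.map_comp, Functor.map_comp]
    exact sq.w
  -- `P` for the top arrow
  have haL : LocP @Smooth ((yon S).map a) :=
    Groth.Agent.Lib.Helper23.AlgSpMor.locP_yon_map_of
      Groth.Agent.Lib.Helper30.EtLocalInst.etLocal_smooth a hasm
  have hbL : LocP @Smooth ((yon S).map b) :=
    Groth.Agent.Lib.Helper23.AlgSpMor.locP_yon_map_of
      Groth.Agent.Lib.Helper30.EtLocalInst.etLocal_smooth b hbsm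
  have hPp2 : P ((yon S).map p2) :=
    hP.baseChange (IsAlgSpace.yon_obj U₁) (IsAlgSpace.yon_obj V₁) (IsAlgSpace.yon_obj U)
      (IsAlgSpace.yon_obj T) ((yon S).map h₁) ((yon S).map a) ((yon S).map p2) ((yon S).map p1)
      sq haL hh₁
  have hPbh : P ((yon S).map b ≫ (yon S).map h₂) :=
    hP.precomp (IsAlgSpace.yon_obj T) (IsAlgSpace.yon_obj U₂) (IsAlgSpace.yon_obj V₂) _ _ hbL hh₂
  have hPtop : P ((yon S).map (p2 ≫ b ≫ h₂)) := by
    rw [Functor.map_comp, Functor.map_comp]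
    exact hPc (IsAlgSpace.yon_obj U) (IsAlgSpace.yon_obj T) (IsAlgSpace.yon_obj V₂) _ _ hPp2 hPbh
  -- the chart
  have hp0 : AlgSt.RepByAlgSpWith (LocP @Smooth) (AlgSt.overMap p1) :=
    CT.repWith_overMap _ AFP.sm_bc p1
      (Groth.Agent.Lib.Helper23.AlgSpMor.locP_yon_map_of
        Groth.Agent.Lib.Helper30.EtLocalInst.etLocal_smooth p1 hp1sm)
  have hp3 : AlgSt.RepByAlgSpWith IsSurjectiveMor (AlgSt.overMap p1) :=
    CT.repWith_overMap _ DL.surj_bc p1 (CT.isSurjectiveMor_yon_map p1 hp1surj.surj)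
  -- the 2-isomorphism
  have α : BasedFunctor.comp (BasedFunctor.comp (AlgSt.overMap p1) x₁) (BasedFunctor.comp f g) ≅
      BasedFunctor.comp (AlgSt.overMap (p2 ≫ b ≫ h₂)) y₂ := by
    let P1 : (FibCat.overCat U : AlgSt.Cat S) ⟶ FibCat.overCat U₁ := AlgSt.overMap p1
    let P2 : (FibCat.overCat U : AlgSt.Cat S) ⟶ FibCat.overCat T := AlgSt.overMap p2
    let G' : (𝒴 : AlgSt.Cat S) ⟶ 𝒵 := g
    -- step 1: x₁ ⋙ f ≅ overMap h₁ ⋙ y₁, whiskered
    have s1 : BasedFunctor.comp (AlgSt.overMap p1) (BasedFunctor.comp x₁ f) ≅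
        BasedFunctor.comp (AlgSt.overMap p1) (BasedFunctor.comp (AlgSt.overMap h₁) y₁) :=
      Bicategory.whiskerLeftIso P1 α₁
    -- step 2: overMap p1 ⋙ overMap h₁ = overMap p2 ⋙ overMap a
    have s2 : BasedFunctor.comp (AlgSt.overMap p1) (BasedFunctor.comp (AlgSt.overMap h₁) y₁) =
        BasedFunctor.comp (AlgSt.overMap p2) (BasedFunctor.comp (AlgSt.overMap a) y₁) := by
      change BasedFunctor.comp (BasedFunctor.comp (AlgSt.overMap p1) (AlgSt.overMap h₁)) y₁ =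
        BasedFunctor.comp (BasedFunctor.comp (AlgSt.overMap p2) (AlgSt.overMap a)) y₁
      rw [← overMap_comp, ← overMap_comp, e1]
    -- step 3: overMap a ⋙ y₁ ≅ overMap b ⋙ x₂
    have s3 : BasedFunctor.comp (AlgSt.overMap p2) (BasedFunctor.comp (AlgSt.overMap a) y₁) ≅
        BasedFunctor.comp (AlgSt.overMap p2) (BasedFunctor.comp (AlgSt.overMap b) x₂) :=
      Bicategory.whiskerLeftIso P2 i
    have s123 : BasedFunctor.comp (AlgSt.overMap p1) (BasedFunctor.comp x₁ f) ≅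
        BasedFunctor.comp (AlgSt.overMap p2) (BasedFunctor.comp (AlgSt.overMap b) x₂) :=
      s1 ≪≫ eqToIso s2 ≪≫ s3
    -- whisker with g
    have s4 : BasedFunctor.comp (BasedFunctor.comp (AlgSt.overMap p1) (BasedFunctor.comp x₁ f)) g ≅
        BasedFunctor.comp (BasedFunctor.comp (AlgSt.overMap p2)
          (BasedFunctor.comp (AlgSt.overMap b) x₂)) g :=
      Bicategory.whiskerRightIso
        (f := (BasedFunctor.comp (AlgSt.overMap p1) (BasedFunctor.comp x₁ f) :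
          (FibCat.overCat U : AlgSt.Cat S) ⟶ 𝒴))
        (g := (BasedFunctor.comp (AlgSt.overMap p2) (BasedFunctor.comp (AlgSt.overMap b) x₂) :
          (FibCat.overCat U : AlgSt.Cat S) ⟶ 𝒴)) s123 G'
    -- step 5: x₂ ⋙ g ≅ overMap h₂ ⋙ y₂
    let PB : (FibCat.overCat U : AlgSt.Cat S) ⟶ FibCat.overCat U₂ :=
      BasedFunctor.comp (AlgSt.overMap p2) (AlgSt.overMap b)
    have s5 : BasedFunctor.comp (BasedFunctor.comp (AlgSt.overMap p2) (AlgSt.overMap b))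
          (BasedFunctor.comp x₂ g) ≅
        BasedFunctor.comp (BasedFunctor.comp (AlgSt.overMap p2) (AlgSt.overMap b))
          (BasedFunctor.comp (AlgSt.overMap h₂) y₂) :=
      Bicategory.whiskerLeftIso PB α₂
    have s6 : BasedFunctor.comp (BasedFunctor.comp (AlgSt.overMap p2) (AlgSt.overMap b))
          (BasedFunctor.comp (AlgSt.overMap h₂) y₂) =
        BasedFunctor.comp (AlgSt.overMap (p2 ≫ b ≫ h₂)) y₂ := by
      change BasedFunctor.comp (BasedFunctor.comp (AlgSt.overMap p2)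
        (BasedFunctor.comp (AlgSt.overMap b) (AlgSt.overMap h₂))) y₂ = _
      rw [← overMap_comp, ← overMap_comp]
    exact s4 ≪≫ s5 ≪≫ eqToIso s6
  refine ⟨U, V₂, BasedFunctor.comp (AlgSt.overMap p1) x₁, y₂, p2 ≫ b ≫ h₂, α, ?_, ?_, hy₂s, hPtop⟩
  · exact repWith_comp_of_schLocal' hUf hX _ AFP.sm_bc AFP.sm_cp CT.sm_schLocal _ x₁ hp0 hx₁s
  · exact repWith_comp_of_schLocal' hUf hX _ DL.surj_bc DL.surj_cp CT.surj_schLocal _ x₁ hp3 hx₁j

end Groth.Agent.Lib.Helper17.LQT
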