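import Groth.Agent.Lib.Helper17.MaxSmooth

set_option autoImplicit false
set_option backward.isDefEq.respectTransparency false
set_option backward.isDefEq.respectTransparency.types false
universe u

namespace Groth.Agent.Lib.Helper17.MSm

open CategoryTheory CategoryTheory.Limits AlgebraicGeometry Opposite AlgSp FibCat Stk AlgSt
open Groth.Agent.Lib.Helper17 Groth.Agent.Lib.Helper17.FP Groth.Agent.Lib.Helper17.EO
  Groth.Agent.Lib.Helper17.PD Groth.Agent.Lib.Helper17.AT Groth.Agent.Lib.Helper17.AB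
  Groth.Agent.Lib.Helper17.AOS Groth.Agent.Lib.Helper17.ACP Groth.Agent.Lib.Helper17.PTS
  Groth.Agent.Lib.Helper17.LQT
open Groth.Agent.Lib.Helper46 Groth.Agent.Lib.Helper46.LocPChart
open Groth.Agent.Lib.Helper10

variable {S : Scheme.{u}}

/-- the union of the sets of points of the open substacks on which `f` is smooth -/
def smT {𝒳 𝒴 : AlgSt.Cat S} (f : 𝒳 ⥤ᵇ 𝒴) : Set (AlgSt.Points 𝒳) :=
  ⋃₀ {T' | ∃ Q' : 𝒳.obj → Prop, AlgSt.IsOpenSubstack 𝒳 Q' Scheme.fppfPrecoverage ∧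
    AlgSt.LocQ (AlgSp.LocP @Smooth) (BasedFunctor.comp (AlgSt.subIncl 𝒳 Q') f) ∧
    T' = Set.range (AlgSt.Points.map (AlgSt.subIncl 𝒳 Q'))}

theorem isOpen_smT {𝒳 𝒴 : AlgSt.Cat S} (h𝒳 : AlgSt.IsAlgStack Scheme.fppfPrecoverage 𝒳)
    (f : 𝒳 ⥤ᵇ 𝒴) : IsOpen (smT f) := by
  apply isOpen_sUnion
  rintro _ ⟨Q', hQ', -, rfl⟩
  exact isOpen_range_subIncl h𝒳 Q' hQ'

/-- the local statement: smoothness of the chart map on the open part of the chart over `Q'` -/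
theorem smooth_restr {𝒳 𝒴 : AlgSt.Cat S} (h𝒳 : AlgSt.IsAlgStack Scheme.fppfPrecoverage 𝒳)
    (h𝒴 : AlgSt.IsAlgStack Scheme.fppfPrecoverage 𝒴) (f : 𝒳 ⥤ᵇ 𝒴)
    (Q' : 𝒳.obj → Prop) (hQ' : AlgSt.IsOpenSubstack 𝒳 Q' Scheme.fppfPrecoverage)
    (hLQ' : AlgSt.LocQ (AlgSp.LocP @Smooth) (BasedFunctor.comp (AlgSt.subIncl 𝒳 Q') f))
    {U V : Over S} (y : FibCat.overCat V ⥤ᵇ 𝒴)
    (hys : AlgSt.RepByAlgSpWith (AlgSp.LocP @Smooth) y)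
    (φ : FibCat.overCat U ⥤ᵇ FibCat.fp y f)
    (hφ : AlgSt.RepByAlgSpWith (AlgSp.LocP @Smooth) φ) (h : U ⟶ V)
    (eφ : BasedFunctor.comp φ (FibCat.fpFst y f) = AlgSt.overMap h) :
    Smooth ((OST.UT h𝒳 (Set.range (AlgSt.Points.map (AlgSt.subIncl 𝒳 Q')))
      (isOpen_range_subIncl h𝒳 Q' hQ') (BasedFunctor.comp φ (FibCat.fpSnd y f))).ι ≫ h.left) := by
  have hT' := isOpen_range_subIncl h𝒳 Q' hQ'
  let x₀ := BasedFunctor.comp φ (FibCat.fpSnd y f)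
  have hVf : FibCat.IsFibGrpd (FibCat.overCat V).p := FG.isFibGrpd_overForget V
  have hfpf : FibCat.IsFibGrpd (FibCat.fp y f).p :=
    SP.isFibGrpd_fp _ _ hVf h𝒳.isStack.1 h𝒴.isStack.1
  have hU'f : FibCat.IsFibGrpd (FibCat.overCat (OST.U' h𝒳 _ hT' x₀)).p :=
    FG.isFibGrpd_overForget _
  have hι'sm : LocP @Smooth ((yon S).map (OST.ι' h𝒳 _ hT' x₀)) := by
    apply Groth.Agent.Lib.Helper23.AlgSpMor.locP_yon_map_of
      Groth.Agent.Lib.Helper30.EtLocalInst.etLocal_smooth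
    change Smooth (OST.UT h𝒳 _ hT' x₀).ι
    infer_instance
  let ψ : FibCat.overCat (OST.U' h𝒳 _ hT' x₀) ⥤ᵇ FibCat.fp y f :=
    BasedFunctor.comp (AlgSt.overMap (OST.ι' h𝒳 _ hT' x₀)) φ
  have hψ : AlgSt.RepByAlgSpWith (LocP @Smooth) ψ :=
    repWith_comp_of_schLocal' hU'f hfpf _ AFP.sm_bc AFP.sm_cp CT.sm_schLocal _ _
      (CT.repWith_overMap _ AFP.sm_bc _ hι'sm) hφ
  have hψQ : ∀ B, Q' (ψ.obj B).obj.snd := by
    intro B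
    rw [OST.Q_iff_QT_range h𝒳 Q' hQ']
    exact OST.QT_restr h𝒳 _ hT' x₀ B
  have hφ' := repWith_liftFp y f _ Q' ψ hψQ hψ
  have e1 : BasedFunctor.comp (liftFp y f Q' ψ hψQ)
      (FibCat.fpFst y (BasedFunctor.comp (AlgSt.subIncl 𝒳 Q') f)) =
      AlgSt.overMap (OST.ι' h𝒳 _ hT' x₀ ≫ h) := by
    rw [liftFp_fst, overMap_comp, ← eφ]
    exact DR.basedFunctor_ext rfl
  have := prop_of_locQ_of_smooth_chart' isSmoothLocalST_smooth hQ'.2.1 h𝒴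
    (BasedFunctor.comp (AlgSt.subIncl 𝒳 Q') f) hLQ' y hys _ hφ' (OST.ι' h𝒳 _ hT' x₀ ≫ h)
    (eqToIso e1)
  exact AlgSp.locP_yon_map this


theorem locQ_smooth_smT {𝒳 𝒴 : AlgSt.Cat S} (h𝒳 : AlgSt.IsAlgStack Scheme.fppfPrecoverage 𝒳)
    (h𝒴 : AlgSt.IsAlgStack Scheme.fppfPrecoverage 𝒴) (f : 𝒳 ⥤ᵇ 𝒴) :
    AlgSt.LocQ (AlgSp.LocP @Smooth)
      (BasedFunctor.comp (AlgSt.subIncl 𝒳 (OST.QT (smT f))) f) := by
  have hTopen := isOpen_smT h𝒳 f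
  have hQ : AlgSt.IsOpenSubstack 𝒳 (OST.QT (smT f)) Scheme.fppfPrecoverage :=
    OST.isOpenSubstack_QT h𝒳 (smT f) hTopen
  have hQalg := hQ.2.1
  have hιsm : AlgSt.RepByAlgSpWith (LocP @Smooth) (AlgSt.subIncl 𝒳 (OST.QT (smT f))) :=
    (flat_lfp_of_isOpenImm _ hQ.2.2).2.2
  apply locQ_of_forall_smooth_chart hQalg h𝒴
  intro U V x y h α hxs hys hφ
  have hUf : FibCat.IsFibGrpd (FibCat.overCat U).p := FG.isFibGrpd_overForget U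
  have hVf : FibCat.IsFibGrpd (FibCat.overCat V).p := FG.isFibGrpd_overForget V
  have hfpf : FibCat.IsFibGrpd (FibCat.fp y f).p :=
    SP.isFibGrpd_fp _ _ hVf h𝒳.isStack.1 h𝒴.isStack.1
  have hφ₁ := repWith_comp_swap _ _ y _ hφ
  obtain ⟨φ₂, hφ₂def⟩ : ∃ φ₂ : FibCat.overCat U ⥤ᵇ FibCat.fp y f, φ₂ =
      (BasedFunctor.comp (BasedFunctor.comp (FibCat.fpLift x (AlgSt.overMap h) α)
        (SW.swap (BasedFunctor.comp (AlgSt.subIncl 𝒳 (OST.QT (smT f))) f) y))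
        (PSR.toInner y (AlgSt.subIncl 𝒳 (OST.QT (smT f))) f)) := ⟨_, rfl⟩
  have hφ₂ : AlgSt.RepByAlgSpWith (LocP @Smooth) φ₂ := by
    rw [hφ₂def]
    exact repWith_comp_of_schLocal' hUf hfpf _ AFP.sm_bc AFP.sm_cp CT.sm_schLocal _ _ hφ₁
      (ACP.repWith_toInner _ y _ f hιsm)
  have e1 : BasedFunctor.comp φ₂ (FibCat.fpFst y f) = AlgSt.overMap h := by
    rw [hφ₂def]
    exact DR.basedFunctor_ext rfl
  have e2 : BasedFunctor.comp φ₂ (FibCat.fpSnd y f) =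
      BasedFunctor.comp x (AlgSt.subIncl 𝒳 (OST.QT (smT f))) := by
    rw [hφ₂def]
    exact DR.basedFunctor_ext rfl
  have key : ∀ u : ↥U.left, ∃ W : U.left.Opens, u ∈ W ∧ Smooth (W.ι ≫ h.left) := by
    intro u
    have hu : AlgSt.Points.ofChart (BasedFunctor.comp φ₂ (FibCat.fpSnd y f)) u ∈ smT f := by
      rw [e2]
      have h0 := OST.ofChart_mem_of_QT
        (BasedFunctor.comp x (AlgSt.subIncl 𝒳 (OST.QT (smT f)))) (Over.mk (𝟙 U))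
        (x.obj (Over.mk (𝟙 U))).property u
      simpa using h0
    obtain ⟨_, ⟨Q', hQ', hLQ', rfl⟩, huT'⟩ := hu
    exact ⟨_, huT', smooth_restr h𝒳 h𝒴 f Q' hQ' hLQ' y hys φ₂ hφ₂ h e1⟩
  choose W hW hWs using key
  have hsm : Smooth h.left := by
    rw [IsZariskiLocalAtSource.iff_of_iSup_eq_top (P := @Smooth) W]
    · exact hWs
    · rw [eq_top_iff]
      intro u _
      exact TopologicalSpace.Opens.mem_iSup.mpr ⟨u, hW u⟩
  exact Groth.Agent.Lib.Helper23.AlgSpMor.locP_yon_map_of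
    Groth.Agent.Lib.Helper30.EtLocalInst.etLocal_smooth h hsm

/-- **the largest open substack on which a morphism of algebraic stacks is smooth** -/
theorem exists_largest_smooth {𝒳 𝒴 : AlgSt.Cat S}
    (h𝒳 : AlgSt.IsAlgStack Scheme.fppfPrecoverage 𝒳)
    (h𝒴 : AlgSt.IsAlgStack Scheme.fppfPrecoverage 𝒴) (f : 𝒳 ⥤ᵇ 𝒴) :
    ∃ Q : 𝒳.obj → Prop, AlgSt.IsOpenSubstack 𝒳 Q Scheme.fppfPrecoverage ∧
      AlgSt.LocQ (AlgSp.LocP @Smooth) (BasedFunctor.comp (AlgSt.subIncl 𝒳 Q) f) ∧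
      ∀ Q' : 𝒳.obj → Prop, AlgSt.IsOpenSubstack 𝒳 Q' Scheme.fppfPrecoverage →
        AlgSt.LocQ (AlgSp.LocP @Smooth) (BasedFunctor.comp (AlgSt.subIncl 𝒳 Q') f) →
        ∀ a, Q' a → Q a := by
  refine ⟨OST.QT (smT f), OST.isOpenSubstack_QT h𝒳 (smT f) (isOpen_smT h𝒳 f),
    locQ_smooth_smT h𝒳 h𝒴 f, ?_⟩
  intro Q' hQ' hLQ' a ha
  have h1 := (OST.Q_iff_QT_range h𝒳 Q' hQ' a).mp ha
  refine OST.QT_mono ?_ h1
  intro ξ hξ
  exact Set.mem_sUnion.mpr ⟨_, ⟨Q', hQ', hLQ', rfl⟩, hξ⟩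

end Groth.Agent.Lib.Helper17.MSm
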