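import Mathlib.Algebra.Polynomial.Eval.Degree
import Mathlib.Algebra.Polynomial.Degree.Operations
import Mathlib.Algebra.Polynomial.Monic
import Mathlib.Tactic

set_option autoImplicit false
universe u v

namespace Groth.Agent.Lib.Helper17.MP

open Polynomial

variable {T : Type u} [CommRing T]

noncomputable def mkPoly (d : ℕ) (a : ℕ → T) : T[X] :=
  ∑ j ∈ Finset.range (d + 1), monomial j (a j)

theorem mkPoly_coeff (d : ℕ) (a : ℕ → T) (j : ℕ) :
    (mkPoly d a).coeff j = if j ≤ d then a j else 0 := by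
  unfold mkPoly
  rw [finsetSum_coeff]
  simp only [coeff_monomial]
  rw [Finset.sum_ite_eq' (Finset.range (d + 1)) j a]
  simp only [Finset.mem_range, Nat.lt_succ_iff]

theorem mkPoly_degree_le (d : ℕ) (a : ℕ → T) : (mkPoly d a).degree ≤ d := by
  rw [degree_le_iff_coeff_zero]
  intro m hm
  rw [mkPoly_coeff]
  have : ¬ m ≤ d := by
    intro h
    have : (m : WithBot ℕ) ≤ d := by exact_mod_cast h
    exact absurd hm (not_lt.mpr this)
  rw [if_neg this]

theorem mkPoly_monic (d : ℕ) (a : ℕ → T) (h : a d = 1) : (mkPoly d a).Monic :=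
  monic_of_degree_le d (mkPoly_degree_le d a) (by rw [mkPoly_coeff, if_pos le_rfl, h])

theorem mkPoly_natDegree [Nontrivial T] (d : ℕ) (a : ℕ → T) (h : a d = 1) :
    (mkPoly d a).natDegree = d :=
  natDegree_eq_of_le_of_coeff_ne_zero (natDegree_le_of_degree_le (mkPoly_degree_le d a))
    (by rw [mkPoly_coeff, if_pos le_rfl, h]; exact one_ne_zero)

theorem mkPoly_eval₂ {U : Type v} [CommRing U] (f : T →+* U) (x : U) (d : ℕ) (a : ℕ → T) :
    eval₂ f x (mkPoly d a) = ∑ j ∈ Finset.range (d + 1), f (a j) * x ^ j := by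
  unfold mkPoly
  rw [eval₂_finsetSum]
  simp only [eval₂_monomial]

end Groth.Agent.Lib.Helper17.MP
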