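import Groth.Prelude.Def_FibCat2
import Groth.Agent.Lib.Helper17.HomLift
import Groth.Agent.Lib.Helper17.FibProd
import Groth.Agent.S5139

set_option autoImplicit false
universe v u u₂

namespace Groth.Agent.Lib.Helper17.PSU

open CategoryTheory CategoryTheory.Functor FibCat
open Groth.Agent.Lib.Helper17 Groth.Agent.Lib.Helper17.FP

variable {C : Type u} [Category.{v} C] {𝒲 𝒵 𝒳 : BasedCategory.{v, max u v} C} {𝒴 : BasedCategory.{v, u₂} C}
  (y : 𝒲 ⥤ᵇ 𝒵) (g : 𝒵 ⥤ᵇ 𝒴) (f : 𝒳 ⥤ᵇ 𝒴)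

/-- inner object -/
def innerObj (q : (fp (BasedFunctor.comp y g) f).obj) : (fp g f).obj :=
  mkObj (F := g) (G := f) (y.obj q.obj.fst) q.obj.snd q.obj.iso (by
    have h := iso_isHomLift q
    rw [y.w_obj]
    exact h)

def pasteObj (q : (fp (BasedFunctor.comp y g) f).obj) : (fp y (fpFst g f)).obj :=
  mkObj (F := y) (G := fpFst g f) q.obj.fst (innerObj y g f q) (Iso.refl _)
    (IsHomLift.id (y.w_obj q.obj.fst))

def innerMap {q q' : (fp (BasedFunctor.comp y g) f).obj} (k : q ⟶ q') :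
    innerObj y g f q ⟶ innerObj y g f q' :=
  mkHom (z := innerObj y g f q) (z' := innerObj y g f q') (y.map k.hom.fst) k.hom.snd k.hom.w

def pasteMap {q q' : (fp (BasedFunctor.comp y g) f).obj} (k : q ⟶ q') :
    pasteObj y g f q ⟶ pasteObj y g f q' :=
  mkHom (z := pasteObj y g f q) (z' := pasteObj y g f q') k.hom.fst (innerMap y g f k) (by
    change y.map k.hom.fst ≫ 𝟙 _ = 𝟙 _ ≫ y.map k.hom.fst
    rw [Category.comp_id, Category.id_comp])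

/-- the pasting functor `𝒲 ×_𝒴 𝒳 ⟶ 𝒲 ×_𝒵 (𝒵 ×_𝒴 𝒳)` -/
def paste : fp (BasedFunctor.comp y g) f ⥤ᵇ fp y (fpFst g f) where
  toFunctor :=
    { obj := pasteObj y g f
      map := pasteMap y g f
      map_id := fun q => by
        apply hom_ext
        · rfl
        · apply hom_ext
          · exact y.toFunctor.map_id _
          · rfl
      map_comp := fun k k' => by
        apply hom_ext
        · rfl
        · apply hom_ext
          · exact y.toFunctor.map_comp _ _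
          · rfl }
  w := rfl

theorem paste_fst :
    BasedFunctor.comp (paste y g f) (fpFst y (fpFst g f)) = fpFst (BasedFunctor.comp y g) f := rfl

theorem paste_faithful : (paste y g f).toFunctor.Faithful := by
  constructor
  intro q q' k k' h
  apply hom_ext
  · exact congrArg (fun m => m.hom.fst) h
  · have := congrArg (fun m => m.hom.snd.hom.snd) h
    exact this

theorem paste_full : (paste y g f).toFunctor.Full := by
  constructor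
  intro q q' m
  have hw := m.hom.w
  change y.map m.hom.fst ≫ 𝟙 _ = 𝟙 _ ≫ m.hom.snd.hom.fst at hw
  rw [Category.comp_id, Category.id_comp] at hw
  have hw2 := m.hom.snd.hom.w
  change g.map m.hom.snd.hom.fst ≫ q'.obj.iso.hom = q.obj.iso.hom ≫ f.map m.hom.snd.hom.snd at hw2
  refine ⟨mkHom (z := q) (z' := q') m.hom.fst m.hom.snd.hom.snd ?_, ?_⟩
  · change g.map (y.map m.hom.fst) ≫ q'.obj.iso.hom = q.obj.iso.hom ≫ f.map m.hom.snd.hom.snd
    rw [hw]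
    exact hw2
  · apply hom_ext
    · rfl
    · apply hom_ext
      · exact hw
      · rfl

theorem map_lift' {𝒜 : BasedCategory.{v, max u v} C} {ℬ : BasedCategory.{v, u₂} C} (F : 𝒜 ⥤ᵇ ℬ)
    {R S : C} {a b : 𝒜.obj} {f : R ⟶ S} {φ : a ⟶ b} (h : 𝒜.p.IsHomLift f φ) :
    ℬ.p.IsHomLift f (F.map φ) := inferInstance

theorem paste_essSurj (η : (fp y (fpFst g f)).obj) :
    ∃ (ξ : (fp (BasedFunctor.comp y g) f).obj) (e : (paste y g f).toFunctor.obj ξ ≅ η),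
      (fp y (fpFst g f)).p.IsHomLift (𝟙 ((fp y (fpFst g f)).p.obj η)) e.hom := by
  obtain ⟨w, r, ζ, hζ, rfl⟩ : ∃ (w : 𝒲.obj) (r : (fp g f).obj) (ζ : y.obj w ≅ (fpFst g f).obj r)
      (hζ : 𝒵.p.IsHomLift (𝟙 (𝒲.p.obj w)) ζ.hom), η = mkObj w r ζ hζ :=
    ⟨η.obj.fst, η.obj.snd, η.obj.iso, iso_isHomLift η, rfl⟩
  obtain ⟨z, x, ρ, hρ, rfl⟩ : ∃ (z : 𝒵.obj) (x : 𝒳.obj) (ρ : g.obj z ≅ f.obj x)
      (hρ : 𝒴.p.IsHomLift (𝟙 (𝒵.p.obj z)) ρ.hom), r = mkObj z x ρ hρ :=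
    ⟨r.obj.fst, r.obj.snd, r.obj.iso, iso_isHomLift r, rfl⟩
  obtain ⟨ζ', hζ'⟩ : ∃ ζ' : y.obj w ≅ z, ζ' = ζ := ⟨ζ, rfl⟩
  have hζ'l : 𝒵.p.IsHomLift (𝟙 (𝒲.p.obj w)) ζ'.hom := by rw [hζ']; exact hζ
  have hz : 𝒵.p.obj z = 𝒲.p.obj w := hl_cod hζ'l
  have hρ' : 𝒴.p.IsHomLift (𝟙 (𝒲.p.obj w)) ρ.hom := by rw [← hz]; exact hρ
  have hgζ : 𝒴.p.IsHomLift (𝟙 (𝒲.p.obj w)) (g.map ζ'.hom) := map_lift' g hζ'l
  have hθ : 𝒴.p.IsHomLift (𝟙 (𝒲.p.obj w)) (g.map ζ'.hom ≫ ρ.hom) :=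
    IsHomLift.comp_of_lift_id 𝒴.p (𝒲.p.obj w) (g.map ζ'.hom) ρ.hom
  let ξ : (fp (BasedFunctor.comp y g) f).obj :=
    mkObj (F := BasedFunctor.comp y g) (G := f) w x (g.toFunctor.mapIso ζ' ≪≫ ρ) hθ
  let inner : innerObj y g f ξ ≅ mkObj z x ρ hρ :=
    mkIso (z := innerObj y g f ξ) (z' := mkObj z x ρ hρ) ζ' (Iso.refl x) (by
      change g.map ζ'.hom ≫ ρ.hom = (g.map ζ'.hom ≫ ρ.hom) ≫ f.map (𝟙 x)
      rw [f.map_id, Category.comp_id])
  let e : (paste y g f).toFunctor.obj ξ ≅ mkObj w (mkObj z x ρ hρ) ζ hζ :=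
    mkIso (z := pasteObj y g f ξ) (z' := mkObj w (mkObj z x ρ hρ) ζ hζ) (Iso.refl w) inner (by
      change y.map (𝟙 w) ≫ ζ.hom = 𝟙 _ ≫ ζ'.hom
      rw [y.map_id, hζ']
      rfl)
  refine ⟨ξ, e, ?_⟩
  rw [isHomLift_iff_fst]
  change 𝒲.p.IsHomLift (𝟙 (𝒲.p.obj w)) (𝟙 w)
  infer_instance

theorem paste_isEquivOver : FibCat.IsEquivOver (paste y g f) := by
  rw [Groth.Agent.S5139.result]
  exact ⟨⟨paste_full y g f, paste_faithful y g f⟩, paste_essSurj y g f⟩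

end Groth.Agent.Lib.Helper17.PSU
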