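import Groth.Agent.Lib.Helper17.AlgStQc3
import Groth.Agent.Lib.Helper86.TwoYoneda
import Groth.Agent.S12818
import Groth.Prelude.Def_AlgSt4

set_option autoImplicit false
set_option backward.isDefEq.respectTransparency false
set_option backward.isDefEq.respectTransparency.types false
universe u

namespace Groth.Agent.Lib.Helper17.PTS

open CategoryTheory CategoryTheory.Limits AlgebraicGeometry Opposite AlgSp FibCat Stk AlgSt
open Groth.Agent.Lib.Helper17 Groth.Agent.Lib.Helper17.FP Groth.Agent.Lib.Helper17.EO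
  Groth.Agent.Lib.Helper17.PD Groth.Agent.Lib.Helper17.AT Groth.Agent.Lib.Helper17.AB
  Groth.Agent.Lib.Helper17.AOS Groth.Agent.Lib.Helper17.ACP

variable {S : Scheme.{u}}

/-! ### basic functoriality of points -/

theorem mk_eq_mk_iff {𝒳 : AlgSt.Cat S} (h𝒳 : FibCat.IsFibGrpd 𝒳.p) (p q : AlgSt.FPt 𝒳) :
    AlgSt.Points.mk p = AlgSt.Points.mk q ↔ AlgSt.FPt.Rel p q := by
  constructor
  · intro h
    exact (Groth.Agent.S12817.result 𝒳 h𝒳).eqvGen_iff.mp (Quot.eq.mp h)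
  · exact AlgSt.Points.sound

/-- a morphism between the objects of two field-valued points identifies the points -/
theorem mk_eq_of_hom {𝒳 : AlgSt.Cat S} (p q : AlgSt.FPt 𝒳) (φ : p.obj ⟶ q.obj) :
    AlgSt.Points.mk p = AlgSt.Points.mk q :=
  AlgSt.Points.sound ⟨p, 𝟙 _, φ, trivial⟩

theorem map_comp {𝒳 𝒴 𝒵 : AlgSt.Cat S} (f : 𝒳 ⥤ᵇ 𝒴) (g : 𝒴 ⥤ᵇ 𝒵) (ξ : AlgSt.Points 𝒳) :
    AlgSt.Points.map (BasedFunctor.comp f g) ξ = AlgSt.Points.map g (AlgSt.Points.map f ξ) := by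
  obtain ⟨p, rfl⟩ := AlgSt.Points.mk_surjective ξ
  rfl

/-- 2-isomorphic functors induce the same map on points -/
theorem map_congr {𝒳 𝒴 : AlgSt.Cat S} {f f' : 𝒳 ⥤ᵇ 𝒴} (e : f ≅ f') (ξ : AlgSt.Points 𝒳) :
    AlgSt.Points.map f ξ = AlgSt.Points.map f' ξ := by
  obtain ⟨p, rfl⟩ := AlgSt.Points.mk_surjective ξ
  exact mk_eq_of_hom (p.map f) (p.map f') (compApp e p.obj).hom

theorem ofChart_eq_map {𝒳 : AlgSt.Cat S} {U : Over S} (x : FibCat.overCat U ⥤ᵇ 𝒳) (t : ↥U.left) :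
    AlgSt.Points.ofChart x t =
      AlgSt.Points.map x (AlgSt.Points.ofChart (BasedFunctor.id (FibCat.overCat U)) t) := rfl

theorem ofChart_comp {𝒳 𝒴 : AlgSt.Cat S} {U : Over S} (x : FibCat.overCat U ⥤ᵇ 𝒳) (f : 𝒳 ⥤ᵇ 𝒴)
    (t : ↥U.left) :
    AlgSt.Points.ofChart (BasedFunctor.comp x f) t = AlgSt.Points.map f (AlgSt.Points.ofChart x t) :=
  rfl

/-- naturality of charts in the scheme -/
theorem ofChart_overMap {𝒳 : AlgSt.Cat S} {W U : Over S} (a : W ⟶ U)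
    (x : FibCat.overCat U ⥤ᵇ 𝒳) (w : ↥W.left) :
    AlgSt.Points.ofChart (BasedFunctor.comp (AlgSt.overMap a) x) w =
      AlgSt.Points.ofChart x (a.left w) := by
  -- the morphism `Spec κ(w) ⟶ Spec κ(a w)` over `U`
  have h1 : Spec.map (a.left.residueFieldMap w) ≫ U.left.fromSpecResidueField (a.left w) =
      W.left.fromSpecResidueField w ≫ a.left :=
    Scheme.Hom.SpecMap_residueFieldMap_fromSpecResidueField a.left w
  let A : Over U := (Over.map a).obj (Over.mk (Over.homMk (W.left.fromSpecResidueField w) rfl :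
      Over.mk (W.left.fromSpecResidueField w ≫ W.hom) ⟶ W))
  let B : Over U := Over.mk (Over.homMk (U.left.fromSpecResidueField (a.left w)) rfl :
      Over.mk (U.left.fromSpecResidueField (a.left w) ≫ U.hom) ⟶ U)
  have hw : W.hom = a.left ≫ U.hom := (Over.w a).symm
  let φ₀ : A.left ⟶ B.left := Over.homMk (Spec.map (a.left.residueFieldMap w)) (by
    change Spec.map (a.left.residueFieldMap w) ≫ (U.left.fromSpecResidueField (a.left w) ≫ U.hom) =
      W.left.fromSpecResidueField w ≫ W.hom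
    rw [← Category.assoc, h1, Category.assoc, hw])
  let φ : A ⟶ B := Over.homMk φ₀ (by
    apply Over.OverMorphism.ext
    exact h1)
  exact mk_eq_of_hom _ _ (x.map φ)

/-! ### surjectivity on points and representable surjectivity -/

open Groth.Agent.Lib.Helper86 in
/-- a morphism representable by algebraic spaces and surjective is surjective on points -/
theorem isSurjective_of_repWith {𝒳 𝒴 : AlgSt.Cat S} (hY : FibCat.IsFibGrpd 𝒴.p)
    (f : 𝒳 ⥤ᵇ 𝒴) (hf : AlgSt.RepByAlgSpWith AlgSp.IsSurjectiveMor f) : AlgSt.IsSurjective f := by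
  intro η
  obtain ⟨q, rfl⟩ := AlgSt.Points.mk_surjective η
  have : 𝒴.p.IsFibered := TwoYoneda.isFibered_of_isFibGrpd hY
  let T : Over S := Over.mk q.str
  let x₀ : 𝒴.p.Fiber T := ⟨q.obj, q.lies⟩
  let y : FibCat.overCat T ⥤ᵇ 𝒴 := TwoYoneda.pbB x₀
  obtain ⟨F, e, he, hsurj⟩ := hf T y
  -- a field-valued point of `h_T`
  let τ : AlgSp.FieldPt ((yon S).obj T) := { K := q.K, str := q.str, val := ⟨𝟙 T⟩ }
  obtain ⟨π, -⟩ := hsurj (AlgSp.Points.mk τ)
  obtain ⟨p', rfl⟩ := AlgSp.Points.mk_surjective π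
  -- the object of the fibre product
  let z : (FibCat.fp y f).obj := e.obj ⟨Over.mk p'.str, p'.val⟩
  have hz : (FibCat.fp y f).p.obj z = Over.mk p'.str := e.w_obj _
  have hx : 𝒳.p.obj z.obj.snd = Over.mk p'.str := (snd_obj z).trans hz
  let r : AlgSt.FPt 𝒳 := { K := p'.K, str := p'.str, obj := z.obj.snd, lies := hx }
  refine ⟨AlgSt.Points.mk r, ?_⟩
  change AlgSt.Points.mk (r.map f) = AlgSt.Points.mk q
  refine mk_eq_of_hom (r.map f) q ?_
  exact z.obj.iso.inv ≫ y.map (TwoYoneda.t z.obj.fst) ≫ TwoYoneda.pbMap x₀ (TwoYoneda.T T)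

/-- a morphism representable by algebraic spaces which is surjective on points is representable
surjective -/
theorem repWith_of_isSurjective {𝒳 𝒴 : AlgSt.Cat S} (hX : FibCat.IsFibGrpd 𝒳.p)
    (hY : FibCat.IsFibGrpd 𝒴.p) (f : 𝒳 ⥤ᵇ 𝒴) (hf1 : AlgSt.RepByAlgSp1 f)
    (hs : AlgSt.IsSurjective f) : AlgSt.RepByAlgSpWith AlgSp.IsSurjectiveMor f := by
  intro T y
  obtain ⟨F, e, he⟩ := hf1 T y
  refine ⟨F, e, he, ?_⟩
  have hT : FibCat.IsFibGrpd (FibCat.overCat T).p := FG.isFibGrpd_overForget T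
  intro π
  obtain ⟨τ, rfl⟩ := AlgSp.Points.mk_surjective π
  obtain ⟨c, hc⟩ : ∃ c : Over.mk τ.str ⟶ T, c = τ.val.down := ⟨_, rfl⟩
  let τ' : AlgSt.FPt (FibCat.overCat T) :=
    { K := τ.K, str := τ.str, obj := Over.mk c, lies := rfl }
  obtain ⟨ξ, hξ⟩ := hs (AlgSt.Points.map y (AlgSt.Points.mk τ'))
  obtain ⟨pξ, rfl⟩ := AlgSt.Points.mk_surjective ξ
  have hrel : AlgSt.FPt.Rel (pξ.map f) (τ'.map y) := (mk_eq_mk_iff hY _ _).mp hξ
  obtain ⟨r, β, α, -⟩ := hrel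
  obtain ⟨w, hw, ⟨m⟩, -⟩ := Groth.Agent.S12818.core hX hY hT f y _ _ _ (𝒴.p.map α) (𝒴.p.map β)
    r.obj (Over.mk c) pξ.obj α β (Functor.IsHomLift.map α) (Functor.IsHomLift.map β)
  obtain ⟨G, ⟨c₁⟩, ⟨c₂⟩⟩ := id he
  obtain ⟨b, hbdef⟩ : ∃ b : (ofSp F.obj).obj, b = G.obj w := ⟨_, rfl⟩
  have hb : b.base = Over.mk r.str := by
    rw [hbdef]
    exact (G.w_obj w).trans (hw.trans r.lies)
  let ψ₀ : Over.mk r.str ⟶ b.base := eqToHom hb.symm
  let p' : AlgSp.FieldPt F.obj :=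
    { K := r.K, str := r.str, val := F.obj.obj.map ψ₀.op b.sec }
  refine ⟨AlgSp.Points.mk p', ?_⟩
  apply AlgSp.Points.sound
  have h' : Over.mk r.str = w.obj.fst.left := (hw.trans r.lies).symm
  refine ⟨r.K, inferInstance, r.str, 𝟙 _, eqToHom h' ≫ m.left, ?_⟩
  -- the section computation
  let Φ : ofSp F.obj ⥤ᵇ FibCat.overCat T := BasedFunctor.comp e (FibCat.fpFst y f)
  let a0 : (ofSp F.obj).obj := ⟨Over.mk r.str, F.obj.obj.map ψ₀.op b.sec⟩
  let ψ : a0 ⟶ b := ⟨ψ₀, rfl⟩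
  have h1 : ψ₀ ≫ AlgSt.secHom Φ b = AlgSt.secHom Φ a0 := AlgSt.secHom_comp Φ ψ
  -- the counit at `w`
  have hι := compApp_lift c₂ w
  have hι1 : (FibCat.overCat T).p.IsHomLift (𝟙 ((FibCat.fp y f).p.obj w))
      (compApp c₂ w).hom.hom.fst := (isHomLift_iff_fst (compApp c₂ w).hom _).mp hι
  have h2 : (compApp c₂ w).hom.hom.fst.left ≫ w.obj.fst.hom = (e.obj (G.obj w)).obj.fst.hom :=
    Over.w (compApp c₂ w).hom.hom.fst
  have h3 : (compApp c₂ w).hom.hom.fst.left = _ :=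
    IsHomLift.fac' (FibCat.overCat T).p (𝟙 ((FibCat.fp y f).p.obj w))
      (compApp c₂ w).hom.hom.fst
  have h4 : m.left ≫ c = w.obj.fst.hom := Over.w m
  have key : AlgSt.secHom Φ a0 = (eqToHom h' ≫ m.left) ≫ c := by
    rw [← h1, Category.assoc, h4]
    subst hbdef
    unfold AlgSt.secHom
    change ψ₀ ≫ eqToHom _ ≫ (e.obj (G.obj w)).obj.fst.hom = _
    rw [← h2]
    change ψ₀ ≫ eqToHom _ ≫ (compApp c₂ w).hom.hom.fst.left ≫ w.obj.fst.hom = _
    rw [h3]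
    simp [ψ₀]
  change ((yon S).obj T).obj.map (𝟙 (Over.mk r.str)).op (⟨AlgSt.secHom Φ a0⟩ : ULift _) =
    ((yon S).obj T).obj.map (eqToHom h' ≫ m.left).op τ.val
  rw [key]
  apply ULift.ext
  change 𝟙 _ ≫ ((eqToHom h' ≫ m.left) ≫ c) = (eqToHom h' ≫ m.left) ≫ τ.val.down
  rw [Category.id_comp]
  subst hc
  rfl

end Groth.Agent.Lib.Helper17.PTS
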