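import Groth.Agent.Lib.Helper17.PointsTop3

set_option autoImplicit false
set_option backward.isDefEq.respectTransparency false
set_option backward.isDefEq.respectTransparency.types false
universe u v w

namespace Groth.Agent.Lib.Helper17.PTS

open CategoryTheory CategoryTheory.Limits AlgebraicGeometry Opposite AlgSp FibCat Stk AlgSt
open TopologicalSpace
open Groth.Agent.Lib.Helper17 Groth.Agent.Lib.Helper17.FP Groth.Agent.Lib.Helper17.EO
  Groth.Agent.Lib.Helper17.PD Groth.Agent.Lib.Helper17.AT Groth.Agent.Lib.Helper17.AB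
  Groth.Agent.Lib.Helper17.AOS Groth.Agent.Lib.Helper17.ACP
open Groth.Agent.Lib.Helper46 Groth.Agent.Lib.Helper46.LocPChart

section Top

/-- a space covered by the images of continuous open maps from Noetherian quasi-sober spaces is
quasi-sober -/
theorem quasiSober_of_charts {X : Type v} [TopologicalSpace X]
    (H : ∀ x : X, ∃ (U : Type w) (_ : TopologicalSpace U) (_ : NoetherianSpace U)
      (_ : QuasiSober U) (f : U → X), Continuous f ∧ IsOpenMap f ∧ x ∈ Set.range f) :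
    QuasiSober X := by
  refine ⟨fun {T} hT hTc => ?_⟩
  obtain ⟨x, hx⟩ := hT.nonempty
  obtain ⟨U, _, _, _, f, hfc, hfo, ⟨u, rfl⟩⟩ := H x
  have hT'c : IsClosed (f ⁻¹' T) := hTc.preimage hfc
  obtain ⟨𝒮, h𝒮f, h𝒮c, h𝒮i, h𝒮U⟩ := NoetherianSpace.exists_finite_set_isClosed_irreducible hT'c
  have hW : IsOpen (Set.range f) := hfo.isOpen_range
  -- `T ⊆ closure (T ∩ range f)`
  have hdense : T ⊆ closure (T ∩ Set.range f) := by
    intro t ht
    rw [mem_closure_iff]
    intro v hv htv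
    have h1 : (T ∩ v).Nonempty := ⟨t, ht, htv⟩
    have h2 : (T ∩ Set.range f).Nonempty := ⟨f u, hx, u, rfl⟩
    obtain ⟨z, hzT, hzv, hzW⟩ := hT.isPreirreducible v (Set.range f) hv hW h1 h2
    exact ⟨z, hzv, hzT, hzW⟩
  have himg : T ∩ Set.range f = ⋃ C ∈ 𝒮, f '' C := by
    ext z
    simp only [Set.mem_inter_iff, Set.mem_range, Set.mem_iUnion, Set.mem_image]
    constructor
    · rintro ⟨hz, u', rfl⟩
      have hu' : u' ∈ f ⁻¹' T := hz
      rw [h𝒮U] at hu'
      obtain ⟨C, hC, hu'C⟩ := hu'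
      exact ⟨C, hC, u', hu'C, rfl⟩
    · rintro ⟨C, hC, u', hu'C, rfl⟩
      have : u' ∈ f ⁻¹' T := by
        rw [h𝒮U]
        exact ⟨C, hC, hu'C⟩
      exact ⟨this, u', rfl⟩
  have hcl : closure (T ∩ Set.range f) = ⋃ C ∈ 𝒮, closure (f '' C) := by
    rw [himg]
    exact h𝒮f.closure_biUnion _
  -- a finite closed cover of the irreducible `T`
  let t : Finset (Set X) := (h𝒮f.image (fun C => closure (f '' C))).toFinset
  have htc : ∀ z ∈ t, IsClosed z := by
    intro z hz
    rw [Set.Finite.mem_toFinset] at hz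
    obtain ⟨C, -, rfl⟩ := hz
    exact isClosed_closure
  have hcov : T ⊆ ⋃₀ (↑t : Set (Set X)) := by
    intro z hz
    have := hdense hz
    rw [hcl] at this
    simp only [Set.mem_iUnion] at this
    obtain ⟨C, hC, hzC⟩ := this
    refine ⟨closure (f '' C), ?_, hzC⟩
    rw [Finset.mem_coe, Set.Finite.mem_toFinset]
    exact ⟨C, hC, rfl⟩
  obtain ⟨z, hz, hTz⟩ := isIrreducible_iff_sUnion_isClosed.mp hT t htc hcov
  rw [Set.Finite.mem_toFinset] at hz
  obtain ⟨C, hC, rfl⟩ := hz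
  obtain ⟨η, hη⟩ := QuasiSober.sober (h𝒮i C hC) (h𝒮c C hC)
  have hCT : C ⊆ f ⁻¹' T := by
    rw [h𝒮U]
    exact Set.subset_sUnion_of_mem hC
  have hηC : η ∈ C := hη.mem
  refine ⟨f η, ?_⟩
  change closure {f η} = T
  apply Set.Subset.antisymm
  · exact closure_minimal (Set.singleton_subset_iff.mpr (hCT hηC)) hTc
  · refine hTz.trans (closure_minimal ?_ isClosed_closure)
    have hCη : C = closure {η} := hη.def.symm
    rw [hCη]
    refine (image_closure_subset_closure_image hfc).trans ?_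
    rw [Set.image_singleton]

end Top

variable {S : Scheme.{u}}

/-- the space of points of a quasi-compact locally Noetherian algebraic stack is Noetherian -/
theorem noetherianSpace_points {𝒳 : AlgSt.Cat S}
    (h𝒳 : AlgSt.IsAlgStack Scheme.fppfPrecoverage 𝒳) (hq : AlgSt.IsQuasiCompact 𝒳)
    (hN : AlgSt.SmoothLocally (fun T ↦ IsLocallyNoetherian T) 𝒳) :
    NoetherianSpace (AlgSt.Points 𝒳) := by
  have hX := h𝒳.isStack.1
  obtain ⟨U, x, haff, hs, hsurj⟩ := hq
  have : IsLocallyNoetherian U.left := hN U x hs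
  have : IsNoetherian U.left := { }
  exact noetherianSpace_of_surjective (AlgSt.Points.ofChart x) (continuous_ofChart h𝒳 x)
    (ofChart_surjective x (isSurjective_of_repWith hX x hsurj))

/-- Noetherian open neighbourhoods in the space of points of a locally Noetherian stack, as images
of affine opens of an atlas -/
theorem exists_noetherian_chart_nhds {𝒳 : AlgSt.Cat S}
    (h𝒳 : AlgSt.IsAlgStack Scheme.fppfPrecoverage 𝒳)
    (hN : AlgSt.SmoothLocally (fun T ↦ IsLocallyNoetherian T) 𝒳) (p : AlgSt.Points 𝒳) :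
    ∃ (V : Type u) (_ : TopologicalSpace V) (_ : NoetherianSpace V) (_ : QuasiSober V)
      (f : V → AlgSt.Points 𝒳), Continuous f ∧ IsOpenMap f ∧ p ∈ Set.range f := by
  have hX := h𝒳.isStack.1
  obtain ⟨U₀, x₀, hxs, hxsurj⟩ := h𝒳.atlas
  have hsurj := ofChart_surjective x₀ (isSurjective_of_repWith hX x₀ hxsurj)
  obtain ⟨u₀, rfl⟩ := hsurj p
  have : IsLocallyNoetherian U₀.left := hN U₀ x₀ hxs
  obtain ⟨V₀, hV₀aff, hu₀, -⟩ :=
    exists_isAffineOpen_mem_and_subset (x := u₀) (U := ⊤) trivial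
  have : IsNoetherianRing Γ(U₀.left, V₀) :=
    IsLocallyNoetherian.component_noetherian ⟨V₀, hV₀aff⟩
  have hVN : NoetherianSpace ↥V₀ := noetherianSpace_of_isAffineOpen V₀ hV₀aff
  have hopen := isOpenMap_ofChart hX h𝒳.diag x₀ (flat_of_smooth _ hxs) (lfp_of_smooth _ hxs)
  have hQS : QuasiSober ↥V₀ := by
    have : QuasiSober ↥(V₀ : Scheme).carrier := inferInstance
    exact this
  refine ⟨↥V₀, inferInstance, hVN, hQS, fun v => AlgSt.Points.ofChart x₀ v.1, ?_, ?_, ?_⟩
  · exact (continuous_ofChart h𝒳 x₀).comp continuous_subtype_val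
  · exact hopen.comp V₀.2.isOpenMap_subtype_val
  · exact ⟨⟨u₀, hu₀⟩, rfl⟩

theorem exists_noetherian_open_nhds {𝒳 : AlgSt.Cat S}
    (h𝒳 : AlgSt.IsAlgStack Scheme.fppfPrecoverage 𝒳)
    (hN : AlgSt.SmoothLocally (fun T ↦ IsLocallyNoetherian T) 𝒳) (p : AlgSt.Points 𝒳) :
    ∃ U : Set (AlgSt.Points 𝒳), IsOpen U ∧ p ∈ U ∧ NoetherianSpace U := by
  obtain ⟨V, _, _, _, f, hfc, hfo, hp⟩ := exists_noetherian_chart_nhds h𝒳 hN p
  exact ⟨Set.range f, hfo.isOpen_range, hp, NoetherianSpace.range f hfc⟩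

theorem quasiSober_points {𝒳 : AlgSt.Cat S}
    (h𝒳 : AlgSt.IsAlgStack Scheme.fppfPrecoverage 𝒳)
    (hN : AlgSt.SmoothLocally (fun T ↦ IsLocallyNoetherian T) 𝒳) :
    QuasiSober (AlgSt.Points 𝒳) :=
  quasiSober_of_charts (fun p => exists_noetherian_chart_nhds h𝒳 hN p)

end Groth.Agent.Lib.Helper17.PTS
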