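import Mathlib

set_option autoImplicit false
universe u

namespace Groth.Agent.Lib.Helper17.QCT

open CategoryTheory AlgebraicGeometry TopologicalSpace

/-- a compact subset of a scheme is contained in a quasi-compact open -/
theorem exists_compact_open_superset (V : Scheme.{u}) (K : Set V) (hK : IsCompact K) :
    ∃ V' : V.Opens, IsCompact (V' : Set V) ∧ K ⊆ V' := by
  choose O hOaff hOmem _ using fun v : V =>
    exists_isAffineOpen_mem_and_subset (x := v) (U := ⊤) trivial
  obtain ⟨t, -, ht⟩ := hK.elim_nhds_subcover (fun v => (O v : Set V))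
    (fun v _ => (O v).2.mem_nhds (hOmem v))
  refine ⟨⨆ v ∈ t, O v, ?_, ?_⟩
  · have : ((⨆ v ∈ t, O v : V.Opens) : Set V) = ⋃ v ∈ t, (O v : Set V) := by
      simp [Opens.coe_iSup]
    rw [this]
    exact t.isCompact_biUnion (fun v _ => (hOaff v).isCompact)
  · intro k hk
    have := ht hk
    simp only [Set.mem_iUnion] at this
    obtain ⟨v, hv, hkv⟩ := this
    simp only [Opens.coe_iSup, Set.mem_iUnion]
    exact ⟨v, hv, hkv⟩

/-- for an open surjective map from a scheme onto a compact space and a continuous map to a scheme,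
a quasi-compact open of the target receiving a section-like family -/
theorem exists_compact_open_image {W U V : Scheme.{u}} (a : W ⟶ U) (b : W ⟶ V)
    (ha : IsOpenMap a) (hs : Function.Surjective a) [CompactSpace U] :
    ∃ V' : V.Opens, IsCompact (V' : Set V) ∧ ∀ x : U, ∃ w : W, a w = x ∧ b w ∈ V' := by
  choose O hOaff hOmem _ using fun w : W =>
    exists_isAffineOpen_mem_and_subset (x := w) (U := ⊤) trivial
  have hcov : ∀ x : U, ∃ w : W, x ∈ a '' (O w : Set W) := fun x => by
    obtain ⟨w, rfl⟩ := hs x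
    exact ⟨w, w, hOmem w, rfl⟩
  choose wx hwx using hcov
  obtain ⟨t, ht⟩ := CompactSpace.elim_nhds_subcover (fun x : U => a '' (O (wx x) : Set W))
    (fun x => (ha _ (O (wx x)).2).mem_nhds (hwx x))
  let K : Set V := ⋃ x ∈ t, b '' (O (wx x) : Set W)
  have hK : IsCompact K := t.isCompact_biUnion
    (fun x _ => (hOaff (wx x)).isCompact.image b.continuous)
  obtain ⟨V', hV', hKV'⟩ := exists_compact_open_superset V K hK
  refine ⟨V', hV', fun x => ?_⟩
  have hx : x ∈ ⋃ x ∈ t, a '' (O (wx x) : Set W) := by rw [ht]; trivial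
  simp only [Set.mem_iUnion] at hx
  obtain ⟨x', hx't, w, hw, rfl⟩ := hx
  refine ⟨w, rfl, hKV' ?_⟩
  simp only [K, Set.mem_iUnion]
  exact ⟨x', hx't, w, hw, rfl⟩

end Groth.Agent.Lib.Helper17.QCT
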