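import Groth.Agent.Lib.Helper17.PointsDict
import Groth.Agent.Lib.Helper17.QcTop
import Groth.Agent.Lib.Helper23.AlgSpNoeth2

set_option autoImplicit false
set_option backward.isDefEq.respectTransparency false
set_option backward.isDefEq.respectTransparency.types false
universe u

namespace Groth.Agent.Lib.Helper17.PTS

open CategoryTheory CategoryTheory.Limits AlgebraicGeometry Opposite AlgSp FibCat Stk AlgSt
open Groth.Agent.Lib.Helper17 Groth.Agent.Lib.Helper17.FP Groth.Agent.Lib.Helper17.EO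
  Groth.Agent.Lib.Helper17.PD Groth.Agent.Lib.Helper17.AT Groth.Agent.Lib.Helper17.AB
  Groth.Agent.Lib.Helper17.AOS Groth.Agent.Lib.Helper17.ACP

variable {S : Scheme.{u}}

/-- every point of the slice over a scheme is the point of a point of the scheme -/
theorem exists_ofChart_id (U : Over S) (ζ : AlgSt.Points (FibCat.overCat U)) :
    ∃ u₀ : ↥U.left, ζ = AlgSt.Points.ofChart (BasedFunctor.id (FibCat.overCat U)) u₀ := by
  obtain ⟨p, rfl⟩ := AlgSt.Points.mk_surjective ζ
  obtain ⟨K, str, obj, lies⟩ := p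
  obtain ⟨L, ⟨⟨⟩⟩, h⟩ := obj
  change L = Over.mk str at lies
  subst lies
  let h' : Over.mk str ⟶ U := h
  let m : Spec (CommRingCat.of K) ⟶ U.left := h'.left
  have hm : m ≫ U.hom = str := Over.w h'
  refine ⟨m (IsLocalRing.closedPoint K), ?_⟩
  have key := Scheme.descResidueField_stalkClosedPointTo_fromSpecResidueField K U.left m
  let u₀ := m (IsLocalRing.closedPoint K)
  let φ₀ : Over.mk str ⟶ Over.mk (U.left.fromSpecResidueField u₀ ≫ U.hom) :=
    Over.homMk (Spec.map (U.left.descResidueField (K := K) (Scheme.stalkClosedPointTo m)))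
      (((Category.assoc _ _ _).symm.trans (congrArg (· ≫ U.hom) key)).trans hm)
  let B : Over U := Over.mk (Over.homMk (U.left.fromSpecResidueField u₀) rfl :
      Over.mk (U.left.fromSpecResidueField u₀ ≫ U.hom) ⟶ U)
  let A : Over U := Over.mk h'
  let φ : A ⟶ B := Over.homMk φ₀ (by
    apply Over.OverMorphism.ext
    exact key)
  exact mk_eq_of_hom _ _ φ

/-- **the image of a quasi-compact stack under a morphism surjective on points is quasi-compact** -/
theorem isQuasiCompact_of_isSurjective {𝒰 𝒳 : AlgSt.Cat S} (hU : FibCat.IsFibGrpd 𝒰.p)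
    (h𝒳 : AlgSt.IsAlgStack Scheme.fppfPrecoverage 𝒳) (f : 𝒰 ⥤ᵇ 𝒳) (hf : AlgSt.IsSurjective f)
    (hq : AlgSt.IsQuasiCompact 𝒰) : AlgSt.IsQuasiCompact 𝒳 := by
  have hX := h𝒳.isStack.1
  obtain ⟨U, u, hUaff, hus, husurj⟩ := hq
  obtain ⟨V, x₀, hxs, hxsurj⟩ := h𝒳.atlas
  obtain ⟨W, a, b, ha, ha', -, -, ⟨iso⟩⟩ :=
    BRG.exists_bridge_props hX h𝒳.diag (BasedFunctor.comp u f) x₀
  have hasm : Smooth a.left := ha hxs
  have hasurj : Function.Surjective a.left := ha' hxsurj
  have hopen : IsOpenMap a.left := a.left.isOpenMap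
  obtain ⟨V', hV'c, hV'⟩ := QCT.exists_compact_open_image a.left b.left hopen hasurj
  let V'' : Over S := Over.mk (V'.ι ≫ V.hom)
  let j : V'' ⟶ V := Over.homMk V'.ι rfl
  have hcomp : CompactSpace ↥V''.left := isCompact_iff_compactSpace.mp hV'c
  have hV''f : FibCat.IsFibGrpd (FibCat.overCat V'').p := FG.isFibGrpd_overForget V''
  have hjsm : Smooth j.left := by change Smooth V'.ι; infer_instance
  have hj1 : AlgSt.RepByAlgSpWith (LocP @Smooth) (AlgSt.overMap j) :=
    CT.repWith_overMap _ AFP.sm_bc j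
      (Groth.Agent.Lib.Helper23.AlgSpMor.locP_yon_map_of
        Groth.Agent.Lib.Helper30.EtLocalInst.etLocal_smooth j hjsm)
  have hx₀'s : AlgSt.RepByAlgSpWith (LocP @Smooth) (BasedFunctor.comp (AlgSt.overMap j) x₀) :=
    repWith_comp_of_schLocal' hV''f hX _ AFP.sm_bc AFP.sm_cp CT.sm_schLocal _ x₀ hj1 hxs
  have hx₀'1 : AlgSt.RepByAlgSp1 (BasedFunctor.comp (AlgSt.overMap j) x₀) := fun T y => by
    obtain ⟨F, e, he, -⟩ := hx₀'s T y
    exact ⟨F, e, he⟩
  have hsurj' : AlgSt.IsSurjective (BasedFunctor.comp (AlgSt.overMap j) x₀) := by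
    intro ξ
    obtain ⟨ξ', rfl⟩ := hf ξ
    obtain ⟨ζ, rfl⟩ := isSurjective_of_repWith hU u husurj ξ'
    obtain ⟨u₀, rfl⟩ := exists_ofChart_id U ζ
    obtain ⟨w, rfl, hw⟩ := hV' u₀
    let v' : ↥V''.left := ⟨b.left w, hw⟩
    have e1 : j.left v' = b.left w := rfl
    refine ⟨AlgSt.Points.ofChart (BasedFunctor.id _) v', ?_⟩
    calc AlgSt.Points.map (BasedFunctor.comp (AlgSt.overMap j) x₀)
          (AlgSt.Points.ofChart (BasedFunctor.id _) v')
        = AlgSt.Points.ofChart (BasedFunctor.comp (AlgSt.overMap j) x₀) v' := rfl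
      _ = AlgSt.Points.ofChart x₀ (j.left v') := ofChart_overMap j x₀ v'
      _ = AlgSt.Points.ofChart x₀ (b.left w) := by rw [e1]
      _ = AlgSt.Points.ofChart (BasedFunctor.comp (AlgSt.overMap b) x₀) w :=
          (ofChart_overMap b x₀ w).symm
      _ = AlgSt.Points.map (BasedFunctor.comp (AlgSt.overMap b) x₀)
            (AlgSt.Points.ofChart (BasedFunctor.id _) w) := rfl
      _ = AlgSt.Points.map (BasedFunctor.comp (AlgSt.overMap a) (BasedFunctor.comp u f))
            (AlgSt.Points.ofChart (BasedFunctor.id _) w) := (map_congr iso _).symm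
      _ = AlgSt.Points.ofChart (BasedFunctor.comp (AlgSt.overMap a) (BasedFunctor.comp u f)) w :=
          rfl
      _ = AlgSt.Points.ofChart (BasedFunctor.comp u f) (a.left w) :=
          ofChart_overMap a (BasedFunctor.comp u f) w
      _ = AlgSt.Points.map f (AlgSt.Points.map u
            (AlgSt.Points.ofChart (BasedFunctor.id _) (a.left w))) := rfl
  exact CT.isQuasiCompact_of_compact_chart hX V'' _ hx₀'s
    (repWith_of_isSurjective hV''f hX _ hx₀'1 hsurj')

end Groth.Agent.Lib.Helper17.PTS
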