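import Groth.Agent.Lib.Helper17.PointsSp

set_option autoImplicit false
set_option backward.isDefEq.respectTransparency false
set_option backward.isDefEq.respectTransparency.types false
universe u

namespace Groth.Agent.Lib.Helper17.PDX

open CategoryTheory CategoryTheory.Limits AlgebraicGeometry Opposite AlgSp FibCat Stk AlgSt
open Groth.Agent.Lib.Helper17 Groth.Agent.Lib.Helper17.FP Groth.Agent.Lib.Helper17.EO
  Groth.Agent.Lib.Helper17.PD Groth.Agent.Lib.Helper17.AT Groth.Agent.Lib.Helper17.AB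
  Groth.Agent.Lib.Helper17.AOS Groth.Agent.Lib.Helper17.ACP Groth.Agent.Lib.Helper17.PTS
open Groth.Agent.Lib.Helper46 Groth.Agent.Lib.Helper46.LocPChart

variable {S : Scheme.{u}}

/-- the dictionary for a base change of a representable morphism to a scheme -/
theorem exists_homeos_fp {𝒳 𝒴 : AlgSt.Cat S}
    (h𝒳 : AlgSt.IsAlgStack Scheme.fppfPrecoverage 𝒳)
    (h𝒴 : AlgSt.IsAlgStack Scheme.fppfPrecoverage 𝒴) (f : 𝒳 ⥤ᵇ 𝒴) {T : Over S}
    (y : FibCat.overCat T ⥤ᵇ 𝒴) (F : AlgSp.Space S) (e : ofSp F.obj ⥤ᵇ FibCat.fp y f)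
    (he : FibCat.IsEquivOver e) :
    ∃ (A : AlgSp.Points F.obj ≃ₜ AlgSt.Points (FibCat.fp y f))
      (B : AlgSp.Points ((yon S).obj T) ≃ₜ AlgSt.Points (FibCat.overCat T)),
      ∀ x, B (AlgSp.Points.map (spMapOfOver (BasedFunctor.comp e (FibCat.fpFst y f))) x) =
        AlgSt.Points.map (FibCat.fpFst y f) (A x) := by
  obtain ⟨A, B, h⟩ := exists_homeos F (BasedFunctor.comp e (FibCat.fpFst y f))
  have hfp : AlgSt.IsAlgStack Scheme.fppfPrecoverage (FibCat.fp y f) :=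
    AFP.isAlgStack_fp h𝒴.isStack h𝒴.diag (SPS.isAlgStack_overCat T) h𝒳 y f
  have hE : IsHomeomorph (AlgSt.Points.map e) :=
    isHomeomorph_map_of_isEquivOver (SPS.isAlgStack_ofSp F) hfp e he
  refine ⟨A.trans hE.homeomorph, B, fun x => ?_⟩
  rw [h x]
  exact PTS.map_comp e (FibCat.fpFst y f) (A x)

/-- from the functor to the map of sheaves: base changes along schemes -/
theorem repBySpWith_of_repWith (Q : MorphismProperty (Sp S)) [Q.RespectsIso] {𝒳 𝒴 : AlgSt.Cat S}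
    (f : 𝒳 ⥤ᵇ 𝒴) (h : AlgSt.RepByAlgSpWith Q f) {T : Over S} (y : FibCat.overCat T ⥤ᵇ 𝒴)
    (F : AlgSp.Space S) (e : ofSp F.obj ⥤ᵇ FibCat.fp y f) (he : FibCat.IsEquivOver e) :
    AlgSp.RepBySpWith Q (spMapOfOver (BasedFunctor.comp e (FibCat.fpFst y f))).hom := by
  have k1 : AlgSt.RepByAlgSpWith Q (FibCat.fpFst y f) := AB.repWith_fpFst _ f y h
  have k2 : AlgSt.RepByAlgSpWith Q (BasedFunctor.comp e (FibCat.fpFst y f)) :=
    FD.repWith_precomp_equiv _ e he _ k1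
  have k3 : AlgSt.RepByAlgSpWith Q
      (BasedFunctor.comp (BasedFunctor.comp e (FibCat.fpFst y f)) (ofOverCat T)) :=
    CMP.repWith_comp_equiv _ _ (ofOverCat T) (AD.ofOverCat_isEquivOver T) k2
  set φ := spMapOfOver (BasedFunctor.comp e (FibCat.fpFst y f)) with hφ
  have hrb : AlgSp.RepBySp φ.hom :=
    AR.repBySp_of_algSpaces F ⟨(yon S).obj T, IsAlgSpace.yon_obj T⟩ _
  have k4 : AlgSt.RepByAlgSpWith Q (Stk.ofPshMap φ.hom) := by
    rw [hφ, ← AD.mapOf_comp_ofOverCat]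
    set Ψ := BasedFunctor.comp (BasedFunctor.comp e (FibCat.fpFst y f)) (ofOverCat T)
    have hnat : ∀ {x x₁ : (ofSp F.obj).obj} (β : x ⟶ x₁),
        (Stk.ofPshMap (PD.mapOf Ψ)).map β ≫ (PD.compIso Ψ x₁).inv =
          (PD.compIso Ψ x).inv ≫ Ψ.map β := by
      intro x x₁ β
      rw [Iso.comp_inv_eq, Category.assoc, Iso.eq_inv_comp]
      exact (PD.compIso_nat Ψ β).symm
    exact repWith_of_square_fwd Q Ψ (Stk.ofPshMap (PD.mapOf Ψ)) (BasedFunctor.id _)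
      (BasedFunctor.id _) (isEquivOver_id _) (isEquivOver_id _)
      (fun w => (PD.compIso Ψ w).symm) hnat
      (fun w => by
        have := PD.compIso_lift Ψ w
        exact IsHomLift.lift_id_inv (Stk.ofPsh _).p _ (PD.compIso Ψ w)) k3
  exact (Groth.Agent.S12778.result _ _ hrb).mpr k4

/-- the topological square of a base change along an atlas -/
theorem exists_top_square {𝒳 𝒴 𝒵 : AlgSt.Cat S}
    (h𝒳 : AlgSt.IsAlgStack Scheme.fppfPrecoverage 𝒳)
    (h𝒴 : AlgSt.IsAlgStack Scheme.fppfPrecoverage 𝒴)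
    (h𝒵 : AlgSt.IsAlgStack Scheme.fppfPrecoverage 𝒵) (f : 𝒳 ⥤ᵇ 𝒴) (g : 𝒵 ⥤ᵇ 𝒴) :
    ∃ (V : Over S) (y : FibCat.overCat V ⥤ᵇ 𝒴), ∀ (F : AlgSp.Space S)
      (e : ofSp F.obj ⥤ᵇ FibCat.fp y f) (_ : FibCat.IsEquivOver e),
      ∃ (V' X' : Type (u + 1)) (_ : TopologicalSpace V') (_ : TopologicalSpace X')
      (v : V' → AlgSt.Points 𝒵) (π' : X' → V') (m' : X' → AlgSt.Points (FibCat.fp g f))
      (A : AlgSp.Points F.obj ≃ₜ X') (B : AlgSp.Points ((yon S).obj V) ≃ₜ V'),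
      Continuous v ∧ IsOpenMap v ∧ Function.Surjective v ∧ Continuous m' ∧
      Function.Surjective m' ∧
      (∀ x', v (π' x') = AlgSt.Points.map (FibCat.fpFst g f) (m' x')) ∧
      (∀ z' p, v z' = AlgSt.Points.map (FibCat.fpFst g f) p → ∃ x', π' x' = z' ∧ m' x' = p) ∧
      (∀ x, B (AlgSp.Points.map (spMapOfOver (BasedFunctor.comp e (FibCat.fpFst y f))) x) =
        π' (A x)) := by
  have hX := h𝒳.isStack.1
  have hY := h𝒴.isStack.1
  have hZ := h𝒵.isStack.1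
  obtain ⟨V, v, hvs, hvsurj⟩ := h𝒵.atlas
  have hVf : FibCat.IsFibGrpd (FibCat.overCat V).p := FG.isFibGrpd_overForget V
  let y : FibCat.overCat V ⥤ᵇ 𝒴 := BasedFunctor.comp v g
  refine ⟨V, y, fun F e he => ?_⟩
  have hA : AlgSt.IsAlgStack Scheme.fppfPrecoverage (FibCat.fp g f) :=
    AFP.isAlgStack_fp h𝒴.isStack h𝒴.diag h𝒵 h𝒳 g f
  have hfp : FibCat.IsFibGrpd (FibCat.fp g f).p := hA.isStack.1
  let pf := FibCat.fpFst g f
  have hB : AlgSt.IsAlgStack Scheme.fppfPrecoverage (FibCat.fp v pf) :=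
    AFP.isAlgStack_fp h𝒵.isStack h𝒵.diag (SPS.isAlgStack_overCat V) hA v pf
  obtain ⟨A₀, B, hAB⟩ := exists_homeos_fp h𝒳 h𝒴 f y F e he
  have hP : IsHomeomorph (AlgSt.Points.map (PS.paste v g f)) :=
    isHomeomorph_map_of_isEquivOver
      (AFP.isAlgStack_fp h𝒴.isStack h𝒴.diag (SPS.isAlgStack_overCat V) h𝒳 y f) hB
      (PS.paste v g f) (PS.paste_isEquivOver v g f)
  have hsm := AB.repWith_fpSnd _ v pf hvs
  have hsj := AB.repWith_fpSnd _ v pf hvsurj
  refine ⟨AlgSt.Points (FibCat.overCat V), AlgSt.Points (FibCat.fp v pf),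
    inferInstance, inferInstance, AlgSt.Points.map v, AlgSt.Points.map (FibCat.fpFst v pf),
    AlgSt.Points.map (FibCat.fpSnd v pf), A₀.trans hP.homeomorph, B, ?_, ?_, ?_, ?_, ?_, ?_, ?_, ?_⟩
  · exact continuous_map h𝒵 v
  · exact isOpenMap_map_of_flat_lfp (SPS.isAlgStack_overCat V) h𝒵 v (flat_of_smooth v hvs)
      (lfp_of_smooth v hvs)
  · exact isSurjective_of_repWith hZ v hvsurj
  · exact continuous_map hA _
  · exact isSurjective_of_repWith hfp _ hsj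
  · intro x'
    rw [← PTS.map_comp, ← PTS.map_comp]
    exact PTS.map_congr (FibCat.fpIso v pf) x'
  · intro z' p h
    exact exists_point_fp hfp hZ hVf pf v z' p h
  · intro x
    rw [hAB x]
    change AlgSt.Points.map (FibCat.fpFst y f) (A₀ x) =
      AlgSt.Points.map (FibCat.fpFst v pf) (AlgSt.Points.map (PS.paste v g f) (A₀ x))
    rw [← PTS.map_comp]
    rfl

end Groth.Agent.Lib.Helper17.PDX
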