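import Groth.Agent.Lib.Helper17.PointsQc2

set_option autoImplicit false
set_option backward.isDefEq.respectTransparency false
set_option backward.isDefEq.respectTransparency.types false
universe u

namespace Groth.Agent.Lib.Helper17.PTS

open CategoryTheory CategoryTheory.Limits AlgebraicGeometry Opposite AlgSp FibCat Stk AlgSt
open Groth.Agent.Lib.Helper17 Groth.Agent.Lib.Helper17.FP Groth.Agent.Lib.Helper17.EO
  Groth.Agent.Lib.Helper17.PD Groth.Agent.Lib.Helper17.AT Groth.Agent.Lib.Helper17.AB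
  Groth.Agent.Lib.Helper17.AOS Groth.Agent.Lib.Helper17.ACP
open Groth.Agent.Lib.Helper46 Groth.Agent.Lib.Helper46.LocPChart

variable {S : Scheme.{u}}

/-- the point of a point of a scheme determines the point -/
theorem ofChart_id_injective (U : Over S) :
    Function.Injective (AlgSt.Points.ofChart (BasedFunctor.id (FibCat.overCat U))) := by
  intro u u' h
  have hU : FibCat.IsFibGrpd (FibCat.overCat U).p := FG.isFibGrpd_overForget U
  obtain ⟨r, α, β, -⟩ := (mk_eq_mk_iff hU _ _).mp h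
  -- `α`, `β` are morphisms of `Over U` out of `r.obj`
  let A : Over U := Over.mk (Over.homMk (U.left.fromSpecResidueField u) rfl :
      Over.mk (U.left.fromSpecResidueField u ≫ U.hom) ⟶ U)
  let A' : Over U := Over.mk (Over.homMk (U.left.fromSpecResidueField u') rfl :
      Over.mk (U.left.fromSpecResidueField u' ≫ U.hom) ⟶ U)
  let α' : r.obj ⟶ A := α
  let β' : r.obj ⟶ A' := β
  have h1 : α'.left.left ≫ U.left.fromSpecResidueField u = r.obj.hom.left :=
    congrArg (fun t => t.left) (Over.w α')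
  have h2 : β'.left.left ≫ U.left.fromSpecResidueField u' = r.obj.hom.left :=
    congrArg (fun t => t.left) (Over.w β')
  have hne : Nonempty ↥r.obj.left.left := by
    have e : r.obj.left = Over.mk r.str := r.lies
    rw [e]
    exact ⟨IsLocalRing.closedPoint r.K⟩
  obtain ⟨pt⟩ := hne
  have e1 : r.obj.hom.left pt = u := by
    rw [← h1, Scheme.Hom.comp_apply]
    exact Scheme.fromSpecResidueField_apply _ _
  have e2 : r.obj.hom.left pt = u' := by
    rw [← h2, Scheme.Hom.comp_apply]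
    exact Scheme.fromSpecResidueField_apply _ _
  exact e1.symm.trans e2

theorem map_id {𝒳 : AlgSt.Cat S} (ξ : AlgSt.Points 𝒳) :
    AlgSt.Points.map (BasedFunctor.id 𝒳) ξ = ξ := by
  obtain ⟨p, rfl⟩ := AlgSt.Points.mk_surjective ξ
  rfl

/-- an equivalence is surjective on points -/
theorem isSurjective_of_isEquivOver {𝒳 𝒴 : AlgSt.Cat S} (e : 𝒳 ⥤ᵇ 𝒴) (he : FibCat.IsEquivOver e) :
    AlgSt.IsSurjective e := by
  obtain ⟨k, -, ⟨c⟩⟩ := he
  intro η
  refine ⟨AlgSt.Points.map k η, ?_⟩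
  rw [← map_comp, map_congr c, map_id]

theorem isSurjective_comp {𝒳 𝒴 𝒵 : AlgSt.Cat S} (f : 𝒳 ⥤ᵇ 𝒴) (g : 𝒴 ⥤ᵇ 𝒵)
    (hf : AlgSt.IsSurjective f) (hg : AlgSt.IsSurjective g) :
    AlgSt.IsSurjective (BasedFunctor.comp f g) := by
  intro η
  obtain ⟨ξ, rfl⟩ := hg η
  obtain ⟨ζ, rfl⟩ := hf ξ
  exact ⟨ζ, map_comp f g ζ⟩

/-- the chart of a surjective functor from a slice is surjective -/
theorem ofChart_surjective {𝒳 : AlgSt.Cat S} {U : Over S} (x : FibCat.overCat U ⥤ᵇ 𝒳)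
    (hx : AlgSt.IsSurjective x) : Function.Surjective (AlgSt.Points.ofChart x) := by
  intro η
  obtain ⟨ζ, rfl⟩ := hx η
  obtain ⟨u, rfl⟩ := exists_ofChart_id U ζ
  exact ⟨u, rfl⟩

/-- 2-isomorphic charts have the same map on points -/
theorem ofChart_congr {𝒳 : AlgSt.Cat S} {U : Over S} {x x' : FibCat.overCat U ⥤ᵇ 𝒳} (e : x ≅ x')
    (t : ↥U.left) : AlgSt.Points.ofChart x t = AlgSt.Points.ofChart x' t :=
  map_congr e (AlgSt.Points.ofChart (BasedFunctor.id (FibCat.overCat U)) t)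

theorem ofChart_overMap_id {W U : Over S} (a : W ⟶ U) (w : ↥W.left) :
    AlgSt.Points.ofChart (AlgSt.overMap a) w =
      AlgSt.Points.ofChart (BasedFunctor.id (FibCat.overCat U)) (a.left w) :=
  ofChart_overMap a (BasedFunctor.id _) w

/-- **the bridge between two charts**, with the comparison functor to the fibre product -/
theorem exists_bridge_q {𝒳 : AlgSt.Cat S} (hX : FibCat.IsFibGrpd 𝒳.p)
    (hΔ : AlgSt.RepByAlgSp1 (FibCat.diag (FibCat.toSelf 𝒳))) {U U₀ : Over S}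
    (x : FibCat.overCat U ⥤ᵇ 𝒳) (x₀ : FibCat.overCat U₀ ⥤ᵇ 𝒳) :
    ∃ (W : Over S) (a : W ⟶ U) (b : W ⟶ U₀) (R : AlgSp.Space S)
      (e : ofSp R.obj ⥤ᵇ FibCat.fp x x₀) (c : (yon S).obj W ⟶ R.obj),
      FibCat.IsEquivOver e ∧ RepWith @Etale c ∧ RepWith @Surjective c ∧
      (yon S).map a = c ≫ spMapOfOver (BasedFunctor.comp e (FibCat.fpFst x x₀)) ∧
      (yon S).map b = c ≫ spMapOfOver (BasedFunctor.comp e (FibCat.fpSnd x x₀)) ∧
      Nonempty (BasedFunctor.comp (BasedFunctor.comp (BasedFunctor.comp (ofOverCat W) (ofSpMap c)) e)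
        (FibCat.fpFst x x₀) ≅ AlgSt.overMap a) ∧
      Nonempty (BasedFunctor.comp (BasedFunctor.comp (BasedFunctor.comp (ofOverCat W) (ofSpMap c)) e)
        (FibCat.fpSnd x x₀) ≅ AlgSt.overMap b) := by
  have hrep : AlgSt.RepByAlgSp (FibCat.fp x x₀) :=
    (Groth.Agent.S12765.result hX).mp hΔ U₀ x₀ U x
  obtain ⟨R, e, he⟩ := hrep
  obtain ⟨W, c, hce, hcs⟩ := R.property.atlas
  let q : FibCat.overCat W ⥤ᵇ FibCat.fp x x₀ :=
    BasedFunctor.comp (BasedFunctor.comp (ofOverCat W) (ofSpMap c)) e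
  let Φa : FibCat.overCat W ⥤ᵇ FibCat.overCat U := BasedFunctor.comp q (FibCat.fpFst x x₀)
  let Φb : FibCat.overCat W ⥤ᵇ FibCat.overCat U₀ := BasedFunctor.comp q (FibCat.fpSnd x x₀)
  refine ⟨W, Groth.Agent.S6443.fOf Φa, Groth.Agent.S6443.fOf Φb, R, e, c, he, hce, hcs, ?_, ?_,
    ⟨Groth.Agent.S6443.isoOverMap Φa⟩, ⟨Groth.Agent.S6443.isoOverMap Φb⟩⟩
  · rw [← BRG.spMapOfOver_toOverCat, ← BRG.spMapOfOver_ofSpMap]
    congr 1
  · rw [← BRG.spMapOfOver_toOverCat, ← BRG.spMapOfOver_ofSpMap]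
    congr 1

/-- the bridge, packaged: properties of the legs and the description of the points -/
theorem exists_bridge_full {𝒳 : AlgSt.Cat S} (hX : FibCat.IsFibGrpd 𝒳.p)
    (hΔ : AlgSt.RepByAlgSp1 (FibCat.diag (FibCat.toSelf 𝒳))) {U U₀ : Over S}
    (x : FibCat.overCat U ⥤ᵇ 𝒳) (x₀ : FibCat.overCat U₀ ⥤ᵇ 𝒳) :
    ∃ (W : Over S) (a : W ⟶ U) (b : W ⟶ U₀),
      (∀ P : MorphismProperty Scheme.{u}, (∀ ⦃X Y : Scheme.{u}⦄ (f : X ⟶ Y), Etale f → P f) →
        BC (LocP (S := S) P) → CP (LocP (S := S) P) →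
        AlgSt.RepByAlgSpWith (AlgSp.LocP P) x₀ → P a.left) ∧
      (AlgSt.RepByAlgSpWith AlgSp.IsSurjectiveMor x₀ → Function.Surjective a.left) ∧
      (∀ P : MorphismProperty Scheme.{u}, (∀ ⦃X Y : Scheme.{u}⦄ (f : X ⟶ Y), Etale f → P f) →
        BC (LocP (S := S) P) → CP (LocP (S := S) P) →
        AlgSt.RepByAlgSpWith (AlgSp.LocP P) x → P b.left) ∧
      (AlgSt.RepByAlgSpWith AlgSp.IsSurjectiveMor x → Function.Surjective b.left) ∧
      (∀ w : ↥W.left, AlgSt.Points.ofChart x (a.left w) = AlgSt.Points.ofChart x₀ (b.left w)) ∧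
      (∀ (u : ↥U.left) (u₀ : ↥U₀.left), AlgSt.Points.ofChart x u = AlgSt.Points.ofChart x₀ u₀ →
        ∃ w : ↥W.left, a.left w = u ∧ b.left w = u₀) := by
  obtain ⟨W, a, b, R, e, c, he, hce, hcs, ha, hb, ⟨ia⟩, ⟨ib⟩⟩ := exists_bridge_q hX hΔ x x₀
  have hcet := ACov.isEtaleMor_of_repWith c hce
  have hcsurj : IsSurjectiveMor c := ACov.points_map_surjective c hcs
  have hWsp : IsAlgSpace ((yon S).obj W) := IsAlgSpace.yon_obj W
  have e' : BasedFunctor.comp (BasedFunctor.comp e (SW.swap x x₀)) (FibCat.fpFst x₀ x) =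
      BasedFunctor.comp e (FibCat.fpSnd x x₀) := DR.basedFunctor_ext rfl
  have he' : FibCat.IsEquivOver (BasedFunctor.comp e (SW.swap x x₀)) :=
    isEquivOver_comp _ _ he (SW.swap_isEquivOver x x₀)
  have hU : FibCat.IsFibGrpd (FibCat.overCat U).p := FG.isFibGrpd_overForget U
  have hU₀ : FibCat.IsFibGrpd (FibCat.overCat U₀).p := FG.isFibGrpd_overForget U₀
  have hfp : FibCat.IsFibGrpd (FibCat.fp x x₀).p := SP.isFibGrpd_fp _ _ hU hU₀ hX
  let q : FibCat.overCat W ⥤ᵇ FibCat.fp x x₀ :=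
    BasedFunctor.comp (BasedFunctor.comp (ofOverCat W) (ofSpMap c)) e
  -- the 2-isomorphism
  have hiso : BasedFunctor.comp (AlgSt.overMap a) x ≅ BasedFunctor.comp (AlgSt.overMap b) x₀ := by
    let Q : (FibCat.overCat W : AlgSt.Cat S) ⟶ FibCat.fp x x₀ := q
    let X' : (FibCat.overCat U : AlgSt.Cat S) ⟶ 𝒳 := x
    let X₀' : (FibCat.overCat U₀ : AlgSt.Cat S) ⟶ 𝒳 := x₀
    have i1 : BasedFunctor.comp (FibCat.fpFst x x₀) x ≅ BasedFunctor.comp (FibCat.fpSnd x x₀) x₀ :=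
      FibCat.fpIso x x₀
    have i2 := Bicategory.whiskerLeftIso Q i1
    have i5 := Bicategory.whiskerRightIso
      (f := (BasedFunctor.comp q (FibCat.fpFst x x₀) :
        (FibCat.overCat W : AlgSt.Cat S) ⟶ FibCat.overCat U)) ia X'
    have i6 := Bicategory.whiskerRightIso
      (f := (BasedFunctor.comp q (FibCat.fpSnd x x₀) :
        (FibCat.overCat W : AlgSt.Cat S) ⟶ FibCat.overCat U₀)) ib X₀'
    exact i5.symm ≪≫ i2 ≪≫ i6
  -- `q` is surjective on points
  have hq : AlgSt.IsSurjective q := by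
    have h1 : AlgSt.RepByAlgSpWith IsSurjectiveMor (BasedFunctor.comp (ofOverCat W) (ofSpMap c)) :=
      FD.repWith_precomp_equiv _ (ofOverCat W) (AD.ofOverCat_isEquivOver W) _
        (DCV.repWith_ofSpMap _ DL.surj_bc ⟨(yon S).obj W, IsAlgSpace.yon_obj W⟩ R c hcsurj)
    exact isSurjective_comp _ e (isSurjective_of_repWith (Stk.isFibGrpd_ofPsh _) _ h1)
      (isSurjective_of_isEquivOver e he)
  refine ⟨W, a, b, ?_, ?_, ?_, ?_, ?_, ?_⟩
  · intro P hP hbc hcp h
    have hcP : LocP P c := ACov.locP_of_isEtaleMor hP c hcet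
    have h1 := DL2.transport _ hbc x₀ h U x R e he
    have h2 := hcp hWsp R.property (IsAlgSpace.yon_obj U) c _ hcP h1
    rw [← ha] at h2
    exact AlgSp.locP_yon_map h2
  · intro h
    have h1 := DL2.transport _ DL.surj_bc x₀ h U x R e he
    have h2 := DL.surj_cp hWsp R.property (IsAlgSpace.yon_obj U) c _ hcsurj h1
    rw [← ha] at h2
    exact BRG.surjective_of_isSurjectiveMor a h2
  · intro P hP hbc hcp h
    have hcP : LocP P c := ACov.locP_of_isEtaleMor hP c hcet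
    have h1 := DL2.transport _ hbc x h U₀ x₀ R _ he'
    rw [e'] at h1
    have h2 := hcp hWsp R.property (IsAlgSpace.yon_obj U₀) c _ hcP h1
    rw [← hb] at h2
    exact AlgSp.locP_yon_map h2
  · intro h
    have h1 := DL2.transport _ DL.surj_bc x h U₀ x₀ R _ he'
    rw [e'] at h1
    have h2 := DL.surj_cp hWsp R.property (IsAlgSpace.yon_obj U₀) c _ hcsurj h1
    rw [← hb] at h2
    exact BRG.surjective_of_isSurjectiveMor b h2
  · intro w
    rw [← ofChart_overMap a x w, ← ofChart_overMap b x₀ w]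
    exact ofChart_congr hiso w
  · intro u u₀ h
    obtain ⟨ω, hω1, hω2⟩ := exists_point_fp hU₀ hX hU x₀ x
      (AlgSt.Points.ofChart (BasedFunctor.id _) u) (AlgSt.Points.ofChart (BasedFunctor.id _) u₀) h
    obtain ⟨ζ, rfl⟩ := hq ω
    obtain ⟨w, rfl⟩ := exists_ofChart_id W ζ
    refine ⟨w, ?_, ?_⟩
    · apply ofChart_id_injective U
      rw [← hω1, ← ofChart_overMap_id, ← map_comp]
      exact (ofChart_congr ia w).symm
    · apply ofChart_id_injective U₀
      rw [← hω2, ← ofChart_overMap_id, ← map_comp]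
      exact (ofChart_congr ib w).symm

end Groth.Agent.Lib.Helper17.PTS
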