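import Groth.Agent.Lib.Helper17.AlgStFp
import Groth.Agent.Lib.Helper17.DiagCancel

/-!
# The diagonal of a product of functors (helper17)

For `f : 𝒳 ⟶ 𝒳'`, `g : 𝒴 ⟶ 𝒴'` over `𝒵`, the diagonal of `f ×_𝒵 g` is the product over `𝒵` of the
diagonals of `f` and `g`, up to the equivalence
`(𝒳 ×_𝒵 𝒴) ×_{𝒳' ×_𝒵 𝒴'} (𝒳 ×_𝒵 𝒴) ≃ (𝒳 ×_{𝒳'} 𝒳) ×_𝒵 (𝒴 ×_{𝒴'} 𝒴)`.
-/

set_option autoImplicit false
set_option backward.isDefEq.respectTransparency false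
set_option backward.isDefEq.respectTransparency.types false
universe v u

namespace Groth.Agent.Lib.Helper17.PDg

open CategoryTheory CategoryTheory.Functor FibCat
open Groth.Agent.Lib.Helper17 Groth.Agent.Lib.Helper17.FP Groth.Agent.Lib.Helper17.EO

variable {C : Type u} [Category.{v} C] {𝒳 𝒳' 𝒴 𝒴' 𝒵 : BasedCategory.{v, max u v} C}
  (p' : 𝒳' ⥤ᵇ 𝒵) (q' : 𝒴' ⥤ᵇ 𝒵) (f : 𝒳 ⥤ᵇ 𝒳') (g : 𝒴 ⥤ᵇ 𝒴')

/-- the product functor `f ×_𝒵 g` -/
def F₀ : fp (BasedFunctor.comp f p') (BasedFunctor.comp g q') ⥤ᵇ fp p' q' :=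
  fpLift (BasedFunctor.comp (fpFst (BasedFunctor.comp f p') (BasedFunctor.comp g q')) f)
    (BasedFunctor.comp (fpSnd (BasedFunctor.comp f p') (BasedFunctor.comp g q')) g)
    (fpIso (BasedFunctor.comp f p') (BasedFunctor.comp g q'))

/-- `𝒳 ×_{𝒳'} 𝒳 ⟶ 𝒵` -/
abbrev rho : fp f f ⥤ᵇ 𝒵 := BasedFunctor.comp (fpFst f f) (BasedFunctor.comp f p')

/-- `𝒴 ×_{𝒴'} 𝒴 ⟶ 𝒵` -/
abbrev sig : fp g g ⥤ᵇ 𝒵 := BasedFunctor.comp (fpFst g g) (BasedFunctor.comp g q')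

variable {p' q' f g}

theorem lift1 (w : (fp (F₀ p' q' f g) (F₀ p' q' f g)).obj) :
    𝒳'.p.IsHomLift (𝟙 (𝒳.p.obj w.obj.fst.obj.fst)) ((fpFst p' q').map w.obj.iso.hom) :=
  map_lift'' (fpFst p' q') (iso_isHomLift w)

theorem lift2 (w : (fp (F₀ p' q' f g) (F₀ p' q' f g)).obj) :
    𝒴'.p.IsHomLift (𝟙 (𝒴.p.obj w.obj.fst.obj.snd)) ((fpSnd p' q').map w.obj.iso.hom) := by
  rw [snd_obj w.obj.fst]
  exact map_lift'' (fpSnd p' q') (iso_isHomLift w)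

def X2 (w : (fp (F₀ p' q' f g) (F₀ p' q' f g)).obj) : (fp f f).obj :=
  mkObj (F := f) (G := f) w.obj.fst.obj.fst w.obj.snd.obj.fst
    ((fpFst p' q').toFunctor.mapIso w.obj.iso) (lift1 w)

def Y2 (w : (fp (F₀ p' q' f g) (F₀ p' q' f g)).obj) : (fp g g).obj :=
  mkObj (F := g) (G := g) w.obj.fst.obj.snd w.obj.snd.obj.snd
    ((fpSnd p' q').toFunctor.mapIso w.obj.iso) (lift2 w)

def thObj (w : (fp (F₀ p' q' f g) (F₀ p' q' f g)).obj) : (fp (rho p' f) (sig q' g)).obj :=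
  mkObj (F := rho p' f) (G := sig q' g) (X2 w) (Y2 w) w.obj.fst.obj.iso (iso_isHomLift w.obj.fst)

def X2Map {w w' : (fp (F₀ p' q' f g) (F₀ p' q' f g)).obj} (k : w ⟶ w') : X2 w ⟶ X2 w' :=
  mkHom (z := X2 w) (z' := X2 w') k.hom.fst.hom.fst k.hom.snd.hom.fst
    (congrArg (fun m => m.hom.fst) k.hom.w)

def Y2Map {w w' : (fp (F₀ p' q' f g) (F₀ p' q' f g)).obj} (k : w ⟶ w') : Y2 w ⟶ Y2 w' :=
  mkHom (z := Y2 w) (z' := Y2 w') k.hom.fst.hom.snd k.hom.snd.hom.snd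
    (congrArg (fun m => m.hom.snd) k.hom.w)

def thMap {w w' : (fp (F₀ p' q' f g) (F₀ p' q' f g)).obj} (k : w ⟶ w') : thObj w ⟶ thObj w' :=
  mkHom (z := thObj w) (z' := thObj w') (X2Map k) (Y2Map k) k.hom.fst.hom.w

variable (p' q' f g)

/-- the comparison functor -/
def Th : fp (F₀ p' q' f g) (F₀ p' q' f g) ⥤ᵇ fp (rho p' f) (sig q' g) where
  toFunctor :=
    { obj := thObj
      map := thMap
      map_id := fun w => by
        apply hom_ext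
        · apply hom_ext
          · rfl
          · rfl
        · apply hom_ext
          · rfl
          · rfl
      map_comp := fun k k' => by
        apply hom_ext
        · apply hom_ext
          · rfl
          · rfl
        · apply hom_ext
          · rfl
          · rfl }
  w := rfl

end Groth.Agent.Lib.Helper17.PDg
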