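import Groth.Agent.Lib.Helper17.ProdDiag

set_option autoImplicit false
set_option backward.isDefEq.respectTransparency false
set_option backward.isDefEq.respectTransparency.types false
universe v u

namespace Groth.Agent.Lib.Helper17.PDg

open CategoryTheory CategoryTheory.Functor FibCat
open Groth.Agent.Lib.Helper17 Groth.Agent.Lib.Helper17.FP Groth.Agent.Lib.Helper17.EO

variable {C : Type u} [Category.{v} C] {𝒳 𝒳' 𝒴 𝒴' 𝒵 : BasedCategory.{v, max u v} C}
  (p' : 𝒳' ⥤ᵇ 𝒵) (q' : 𝒴' ⥤ᵇ 𝒵) (f : 𝒳 ⥤ᵇ 𝒳') (g : 𝒴 ⥤ᵇ 𝒴')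

theorem Th_faithful : (Th p' q' f g).toFunctor.Faithful := by
  constructor
  intro w w' k k' h
  apply hom_ext
  · apply hom_ext
    · exact congrArg (fun m => m.hom.fst.hom.fst) h
    · exact congrArg (fun m => m.hom.snd.hom.fst) h
  · apply hom_ext
    · exact congrArg (fun m => m.hom.fst.hom.snd) h
    · exact congrArg (fun m => m.hom.snd.hom.snd) h

/-- the compatibility of the isomorphism of an object of the double fibre product -/
theorem iso_w (w : (fp (F₀ p' q' f g) (F₀ p' q' f g)).obj) :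
    p'.map ((fpFst p' q').map w.obj.iso.hom) ≫ w.obj.snd.obj.iso.hom =
      w.obj.fst.obj.iso.hom ≫ q'.map ((fpSnd p' q').map w.obj.iso.hom) :=
  w.obj.iso.hom.hom.w

theorem Th_full : (Th p' q' f g).toFunctor.Full := by
  constructor
  intro w w' m
  have c1 := m.hom.fst.hom.w
  have c2 := m.hom.snd.hom.w
  have c3 := m.hom.w
  change f.map m.hom.fst.hom.fst ≫ (fpFst p' q').map w'.obj.iso.hom =
    (fpFst p' q').map w.obj.iso.hom ≫ f.map m.hom.fst.hom.snd at c1
  change g.map m.hom.snd.hom.fst ≫ (fpSnd p' q').map w'.obj.iso.hom =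
    (fpSnd p' q').map w.obj.iso.hom ≫ g.map m.hom.snd.hom.snd at c2
  change p'.map (f.map m.hom.fst.hom.fst) ≫ w'.obj.fst.obj.iso.hom =
    w.obj.fst.obj.iso.hom ≫ q'.map (g.map m.hom.snd.hom.fst) at c3
  have hw := iso_w p' q' f g w
  have hw' := iso_w p' q' f g w'
  let k₁ : w.obj.fst ⟶ w'.obj.fst :=
    mkHom (z := w.obj.fst) (z' := w'.obj.fst) m.hom.fst.hom.fst m.hom.snd.hom.fst c3
  have c4 : p'.map (f.map m.hom.fst.hom.snd) ≫ w'.obj.snd.obj.iso.hom =
      w.obj.snd.obj.iso.hom ≫ q'.map (g.map m.hom.snd.hom.snd) := by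
    have hepi : Epi (p'.map ((fpFst p' q').map w.obj.iso.hom)) := inferInstance
    rw [← cancel_epi (p'.map ((fpFst p' q').map w.obj.iso.hom))]
    rw [← Category.assoc, ← p'.toFunctor.map_comp, ← c1, p'.toFunctor.map_comp, Category.assoc,
      hw', ← Category.assoc, c3, Category.assoc, ← q'.toFunctor.map_comp, c2,
      q'.toFunctor.map_comp, ← Category.assoc, ← hw, Category.assoc]
  let k₂ : w.obj.snd ⟶ w'.obj.snd :=
    mkHom (z := w.obj.snd) (z' := w'.obj.snd) m.hom.fst.hom.snd m.hom.snd.hom.snd c4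
  refine ⟨mkHom (z := w) (z' := w') k₁ k₂ ?_, ?_⟩
  · apply hom_ext
    · exact c1
    · exact c2
  · apply hom_ext
    · apply hom_ext
      · rfl
      · rfl
    · apply hom_ext
      · rfl
      · rfl

end Groth.Agent.Lib.Helper17.PDg
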