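import Groth.Agent.Lib.Helper17.ProdDiag2

set_option autoImplicit false
set_option backward.isDefEq.respectTransparency false
set_option backward.isDefEq.respectTransparency.types false
universe v u

namespace Groth.Agent.Lib.Helper17.PDg

open CategoryTheory CategoryTheory.Functor FibCat
open Groth.Agent.Lib.Helper17 Groth.Agent.Lib.Helper17.FP Groth.Agent.Lib.Helper17.EO

variable {C : Type u} [Category.{v} C] {𝒳 𝒳' 𝒴 𝒴' 𝒵 : BasedCategory.{v, max u v} C}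
  (p' : 𝒳' ⥤ᵇ 𝒵) (q' : 𝒴' ⥤ᵇ 𝒵) (f : 𝒳 ⥤ᵇ 𝒳') (g : 𝒴 ⥤ᵇ 𝒴')

theorem Th_essSurj (η : (fp (rho p' f) (sig q' g)).obj) :
    ∃ (ξ : (fp (F₀ p' q' f g) (F₀ p' q' f g)).obj) (e : (Th p' q' f g).toFunctor.obj ξ ≅ η),
      (fp (rho p' f) (sig q' g)).p.IsHomLift (𝟙 ((fp (rho p' f) (sig q' g)).p.obj η)) e.hom := by
  let x₁ : 𝒳.obj := η.obj.fst.obj.fst
  let x₂ : 𝒳.obj := η.obj.fst.obj.snd
  let φ : f.obj x₁ ≅ f.obj x₂ := η.obj.fst.obj.iso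
  let y₁ : 𝒴.obj := η.obj.snd.obj.fst
  let y₂ : 𝒴.obj := η.obj.snd.obj.snd
  let ψ : g.obj y₁ ≅ g.obj y₂ := η.obj.snd.obj.iso
  let α₁ : p'.obj (f.obj x₁) ≅ q'.obj (g.obj y₁) := η.obj.iso
  have hα₁ : 𝒵.p.IsHomLift (𝟙 (𝒳.p.obj x₁)) α₁.hom := iso_isHomLift η
  have hφ : 𝒳'.p.IsHomLift (𝟙 (𝒳.p.obj x₁)) φ.hom := iso_isHomLift η.obj.fst
  have hψ : 𝒴'.p.IsHomLift (𝟙 (𝒴.p.obj y₁)) ψ.hom := iso_isHomLift η.obj.snd
  have hy₁ : 𝒴.p.obj y₁ = 𝒳.p.obj x₁ := snd_obj η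
  have hx₂ : 𝒳.p.obj x₂ = 𝒳.p.obj x₁ := snd_obj η.obj.fst
  rw [hy₁] at hψ
  let z₁ : (fp (BasedFunctor.comp f p') (BasedFunctor.comp g q')).obj :=
    mkObj (F := BasedFunctor.comp f p') (G := BasedFunctor.comp g q') x₁ y₁ α₁ hα₁
  let α₂ : p'.obj (f.obj x₂) ≅ q'.obj (g.obj y₂) :=
    (p'.toFunctor.mapIso φ).symm ≪≫ α₁ ≪≫ q'.toFunctor.mapIso ψ
  have hα₂ : 𝒵.p.IsHomLift (𝟙 (𝒳.p.obj x₂)) α₂.hom := by
    rw [hx₂]
    have h1 : 𝒵.p.IsHomLift (𝟙 (𝒳.p.obj x₁)) (p'.toFunctor.mapIso φ).hom := map_lift'' p' hφ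
    have h1' : 𝒵.p.IsHomLift (𝟙 (𝒳.p.obj x₁)) (p'.toFunctor.mapIso φ).symm.hom :=
      IsHomLift.lift_id_inv 𝒵.p (𝒳.p.obj x₁) (p'.toFunctor.mapIso φ)
    have h3 : 𝒵.p.IsHomLift (𝟙 (𝒳.p.obj x₁)) (q'.toFunctor.mapIso ψ).hom := map_lift'' q' hψ
    change 𝒵.p.IsHomLift (𝟙 (𝒳.p.obj x₁))
      ((p'.toFunctor.mapIso φ).symm.hom ≫ α₁.hom ≫ (q'.toFunctor.mapIso ψ).hom)
    infer_instance
  let z₂ : (fp (BasedFunctor.comp f p') (BasedFunctor.comp g q')).obj :=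
    mkObj (F := BasedFunctor.comp f p') (G := BasedFunctor.comp g q') x₂ y₂ α₂ hα₂
  let ι : (F₀ p' q' f g).obj z₁ ≅ (F₀ p' q' f g).obj z₂ :=
    mkIso (z := (F₀ p' q' f g).obj z₁) (z' := (F₀ p' q' f g).obj z₂) φ ψ (by
      change p'.map φ.hom ≫ (p'.map φ.inv ≫ α₁.hom ≫ q'.map ψ.hom) = α₁.hom ≫ q'.map ψ.hom
      rw [← Category.assoc, ← p'.toFunctor.map_comp, Iso.hom_inv_id, p'.toFunctor.map_id,
        Category.id_comp])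
  have hι : (fp p' q').p.IsHomLift (𝟙 (𝒳.p.obj x₁)) ι.hom := by
    rw [isHomLift_iff_fst]
    exact hφ
  let w : (fp (F₀ p' q' f g) (F₀ p' q' f g)).obj :=
    mkObj (F := F₀ p' q' f g) (G := F₀ p' q' f g) z₁ z₂ ι hι
  refine ⟨w, mkIso (z := (Th p' q' f g).obj w) (z' := η)
    (mkIso (z := X2 w) (z' := η.obj.fst) (Iso.refl _) (Iso.refl _) ?_)
    (mkIso (z := Y2 w) (z' := η.obj.snd) (Iso.refl _) (Iso.refl _) ?_) ?_, ?_⟩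
  · change f.map (𝟙 _) ≫ φ.hom = φ.hom ≫ f.map (𝟙 _)
    rw [f.toFunctor.map_id, f.toFunctor.map_id, Category.id_comp, Category.comp_id]
  · change g.map (𝟙 _) ≫ ψ.hom = ψ.hom ≫ g.map (𝟙 _)
    rw [g.toFunctor.map_id, g.toFunctor.map_id, Category.id_comp, Category.comp_id]
  · change p'.map (f.map (𝟙 _)) ≫ α₁.hom = α₁.hom ≫ q'.map (g.map (𝟙 _))
    rw [f.toFunctor.map_id, g.toFunctor.map_id, p'.toFunctor.map_id, q'.toFunctor.map_id,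
      Category.id_comp, Category.comp_id]
  · rw [isHomLift_iff_fst, isHomLift_iff_fst]
    exact IsHomLift.id rfl

theorem Th_isEquivOver : FibCat.IsEquivOver (Th p' q' f g) := by
  rw [Groth.Agent.S5139.result]
  exact ⟨⟨Th_full p' q' f g, Th_faithful p' q' f g⟩, Th_essSurj p' q' f g⟩

end Groth.Agent.Lib.Helper17.PDg
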