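import Groth.Agent.Lib.Helper17.ProdDiag3

set_option autoImplicit false
set_option backward.isDefEq.respectTransparency false
set_option backward.isDefEq.respectTransparency.types false
universe u

namespace Groth.Agent.Lib.Helper17.PDg

open CategoryTheory CategoryTheory.Limits AlgebraicGeometry Opposite AlgSp FibCat Stk AlgSt
open Groth.Agent.Lib.Helper17 Groth.Agent.Lib.Helper17.FP Groth.Agent.Lib.Helper17.EO
  Groth.Agent.Lib.Helper17.ACP Groth.Agent.Lib.Helper17.AB Groth.Agent.Lib.Helper17.AOS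

variable {S : Scheme.{u}}

theorem repWith_diag_F₀ {𝒳 𝒳' 𝒴 𝒴' 𝒵 : AlgSt.Cat S}
    (h𝒳 : FibCat.IsFibGrpd 𝒳.p) (h𝒳' : FibCat.IsFibGrpd 𝒳'.p) (h𝒴 : FibCat.IsFibGrpd 𝒴.p)
    (h𝒴' : FibCat.IsFibGrpd 𝒴'.p) (h𝒵 : FibCat.IsFibGrpd 𝒵.p)
    (P : MorphismProperty (AlgSp.Sp S)) (hPb : ACP.BC P) (hPc : ACP.CP P) (hP : ACov.SchLocal P)
    (p' : 𝒳' ⥤ᵇ 𝒵) (q' : 𝒴' ⥤ᵇ 𝒵) (f : 𝒳 ⥤ᵇ 𝒳') (g : 𝒴 ⥤ᵇ 𝒴')
    (hf : AlgSt.RepByAlgSpWith P (FibCat.diag f)) (hg : AlgSt.RepByAlgSpWith P (FibCat.diag g)) :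
    AlgSt.RepByAlgSpWith P (FibCat.diag (F₀ p' q' f g)) := by
  have hff : FibCat.IsFibGrpd (FibCat.fp f f).p := SP.isFibGrpd_fp f f h𝒳 h𝒳 h𝒳'
  have hgg : FibCat.IsFibGrpd (FibCat.fp g g).p := SP.isFibGrpd_fp g g h𝒴 h𝒴 h𝒴'
  have h1 := AFP.repWith_prod P hPb hPc hP h𝒳 h𝒴 hff hgg h𝒵 (rho p' f) (sig q' g)
    (FibCat.diag f) (FibCat.diag g) hf hg
  refine DCN.repWith_of_comp_equiv P (FibCat.diag (F₀ p' q' f g)) (Th p' q' f g)
    (Th_isEquivOver p' q' f g) ?_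
  refine repWith_of_square_fwd P _ (BasedFunctor.comp (FibCat.diag (F₀ p' q' f g)) (Th p' q' f g))
    (BasedFunctor.id _) (BasedFunctor.id _) (isEquivOver_id _) (isEquivOver_id _)
    (fun x' => Iso.refl _) ?_ ?_ h1
  · intro x x₁ β
    refine (Category.comp_id _).trans (Eq.trans ?_ (Category.id_comp _).symm)
    apply hom_ext
    · apply hom_ext
      · rfl
      · rfl
    · apply hom_ext
      · rfl
      · rfl
  · intro x'
    exact IsHomLift.id rfl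

end Groth.Agent.Lib.Helper17.PDg
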