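import Groth.Agent.Lib.Helper17.AlgStFp
import Groth.Agent.Lib.Helper17.SelfStack
import Groth.Agent.Lib.Helper17.SelfProd
import Groth.Agent.Lib.Helper17.AtlasCover
import Groth.Agent.Lib.Helper17.AlgStOverSpace

set_option autoImplicit false
set_option backward.isDefEq.respectTransparency false
set_option backward.isDefEq.respectTransparency.types false
universe u

namespace Groth.Agent.Lib.Helper17.PRD

open CategoryTheory CategoryTheory.Limits AlgebraicGeometry Opposite AlgSp FibCat Stk AlgSt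
open Groth.Agent.Lib.Helper17 Groth.Agent.Lib.Helper17.FP Groth.Agent.Lib.Helper17.EO
  Groth.Agent.Lib.Helper17.AB Groth.Agent.Lib.Helper17.AOS

variable {S : Scheme.{u}}

theorem repWith_prodLift (P : MorphismProperty (AlgSp.Sp S)) (hPb : ACP.BC P) (hPc : ACP.CP P)
    (hP : ACov.SchLocal P) {𝒰 𝒱 𝒳 𝒴 : AlgSt.Cat S}
    (h𝒰 : FibCat.IsFibGrpd 𝒰.p) (h𝒱 : FibCat.IsFibGrpd 𝒱.p) (h𝒳 : FibCat.IsFibGrpd 𝒳.p)
    (h𝒴 : FibCat.IsFibGrpd 𝒴.p)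
    (f : 𝒳 ⥤ᵇ FibCat.selfOver (Over S)) (g : 𝒴 ⥤ᵇ FibCat.selfOver (Over S))
    (x : 𝒰 ⥤ᵇ 𝒳) (y : 𝒱 ⥤ᵇ 𝒴)
    (hx : AlgSt.RepByAlgSpWith P x) (hy : AlgSt.RepByAlgSpWith P y)
    (t₁ : 𝒰 ⥤ᵇ FibCat.selfOver (Over S)) (t₂ : 𝒱 ⥤ᵇ FibCat.selfOver (Over S))
    (e : BasedFunctor.comp (BasedFunctor.comp (FibCat.fpFst t₁ t₂) x) f ≅
      BasedFunctor.comp (BasedFunctor.comp (FibCat.fpSnd t₁ t₂) y) g) :
    AlgSt.RepByAlgSpWith P (FibCat.fpLift (BasedFunctor.comp (FibCat.fpFst t₁ t₂) x)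
      (BasedFunctor.comp (FibCat.fpSnd t₁ t₂) y) e) := by
  obtain rfl := SST.toSelfOver_eq t₁ (BasedFunctor.comp x f)
  obtain rfl := SST.toSelfOver_eq t₂ (BasedFunctor.comp y g)
  obtain rfl := SST.toSelfOver_eq f (FibCat.toSelf 𝒳)
  obtain rfl := SST.toSelfOver_eq g (FibCat.toSelf 𝒴)
  have hK := AFP.repWith_prod P hPb hPc hP h𝒰 h𝒱 h𝒳 h𝒴 SP.isFibGrpd_selfOver
    (FibCat.toSelf 𝒳) (FibCat.toSelf 𝒴) x y hx hy
  refine repWith_of_square_fwd P _ _ (BasedFunctor.id _) (BasedFunctor.id _)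
    (isEquivOver_id _) (isEquivOver_id _) (fun q => ?_) ?_ ?_ hK
  · -- the pointwise iso
    refine SP.mkIsoSq (Iso.refl _) (Iso.refl _) ?_
    change 𝒴.p.IsHomLift (𝒳.p.map (𝟙 (x.obj q.obj.fst))) (𝟙 (y.obj q.obj.snd))
    rw [𝒳.p.map_id]
    refine IsHomLift.id ?_
    rw [y.w_obj, x.w_obj]
    have h1 := FP.snd_obj q
    have h2 : 𝒳.p.obj (x.obj q.obj.fst) = 𝒰.p.obj q.obj.fst := x.w_obj _
    have h3 : 𝒴.p.obj (y.obj q.obj.snd) = 𝒱.p.obj q.obj.snd := y.w_obj _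
    exact h1
  · intro q q₁ β
    apply FP.hom_ext
    · change (x.map β.hom.fst) ≫ 𝟙 _ = 𝟙 _ ≫ x.map β.hom.fst
      rw [Category.comp_id, Category.id_comp]
    · change (y.map β.hom.snd) ≫ 𝟙 _ = 𝟙 _ ≫ y.map β.hom.snd
      rw [Category.comp_id, Category.id_comp]
  · intro q
    rw [FP.isHomLift_iff_fst]
    change 𝒳.p.IsHomLift _ (𝟙 (x.obj q.obj.fst))
    exact IsHomLift.id (x.w_obj q.obj.fst)

end Groth.Agent.Lib.Helper17.PRD
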