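import Groth.Agent.Lib.Helper17.PastingU
import Groth.Agent.Lib.Helper17.PastingRU
import Groth.Agent.Lib.Helper17.SelfStack
import Groth.Agent.Lib.Helper17.SelfProd
import Groth.Agent.Lib.Helper17.Swap
import Groth.Agent.Lib.Helper17.FpInvariance
import Groth.Agent.Lib.Helper17.EquivOver
import Groth.Agent.S12784
import Groth.Agent.S12785
import Groth.Agent.S12786

set_option autoImplicit false
universe v u

namespace Groth.Agent.Lib.Helper17.PRD1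

open CategoryTheory CategoryTheory.Functor FibCat
open Groth.Agent.Lib.Helper17 Groth.Agent.Lib.Helper17.FP Groth.Agent.Lib.Helper17.EO
  Groth.Agent.Lib.Helper17.FI

variable {C : Type u} [Category.{v} C]

theorem isEquivOver_id' (𝒜 : BasedCategory.{v, max u v} C) :
    FibCat.IsEquivOver (BasedFunctor.id 𝒜) :=
  ⟨BasedFunctor.id 𝒜, ⟨Iso.refl _⟩, ⟨Iso.refl _⟩⟩

theorem rep1_precomp_equiv {𝒜 𝒳 𝒴 : BasedCategory.{v, max u v} C} (E : 𝒜 ⥤ᵇ 𝒳)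
    (hE : FibCat.IsEquivOver E) (f : 𝒳 ⥤ᵇ 𝒴) (hf : FibCat.IsRepresentable1 f) :
    FibCat.IsRepresentable1 (BasedFunctor.comp E f) :=
  Groth.Agent.S12784.fwd f (BasedFunctor.comp E f) E (BasedFunctor.id 𝒴) hE (isEquivOver_id' 𝒴)
    (Iso.refl _) hf

theorem rep1_fpSnd {𝒰 𝒳 𝒲 : BasedCategory.{v, max u v} C} (x : 𝒰 ⥤ᵇ 𝒳) (h : 𝒲 ⥤ᵇ 𝒳)
    (hx : FibCat.IsRepresentable1 x) : FibCat.IsRepresentable1 (FibCat.fpSnd x h) :=
  Groth.Agent.S12784.fwd (FibCat.fpFst h x) (FibCat.fpSnd x h) (SW.swap x h) (BasedFunctor.id 𝒲)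
    (SW.swap_isEquivOver x h) (isEquivOver_id' 𝒲)
    (eqToIso (by rw [SW.swap_fst]; rfl)) (Groth.Agent.S12786.result x h hx)

theorem rep1_of_pointwise {𝒳 𝒴 : BasedCategory.{v, max u v} C} (f f' : 𝒳 ⥤ᵇ 𝒴)
    (ε : ∀ x : 𝒳.obj, f'.obj x ≅ f.obj x)
    (hnat : ∀ {x x₁ : 𝒳.obj} (β : x ⟶ x₁), f'.map β ≫ (ε x₁).hom = (ε x).hom ≫ f.map β)
    (hlift : ∀ x : 𝒳.obj, 𝒴.p.IsHomLift (𝟙 (𝒳.p.obj x)) (ε x).hom)
    (hf : FibCat.IsRepresentable1 f) : FibCat.IsRepresentable1 f' := by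
  intro U y'
  exact rep_of_equiv' (sq (BasedFunctor.id 𝒳) (BasedFunctor.id 𝒴) f f' y' ε hnat hlift)
    (sq_isEquivOver (BasedFunctor.id 𝒳) (BasedFunctor.id 𝒴) f f' y' ε hnat hlift
      (isEquivOver_id' 𝒳) (isEquivOver_id' 𝒴))
    (hf U (BasedFunctor.comp y' (BasedFunctor.id 𝒴)))


theorem rep1_prodLift {𝒰 𝒱 𝒳 𝒴 : BasedCategory.{v, max u v} C}
    (f : 𝒳 ⥤ᵇ FibCat.selfOver C) (g : 𝒴 ⥤ᵇ FibCat.selfOver C)
    (x : 𝒰 ⥤ᵇ 𝒳) (y : 𝒱 ⥤ᵇ 𝒴)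
    (hx : FibCat.IsRepresentable1 x) (hy : FibCat.IsRepresentable1 y)
    (t₁ : 𝒰 ⥤ᵇ FibCat.selfOver C) (t₂ : 𝒱 ⥤ᵇ FibCat.selfOver C)
    (e : BasedFunctor.comp (BasedFunctor.comp (FibCat.fpFst t₁ t₂) x) f ≅
      BasedFunctor.comp (BasedFunctor.comp (FibCat.fpSnd t₁ t₂) y) g) :
    FibCat.IsRepresentable1 (FibCat.fpLift (BasedFunctor.comp (FibCat.fpFst t₁ t₂) x)
      (BasedFunctor.comp (FibCat.fpSnd t₁ t₂) y) e) := by
  obtain rfl := SST.toSelfOver_eq t₁ (BasedFunctor.comp x f)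
  obtain rfl := SST.toSelfOver_eq t₂ (BasedFunctor.comp y g)
  obtain rfl := SST.toSelfOver_eq f (FibCat.toSelf 𝒳)
  obtain rfl := SST.toSelfOver_eq g (FibCat.toSelf 𝒴)
  have h1 : FibCat.IsRepresentable1
      (BasedFunctor.comp (PSU.paste x (FibCat.toSelf 𝒳) (BasedFunctor.comp y (FibCat.toSelf 𝒴)))
        (FibCat.fpSnd x (FibCat.fpFst (FibCat.toSelf 𝒳) (BasedFunctor.comp y (FibCat.toSelf 𝒴))))) :=
    rep1_precomp_equiv _ (PSU.paste_isEquivOver x _ _) _ (rep1_fpSnd x _ hx)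
  have h2 : FibCat.IsRepresentable1
      (BasedFunctor.comp (PSRU.paste (FibCat.toSelf 𝒳) y (FibCat.toSelf 𝒴))
        (FibCat.fpFst (FibCat.fpSnd (FibCat.toSelf 𝒳) (FibCat.toSelf 𝒴)) y)) :=
    rep1_precomp_equiv _ (PSRU.paste_isEquivOver _ y _) _
      (Groth.Agent.S12786.result y (FibCat.fpSnd (FibCat.toSelf 𝒳) (FibCat.toSelf 𝒴)) hy)
  have hK := Groth.Agent.S12785.result _ _ h1 h2
  refine rep1_of_pointwise _ _ (fun q => ?_) ?_ ?_ hK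
  · refine SP.mkIsoSq (Iso.refl _) (Iso.refl _) ?_
    change 𝒴.p.IsHomLift (𝒳.p.map (𝟙 (x.obj q.obj.fst))) (𝟙 (y.obj q.obj.snd))
    rw [𝒳.p.map_id]
    refine IsHomLift.id ?_
    rw [y.w_obj, x.w_obj]
    exact FP.snd_obj q
  · intro q q₁ β
    apply FP.hom_ext
    · change (x.map β.hom.fst) ≫ 𝟙 _ = 𝟙 _ ≫ x.map β.hom.fst
      rw [Category.comp_id, Category.id_comp]
    · change (y.map β.hom.snd) ≫ 𝟙 _ = 𝟙 _ ≫ y.map β.hom.snd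
      rw [Category.comp_id, Category.id_comp]
  · intro q
    rw [FP.isHomLift_iff_fst]
    change 𝒳.p.IsHomLift _ (𝟙 (x.obj q.obj.fst))
    exact IsHomLift.id (x.w_obj q.obj.fst)

end Groth.Agent.Lib.Helper17.PRD1
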