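import Groth.Agent.Lib.Helper17.PshStack
import Groth.Agent.S12793
import Groth.Agent.S5139

set_option autoImplicit false
set_option backward.isDefEq.respectTransparency false
set_option backward.isDefEq.respectTransparency.types false
universe w v u v₂ u₂

namespace Groth.Agent.Lib.Helper17.PSK

open CategoryTheory Opposite Stk

variable {C : Type u} [Category.{v} C]

/-- the slice as the category of the representable presheaf -/
def toYo (U : C) : FibCat.overCat U ⥤ᵇ Stk.ofPsh (yoneda.obj U) where
  toFunctor :=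
    { obj := fun a => ⟨a.left, a.hom⟩
      map := fun φ => ⟨φ.left, Over.w φ⟩
      map_id := fun _ => EltObj.hom_ext rfl
      map_comp := fun _ _ => EltObj.hom_ext rfl }
  w := rfl

theorem toYo_isEquivOver (U : C) : FibCat.IsEquivOver (toYo U) := by
  rw [Groth.Agent.S5139.result]
  refine ⟨⟨⟨fun {a b} ψ => ?_⟩, ⟨fun {a b} φ φ' h => ?_⟩⟩, fun η => ?_⟩
  · exact ⟨Over.homMk ψ.hom ψ.map_sec, EltObj.hom_ext rfl⟩
  · apply Over.OverMorphism.ext
    exact congrArg EltObj.Hom.hom h
  · refine ⟨Over.mk η.sec, Iso.refl _, ?_⟩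
    change (ofPsh (yoneda.obj U)).p.IsHomLift (𝟙 ((ofPsh (yoneda.obj U)).p.obj η)) (𝟙 η)
    infer_instance

theorem isStack_overCat_iff (J : GrothendieckTopology C) (U : C) :
    Stk.IsStack J (FibCat.overCat U) ↔ Presieve.IsSheaf J (yoneda.obj U) := by
  rw [Groth.Agent.S12793.result J (toYo U) (toYo_isEquivOver U)]
  exact isStack_ofPsh_iff J _

end Groth.Agent.Lib.Helper17.PSK
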