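import Mathlib.LinearAlgebra.RootSystem.Defs
import Mathlib.LinearAlgebra.QuadraticForm.Basic
import Mathlib.Tactic

set_option autoImplicit false
universe u v w x

namespace Groth.Agent.Lib.Helper17

theorem quad_sub_smul {R : Type v} {N : Type x} [CommRing R] [AddCommGroup N] [Module R N]
    (Q : QuadraticMap R N R) (y v : N) (c : R) :
    Q (y - c • v) = Q y + c * c * Q v - c * QuadraticMap.polar Q y v := by
  have h1 : y - c • v = y + (-c) • v := by rw [neg_smul, sub_eq_add_neg]
  rw [h1, QuadraticMap.map_add Q, QuadraticMap.map_smul, QuadraticMap.polar_smul_right]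
  simp only [smul_eq_mul]
  ring

theorem coreflection_invariant_on_iff {ι : Type u} {R : Type v} {M : Type w} {N : Type x}
    [CommRing R] [IsDomain R] [CharZero R]
    [AddCommGroup M] [Module R M] [AddCommGroup N] [Module R N] (P : RootPairing ι R M N)
    (Q : QuadraticMap R N R) (j : ι) (D : Submodule R N) (hD : P.coroot j ∈ D) :
    (∀ y ∈ D, Q (P.coreflection j y) = Q y) ↔
      ∀ y ∈ D, QuadraticMap.polar Q y (P.coroot j) = P.root' j y * Q (P.coroot j) := by
  constructor
  · intro h
    have key : ∀ y ∈ D, P.root' j y ≠ 0 →
        QuadraticMap.polar Q y (P.coroot j) = P.root' j y * Q (P.coroot j) := by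
      intro y hy hc
      have h1 := h y hy
      rw [P.coreflection_apply, quad_sub_smul] at h1
      have h2 : P.root' j y * (P.root' j y * Q (P.coroot j) - QuadraticMap.polar Q y (P.coroot j)) = 0 := by
        linear_combination h1
      rcases mul_eq_zero.mp h2 with h3 | h3
      · exact absurd h3 hc
      · linear_combination -h3
    intro y hy
    by_cases hc : P.root' j y = 0
    · have h2 : P.root' j (y + P.coroot j) = 2 := by
        rw [map_add, hc, zero_add]; exact P.root_coroot_two j
      have h3 := key (y + P.coroot j) (D.add_mem hy hD) (by rw [h2]; exact two_ne_zero)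
      rw [h2, QuadraticMap.polar_add_left, QuadraticMap.polar_self] at h3
      rw [hc, zero_mul]
      have : (2 : ℕ) • Q (P.coroot j) = 2 * Q (P.coroot j) := by
        rw [nsmul_eq_mul]; norm_num
      rw [this] at h3
      linear_combination h3
    · exact key y hy hc
  · intro h y hy
    rw [P.coreflection_apply, quad_sub_smul, h y hy]
    ring

end Groth.Agent.Lib.Helper17
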