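import Groth.Prelude.Def_FibCat2
import Groth.Agent.Lib.Helper17.HomLift
import Groth.Agent.Lib.Helper17.FibGrpd
import Groth.Agent.Lib.Helper17.FibProd
import Groth.Agent.Lib.Helper17.Thin
import Groth.Agent.Lib.Helper17.Rep

set_option autoImplicit false
universe v₃ u₃ v₂ u₂ v u

namespace Groth.Agent.Lib.Helper17.SD

open CategoryTheory CategoryTheory.Functor FibCat
open Groth.Agent.Lib.Helper17 Groth.Agent.Lib.Helper17.FP Groth.Agent.Lib.Helper17.FG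
  Groth.Agent.Lib.Helper17.TH Groth.Agent.Lib.Helper17.EO

variable {C : Type u} [Category.{v} C]

theorem isFibSetoid_iff_thinOver {𝒳 : BasedCategory.{v₂, u₂} C} :
    FibCat.IsFibSetoid 𝒳.p ↔ FibCat.IsFibGrpd 𝒳.p ∧ ThinOver 𝒳 := by
  unfold FibCat.IsFibSetoid
  rw [thinOver_iff]

/-- "fibred in setoids" is invariant under equivalence over `C` (pull back along `F`) -/
theorem isFibSetoid_of_isEquivOver {𝒳 𝒴 : BasedCategory.{v, max u v} C} (F : 𝒳 ⥤ᵇ 𝒴)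
    (hF : FibCat.IsEquivOver F) (h𝒴 : FibCat.IsFibSetoid 𝒴.p) : FibCat.IsFibSetoid 𝒳.p := by
  rw [isFibSetoid_iff_thinOver] at h𝒴 ⊢
  obtain ⟨G, hG⟩ := isEquivOver_inv F hF
  exact ⟨Rep.isFibGrpd_of_isEquivOver F hF h𝒴.1, thinOver_of_equiv G hG h𝒴.2⟩

theorem isFibSetoid_iff_of_isEquivOver {𝒳 𝒴 : BasedCategory.{v, max u v} C} (F : 𝒳 ⥤ᵇ 𝒴)
    (hF : FibCat.IsEquivOver F) : FibCat.IsFibSetoid 𝒳.p ↔ FibCat.IsFibSetoid 𝒴.p := by
  obtain ⟨G, hG⟩ := isEquivOver_inv F hF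
  exact ⟨isFibSetoid_of_isEquivOver G hG, isFibSetoid_of_isEquivOver F hF⟩

/-- any functor over `C` out of a category fibred in setoids is faithful -/
theorem faithful_of_isFibSetoid {𝒳 : BasedCategory.{v₂, u₂} C} {𝒴 : BasedCategory.{v₃, u₃} C}
    (h𝒳 : FibCat.IsFibSetoid 𝒳.p) (f : 𝒳 ⥤ᵇ 𝒴) : f.toFunctor.Faithful := by
  rw [isFibSetoid_iff_thinOver] at h𝒳
  obtain ⟨hg, hthin⟩ := h𝒳
  constructor
  intro x x' φ ψ hφψ
  have hφψ' : f.map φ = f.map ψ := hφψ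
  have hb : 𝒳.p.map φ = 𝒳.p.map ψ := by
    have h1 : 𝒴.p.IsHomLift (𝒳.p.map φ) (f.map φ) := inferInstance
    have h2 : 𝒴.p.IsHomLift (𝒳.p.map ψ) (f.map ψ) := inferInstance
    rw [hφψ'] at h1
    have e1 := hl_fac h1
    have e2 := hl_fac h2
    rw [e1, e2]
  have hψ : 𝒳.p.IsHomLift (𝒳.p.map φ) ψ := by rw [hb]; infer_instance
  have hφ : 𝒳.p.IsHomLift (𝒳.p.map φ) φ := inferInstance
  obtain ⟨α, hα1, hα2, -⟩ := exists_factor hg (𝒳.p.map φ) ψ hψ φ hφ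
  have h3 : α = 𝟙 x := hthin (𝒳.p.obj x) α (𝟙 x) hα1 (IsHomLift.id rfl)
  rw [← hα2, h3, Category.id_comp]

end Groth.Agent.Lib.Helper17.SD
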