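import Mathlib
import Groth.Agent.Lib.Helper51.SmoothSection

set_option autoImplicit false
universe u

namespace Groth.Agent.Lib.Helper17.SMD

open CategoryTheory CategoryTheory.Limits AlgebraicGeometry

/-- **a smooth surjective morphism of schemes has a section over an etale cover of the target** -/
theorem exists_etale_cover_section {T' T : Scheme.{u}} (v : T' ⟶ T) [Smooth v]
    (hv : Function.Surjective v) :
    ∃ (T'' : Scheme.{u}) (g : T'' ⟶ T) (h : T'' ⟶ T'),
      Etale g ∧ Function.Surjective g ∧ h ≫ v = g := by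
  choose t' ht' using hv
  choose S' g s' hg hgs h hh using fun t : T =>
    Groth.Agent.Lib.Helper51.SmoothSection.exists_etale_section v (t' t)
  refine ⟨∐ S', Sigma.desc g, Sigma.desc h, ?_, ?_, ?_⟩
  · have hloc : IsZariskiLocalAtSource @Etale.{u} := HasRingHomProperty.instIsZariskiLocalAtSource
    exact IsZariskiLocalAtSource.sigmaDesc (P := @Etale) (fun t => hg t)
  · intro t
    refine ⟨Sigma.ι S' t (s' t), ?_⟩
    rw [← Scheme.Hom.comp_apply, Sigma.ι_desc, hgs t, ht' t]
  · apply Sigma.hom_ext
    intro t
    rw [← Category.assoc, Sigma.ι_desc, Sigma.ι_desc, hh t]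

end Groth.Agent.Lib.Helper17.SMD
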