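import Groth.Agent.Lib.Helper17.FlatBC4
import Groth.Agent.Lib.Helper17.SmDesc1
import Groth.Agent.Lib.Helper17.AlgStFpRep
import Groth.Agent.Lib.Helper23.SLQBoot2
import Groth.Agent.S17273

set_option autoImplicit false
set_option backward.isDefEq.respectTransparency false
set_option backward.isDefEq.respectTransparency.types false
universe u

namespace Groth.Agent.Lib.Helper17.SMD

open CategoryTheory CategoryTheory.Limits AlgebraicGeometry Opposite AlgSp FibCat Stk AlgSt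
open Groth.Agent.Lib.Helper17 Groth.Agent.Lib.Helper17.FP Groth.Agent.Lib.Helper17.EO
  Groth.Agent.Lib.Helper17.PD Groth.Agent.Lib.Helper17.AT Groth.Agent.Lib.Helper17.AB
  Groth.Agent.Lib.Helper17.AOS Groth.Agent.Lib.Helper17.ACP Groth.Agent.Lib.Helper17.PTS
  Groth.Agent.Lib.Helper17.LQT Groth.Agent.Lib.Helper17.TH
open Groth.Agent.Lib.Helper46 Groth.Agent.Lib.Helper46.LocPChart

variable {S : Scheme.{u}}

/-- the 2-fibre product of two categories with thin fibres has thin fibres -/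
theorem thinOver_fp_of_thin {𝒳 𝒴 𝒵 : AlgSt.Cat S} (f : 𝒳 ⥤ᵇ 𝒴) (g : 𝒵 ⥤ᵇ 𝒴) (hX : ThinOver 𝒳)
    (hZ : ThinOver 𝒵) : ThinOver (FibCat.fp g f) := by
  intro U q q' k k' hk hk'
  have h1 : k.hom.fst = k'.hom.fst :=
    hZ U _ _ ((isHomLift_iff_fst k _).mp hk) ((isHomLift_iff_fst k' _).mp hk')
  have h2 : k.hom.snd = k'.hom.snd :=
    hX U _ _ (isHomLift_snd k _ hk) (isHomLift_snd k' _ hk')
  exact hom_ext h1 h2

theorem thinOver_overCat (T : Over S) : ThinOver (FibCat.overCat T) :=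
  thinOver_of_equiv (toOverCat T) (AD.toOverCat_isEquivOver T) (thinOver_ofPsh _)

theorem surjet_bc : ACP.BC (IsSurjectiveMor (S := S) ⊓ IsEtaleMor) :=
  fun _ _ _ _ h1 h2 h3 h4 a b a' b' sq h =>
    ⟨DL.surj_bc h1 h2 h3 h4 a b a' b' sq h.1, Groth.Agent.S17273.et_bc h1 h2 h3 h4 a b a' b' sq h.2⟩

/-- **etale descent of representability by an algebraic space**: a stack with thin fibres over a
scheme `W` whose base change to an etale cover of `W` is an algebraic space is an algebraic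
space -/
theorem rep_of_etale_cover (K : Precoverage Scheme.{u})
    (hK₁ : QuotSh.J Scheme.etalePrecoverage S ≤ QuotSh.J K S)
    {𝒢 : AlgSt.Cat S} (h𝒢 : Stk.IsStack (QuotSh.J K S) 𝒢) (hthin : ThinOver 𝒢)
    {W W' : Over S} (c : 𝒢 ⥤ᵇ FibCat.overCat W) (g : W' ⟶ W) (hge : Etale g.left)
    (hgs : Function.Surjective g.left)
    (hrep : AlgSt.RepByAlgSp (FibCat.fp c (AlgSt.overMap g))) : AlgSt.RepByAlgSp 𝒢 := by
  have hW : FibCat.IsFibSetoid 𝒢.p := by
    refine ⟨h𝒢.1, ?_⟩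
    rw [← thinOver_iff]
    exact hthin
  have hc := CP.cls_isEquivOver hW
  obtain ⟨c', ⟨c₁⟩, ⟨c₂⟩⟩ := id hc
  have hc' : FibCat.IsEquivOver c' := isEquivOver_symm _ c' c₁ c₂
  -- the presheaf of classes is an etale sheaf
  have hst : Stk.IsStack (QuotSh.J K S) (Stk.ofPsh (CP.clsPsh hW.1)) :=
    (Groth.Agent.S12793.result _ _ hc).mp h𝒢
  have hsh : Presieve.IsSheaf (QuotSh.J K S) (CP.clsPsh hW.1) :=
    (PSK.isStack_ofPsh_iff _ _).mp hst
  have hshe : Presheaf.IsSheaf (QuotSh.J Scheme.etalePrecoverage S) (CP.clsPsh hW.1) := by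
    rw [isSheaf_iff_isSheaf_of_type]
    exact Presieve.isSheaf_of_le _ hK₁ hsh
  -- the etale surjective cover
  obtain ⟨X, eX, heX⟩ := hrep
  have hP : (IsSurjectiveMor (S := S) ⊓ IsEtaleMor) ((yon S).map g) :=
    ⟨CT.isSurjectiveMor_yon_map g hgs,
      (Groth.Agent.Lib.Helper30.AlgSpEtaleMor.isEtaleMor_iff_locP_etale (IsAlgSpace.yon_obj W) _).2
        (Groth.Agent.Lib.Helper23.AlgSpMor.locP_yon_map_of
          Groth.Agent.Lib.Helper30.EtLocalInst.etLocal_etale g hge)⟩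
  have hπ : AlgSt.RepByAlgSpWith (IsSurjectiveMor (S := S) ⊓ IsEtaleMor)
      (FibCat.fpFst c (AlgSt.overMap g)) :=
    AB.repWith_fpFst _ (AlgSt.overMap g) c (CT.repWith_overMap _ surjet_bc g hP)
  have hπ' := FD.repWith_precomp_equiv _ eX heX _ hπ
  have h2 := AC.repWith_ofPshMap_of_conj (IsSurjectiveMor (S := S) ⊓ IsEtaleMor)
    (BasedFunctor.comp eX (FibCat.fpFst c (AlgSt.overMap g))) (BasedFunctor.id (ofSp X.obj)) c'
    (isEquivOver_id _) hc' (CP.clsFunctor hW.1) c₁ hπ'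
  have h1 : AlgSt.RepByAlgSp1 (Stk.ofPshMap (mapOf (BasedFunctor.comp (BasedFunctor.id (ofSp X.obj))
      (BasedFunctor.comp (BasedFunctor.comp eX (FibCat.fpFst c (AlgSt.overMap g)))
        (CP.clsFunctor hW.1))))) := by
    rw [rep1_iff_top]
    intro U y
    obtain ⟨F, e, he, -⟩ := h2 U y
    exact ⟨F, e, he, trivial⟩
  have h3 := (Groth.Agent.S12777.result _).mpr h1
  have i1 := FD.isSurjectiveMor_respectsIso (S := S)
  have i2 := SD.isEtaleMor_respectsIso (S := S)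
  have h4 := (Groth.Agent.S12778.result _ _ h3).mpr h2
  obtain ⟨hsh', hA⟩ := Groth.Agent.Lib.Helper23.SLQ.isAlgSpaceP_of_etale_sheaf hshe X.property _ h4
  exact ⟨⟨⟨CP.clsPsh hW.1, hsh'⟩, hA⟩, c', hc'⟩

end Groth.Agent.Lib.Helper17.SMD
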