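import Groth.Agent.Lib.Helper17.SmDesc2
import Groth.Agent.Lib.Helper17.FlatBC5

set_option autoImplicit false
set_option backward.isDefEq.respectTransparency false
set_option backward.isDefEq.respectTransparency.types false
universe u

namespace Groth.Agent.Lib.Helper17.SMD

open CategoryTheory CategoryTheory.Limits AlgebraicGeometry Opposite AlgSp FibCat Stk AlgSt
open Groth.Agent.Lib.Helper17 Groth.Agent.Lib.Helper17.FP Groth.Agent.Lib.Helper17.EO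
  Groth.Agent.Lib.Helper17.PD Groth.Agent.Lib.Helper17.AT Groth.Agent.Lib.Helper17.AB
  Groth.Agent.Lib.Helper17.AOS Groth.Agent.Lib.Helper17.ACP Groth.Agent.Lib.Helper17.PTS
  Groth.Agent.Lib.Helper17.LQT Groth.Agent.Lib.Helper17.TH
open Groth.Agent.Lib.Helper46 Groth.Agent.Lib.Helper46.LocPChart

variable {S : Scheme.{u}}

theorem isStack_mono {J J' : GrothendieckTopology (Over S)} (h : J ≤ J') {𝒜 : AlgSt.Cat S}
    (h𝒜 : Stk.IsStack J' 𝒜) : Stk.IsStack J 𝒜 :=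
  ⟨h𝒜.1, fun _ R hR => h𝒜.2 R (h _ hR)⟩

theorem isPrestack_of_isStack {J : GrothendieckTopology (Over S)} {𝒜 : AlgSt.Cat S}
    (h𝒜 : Stk.IsStack J 𝒜) : Stk.IsPrestack J 𝒜 := by
  refine ⟨h𝒜.1, fun U R hR => ?_⟩
  have := h𝒜.2 R hR
  have : (Stk.resSieve R 𝒜).IsEquivalence := this
  exact ⟨inferInstance, inferInstance⟩

/-- **a stack with a smooth surjective cover, representable by algebraic spaces, by an algebraic
space is an algebraic stack** -/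
theorem isAlgStack_of_cover (K : Precoverage Scheme.{u})
    (hK₁ : QuotSh.J Scheme.etalePrecoverage S ≤ QuotSh.J K S)
    (hK₂ : QuotSh.J K S ≤ AlgSp.J S)
    {𝒰 𝒳 : AlgSt.Cat S} (h𝒳 : Stk.IsStack (QuotSh.J K S) 𝒳) (h𝒰 : FibCat.IsFibGrpd 𝒰.p)
    (hU : AlgSt.RepByAlgSp 𝒰) (u : 𝒰 ⥤ᵇ 𝒳)
    (hsm : AlgSt.RepByAlgSpWith (AlgSp.LocP @Smooth) u)
    (hsurj : AlgSt.RepByAlgSpWith AlgSp.IsSurjectiveMor u) :
    AlgSt.IsAlgStack K 𝒳 := by
  have hX := h𝒳.1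
  obtain ⟨X₀, e₀, he₀⟩ := id hU
  obtain ⟨U₀, c₀, hc₀e, hc₀s⟩ := X₀.property.atlas
  have hc₀et := ACov.isEtaleMor_of_repWith c₀ hc₀e
  have hc₀sm : LocP @Smooth c₀ :=
    ACov.locP_of_isEtaleMor (fun _ _ f hf => by have := hf; infer_instance) c₀ hc₀et
  have hc₀surj : IsSurjectiveMor c₀ := ACov.points_map_surjective c₀ hc₀s
  have hU₀f : FibCat.IsFibGrpd (FibCat.overCat U₀).p := FG.isFibGrpd_overForget U₀
  have hqs : AlgSt.RepByAlgSpWith (LocP @Smooth) (BasedFunctor.comp (chartOf X₀.obj c₀) e₀) :=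
    repWith_postcomp_equiv _ _ e₀ he₀ (repWith_chartOf _ AFP.sm_bc X₀ c₀ hc₀sm)
  have hqj : AlgSt.RepByAlgSpWith IsSurjectiveMor (BasedFunctor.comp (chartOf X₀.obj c₀) e₀) :=
    repWith_postcomp_equiv _ _ e₀ he₀ (repWith_chartOf _ DL.surj_bc X₀ c₀ hc₀surj)
  have hqus : AlgSt.RepByAlgSpWith (LocP @Smooth)
      (BasedFunctor.comp (BasedFunctor.comp (chartOf X₀.obj c₀) e₀) u) :=
    repWith_comp_of_schLocal' hU₀f hX _ AFP.sm_bc AFP.sm_cp CT.sm_schLocal _ u hqs hsm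
  have hquj : AlgSt.RepByAlgSpWith IsSurjectiveMor
      (BasedFunctor.comp (BasedFunctor.comp (chartOf X₀.obj c₀) e₀) u) :=
    repWith_comp_of_schLocal' hU₀f hX _ DL.surj_bc DL.surj_cp CT.surj_schLocal _ u hqj hsurj
  refine ⟨h𝒳, ?_, ⟨U₀, _, hqus, hquj⟩⟩
  rw [Groth.Agent.S12765.result hX]
  intro W x T y
  have hWf : FibCat.IsFibGrpd (FibCat.overCat W).p := FG.isFibGrpd_overForget W
  obtain ⟨W'', ψ, hψs, hψj, hm⟩ := FBC.exists_chart_over (LocP @Smooth)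
    (fun X Y Z hX hY hZ c g hc hg => AFP.sm_cp hX hY hZ c g
      (ACov.locP_of_isEtaleMor (fun _ _ f hf => by have := hf; infer_instance) c hc) hg)
    h𝒰 hX u _ hqs hqj hqus x
  have hW''f : FibCat.IsFibGrpd (FibCat.overCat W'').p := FG.isFibGrpd_overForget W''
  obtain ⟨m, hmdef⟩ : ∃ m : W'' ⟶ W,
    m = Groth.Agent.S6443.fOf (BasedFunctor.comp ψ (FibCat.fpFst x u)) := ⟨_, rfl⟩
  rw [← hmdef] at hm
  have hmsm : Smooth m.left := AlgSp.locP_yon_map hm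
  have hmsurj : Function.Surjective m.left := by
    have h1 : AlgSt.RepByAlgSpWith IsSurjectiveMor (BasedFunctor.comp ψ (FibCat.fpFst x u)) :=
      repWith_comp_of_schLocal' hW''f hWf _ DL.surj_bc DL.surj_cp CT.surj_schLocal ψ _ hψj
        (AB.repWith_fpFst _ u x hsurj)
    have h2 : AlgSt.RepByAlgSpWith IsSurjectiveMor (AlgSt.overMap m) := by
      rw [hmdef]
      exact DCN.repWith_of_iso _ (Groth.Agent.S6443.isoOverMap _).symm h1
    exact (Groth.Agent.Lib.Helper23.SLQ.surjective_of_isSurjectiveMor_yon_map m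
      (prop_of_repWith_overMap _ DL.surj_bc CT.surj_schLocal m h2)).surj
  obtain ⟨Wt, g₀, h₀, hg₀e, hg₀s, hgh⟩ := exists_etale_cover_section m.left hmsurj
  let W' : Over S := Over.mk (g₀ ≫ W.hom)
  let g : W' ⟶ W := Over.homMk g₀ rfl
  let h : W' ⟶ W'' := Over.homMk h₀ (by
    change h₀ ≫ W''.hom = g₀ ≫ W.hom
    rw [← Over.w m, ← Category.assoc, hgh])
  have hgm : h ≫ m = g := Over.OverMorphism.ext hgh
  have hW'f : FibCat.IsFibGrpd (FibCat.overCat W').p := FG.isFibGrpd_overForget W'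
  -- the lift of `x` over the etale cover
  obtain ⟨α⟩ := FBC.exists_alpha u x ψ
  rw [← hmdef] at α
  let A' : (FibCat.overCat W' : AlgSt.Cat S) ⟶ FibCat.overCat W'' := AlgSt.overMap h
  have i1 : BasedFunctor.comp (AlgSt.overMap h)
        (BasedFunctor.comp (BasedFunctor.comp ψ (FibCat.fpSnd x u)) u) ≅
      BasedFunctor.comp (AlgSt.overMap h) (BasedFunctor.comp (AlgSt.overMap m) x) :=
    Bicategory.whiskerLeftIso A' α
  have e1 : BasedFunctor.comp (AlgSt.overMap h) (BasedFunctor.comp (AlgSt.overMap m) x) =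
      BasedFunctor.comp (AlgSt.overMap g) x := by
    rw [← hgm, overMap_comp]
    exact DR.basedFunctor_ext rfl
  have e2 : BasedFunctor.comp (BasedFunctor.comp (AlgSt.overMap h)
        (BasedFunctor.comp ψ (FibCat.fpSnd x u))) u =
      BasedFunctor.comp (AlgSt.overMap h)
        (BasedFunctor.comp (BasedFunctor.comp ψ (FibCat.fpSnd x u)) u) :=
    DR.basedFunctor_ext rfl
  have hut : AlgSt.RepByAlgSpWith ⊤ (BasedFunctor.comp (AlgSt.overMap h)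
      (BasedFunctor.comp ψ (FibCat.fpSnd x u))) :=
    (rep1_iff_top _).mp (ARA.rep1_of_rep (Groth.Agent.S12765.rep_overCat W') hU _)
  have hu1 : AlgSt.RepByAlgSpWith ⊤ u := by
    intro U₁ y₁
    obtain ⟨F, e, he, -⟩ := hsm U₁ y₁
    exact ⟨F, e, he, trivial⟩
  have hxt : AlgSt.RepByAlgSpWith ⊤ (BasedFunctor.comp (AlgSt.overMap g) x) := by
    have h3 := repWith_comp_of_schLocal' hW'f hX ⊤ DCN.top_bc DCN.top_cp DCN.top_schLocal _ u
      hut hu1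
    exact DCN.repWith_of_iso _ (eqToIso e1.symm ≪≫ i1.symm ≪≫ eqToIso e2.symm) h3
  obtain ⟨F, e, he, -⟩ := hxt T y
  have hrep : AlgSt.RepByAlgSp (FibCat.fp (FibCat.fpSnd y x) (AlgSt.overMap g)) :=
    Groth.Agent.S12765.rep_of_equiv (PSR.paste y (AlgSt.overMap g) x)
      (PSR.paste_isEquivOver y (AlgSt.overMap g) x) ⟨F, e, he⟩
  have h𝒢 : Stk.IsStack (QuotSh.J K S) (FibCat.fp y x) :=
    Groth.Agent.S12792.result _ y x
      (isStack_mono hK₂ (SPS.isAlgStack_overCat T).isStack)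
      (isStack_mono hK₂ (SPS.isAlgStack_overCat W).isStack) (isPrestack_of_isStack h𝒳)
  exact rep_of_etale_cover K hK₁ h𝒢
    (thinOver_fp_of_thin x y (thinOver_overCat W) (thinOver_overCat T)) (FibCat.fpSnd y x) g
    hg₀e hg₀s hrep

/-- **S12760** -/
theorem main_fppf {𝒰 𝒳 : AlgSt.Cat S}
    (h𝒰 : Stk.IsStack (QuotSh.J Scheme.fppfPrecoverage S) 𝒰)
    (h𝒳 : Stk.IsStack (QuotSh.J Scheme.fppfPrecoverage S) 𝒳)
    (hU : AlgSt.RepByAlgSp 𝒰) (u : 𝒰 ⥤ᵇ 𝒳)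
    (hsm : AlgSt.RepByAlgSpWith (AlgSp.LocP @Smooth) u)
    (hsurj : AlgSt.RepByAlgSpWith AlgSp.IsSurjectiveMor u) :
    AlgSt.IsAlgStack Scheme.fppfPrecoverage 𝒳 :=
  isAlgStack_of_cover _ (Groth.Agent.Lib.Helper23.SLQ.etaleJ_le S) le_rfl h𝒳 h𝒰.1 hU u hsm hsurj

/-- **S16816** -/
theorem main_etale (𝒳 : AlgSt.Cat S)
    (h𝒳 : Stk.IsStack (QuotSh.J Scheme.etalePrecoverage S) 𝒳)
    (hU : AlgSt.HasAtlas (AlgSp.LocP @Smooth) 𝒳) :
    AlgSt.IsAlgStack Scheme.etalePrecoverage 𝒳 := by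
  obtain ⟨U, x, hxs, hxj⟩ := hU
  exact isAlgStack_of_cover _ le_rfl (Groth.Agent.Lib.Helper23.SLQ.etaleJ_le S) h𝒳
    (FG.isFibGrpd_overForget U) (Groth.Agent.S12765.rep_overCat U) x hxs hxj

end Groth.Agent.Lib.Helper17.SMD
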