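import Groth.Agent.Lib.Helper17.SmDesc3

set_option autoImplicit false
set_option backward.isDefEq.respectTransparency false
set_option backward.isDefEq.respectTransparency.types false
universe u

namespace Groth.Agent.Lib.Helper17.SMD

open CategoryTheory CategoryTheory.Limits AlgebraicGeometry Opposite AlgSp FibCat Stk AlgSt
open Groth.Agent.Lib.Helper17 Groth.Agent.Lib.Helper17.FP Groth.Agent.Lib.Helper17.EO
  Groth.Agent.Lib.Helper17.PD Groth.Agent.Lib.Helper17.AT Groth.Agent.Lib.Helper17.AB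
  Groth.Agent.Lib.Helper17.AOS Groth.Agent.Lib.Helper17.ACP Groth.Agent.Lib.Helper17.PTS
  Groth.Agent.Lib.Helper17.LQT Groth.Agent.Lib.Helper17.TH
open Groth.Agent.Lib.Helper46 Groth.Agent.Lib.Helper46.LocPChart

variable {S : Scheme.{u}}

/-- **S16213**: a stack whose base change along a smooth surjective representable cover is
algebraic, is algebraic. -/
theorem main_16213 {𝒳 𝒴 𝒵 : AlgSt.Cat S}
    (h𝒳 : Stk.IsStack (QuotSh.J Scheme.fppfPrecoverage S) 𝒳)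
    (f : 𝒳 ⥤ᵇ 𝒴) (z : 𝒵 ⥤ᵇ 𝒴)
    (hsm : AlgSt.RepByAlgSpWith (AlgSp.LocP @Smooth) z)
    (hsurj : AlgSt.RepByAlgSpWith AlgSp.IsSurjectiveMor z)
    (hfp : AlgSt.IsAlgStack Scheme.fppfPrecoverage (FibCat.fp z f)) :
    AlgSt.IsAlgStack Scheme.fppfPrecoverage 𝒳 := by
  obtain ⟨-, -, ⟨W, a, has, haj⟩⟩ := hfp
  have hWf : FibCat.IsFibGrpd (FibCat.overCat W).p := FG.isFibGrpd_overForget W
  have h1 := AB.repWith_fpSnd (LocP @Smooth) z f hsm
  have h2 := AB.repWith_fpSnd IsSurjectiveMor z f hsurj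
  have hc1 : AlgSt.RepByAlgSpWith (LocP @Smooth) (BasedFunctor.comp a (FibCat.fpSnd z f)) :=
    repWith_comp_of_schLocal' hWf h𝒳.1 _ AFP.sm_bc AFP.sm_cp CT.sm_schLocal a _ has h1
  have hc2 : AlgSt.RepByAlgSpWith IsSurjectiveMor (BasedFunctor.comp a (FibCat.fpSnd z f)) :=
    repWith_comp_of_schLocal' hWf h𝒳.1 _ DL.surj_bc DL.surj_cp CT.surj_schLocal a _ haj h2
  exact isAlgStack_of_cover _ (Groth.Agent.Lib.Helper23.SLQ.etaleJ_le S) le_rfl h𝒳 hWf
    (Groth.Agent.S12765.rep_overCat W) _ hc1 hc2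

end Groth.Agent.Lib.Helper17.SMD
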