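import Groth.Agent.Lib.Helper17.Bridge
import Groth.Prelude.Def_AlgSt3

set_option autoImplicit false
set_option backward.isDefEq.respectTransparency false
set_option backward.isDefEq.respectTransparency.types false
universe u

namespace Groth.Agent.Lib.Helper17.SML

open CategoryTheory CategoryTheory.Limits AlgebraicGeometry Opposite AlgSp FibCat Stk AlgSt
open Groth.Agent.Lib.Helper17

variable {S : Scheme.{u}}

/-- smooth-local properties ascend along smooth morphisms -/
theorem of_smooth (P : Scheme.{u} → Prop)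
    (hP : ∀ (U : Scheme.{u}) (R : Presieve U), R ∈ Scheme.precoverage @Smooth U →
      (P U ↔ ∀ ⦃V : Scheme.{u}⦄ (g : V ⟶ U), R g → P V))
    {W U : Scheme.{u}} (b : W ⟶ U) [Smooth b] (h : P U) : P W := by
  let X : Bool → Scheme.{u} := fun i => Bool.rec U W i
  let f : ∀ i, X i ⟶ U := fun i => Bool.rec (motive := fun i => X i ⟶ U) (𝟙 U) b i
  have hmem : Presieve.ofArrows X f ∈ Scheme.precoverage @Smooth U := by
    rw [Scheme.ofArrows_mem_precoverage_iff]
    refine ⟨fun x => ⟨false, ⟨x, rfl⟩⟩, fun i => ?_⟩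
    cases i
    · exact (inferInstance : Smooth (𝟙 U))
    · exact (inferInstance : Smooth b)
  exact (hP U _ hmem).mp h (f true) (Presieve.ofArrows.mk true)

/-- smooth-local properties descend along smooth surjective morphisms -/
theorem of_smooth_surjective (P : Scheme.{u} → Prop)
    (hP : ∀ (U : Scheme.{u}) (R : Presieve U), R ∈ Scheme.precoverage @Smooth U →
      (P U ↔ ∀ ⦃V : Scheme.{u}⦄ (g : V ⟶ U), R g → P V))
    {W U : Scheme.{u}} (a : W ⟶ U) [Smooth a] (hs : Function.Surjective a) (h : P W) : P U := by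
  have hmem : Presieve.singleton a ∈ Scheme.precoverage @Smooth U := by
    rw [Scheme.singleton_mem_precoverage_iff]
    exact ⟨fun u => by obtain ⟨w, hw⟩ := hs u; exact ⟨w, hw⟩, inferInstance⟩
  refine (hP U _ hmem).mpr (fun V g hg => ?_)
  cases hg
  exact h

theorem smoothLocally_iff {𝒳 : AlgSt.Cat S}
    (h𝒳 : AlgSt.IsAlgStack Scheme.fppfPrecoverage 𝒳) (P : Scheme.{u} → Prop)
    (hP : ∀ (U : Scheme.{u}) (R : Presieve U), R ∈ Scheme.precoverage @Smooth U →
      (P U ↔ ∀ ⦃V : Scheme.{u}⦄ (g : V ⟶ U), R g → P V)) :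
    AlgSt.SmoothLocally P 𝒳 ↔
      ∃ (U : Over S) (x : FibCat.overCat U ⥤ᵇ 𝒳),
        AlgSt.RepByAlgSpWith (AlgSp.LocP @Smooth) x ∧
          AlgSt.RepByAlgSpWith AlgSp.IsSurjectiveMor x ∧ P U.left := by
  constructor
  · intro h
    obtain ⟨U, x, hs, hsurj⟩ := h𝒳.atlas
    exact ⟨U, x, hs, hsurj, h U x hs⟩
  · rintro ⟨U₀, x₀, hs₀, hsurj₀, hP₀⟩ U x hx
    obtain ⟨W, a, b, ha, ha', hb, -, -⟩ :=
      BRG.exists_bridge_props h𝒳.isStack.1 h𝒳.diag x x₀
    have := ha hs₀
    have := hb hx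
    exact of_smooth_surjective P hP a.left (ha' hsurj₀) (of_smooth P hP b.left hP₀)

end Groth.Agent.Lib.Helper17.SML
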