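import Groth.Agent.Lib.Helper17.MaxSmooth2
import Groth.Agent.S12993
import Groth.Agent.S13038

/-!
# The largest smooth open and smooth precomposition (helper17)
-/

set_option autoImplicit false
set_option backward.isDefEq.respectTransparency false
set_option backward.isDefEq.respectTransparency.types false
universe u

namespace Groth.Agent.Lib.Helper17.MSm

open CategoryTheory CategoryTheory.Limits AlgebraicGeometry Opposite AlgSp FibCat Stk AlgSt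
open Groth.Agent.Lib.Helper17 Groth.Agent.Lib.Helper17.FP Groth.Agent.Lib.Helper17.EO
  Groth.Agent.Lib.Helper17.PD Groth.Agent.Lib.Helper17.AT Groth.Agent.Lib.Helper17.AB
  Groth.Agent.Lib.Helper17.AOS Groth.Agent.Lib.Helper17.ACP Groth.Agent.Lib.Helper17.PTS
  Groth.Agent.Lib.Helper17.LQT
open Groth.Agent.Lib.Helper46 Groth.Agent.Lib.Helper46.LocPChart
open Groth.Agent.Lib.Helper10

variable {S : Scheme.{u}}

/-- **cancellation of a fully faithful smooth morphism** for properties read on charts -/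
theorem locQ_cancel_ff {P : MorphismProperty (Sp S)} (hP : IsSmoothLocalST P)
    {𝒞 𝒜 ℬ : AlgSt.Cat S}
    (h𝒞 : AlgSt.IsAlgStack Scheme.fppfPrecoverage 𝒞)
    (h𝒜 : AlgSt.IsAlgStack Scheme.fppfPrecoverage 𝒜)
    (hℬ : AlgSt.IsAlgStack Scheme.fppfPrecoverage ℬ)
    (k : 𝒞 ⥤ᵇ 𝒜) (i : 𝒜 ⥤ᵇ ℬ) [i.toFunctor.Full] [i.toFunctor.Faithful]
    (hi : AlgSt.RepByAlgSpWith (LocP @Smooth) i)
    (h : AlgSt.LocQ P (BasedFunctor.comp k i)) : AlgSt.LocQ P k := by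
  apply locQ_of_forall_smooth_chart h𝒞 h𝒜
  intro U V x y m α hxs hys hφ
  have hVf : FibCat.IsFibGrpd (FibCat.overCat V).p := FG.isFibGrpd_overForget V
  have hys' : AlgSt.RepByAlgSpWith (LocP @Smooth) (BasedFunctor.comp y i) :=
    repWith_comp_of_schLocal' hVf hℬ.isStack.1 _ AFP.sm_bc AFP.sm_cp CT.sm_schLocal y i hys hi
  have hφ₁ := repWith_comp_swap _ _ y _ hφ
  have hφ₂ := repWith_postcomp_equiv _ _ (OST.KK y k i) (OST.KK_isEquivOver y k i) hφ₁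
  refine prop_of_locQ_of_smooth_chart' hP h𝒞 hℬ (BasedFunctor.comp k i) h
    (BasedFunctor.comp y i) hys' _ hφ₂ m (eqToIso ?_)
  exact DR.basedFunctor_ext rfl

/-- a morphism representable by algebraic spaces and smooth is smooth on charts -/
theorem locQ_smooth_of_repWith {𝒜 ℬ : AlgSt.Cat S}
    (h𝒜 : AlgSt.IsAlgStack Scheme.fppfPrecoverage 𝒜)
    (hℬ : AlgSt.IsAlgStack Scheme.fppfPrecoverage ℬ) (i : 𝒜 ⥤ᵇ ℬ)
    (hi : AlgSt.RepByAlgSpWith (LocP @Smooth) i) : AlgSt.LocQ (LocP @Smooth) i := by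
  refine (Groth.Agent.S12993.result S _ isSmoothLocalST_smooth AFP.sm_bc AFP.sm_local 𝒜 ℬ h𝒜 hℬ i
    ?_).mpr hi
  intro U y
  obtain ⟨F, e, he, -⟩ := hi U y
  exact ⟨F, e, he⟩

/-- a morphism representable by algebraic spaces and smooth on charts is smooth -/
theorem repWith_smooth_of_locQ {𝒜 ℬ : AlgSt.Cat S}
    (h𝒜 : AlgSt.IsAlgStack Scheme.fppfPrecoverage 𝒜)
    (hℬ : AlgSt.IsAlgStack Scheme.fppfPrecoverage ℬ) (i : 𝒜 ⥤ᵇ ℬ) (hi1 : AlgSt.RepByAlgSp1 i)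
    (hi : AlgSt.LocQ (LocP @Smooth) i) : AlgSt.RepByAlgSpWith (LocP @Smooth) i :=
  (Groth.Agent.S12993.result S _ isSmoothLocalST_smooth AFP.sm_bc AFP.sm_local 𝒜 ℬ h𝒜 hℬ i
    hi1).mp hi

/-- composition of morphisms smooth on charts -/
theorem locQ_smooth_comp {𝒜 ℬ 𝒞 : AlgSt.Cat S}
    (h𝒜 : AlgSt.IsAlgStack Scheme.fppfPrecoverage 𝒜)
    (hℬ : AlgSt.IsAlgStack Scheme.fppfPrecoverage ℬ)
    (h𝒞 : AlgSt.IsAlgStack Scheme.fppfPrecoverage 𝒞) (a : 𝒜 ⥤ᵇ ℬ) (b : ℬ ⥤ᵇ 𝒞)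
    (ha : AlgSt.LocQ (LocP @Smooth) a) (hb : AlgSt.LocQ (LocP @Smooth) b) :
    AlgSt.LocQ (LocP @Smooth) (BasedFunctor.comp a b) :=
  Groth.Agent.S13038.result S _ isSmoothLocalST_smooth AFP.sm_cp 𝒜 ℬ 𝒞 h𝒜 hℬ h𝒞 a b ha hb

/-- a morphism smooth on charts is open on points -/
theorem isOpenMap_map_of_locQ_smooth {𝒜 ℬ : AlgSt.Cat S}
    (h𝒜 : AlgSt.IsAlgStack Scheme.fppfPrecoverage 𝒜)
    (hℬ : AlgSt.IsAlgStack Scheme.fppfPrecoverage ℬ) (g : 𝒜 ⥤ᵇ ℬ)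
    (hg : AlgSt.LocQ (LocP @Smooth) g) : IsOpenMap (AlgSt.Points.map g) := by
  obtain ⟨U, V, x, y, m, α, hxs, hxj, hys, hm⟩ := hg
  have : Smooth m.left := AlgSp.locP_yon_map hm
  have hsj := ofChart_surjective x (isSurjective_of_repWith h𝒜.isStack.1 x hxj)
  intro O hO
  have hO' : IsOpen (AlgSt.Points.ofChart x ⁻¹' O) := hO U x hxs
  have e : AlgSt.Points.map g '' O =
      AlgSt.Points.ofChart y '' (m.left '' (AlgSt.Points.ofChart x ⁻¹' O)) := by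
    ext η
    constructor
    · rintro ⟨ξ, hξ, rfl⟩
      obtain ⟨w, rfl⟩ := hsj ξ
      refine ⟨m.left w, ⟨w, hξ, rfl⟩, ?_⟩
      rw [← ofChart_overMap, ← ofChart_congr α, ofChart_comp]
    · rintro ⟨_, ⟨w, hw, rfl⟩, rfl⟩
      refine ⟨AlgSt.Points.ofChart x w, hw, ?_⟩
      rw [← ofChart_overMap, ← ofChart_congr α, ofChart_comp]
  rw [e]
  exact isOpenMap_ofChart hℬ.isStack.1 hℬ.diag y (flat_of_smooth y hys) (lfp_of_smooth y hys) _
    (m.left.isOpenMap _ hO')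

end Groth.Agent.Lib.Helper17.MSm
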