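import Groth.Agent.Lib.Helper17.DiagCancel
import Groth.Agent.Lib.Helper17.LocQTools19

/-!
# Cancellation for `RepByAlgSpWith P` from cancellation for morphisms of algebraic spaces (helper17)
-/

set_option autoImplicit false
set_option backward.isDefEq.respectTransparency false
set_option backward.isDefEq.respectTransparency.types false
universe u

namespace Groth.Agent.Lib.Helper17.SCn

open CategoryTheory CategoryTheory.Limits AlgebraicGeometry Opposite AlgSp FibCat Stk AlgSt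
open Groth.Agent.Lib.Helper17 Groth.Agent.Lib.Helper17.FP Groth.Agent.Lib.Helper17.EO
  Groth.Agent.Lib.Helper17.PD Groth.Agent.Lib.Helper17.AT Groth.Agent.Lib.Helper17.AB
  Groth.Agent.Lib.Helper17.AOS Groth.Agent.Lib.Helper17.ACP

variable {S : Scheme.{u}}

/-- with cancellation for maps of algebraic spaces, the functor
`(Sch/U) ×_𝒞 𝒜 ⟶ (Sch/U) ×_𝒞 ℬ` induced by `a : 𝒜 ⟶ ℬ` has `P` as soon as `b` and `a ⋙ b` do -/
theorem repWith_toInner_of_cancel (P : MorphismProperty (AlgSp.Sp S)) (hPb : ACP.BC P)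
    (hcancel : ∀ ⦃X Y Z : AlgSp.Sp S⦄, AlgSp.IsAlgSpace X → AlgSp.IsAlgSpace Y → AlgSp.IsAlgSpace Z →
      ∀ (a : X ⟶ Y) (b : Y ⟶ Z), P b → P (a ≫ b) → P a)
    {𝒜 ℬ 𝒞 : AlgSt.Cat S} (a : 𝒜 ⥤ᵇ ℬ) (b : ℬ ⥤ᵇ 𝒞)
    (hb : AlgSt.RepByAlgSpWith P b) (hab : AlgSt.RepByAlgSpWith P (BasedFunctor.comp a b))
    {U : Over S} (y : FibCat.overCat U ⥤ᵇ 𝒞) :
    AlgSt.RepByAlgSpWith P (PSR.toInner y a b) := by
  obtain ⟨G, eG, heG, hPG⟩ := hb U y
  obtain ⟨H, eH, heH, hPH⟩ := hab U y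
  obtain ⟨gG, ⟨z₁⟩, ⟨z₂⟩⟩ := id heG
  have hgG : FibCat.IsEquivOver gG := isEquivOver_symm eG gG z₁ z₂
  let Φ : ofSp H.obj ⥤ᵇ ofSp G.obj :=
    BasedFunctor.comp (BasedFunctor.comp eH (PSR.toInner y a b)) gG
  let m : H.obj ⟶ G.obj := ObjectProperty.homMk (mapOf Φ)
  have key : m ≫ spMapOfOver (BasedFunctor.comp eG (FibCat.fpFst y b)) =
      spMapOfOver (BasedFunctor.comp eH (FibCat.fpFst y (BasedFunctor.comp a b))) := by
    apply ObjectProperty.hom_ext
    change mapOf Φ ≫ (spMapOfOver (BasedFunctor.comp eG (FibCat.fpFst y b))).hom =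
      (spMapOfOver (BasedFunctor.comp eH (FibCat.fpFst y (BasedFunctor.comp a b)))).hom
    rw [← AD.mapOf_comp_ofOverCat, ← AD.mapOf_comp_ofOverCat, ← mapOf_comp]
    apply mapOf_congr _ _
      (fun a₀ => (BasedFunctor.comp (FibCat.fpFst y b) (ofOverCat U)).toFunctor.mapIso
        (compApp z₂ ((PSR.toInner y a b).obj (eH.obj a₀))))
    intro a₀
    have hl := compApp_lift z₂ ((PSR.toInner y a b).obj (eH.obj a₀))
    rw [(PSR.toInner y a b).w_obj, eH.w_obj] at hl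
    exact map_lift'' (BasedFunctor.comp (FibCat.fpFst y b) (ofOverCat U)) hl
  have hPm : P m := by
    apply hcancel H.property G.property (IsAlgSpace.yon_obj U) m _ hPG
    rw [key]
    exact hPH
  have h1 : AlgSt.RepByAlgSpWith P (ofSpMap m) := DCV.repWith_ofSpMap P hPb H G m hPm
  have h2 : AlgSt.RepByAlgSpWith P Φ := by
    refine repWith_of_square_fwd P (ofSpMap m) Φ (BasedFunctor.id _) (BasedFunctor.id _)
      (isEquivOver_id _) (isEquivOver_id _) (fun x' => compIso Φ x') ?_ ?_ h1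
    · intro x x₁ β
      exact compIso_nat Φ β
    · intro x'
      exact compIso_lift Φ x'
  have h3 : AlgSt.RepByAlgSpWith P (BasedFunctor.comp eH (PSR.toInner y a b)) :=
    DCN.repWith_of_comp_equiv P _ gG hgG h2
  exact FD.repWith_of_precomp_equiv P eH heH _ h3

end Groth.Agent.Lib.Helper17.SCn
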