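import Groth.Agent.Lib.Helper17.SpCancel

set_option autoImplicit false
set_option backward.isDefEq.respectTransparency false
set_option backward.isDefEq.respectTransparency.types false
universe u

namespace Groth.Agent.Lib.Helper17.SCn

open CategoryTheory CategoryTheory.Limits AlgebraicGeometry Opposite AlgSp FibCat Stk AlgSt
open Groth.Agent.Lib.Helper17 Groth.Agent.Lib.Helper17.FP Groth.Agent.Lib.Helper17.EO
  Groth.Agent.Lib.Helper17.PD Groth.Agent.Lib.Helper17.AT Groth.Agent.Lib.Helper17.AB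
  Groth.Agent.Lib.Helper17.AOS Groth.Agent.Lib.Helper17.ACP

variable {S : Scheme.{u}}

/-- the chart form of the conclusion, for the chart `s ⋙ pr₂` attached to a section-like functor
`s : (Sch/U) ⟶ (Sch/U) ×_𝒞 ℬ` -/
theorem exists_of_cancel_aux (P : MorphismProperty (AlgSp.Sp S)) (hPb : ACP.BC P)
    (hcancel : ∀ ⦃X Y Z : AlgSp.Sp S⦄, AlgSp.IsAlgSpace X → AlgSp.IsAlgSpace Y → AlgSp.IsAlgSpace Z →
      ∀ (a : X ⟶ Y) (b : Y ⟶ Z), P b → P (a ≫ b) → P a)
    {𝒜 ℬ 𝒞 : AlgSt.Cat S} (a : 𝒜 ⥤ᵇ ℬ) (b : ℬ ⥤ᵇ 𝒞)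
    (hb : AlgSt.RepByAlgSpWith P b) (hab : AlgSt.RepByAlgSpWith P (BasedFunctor.comp a b))
    {U : Over S} (y' : FibCat.overCat U ⥤ᵇ 𝒞) (s : FibCat.overCat U ⥤ᵇ FibCat.fp y' b) :
    ∃ (F : AlgSp.Space S)
      (e : ofSp F.obj ⥤ᵇ FibCat.fp (BasedFunctor.comp s (FibCat.fpSnd y' b)) a),
      FibCat.IsEquivOver e ∧ P (spMapOfOver (BasedFunctor.comp e
        (FibCat.fpFst (BasedFunctor.comp s (FibCat.fpSnd y' b)) a))) := by
  have h1 : AlgSt.RepByAlgSpWith P (PSR.toInner y' a b) :=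
    repWith_toInner_of_cancel P hPb hcancel a b hb hab y'
  have h2 : AlgSt.RepByAlgSpWith P (FibCat.fpFst (FibCat.fpSnd y' b) a) :=
    FD.repWith_of_precomp_equiv P (PSR.paste y' a b) (PSR.paste_isEquivOver y' a b) _ h1
  exact transfer_inv P (PS.paste s (FibCat.fpSnd y' b) a)
    (PS.paste_isEquivOver s (FibCat.fpSnd y' b) a)
    (FibCat.fpFst (BasedFunctor.comp s (FibCat.fpSnd y' b)) a) _
    (PS.paste_fst s (FibCat.fpSnd y' b) a) (h2 U s)

/-- **cancellation**: if `b` and `a ⋙ b` are representable by algebraic spaces with `P`, and `P` is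
stable under base change and has the cancellation property for maps of algebraic spaces, then `a`
is representable by algebraic spaces with `P` -/
theorem repWith_cancel_sp (P : MorphismProperty (AlgSp.Sp S)) (hPb : ACP.BC P)
    (hcancel : ∀ ⦃X Y Z : AlgSp.Sp S⦄, AlgSp.IsAlgSpace X → AlgSp.IsAlgSpace Y → AlgSp.IsAlgSpace Z →
      ∀ (a : X ⟶ Y) (b : Y ⟶ Z), P b → P (a ≫ b) → P a)
    {𝒜 ℬ 𝒞 : AlgSt.Cat S} (a : 𝒜 ⥤ᵇ ℬ) (b : ℬ ⥤ᵇ 𝒞)
    (hb : AlgSt.RepByAlgSpWith P b) (hab : AlgSt.RepByAlgSpWith P (BasedFunctor.comp a b)) :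
    AlgSt.RepByAlgSpWith P a := by
  intro U y
  have h := exists_of_cancel_aux P hPb hcancel a b hb hab (BasedFunctor.comp y b)
    (FibCat.fpLift (BasedFunctor.id _) y (Iso.refl _))
  have e : BasedFunctor.comp (FibCat.fpLift (BasedFunctor.id (FibCat.overCat U)) y
      (Iso.refl (BasedFunctor.comp (BasedFunctor.id (FibCat.overCat U)) (BasedFunctor.comp y b))))
      (FibCat.fpSnd (BasedFunctor.comp y b) b) = y := DR.basedFunctor_ext rfl
  rw [e] at h
  exact h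

/-- **S17272**: cancellation for diagonals -/
theorem repWith_diag_of_comp_sp {𝒳 𝒴 𝒵 : AlgSt.Cat S}
    (P : MorphismProperty (AlgSp.Sp S)) (hPb : ACP.BC P)
    (hcancel : ∀ ⦃X Y Z : AlgSp.Sp S⦄, AlgSp.IsAlgSpace X → AlgSp.IsAlgSpace Y → AlgSp.IsAlgSpace Z →
      ∀ (a : X ⟶ Y) (b : Y ⟶ Z), P b → P (a ≫ b) → P a)
    (f : 𝒳 ⥤ᵇ 𝒴) (g : 𝒴 ⥤ᵇ 𝒵)
    (hg : AlgSt.RepByAlgSpWith P (FibCat.diag g))
    (hfg : AlgSt.RepByAlgSpWith P (FibCat.diag (BasedFunctor.comp f g))) :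
    AlgSt.RepByAlgSpWith P (FibCat.diag f) := by
  have h3 : AlgSt.RepByAlgSpWith P (BasedFunctor.comp (FibCat.diag f) (CMP.iota f f g)) := by
    refine repWith_of_square_fwd P (FibCat.diag (BasedFunctor.comp f g))
      (BasedFunctor.comp (FibCat.diag f) (CMP.iota f f g)) (BasedFunctor.id _) (BasedFunctor.id _)
      (isEquivOver_id _) (isEquivOver_id _)
      (fun x' => mkIso (z := (BasedFunctor.comp (FibCat.diag f) (CMP.iota f f g)).obj x')
        (z' := (FibCat.diag (BasedFunctor.comp f g)).obj x') (Iso.refl _) (Iso.refl _) ?_) ?_ ?_ hfg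
    · change g.map (f.map (𝟙 _)) ≫ 𝟙 _ = g.map (𝟙 _) ≫ g.map (f.map (𝟙 _))
      rw [f.map_id, g.map_id, Category.id_comp]
    · intro x x₁ β
      apply hom_ext
      · exact (Category.comp_id _).trans (Category.id_comp _).symm
      · exact (Category.comp_id _).trans (Category.id_comp _).symm
    · intro x'
      rw [isHomLift_iff_fst]
      exact IsHomLift.id rfl
  have hb : AlgSt.RepByAlgSpWith P (FibCat.fpFst (MS.m f g f) (FibCat.diag g)) :=
    repWith_fpFst P (FibCat.diag g) (MS.m f g f) hg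
  have h4 : AlgSt.RepByAlgSpWith P (BasedFunctor.comp (FibCat.diag f) (MS.M f g f)) :=
    repWith_cancel_sp P hPb hcancel (BasedFunctor.comp (FibCat.diag f) (MS.M f g f))
      (FibCat.fpFst (MS.m f g f) (FibCat.diag g)) hb h3
  exact DCN.repWith_of_comp_equiv P (FibCat.diag f) (MS.M f g f) (MS.M_isEquivOver f g f) h4

end Groth.Agent.Lib.Helper17.SCn
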