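import Mathlib

set_option autoImplicit false
universe u

namespace Groth.Agent.Lib.Helper17.SpreadETAT

theorem exists_etale_away {R : Type u} [CommRing R] (p : Ideal R) [p.IsPrime] (R'' : Type u) [CommRing R''] [Algebra (Localization.AtPrime p) R''] [Algebra.Etale (Localization.AtPrime p) R''] [Algebra R R''] [IsScalarTower R (Localization.AtPrime p) R''] (C : Type u) [CommRing C] [Algebra R C] [Algebra.FinitePresentation R C] [Algebra C R''] [IsScalarTower R C R''] [IsLocalization (Algebra.algebraMapSubmonoid C p.primeCompl) R''] (m'' : Ideal R'') [m''.IsPrime] : ∃ h : C, algebraMap C R'' h ∉ m'' ∧ Algebra.Etale R (Localization.Away h) := by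
  let q : Ideal C := m''.comap (algebraMap C R'')
  have : q.IsPrime := Ideal.comap_isPrime _ _
  let W := Localization.AtPrime m''
  have hW : IsLocalization.AtPrime W q :=
    IsLocalization.isLocalization_isLocalization_atPrime_isLocalization
      (Algebra.algebraMapSubmonoid C p.primeCompl) W m''
  have : Algebra.FormallyEtale R (Localization.AtPrime p) :=
    Algebra.FormallyEtale.of_isLocalization p.primeCompl
  have : Algebra.FormallyEtale R R'' := Algebra.FormallyEtale.comp R (Localization.AtPrime p) R''
  have : Algebra.FormallyEtale R'' W := Algebra.FormallyEtale.of_isLocalization m''.primeCompl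
  have : Algebra.FormallyEtale R W := Algebra.FormallyEtale.comp R R'' W
  have : IsScalarTower R C W := IsScalarTower.of_algebraMap_eq fun r => by
    rw [IsScalarTower.algebraMap_apply R R'' W, IsScalarTower.algebraMap_apply C R'' W,
      IsScalarTower.algebraMap_apply R C R'']
  let e : Localization.AtPrime q ≃ₐ[C] W := IsLocalization.algEquiv q.primeCompl _ _
  have : Algebra.IsEtaleAt R q := Algebra.FormallyEtale.of_equiv (e.restrictScalars R).symm
  obtain ⟨h, hh, hE⟩ := Algebra.exists_etale_of_isEtaleAt (R := R) q
  exact ⟨h, hh, hE⟩

end Groth.Agent.Lib.Helper17.SpreadETAT
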