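import Mathlib.LinearAlgebra.Matrix.PosDef
import Mathlib.Data.Nat.Dist
import Mathlib.Algebra.Order.Star.Real
import Mathlib.Data.Nat.Choose.Sum
import Mathlib.Tactic

set_option autoImplicit false

namespace Groth.Agent.Lib.Helper17

/-- `c n k = C(2n, n+k)`. -/
def cbin (n k : ℕ) : ℕ := Nat.choose (2 * n) (n + k)

theorem cbin_succ_succ (n k : ℕ) :
    cbin (n + 1) (k + 1) = cbin n k + 2 * cbin n (k + 1) + cbin n (k + 2) := by
  unfold cbin
  have e1 : 2 * (n + 1) = (2 * n + 1) + 1 := by ring
  have e2 : n + 1 + (k + 1) = (n + k + 1) + 1 := by ring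
  rw [e1, e2, Nat.choose_succ_succ, Nat.choose_succ_succ (2 * n) (n + k),
    Nat.choose_succ_succ (2 * n) (n + k + 1)]
  have e3 : n + (k + 1) = n + k + 1 := by ring
  have e4 : n + (k + 2) = n + k + 1 + 1 := by ring
  rw [e3, e4]
  ring

theorem cbin_succ_zero (n : ℕ) :
    cbin (n + 1) 0 = 2 * cbin n 0 + 2 * cbin n 1 := by
  unfold cbin
  have e1 : 2 * (n + 1) = (2 * n + 1) + 1 := by ring
  rw [e1, add_zero, Nat.choose_succ_succ (2 * n + 1) n]
  have hsymm : Nat.choose (2 * n + 1) n = Nat.choose (2 * n + 1) (n + 1) := by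
    apply Nat.choose_symm_of_eq_add
    ring
  rw [hsymm, Nat.choose_succ_succ (2 * n) n, add_zero]
  ring

/-- The signed entry function. -/
noncomputable def alpha (n s t : ℕ) : ℝ := (-1 : ℝ) ^ (s + t) * (cbin n (Nat.dist s t) : ℝ)

theorem alpha_rec (n i j : ℕ) :
    alpha (n + 1) i j = alpha n i j - alpha n (i + 1) j - alpha n i (j + 1) + alpha n (i + 1) (j + 1) := by
  unfold alpha
  have s1 : (-1 : ℝ) ^ (i + 1 + j) = -(-1 : ℝ) ^ (i + j) := by
    rw [show i + 1 + j = i + j + 1 by ring, pow_succ]; ring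
  have s2 : (-1 : ℝ) ^ (i + (j + 1)) = -(-1 : ℝ) ^ (i + j) := by
    rw [show i + (j + 1) = i + j + 1 by ring, pow_succ]; ring
  have s3 : (-1 : ℝ) ^ (i + 1 + (j + 1)) = (-1 : ℝ) ^ (i + j) := by
    rw [show i + 1 + (j + 1) = i + j + 2 by ring, pow_add]; norm_num
  rw [s1, s2, s3, Nat.dist_succ_succ]
  have key : (cbin (n + 1) (Nat.dist i j) : ℝ) = 2 * (cbin n (Nat.dist i j) : ℝ) +
      (cbin n (Nat.dist (i + 1) j) : ℝ) + (cbin n (Nat.dist i (j + 1)) : ℝ) := by
    rcases lt_trichotomy i j with h | h | h
    · obtain ⟨k, rfl⟩ : ∃ k, j = i + k + 1 := ⟨j - i - 1, by omega⟩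
      have d1 : Nat.dist i (i + k + 1) = k + 1 := by
        rw [Nat.dist_eq_sub_of_le (by omega)]; omega
      have d2 : Nat.dist (i + 1) (i + k + 1) = k := by
        rw [Nat.dist_eq_sub_of_le (by omega)]; omega
      have d3 : Nat.dist i (i + k + 1 + 1) = k + 2 := by
        rw [Nat.dist_eq_sub_of_le (by omega)]; omega
      rw [d1, d2, d3, cbin_succ_succ]
      push_cast; ring
    · subst h
      have d1 : Nat.dist i i = 0 := Nat.dist_self i
      have d2 : Nat.dist (i + 1) i = 1 := by
        rw [Nat.dist_eq_sub_of_le_right (by omega)]; omega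
      have d3 : Nat.dist i (i + 1) = 1 := by
        rw [Nat.dist_eq_sub_of_le (by omega)]; omega
      rw [d1, d2, d3, cbin_succ_zero]
      push_cast; ring
    · obtain ⟨k, rfl⟩ : ∃ k, i = j + k + 1 := ⟨i - j - 1, by omega⟩
      have d1 : Nat.dist (j + k + 1) j = k + 1 := by
        rw [Nat.dist_eq_sub_of_le_right (by omega)]; omega
      have d2 : Nat.dist (j + k + 1 + 1) j = k + 2 := by
        rw [Nat.dist_eq_sub_of_le_right (by omega)]; omega
      have d3 : Nat.dist (j + k + 1) (j + 1) = k := by
        rw [Nat.dist_eq_sub_of_le_right (by omega)]; omega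
      rw [d1, d2, d3, cbin_succ_succ]
      push_cast; ring
  rw [key]
  ring

/-- The Toeplitz matrix. -/
noncomputable def amat (n m : ℕ) : Matrix (Fin m) (Fin m) ℝ :=
  Matrix.of fun i j : Fin m => alpha n i j

/-- The difference matrix. -/
noncomputable def dmat (m : ℕ) : Matrix (Fin (m + 1)) (Fin m) ℝ :=
  Matrix.of fun s i => (if s = i.castSucc then (1 : ℝ) else 0) - (if s = i.succ then 1 else 0)

theorem sum_dmat_mul (m : ℕ) (i : Fin m) (g : Fin (m + 1) → ℝ) :
    ∑ s, dmat m s i * g s = g i.castSucc - g i.succ := by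
  simp only [dmat, Matrix.of_apply, sub_mul, ite_mul, one_mul, zero_mul, Finset.sum_sub_distrib,
    Finset.sum_ite_eq', Finset.mem_univ, if_true]

theorem amat_succ (n m : ℕ) :
    amat (n + 1) m = (dmat m).conjTranspose * amat n (m + 1) * dmat m := by
  ext i j
  rw [Matrix.mul_apply]
  have h1 : ∀ t : Fin (m + 1), ((dmat m).conjTranspose * amat n (m + 1)) i t =
      amat n (m + 1) i.castSucc t - amat n (m + 1) i.succ t := by
    intro t
    rw [Matrix.mul_apply]
    simp only [Matrix.conjTranspose_apply, star_trivial]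
    exact sum_dmat_mul m i (fun s => amat n (m + 1) s t)
  simp only [h1]
  have h2 : ∑ t, (amat n (m + 1) i.castSucc t - amat n (m + 1) i.succ t) * dmat m t j =
      ∑ t, dmat m t j * (amat n (m + 1) i.castSucc t - amat n (m + 1) i.succ t) :=
    Finset.sum_congr rfl fun t _ => mul_comm _ _
  rw [h2, sum_dmat_mul]
  simp only [amat, Matrix.of_apply, Fin.val_castSucc, Fin.val_succ]
  rw [alpha_rec]
  ring

theorem dmat_injective (m : ℕ) : Function.Injective (dmat m).mulVec := by
  intro x y hxy
  have hz : (dmat m).mulVec (x - y) = 0 := by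
    rw [Matrix.mulVec_sub, hxy, sub_self]
  suffices h : x - y = 0 by exact sub_eq_zero.mp h
  set z := x - y with hzdef
  have hval : ∀ s : Fin (m + 1), ∑ i, dmat m s i * z i = 0 := by
    intro s
    have := congrFun hz s
    simpa [Matrix.mulVec, dotProduct] using this
  have hall : ∀ (k : ℕ) (hk : k < m), z ⟨k, hk⟩ = 0 := by
    intro k
    induction k with
    | zero =>
      intro hk
      have h := hval (Fin.castSucc ⟨0, hk⟩)
      simp only [dmat, Matrix.of_apply, sub_mul, ite_mul, one_mul, zero_mul,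
        Finset.sum_sub_distrib] at h
      rw [Finset.sum_eq_single_of_mem (⟨0, hk⟩ : Fin m) (Finset.mem_univ _)
        (fun b _ hb => by
          rw [if_neg]
          intro hcs
          exact hb (Fin.castSucc_injective _ hcs).symm)] at h
      rw [if_pos rfl] at h
      rw [Finset.sum_eq_zero (fun b _ => by
          rw [if_neg]
          intro hcs
          have := congrArg Fin.val hcs
          simp at this)] at h
      simpa using h
    | succ k ih =>
      intro hk
      have hk' : k < m := by omega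
      have h := hval (Fin.castSucc ⟨k + 1, hk⟩)
      simp only [dmat, Matrix.of_apply, sub_mul, ite_mul, one_mul, zero_mul,
        Finset.sum_sub_distrib] at h
      rw [Finset.sum_eq_single_of_mem (⟨k + 1, hk⟩ : Fin m) (Finset.mem_univ _)
        (fun b _ hb => by
          rw [if_neg]
          intro hcs
          exact hb (Fin.castSucc_injective _ hcs).symm)] at h
      rw [if_pos rfl] at h
      rw [Finset.sum_eq_single_of_mem (⟨k, hk'⟩ : Fin m) (Finset.mem_univ _)
        (fun b _ hb => by
          rw [if_neg]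
          intro hcs
          apply hb
          have h5 := congrArg Fin.val hcs
          rw [Fin.val_succ, Fin.val_castSucc] at h5
          apply Fin.ext
          simp only at h5 ⊢
          omega)] at h
      rw [ih hk'] at h
      simpa using h
  funext i
  exact hall i.1 i.2

theorem amat_zero (m : ℕ) : amat 0 m = 1 := by
  ext i j
  simp only [amat, alpha, cbin, Matrix.of_apply, Matrix.one_apply]
  by_cases h : i = j
  · subst h
    rw [if_pos rfl, Nat.dist_self]
    simp [← two_mul, pow_mul]
  · rw [if_neg h]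
    have hd : Nat.dist (i : ℕ) (j : ℕ) ≠ 0 := by
      intro h0
      exact h (Fin.ext (Nat.eq_of_dist_eq_zero h0))
    have : Nat.choose (2 * 0) (0 + Nat.dist (i : ℕ) (j : ℕ)) = 0 := by
      apply Nat.choose_eq_zero_of_lt
      omega
    rw [this]; simp

theorem amat_posDef (n : ℕ) : ∀ m : ℕ, (amat n m).PosDef := by
  induction n with
  | zero => intro m; rw [amat_zero]; exact Matrix.PosDef.one
  | succ n ih =>
    intro m
    rw [amat_succ]
    exact Matrix.PosDef.conjTranspose_mul_mul_same (ih (m + 1)) (dmat_injective m)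

end Groth.Agent.Lib.Helper17
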