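import Groth.Agent.Lib.Helper17.LocQTools13
import Groth.Prelude.Def_W4stkstmodspWNA

set_option autoImplicit false
set_option backward.isDefEq.respectTransparency false
set_option backward.isDefEq.respectTransparency.types false
universe u

namespace Groth.Agent.Lib.Helper17.LQT

open CategoryTheory CategoryTheory.Limits AlgebraicGeometry Opposite AlgSp FibCat Stk AlgSt
open Groth.Agent.Lib.Helper17 Groth.Agent.Lib.Helper17.FP Groth.Agent.Lib.Helper17.EO
  Groth.Agent.Lib.Helper17.PD Groth.Agent.Lib.Helper17.AT Groth.Agent.Lib.Helper17.AB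
  Groth.Agent.Lib.Helper17.AOS Groth.Agent.Lib.Helper17.ACP Groth.Agent.Lib.Helper17.PTS

variable {S : Scheme.{u}}

theorem ofSpMap_comp' {F G H : Sp S} (a : F ⟶ G) (b : G ⟶ H) :
    BasedFunctor.comp (ofSpMap a) (ofSpMap b) = ofSpMap (a ≫ b) := DR.basedFunctor_ext rfl

theorem ofSpMap_id' (F : Sp S) : ofSpMap (𝟙 F) = BasedFunctor.id (ofSp F) := DR.basedFunctor_ext rfl

/-- the functor of an isomorphism of sheaves is an equivalence -/
theorem isEquivOver_ofSpMap_of_isIso {F G : Sp S} (a : F ⟶ G) [IsIso a] :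
    FibCat.IsEquivOver (ofSpMap a) := by
  refine ⟨ofSpMap (inv a), ⟨eqToIso ?_⟩, ⟨eqToIso ?_⟩⟩
  · rw [ofSpMap_comp', IsIso.hom_inv_id, ofSpMap_id']
  · rw [ofSpMap_comp', IsIso.inv_hom_id, ofSpMap_id']

/-- **S16699** -/
theorem isWellNighAffine_of_affine {𝒳 𝒳' : AlgSt.Cat S} (hw : AlgSt.IsWellNighAffine 𝒳)
    (f : 𝒳' ⥤ᵇ 𝒳) (hf : AlgSt.RepByAlgSpWith AlgSp.IsAffineMor f) :
    AlgSt.IsWellNighAffine 𝒳' := by
  obtain ⟨U, x, hU, hx⟩ := hw
  obtain ⟨F, e, he, ha⟩ := hf U x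
  obtain ⟨W, i, fst, sq, hW⟩ := ha hU (𝟙 _)
  have hfst : IsIso fst := sq.isIso_fst_of_isIso
  let k : FibCat.overCat W ⥤ᵇ FibCat.fp x f :=
    BasedFunctor.comp (BasedFunctor.comp (ofOverCat W) (ofSpMap fst)) e
  have hk : FibCat.IsEquivOver k :=
    isEquivOver_comp _ _ (isEquivOver_comp _ _ (AD.ofOverCat_isEquivOver W)
      (isEquivOver_ofSpMap_of_isIso fst)) he
  exact ⟨W, BasedFunctor.comp k (FibCat.fpSnd x f), hW,
    FD.repWith_precomp_equiv _ k hk _ (AB.repWith_fpSnd _ x f hx)⟩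

end Groth.Agent.Lib.Helper17.LQT
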