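import Groth.Agent.Lib.Helper17.DiagCover
import Groth.Agent.Lib.Helper17.PointsQc
import Groth.Agent.Lib.Helper10.SpectralStack
import Groth.Agent.Lib.Helper17.LocQTools19
import Groth.Agent.Lib.Helper17.ChartTools
import Groth.Agent.Lib.Helper17.DiagDictConv
import Groth.Agent.S10267
import Groth.Agent.S10271
import Groth.Agent.S9961
import Groth.Agent.S5139
import Groth.Agent.Lib.Helper17.DiagLft2
import Groth.Agent.S12946
import Groth.Prelude.Def_W4stkstmodspWNA

set_option autoImplicit false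
set_option backward.isDefEq.respectTransparency false
set_option backward.isDefEq.respectTransparency.types false
universe u

namespace Groth.Agent.Lib.Helper17.WNA

open CategoryTheory CategoryTheory.Limits AlgebraicGeometry Opposite AlgSp FibCat Stk AlgSt
open Groth.Agent.Lib.Helper17 Groth.Agent.Lib.Helper17.FP Groth.Agent.Lib.Helper17.EO
  Groth.Agent.Lib.Helper17.PD Groth.Agent.Lib.Helper17.AT Groth.Agent.Lib.Helper17.AB
  Groth.Agent.Lib.Helper17.AOS Groth.Agent.Lib.Helper17.ACP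
open Groth.Agent.Lib.Helper46 Groth.Agent.Lib.Helper46.LocPChart

variable {S : Scheme.{u}}

/-- **properties of the diagonal over the base from a covering by a scheme**, with the diagonal of
the scheme given -/
theorem diag_toSelf_of_scheme_cover' (P : MorphismProperty (Sp S)) (hPb : BC P) (hPc : CP P)
    (hP : IsLocalOnBase (IsFppfCover (S := S)) P)
    {𝒳 : AlgSt.Cat S} (h𝒳 : AlgSt.IsAlgStack Scheme.fppfPrecoverage 𝒳)
    (U : Over S) (x : FibCat.overCat U ⥤ᵇ 𝒳)
    (hΔU : AlgSt.RepByAlgSpWith P (FibCat.diag (FibCat.toSelf (FibCat.overCat U))))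
    (hflat : AlgSt.RepByAlgSpWith (LocP @Flat) x)
    (hlfp : AlgSt.RepByAlgSpWith (LocP @LocallyOfFinitePresentation) x)
    (hsurj : AlgSt.RepByAlgSpWith IsSurjectiveMor x)
    (hx : AlgSt.RepByAlgSpWith P x) :
    AlgSt.RepByAlgSpWith P (FibCat.diag (FibCat.toSelf 𝒳)) := by
  have hfg := h𝒳.isStack.1
  have hU : FibCat.IsFibGrpd (FibCat.overCat U).p := FG.isFibGrpd_overForget U
  have hO : FibCat.IsFibGrpd (FibCat.selfOver (Over S)).p := SP.isFibGrpd_selfOver
  have hm₁ := SR.repWith_m _ DL.flat_bc DL.flat_cp (ACov.schLocal_of_isLocalOnBase _ DL.flat_local)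
    hU hU hfg hO x (FibCat.toSelf 𝒳) x hflat hflat
  have hm₂ := SR.repWith_m _ DL.lfp_bc DL.lfp_cp (ACov.schLocal_of_isLocalOnBase _ DL.lfp_local)
    hU hU hfg hO x (FibCat.toSelf 𝒳) x hlfp hlfp
  have hm₃ := SR.repWith_m _ DL.surj_bc DL.surj_cp
    (ACov.schLocal_of_isLocalOnBase _ SD.isLocalOnBase_isSurjectiveMor)
    hU hU hfg hO x (FibCat.toSelf 𝒳) x hsurj hsurj
  refine FD.repWith_of_fpFst_cover _ hPb hP _ h𝒳.diag
    (MS.m x (FibCat.toSelf 𝒳) x) hm₁ hm₂ hm₃ ?_
  refine FD.repWith_of_precomp_equiv _ (MS.M x (FibCat.toSelf 𝒳) x)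
    (MS.M_isEquivOver x (FibCat.toSelf 𝒳) x) _ ?_
  have hB : FibCat.IsFibGrpd (MS.B x (FibCat.toSelf 𝒳) x).p :=
    SP.isFibGrpd_fp _ _ hU hU hO
  have hR : FibCat.IsFibGrpd (FibCat.fp x x).p := SP.isFibGrpd_fp x x hU hU hfg
  refine TC.repWith_cancel hR hB hU _ hPb hPc (ACov.schLocal_of_isLocalOnBase _ hP)
    _ (FibCat.fpFst (BasedFunctor.comp x (FibCat.toSelf 𝒳)) (BasedFunctor.comp x (FibCat.toSelf 𝒳)))
    ?_ ?_
  · change AlgSt.RepByAlgSpWith _ (FibCat.fpFst x x)
    exact repWith_fpFst _ x x hx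
  · have e : BasedFunctor.comp x (FibCat.toSelf 𝒳) = FibCat.toSelf (FibCat.overCat U) :=
      DR.basedFunctor_ext x.w
    refine Groth.Agent.Lib.Helper38.DBCAlgSt.repByAlgSpWith_diag_fpFst hU hO hU _
      (BasedFunctor.comp x (FibCat.toSelf 𝒳)) (BasedFunctor.comp x (FibCat.toSelf 𝒳)) ?_
    rw [e]
    exact hΔU

/-- the terminal object of `Over S` -/
noncomputable def top (S : Scheme.{u}) : Over S := Over.mk (𝟙 S)

/-- the slice over the terminal object is the base -/
theorem toSelf_top_isEquivOver :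
    FibCat.IsEquivOver (FibCat.toSelf (FibCat.overCat (top S))) := by
  rw [Groth.Agent.S5139.result]
  have ht : IsTerminal (top S) := Over.mkIdTerminal
  refine ⟨⟨⟨fun {A B} f => ?_⟩, ?_⟩, fun η => ?_⟩
  · exact ⟨Over.homMk f (ht.hom_ext _ _), rfl⟩
  · change (Over.forget (top S)).Faithful
    infer_instance
  · exact ⟨Over.mk (ht.from η), Iso.refl _, by
      exact IsHomLift.id (p := (selfOver (Over S)).p) rfl⟩

/-- the structure functor of the slice of a scheme is representable with `P` when the structure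
morphism has `P` -/
theorem repWith_toSelf_overCat (P : MorphismProperty (Sp S)) (hbc : BC P) (U : Over S)
    (h : P ((yon S).map (Over.homMk U.hom (by simp [top]) : U ⟶ top S))) :
    AlgSt.RepByAlgSpWith P (FibCat.toSelf (FibCat.overCat U)) := by
  have e : FibCat.toSelf (FibCat.overCat U) =
      BasedFunctor.comp (AlgSt.overMap (Over.homMk U.hom (by simp [top]) : U ⟶ top S))
        (FibCat.toSelf (FibCat.overCat (top S))) := DR.basedFunctor_ext rfl
  rw [e]
  exact LQT.repWith_postcomp_equiv _ _ _ toSelf_top_isEquivOver (CT.repWith_overMap _ hbc _ h)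

/-- the diagonal over the base of the slice of a scheme separated over the base is proper -/
theorem proper_diag_toSelf_overCat (U : Over S) [IsSeparated U.hom] :
    AlgSt.RepByAlgSpWith AlgSp.IsProperMor (FibCat.diag (FibCat.toSelf (FibCat.overCat U))) := by
  refine DD.isSeparatedMor_diag_of_repWith_isSeparatedMor _
    (repWith_toSelf_overCat _ DL2.sep_bc U ?_)
  rw [AlgSp.isSeparatedMor_yon_map_iff]
  change IsSeparated U.hom
  infer_instance

/-- finite morphisms of algebraic spaces are proper -/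
theorem proper_of_finite ⦃X Y : Sp S⦄ (a : X ⟶ Y) (hX : IsAlgSpace X) (hY : IsAlgSpace Y)
    (h : IsFiniteMor a) : IsProperMor a := by
  let X' : AlgSp.Space S := ⟨X, hX⟩
  let Y' : AlgSp.Space S := ⟨Y, hY⟩
  let a' : X' ⟶ Y' := ⟨a⟩
  exact ((Groth.Agent.S10271.result a').mp h).2

/-- finite morphisms of algebraic spaces are locally quasi-finite and locally of finite type -/
theorem lqf_of_finite ⦃X Y : Sp S⦄ (a : X ⟶ Y) (hX : IsAlgSpace X) (hY : IsAlgSpace Y)
    (h : IsFiniteMor a) : LocP (@LocallyQuasiFinite ⊓ @LocallyOfFiniteType) a := by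
  let X' : AlgSp.Space S := ⟨X, hX⟩
  let Y' : AlgSp.Space S := ⟨Y, hY⟩
  let a' : X' ⟶ Y' := ⟨a⟩
  have h1 : AlgSp.RepWith @IsFinite a := ((Groth.Agent.S10267.result a').2).mp h
  refine Groth.Agent.S9961.locP_of_repWith Groth.Agent.Lib.Helper30.EtLocalInst.etLocal_lqf ?_ hY a h1
  intro A B g hg
  have : IsFinite g := hg
  exact ⟨inferInstance, inferInstance⟩

/-- **well-nigh affine algebraic stacks are quasi-compact, quasi-DM and separated** -/
theorem main {𝒳 : AlgSt.Cat S} (h𝒳 : AlgSt.IsAlgStack Scheme.fppfPrecoverage 𝒳)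
    (hw : AlgSt.IsWellNighAffine 𝒳) :
    AlgSt.IsQuasiCompact 𝒳 ∧ AlgSt.IsQuasiDMOver 𝒳 ∧ AlgSt.IsSeparatedOver 𝒳 := by
  obtain ⟨U, x, hUaff, hx⟩ := hw
  have hsurj : AlgSt.RepByAlgSpWith IsSurjectiveMor x :=
    DDC.repWith_mono (fun _ _ _ _ _ h => h.1.1.1) _ hx
  have hflat : AlgSt.RepByAlgSpWith (LocP @Flat) x :=
    DDC.repWith_mono (fun _ _ _ _ _ h => h.1.1.2) _ hx
  have hfin : AlgSt.RepByAlgSpWith IsFiniteMor x :=
    DDC.repWith_mono (fun _ _ _ _ _ h => h.1.2) _ hx
  have hlfp : AlgSt.RepByAlgSpWith (LocP @LocallyOfFinitePresentation) x :=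
    DDC.repWith_mono (fun _ _ _ _ _ h => h.2) _ hx
  have hU : FibCat.IsFibGrpd (FibCat.overCat U).p := FG.isFibGrpd_overForget U
  have hsepU : IsSeparated U.hom := inferInstance
  refine ⟨?_, ?_, ?_⟩
  · have : CompactSpace ↥U.left := inferInstance
    exact PTS.isQuasiCompact_of_isSurjective hU h𝒳 x
      (PTS.isSurjective_of_repWith h𝒳.isStack.1 x hsurj)
      (Groth.Agent.Lib.Helper10.SpSt.isQuasiCompact_overCat U)
  · exact DCV.diag_toSelf_of_scheme_cover _ PB.lqf_bc PB.lqf_cp PB.lqf_local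
      (fun g hg => SEC.repWith_diag_of_rep1 _ Groth.Agent.Lib.Helper30.EtLocalInst.etLocal_lqf
        (fun _ _ k hk hl => ⟨Groth.Agent.S12946.locallyQuasiFinite_of_unramified k hl
          (SEC.unr_of_mono k hk hl).2, hl⟩) g hg)
      h𝒳 U x hflat hlfp hsurj (DDC.repWith_mono lqf_of_finite _ hfin)
  · exact diag_toSelf_of_scheme_cover' _ PB.proper_bc PB.proper_cp PB.proper_local h𝒳 U x
      (proper_diag_toSelf_overCat U) hflat hlfp hsurj (DDC.repWith_mono proper_of_finite _ hfin)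

end Groth.Agent.Lib.Helper17.WNA
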